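import Cfsg.Agent.Lib.HK.Defs2

/-! Split rank one groups with nilpotent root groups: elementary facts. -/

set_option autoImplicit false
set_option linter.unusedSectionVars false

namespace H51.HK

open MulAction Subgroup Matrix H69
open scoped MatrixGroups Classical commutatorElement

variable {G Ω : Type*} [Group G] [MulAction G Ω] [Finite G] [Finite Ω]

section Tr
variable {Δ : Set Ω} {g h : G}

theorem Tr.one : Tr Δ (1 : G) := fun x _ => one_smul G x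

theorem Tr.mul (h1 : Tr Δ g) (h2 : Tr Δ h) : Tr Δ (g * h) := fun x hx => by
  rw [mul_smul, h2 x hx, h1 x hx]

theorem Tr.inv (h1 : Tr Δ g) : Tr Δ g⁻¹ := fun x hx => by rw [inv_smul_eq_iff, h1 x hx]

theorem Tr.pow (h1 : Tr Δ g) (n : ℕ) : Tr Δ (g ^ n) := by
  induction n with
  | zero => simpa using Tr.one
  | succ n ih => rw [pow_succ]; exact ih.mul h1

end Tr

theorem card_eq_orbit (M : Subgroup G) (x : Ω) :
    Nat.card M = (orbit M x).ncard * Nat.card ↥(M ⊓ stabilizer G x) := by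
  have h1 : stabilizer M x = (M ⊓ stabilizer G x).subgroupOf M := by
    ext g; simp [mem_subgroupOf, mem_stabilizer_iff, Subgroup.smul_def]
  rw [← index_stabilizer, h1, ← Nat.card_congr (subgroupOfEquivOfLe inf_le_left).toEquiv,
    index_mul_card]

theorem odd_orderOf {X : Subgroup G} (h : Odd (Nat.card X)) {u : G} (hu : u ∈ X) :
    Odd (orderOf u) := h.of_dvd_nat (X.orderOf_dvd_natCard hu)

section LD
variable {N : Subgroup G} {Δ : Set Ω} {V : Ω → Subgroup G}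

theorem le_Lt {c : Ω} (hc : c ∈ Δ) : V c ≤ Lt Δ V :=
  le_iSup₂ (f := fun c (_ : c ∈ Δ) => V c) c hc

theorem Lt_le_iff {K : Subgroup G} : Lt Δ V ≤ K ↔ ∀ c ∈ Δ, V c ≤ K := iSup₂_le_iff

theorem LD.Lt_le (h : LD N Δ V) : Lt Δ V ≤ N := Lt_le_iff.2 h.le

theorem LD.Lt_conj (h : LD N Δ V) {g l : G} (hg : g ∈ N) (hl : l ∈ Lt Δ V) :
    g * l * g⁻¹ ∈ Lt Δ V := by
  have : Lt Δ V ≤ (Lt Δ V).comap (MulAut.conj g).toMonoidHom := Lt_le_iff.2 fun c hc u hu =>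
    le_Lt (h.inv g hg c hc) (h.cj g hg c hc u hu)
  exact this hl

theorem LD.mono (h : LD N Δ V) {N' : Subgroup G} (h1 : N' ≤ N) (h2 : ∀ c ∈ Δ, V c ≤ N') :
    LD N' Δ V :=
  ⟨fun g hg => h.inv g (h1 hg), h2, h.fix, fun g hg => h.cj g (h1 hg), h.tr, h.nil, h.odd⟩

theorem LD.cj_iff (h : LD N Δ V) {g u : G} (hg : g ∈ N) {c : Ω} (hc : c ∈ Δ) :
    g * u * g⁻¹ ∈ V (g • c) ↔ u ∈ V c := by
  refine ⟨fun hu => ?_, h.cj g hg c hc u⟩
  have := h.cj g⁻¹ (N.inv_mem hg) _ (h.inv g hg c hc) _ hu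
  simpa [mul_assoc] using this

theorem LD.trans (h : LD N Δ V) (h3 : 3 ≤ Δ.ncard) {a c : Ω} (ha : a ∈ Δ) (hc : c ∈ Δ) :
    ∃ g ∈ Lt Δ V, g • a = c := by
  have : ¬ Δ ⊆ {a, c} := fun hs => by
    have h1 := Set.ncard_le_ncard hs
    have h2 := Set.ncard_insert_le a ({c} : Set Ω)
    rw [Set.ncard_singleton] at h2
    omega
  obtain ⟨z, hz, hn⟩ := Set.not_subset.1 this
  simp only [Set.mem_insert_iff, Set.mem_singleton_iff, not_or] at hn
  obtain ⟨u, hu, e⟩ := h.tr z hz a ha c hc (Ne.symm hn.1) (Ne.symm hn.2)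
  exact ⟨u, le_Lt hz hu, e⟩

theorem LD.two (h : LD N Δ V) (h3 : 3 ≤ Δ.ncard) {a b c d : Ω} (ha : a ∈ Δ) (hb : b ∈ Δ)
    (hc : c ∈ Δ) (hd : d ∈ Δ) (hab : a ≠ b) (hcd : c ≠ d) :
    ∃ g ∈ Lt Δ V, g • a = c ∧ g • b = d := by
  obtain ⟨g, hg, e⟩ := h.trans h3 ha hc
  obtain ⟨u, hu, e'⟩ := h.tr c hc (g • b) (h.inv g (h.Lt_le hg) b hb) d hd
    (fun x => hab (smul_left_cancel g (e.trans x.symm))) hcd.symm
  exact ⟨u * g, mul_mem (le_Lt hc hu) hg, by rw [mul_smul, e, h.fix c hc u hu],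
    by rw [mul_smul, e']⟩

theorem LD.orbit_V (h : LD N Δ V) {a b : Ω} (ha : a ∈ Δ) (hb : b ∈ Δ) (hab : a ≠ b)
    {M : Subgroup G} (h1 : V a ≤ M) (h2 : M ≤ N) (h3 : ∀ g ∈ M, g • a = a) :
    (orbit M b).ncard = Δ.ncard - 1 := by
  rw [← Set.ncard_diff_singleton_of_mem ha]
  congr 1
  ext x
  constructor
  · rintro ⟨g, rfl⟩
    refine ⟨h.inv g (h2 g.2) b hb, fun e => hab ?_⟩
    exact smul_left_cancel (g : G) ((h3 g g.2).trans (Eq.symm e))
  · rintro ⟨hx, hxa⟩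
    obtain ⟨u, hu, e⟩ := h.tr a ha b hb x hx hab.symm hxa
    exact ⟨⟨u, h1 hu⟩, e⟩

/-- orders: `M` is any group between `⟨V c⟩` and `N` -/
theorem LD.card (h : LD N Δ V) (h3 : 3 ≤ Δ.ncard) {M : Subgroup G} (h1 : Lt Δ V ≤ M) (h2 : M ≤ N)
    {a b : Ω} (ha : a ∈ Δ) (hb : b ∈ Δ) (hab : a ≠ b) :
    Nat.card M = Δ.ncard * (Δ.ncard - 1) * Nat.card ↥(M ⊓ Hb G a b) := by
  have e1 : orbit M a = Δ := by
    ext x
    constructor
    · rintro ⟨g, rfl⟩; exact h.inv g (h2 g.2) a ha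
    · intro hx
      obtain ⟨g, hg, e⟩ := h.trans h3 ha hx
      exact ⟨⟨g, h1 hg⟩, e⟩
  have e2 := h.orbit_V ha hb hab (M := M ⊓ stabilizer G a)
    (le_inf ((le_Lt ha).trans h1) fun u hu => h.fix a ha u hu) (inf_le_left.trans h2)
    fun g hg => hg.2
  rw [card_eq_orbit M a, e1, card_eq_orbit (M ⊓ stabilizer G a) b, e2, inf_assoc, mul_assoc]
  rfl

theorem LD.card_V (h : LD N Δ V) {a b : Ω} (ha : a ∈ Δ) (hb : b ∈ Δ) (hab : a ≠ b) :
    Nat.card (V a) = (Δ.ncard - 1) * Nat.card ↥(V a ⊓ stabilizer G b) := by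
  rw [card_eq_orbit (V a) b, h.orbit_V ha hb hab le_rfl (h.le a ha) (h.fix a ha)]

theorem LD.even (h : LD N Δ V) (h2 : 2 ≤ Δ.ncard) : Even Δ.ncard := by
  obtain ⟨a, b, ha, hb, hab⟩ := (Set.one_lt_ncard_iff (s := Δ)).1 h2
  have h1 := h.odd a ha
  rw [h.card_V ha hb hab] at h1
  obtain ⟨k, hk⟩ := (Nat.odd_mul.1 h1).1
  exact ⟨k + 1, by omega⟩

/-- a 2-subgroup of `N` that fixes a point of `Δ` fixes a second one -/
theorem LD.second (h : LD N Δ V) (h2 : 2 ≤ Δ.ncard) {T : Subgroup G} (hT : IsPGroup 2 T)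
    (hN : T ≤ N) {c : Ω} (hc : c ∈ Δ) (hf : ∀ t ∈ T, t • c = c) :
    ∃ d ∈ Δ, d ≠ c ∧ ∀ t ∈ T, t • d = d := by
  haveI : Fact (Nat.Prime 2) := ⟨Nat.prime_two⟩
  let D : SubMulAction T Ω := ⟨Δ, fun t x hx => h.inv t (hN t.2) x hx⟩
  have hD : 2 ∣ Nat.card D := by
    have : Nat.card D = Δ.ncard := Nat.card_coe_set_eq Δ
    rw [this]; exact (h.even h2).two_dvd
  obtain ⟨d, hd, hne⟩ := hT.exists_fixed_point_of_prime_dvd_card_of_fixed_point D hD
    (a := ⟨c, hc⟩) fun t => Subtype.ext (hf t t.2)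
  exact ⟨d, d.2, fun e => hne (Subtype.ext e.symm),
    fun t ht => congrArg Subtype.val (hd ⟨t, ht⟩)⟩

/-- the kernel centralises `⟨V c⟩` if the root groups are faithful -/
theorem LD.commK (h : LD N Δ V) (hf : FaithV Δ V) {k l : G} (hk : k ∈ N) (ht : Tr Δ k)
    (hl : l ∈ Lt Δ V) : k * l = l * k := by
  have : Lt Δ V ≤ centralizer {k} := Lt_le_iff.2 fun c hc u hu => by
    have h1 := h.cj k hk c hc u hu
    rw [ht c hc] at h1
    have h2 := hf c hc _ (mul_mem h1 (inv_mem hu)) fun x hx => by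
      rw [mul_smul, mul_smul, mul_smul, ht.inv _ (h.inv _ (N.inv_mem (h.le c hc hu)) x hx),
        smul_inv_smul, ht x hx]
    rw [mem_centralizer_singleton_iff]
    calc u * k = (k * u * k⁻¹ * u⁻¹) * u * k := by rw [h2, one_mul]
      _ = k * u := by group
  exact (mem_centralizer_singleton_iff.1 (this hl)).symm

/-- an odd power of an element whose square lies in a kernel of odd order is an involution -/
theorem OddK.lift (h : OddK Δ V) {j : G} (hj : j ∈ Lt Δ V) (h2 : Tr Δ (j * j)) (h1 : ¬ Tr Δ j) :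
    ∃ m : ℕ, Odd m ∧ Inv (j ^ m) ∧ Tr Δ (j⁻¹ * j ^ m) := by
  obtain ⟨k, hk⟩ := h _ (mul_mem hj hj) h2
  have e : j⁻¹ * j ^ orderOf (j * j) = (j * j) ^ k := by
    rw [hk, pow_succ', ← sq, ← pow_mul]; group
  have ht : Tr Δ (j⁻¹ * j ^ orderOf (j * j)) := e ▸ h2.pow k
  refine ⟨orderOf (j * j), ⟨k, hk⟩, ⟨?_, fun e' => h1 ?_⟩, ht⟩
  · rw [← (Commute.refl j).mul_pow, pow_orderOf_eq_one]
  · rw [e', mul_one] at ht
    simpa using ht.inv

end LD

theorem mem_Hb {a b : Ω} {g : G} : g ∈ Hb G a b ↔ g • a = a ∧ g • b = b := Iff.rfl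

theorem mem_Fx1 {t : G} {x : Ω} : x ∈ Fx Ω {t} ↔ t • x = x := by simp [Fx]

theorem mem_Fx2 {s t : G} {x : Ω} : x ∈ Fx Ω ({s, t} : Set G) ↔ s • x = x ∧ t • x = x := by
  simp [Fx]

theorem conj_eq_iff {g t : G} : g * t * g⁻¹ = t ↔ g * t = t * g := mul_inv_eq_iff_eq_mul

theorem mem_norm1 {t g : G} : g ∈ normalizer ({t} : Set G) ↔ g * t = t * g := by
  rw [mem_set_normalizer_iff]
  constructor
  · intro h; exact conj_eq_iff.1 ((h t).1 rfl)
  · intro h n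
    simp only [Set.mem_singleton_iff]
    constructor
    · rintro rfl; exact conj_eq_iff.2 h
    · intro e
      calc n = g⁻¹ * (g * n * g⁻¹) * g := by group
        _ = t := by rw [e, mul_assoc, ← h]; group

theorem mem_norm2 {s t g : G} (hs : g * s = s * g) (ht : g * t = t * g) :
    g ∈ normalizer ({s, t} : Set G) := by
  rw [mem_set_normalizer_iff]
  intro n
  have h1 := mem_set_normalizer_iff.1 (mem_norm1.2 hs) n
  have h2 := mem_set_normalizer_iff.1 (mem_norm1.2 ht) n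
  simp only [Set.mem_insert_iff, Set.mem_singleton_iff] at h1 h2 ⊢
  rw [h1, h2]

theorem mem_UY1 {U : Ω → Subgroup G} {t u : G} {c : Ω} :
    u ∈ UY U {t} c ↔ u ∈ U c ∧ u * t = t * u := by
  rw [UY, mem_inf, mem_centralizer_singleton_iff]

theorem mem_UY2 {U : Ω → Subgroup G} {s t u : G} {c : Ω} :
    u ∈ UY U {s, t} c ↔ u ∈ U c ∧ u * s = s * u ∧ u * t = t * u := by
  rw [UY, mem_inf, mem_centralizer_iff]
  simp only [Set.mem_insert_iff, Set.mem_singleton_iff, forall_eq_or_imp, forall_eq]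
  rw [eq_comm, eq_comm (a := t * u)]

theorem mem_KY1 {t k : G} : k ∈ KY Ω ({t} : Set G) ↔ k * t = t * k ∧ Tr (Fx Ω {t}) k := by
  rw [KY, mem_inf, mem_norm1, mem_fixingSubgroup_iff]; rfl

theorem LY_mono (U : Ω → Subgroup G) {Y Y' : Set G} (h : Y ⊆ Y') : LY U Y' ≤ LY U Y :=
  Lt_le_iff.2 fun _ hc => (inf_le_inf_left _ (centralizer_le h)).trans
    (le_Lt (V := UY U Y) fun y hy => hc y (h hy))

theorem LY_le (U : Ω → Subgroup G) (Y : Set G) : LY U Y ≤ centralizer Y :=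
  Lt_le_iff.2 fun _ _ => inf_le_right

theorem Fx_conj (g t : G) (x : Ω) : g • x ∈ Fx Ω {g * t * g⁻¹} ↔ x ∈ Fx Ω {t} := by
  rw [mem_Fx1, mem_Fx1, mul_smul, mul_smul, inv_smul_smul, smul_left_cancel_iff]

theorem Fx_ncard_conj {s t : G} (h : IsConj s t) : (Fx Ω {s}).ncard = (Fx Ω {t}).ncard := by
  obtain ⟨g, rfl⟩ := isConj_iff.1 h
  refine Set.ncard_congr (fun x _ => g • x) (fun x hx => (Fx_conj g s x).2 hx)
    (fun x y _ _ e => smul_left_cancel g e) fun y hy => ⟨g⁻¹ • y, ?_, smul_inv_smul g y⟩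
  rw [← Fx_conj g, smul_inv_smul]; exact hy

theorem conj_comm_iff (g u t : G) :
    g * u * g⁻¹ * (g * t * g⁻¹) = g * t * g⁻¹ * (g * u * g⁻¹) ↔ u * t = t * u := by
  have e1 : g * u * g⁻¹ * (g * t * g⁻¹) = g * (u * t) * g⁻¹ := by group
  have e2 : g * t * g⁻¹ * (g * u * g⁻¹) = g * (t * u) * g⁻¹ := by group
  rw [e1, e2, mul_left_inj, mul_right_inj]

section conj
variable {N N' : Subgroup G} {Δ Δ' : Set Ω} {V V' : Ω → Subgroup G} {g : G}

theorem Lt_conj_of (hΔ : ∀ x, g • x ∈ Δ' ↔ x ∈ Δ)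
    (hV : ∀ c u, g * u * g⁻¹ ∈ V' (g • c) ↔ u ∈ V c) (l : G) :
    g * l * g⁻¹ ∈ Lt Δ' V' ↔ l ∈ Lt Δ V := by
  have h1 : Lt Δ V ≤ (Lt Δ' V').comap (MulAut.conj g).toMonoidHom := Lt_le_iff.2 fun c hc u hu =>
    le_Lt ((hΔ c).2 hc) ((hV c u).2 hu)
  have h2 : Lt Δ' V' ≤ (Lt Δ V).comap (MulAut.conj g⁻¹).toMonoidHom :=
    Lt_le_iff.2 fun c hc u hu => by
      refine le_Lt (c := g⁻¹ • c) ((hΔ _).1 (by simpa using hc)) ((hV _ _).1 ?_)
      simpa [mul_assoc] using hu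
  refine ⟨fun h => ?_, fun h => h1 h⟩
  simpa [mul_assoc] using h2 h

theorem act_conj {F : Type} [Field F] {e : Ω → OnePoint F} (hΔ : ∀ x, g • x ∈ Δ' ↔ x ∈ Δ)
    {k : G} {A : GL (Fin 2) F} {σ : F ≃+* F} :
    Act (fun x => e (g⁻¹ • x)) Δ' (g * k * g⁻¹) A σ ↔ Act e Δ k A σ := by
  constructor
  · intro h x hx
    simpa [mul_smul] using h (g • x) ((hΔ x).2 hx)
  · intro h x hx
    simpa [mul_smul] using h (g⁻¹ • x) ((hΔ _).1 (by simpa using hx))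

theorem L2Q.cj {a b : Ω} {F : Type} [Field F] [Fintype F] {e : Ω → OnePoint F}
    {π : SL(2, F) →* G} (h : L2Q N Δ V a b F e π) (hN : ∀ k, g * k * g⁻¹ ∈ N' ↔ k ∈ N)
    (hΔ : ∀ x, g • x ∈ Δ' ↔ x ∈ Δ) (hV : ∀ c u, g * u * g⁻¹ ∈ V' (g • c) ↔ u ∈ V c) :
    L2Q N' Δ' V' (g • a) (g • b) F (fun x => e (g⁻¹ • x)) ((MulAut.conj g).toMonoidHom.comp π) := by
  have hL := Lt_conj_of hΔ hV
  have sj : ∀ k : G, ∃ k', k = g * k' * g⁻¹ := fun k => ⟨g⁻¹ * k * g, by group⟩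
  refine ⟨⟨h.odd, ⟨fun _ _ => trivial, fun x hx y hy e' => ?_, fun z _ => ?_⟩, by simpa using h.ea,
    by simpa using h.eb, fun u hu => ?_, fun k hk => ?_, fun B => ?_, fun k hk => ?_⟩,
    ?_, fun B => (act_conj hΔ).2 (h.act B), fun c => (hV a _).2 (h.upV c), fun u hu => ?_,
    fun k hk A σ hA B B' hB => ?_⟩
  · exact smul_left_cancel g⁻¹
      (h.bij.injOn ((hΔ _).1 (by simpa using hx)) ((hΔ _).1 (by simpa using hy)) e')
  · obtain ⟨x, hx, e'⟩ := h.bij.surjOn (Set.mem_univ z)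
    exact ⟨g • x, (hΔ x).2 hx, by simpa using e'⟩
  · obtain ⟨u, rfl⟩ := sj u
    obtain ⟨c, hc⟩ := h.Vt u ((hV a u).1 hu)
    exact ⟨c, (act_conj hΔ).2 hc⟩
  · obtain ⟨k, rfl⟩ := sj k
    obtain ⟨B, hB⟩ := h.Lsl k ((hL k).1 hk)
    exact ⟨B, (act_conj hΔ).2 hB⟩
  · obtain ⟨k, hk, hB⟩ := h.slL B
    exact ⟨_, (hL k).2 hk, (act_conj hΔ).2 hB⟩
  · obtain ⟨k, rfl⟩ := sj k
    obtain ⟨A, σ, hA⟩ := h.Ngl k ((hN k).1 hk)
    exact ⟨A, σ, (act_conj hΔ).2 hA⟩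
  · ext k
    obtain ⟨k, rfl⟩ := sj k
    rw [hL, ← h.range]
    constructor
    · rintro ⟨B, hB⟩
      exact ⟨B, (MulAut.conj g).injective hB⟩
    · rintro ⟨B, rfl⟩
      exact ⟨B, rfl⟩
  · obtain ⟨u, rfl⟩ := sj u
    obtain ⟨c, rfl⟩ := h.Vup u ((hV a u).1 hu)
    exact ⟨c, rfl⟩
  · obtain ⟨k, rfl⟩ := sj k
    have := h.conj k ((hN k).1 hk) A σ ((act_conj hΔ).1 hA) B B' hB
    change g * k * g⁻¹ * (g * π B * g⁻¹) * (g * k * g⁻¹)⁻¹ = g * π B' * g⁻¹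
    rw [← this]; group

end conj

variable {U : Ω → Subgroup G}

theorem Cb.pair (h : Cb U) {a b c d : Ω} (hab : a ≠ b) (hcd : c ≠ d) :
    ∃ g : G, g • a = c ∧ g • b = d := by
  obtain ⟨g, -, e⟩ := h.ld.two (by rw [Set.ncard_univ]; exact h.three) (Set.mem_univ a)
    (Set.mem_univ b) (Set.mem_univ c) (Set.mem_univ d) hab hcd
  exact ⟨g, e⟩

theorem Cb.two (h : Cb U) : IsMultiplyPretransitive G Ω 2 :=
  is_two_pretransitive_iff.2 h.pair

theorem Cb.trans (h : Cb U) (a c : Ω) : ∃ g : G, g • a = c := by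
  obtain ⟨g, -, e⟩ := h.ld.trans (by rw [Set.ncard_univ]; exact h.three) (Set.mem_univ a)
    (Set.mem_univ c)
  exact ⟨g, e⟩

theorem Cb.even (h : Cb U) : Even (Nat.card Ω) := by
  rw [← Set.ncard_univ]; exact h.ld.even (by rw [Set.ncard_univ]; have := h.three; omega)

theorem Cb.cj (h : Cb U) (g u : G) (c : Ω) : g * u * g⁻¹ ∈ U (g • c) ↔ u ∈ U c :=
  h.ld.cj_iff (mem_top g) (Set.mem_univ c)

theorem Cb.fix (h : Cb U) {c : Ω} {u : G} (hu : u ∈ U c) : u • c = c :=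
  h.ld.fix c (Set.mem_univ c) u hu

theorem Cb.tr (h : Cb U) {c x y : Ω} (hx : x ≠ c) (hy : y ≠ c) : ∃ u ∈ U c, u • x = y :=
  h.ld.tr c (Set.mem_univ c) x (Set.mem_univ x) y (Set.mem_univ y) hx hy

theorem Cb.odd (h : Cb U) (c : Ω) : Odd (Nat.card (U c)) := h.ld.odd c (Set.mem_univ c)

theorem Cb.nil (h : Cb U) (c : Ω) : Group.IsNilpotent (U c) := h.ld.nil c (Set.mem_univ c)

theorem Cb.norm (h : Cb U) {a : Ω} {g : G} (hg : g • a = a) : g ∈ normalizer (U a : Set G) :=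
  mem_normalizer_iff.2 fun u => by
    have := h.cj g u a
    rw [hg] at this; exact this.symm

theorem Cb.card_U (h : Cb U) (a b : Ω) : Nat.card (U a) = Nat.card (U b) := by
  obtain ⟨g, rfl⟩ := h.trans a b
  have : U (g • a) = (U a).map (MulAut.conj g).toMonoidHom := by
    ext u
    constructor
    · intro hu
      refine ⟨g⁻¹ * u * g, (h.cj g _ a).1 (by simpa [mul_assoc] using hu), ?_⟩
      simp [mul_assoc]
    · rintro ⟨u, hu, rfl⟩; exact (h.cj g u a).2 hu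
  rw [this, card_map_of_injective (MulAut.conj g).injective]

theorem Cb.mem_UY_conj (h : Cb U) (g t u : G) (c : Ω) :
    g * u * g⁻¹ ∈ UY U {g * t * g⁻¹} (g • c) ↔ u ∈ UY U {t} c := by
  rw [mem_UY1, mem_UY1, h.cj, conj_comm_iff]

theorem Cb.mem_LY_conj (h : Cb U) (g t l : G) :
    g * l * g⁻¹ ∈ LY U {g * t * g⁻¹} ↔ l ∈ LY U {t} :=
  Lt_conj_of (Fx_conj g t) (fun c u => h.mem_UY_conj g t u c) l

theorem Cb.TL_conj (h : Cb U) {s t : G} (hc : IsConj s t) (hs : TL U {s}) : TL U {t} := by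
  obtain ⟨g, rfl⟩ := isConj_iff.1 hc
  intro a ha b hb hab
  obtain ⟨F, i1, i2, e, π, hq⟩ := hs (g⁻¹ • a) ((Fx_conj g s _).1 (by simpa using ha)) (g⁻¹ • b)
    ((Fx_conj g s _).1 (by simpa using hb)) fun e => hab (smul_left_cancel g⁻¹ e)
  have := hq.cj (g := g) (N' := normalizer ({g * s * g⁻¹} : Set G))
    (fun k => by rw [mem_norm1, mem_norm1, conj_comm_iff]) (Fx_conj g s)
    fun c u => h.mem_UY_conj g s u c
  rw [smul_inv_smul, smul_inv_smul] at this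
  exact ⟨F, i1, i2, _, _, this⟩

theorem Inv.conj {s t : G} (hs : Inv s) (hc : IsConj s t) : Inv t := by
  obtain ⟨g, rfl⟩ := isConj_iff.1 hc
  refine ⟨?_, fun e => hs.2 ?_⟩
  · calc g * s * g⁻¹ * (g * s * g⁻¹) = g * (s * s) * g⁻¹ := by group
      _ = 1 := by rw [hs.1]; group
  · simpa using e

theorem Cb.SLt_conj (h : Cb U) {s t : G} (hc : IsConj s t) (hs : SLt U s) : SLt U t := by
  refine ⟨hs.1.conj hc, ?_, h.TL_conj hc hs.2.2⟩
  obtain ⟨g, rfl⟩ := isConj_iff.1 hc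
  exact (h.mem_LY_conj g s s).2 hs.2.1

/-- an element of `G_{ab}` that centralises `U a` is trivial -/
theorem Cb.eq_one (h : Cb U) {a b : Ω} (hab : a ≠ b) {g : G} (hg : g ∈ Hb G a b)
    (hc : ∀ u ∈ U a, g * u = u * g) : g = 1 := by
  refine h.faith g fun x => ?_
  by_cases hx : x = a
  · rw [hx]; exact hg.1
  · obtain ⟨u, hu, rfl⟩ := h.tr hab.symm hx
    rw [← mul_smul, hc u hu, mul_smul, (mem_Hb.1 hg).2]

theorem fam_aux {A : Subgroup G} {a : Ω} (hp : ∀ c : Ω, ∃ g : G, g • a = c)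
    (hf : ∀ u ∈ A, u • a = a) (hn : ∀ g : G, g • a = a → ∀ u ∈ A, g * u * g⁻¹ ∈ A)
    (ht : ∀ x y : Ω, x ≠ a → y ≠ a → ∃ u ∈ A, u • x = y) (hl : Group.IsNilpotent A)
    (ho : Odd (Nat.card A)) : ∃ V : Ω → Subgroup G, LD ⊤ Set.univ V ∧ V a = A ∧
      ∀ g u : G, g * u * g⁻¹ ∈ V (g • a) ↔ u ∈ A := by
  choose f hf' using hp
  let V : Ω → Subgroup G := fun c => A.map (MulAut.conj (f c)).toMonoidHom
  have key : ∀ g u : G, g * u * g⁻¹ ∈ V (g • a) ↔ u ∈ A := by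
    intro g u
    have h1 : (g⁻¹ * f (g • a)) • a = a := by rw [mul_smul, hf', inv_smul_smul]
    constructor
    · rintro ⟨w, hw, e⟩
      have e' : f (g • a) * w * (f (g • a))⁻¹ = g * u * g⁻¹ := e
      have := hn _ h1 w hw
      rwa [show g⁻¹ * f (g • a) * w * (g⁻¹ * f (g • a))⁻¹ =
        g⁻¹ * (f (g • a) * w * (f (g • a))⁻¹) * g by group, e', show g⁻¹ * (g * u * g⁻¹) * g = u by
          group] at this
    · intro hu
      refine ⟨_, hn (g⁻¹ * f (g • a))⁻¹ (by rw [inv_smul_eq_iff, h1]) u hu, ?_⟩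
      change f (g • a) * _ * (f (g • a))⁻¹ = _
      group
  refine ⟨V, ⟨fun _ _ _ _ => trivial, fun _ _ => le_top, ?_, ?_, ?_, fun c _ => ?_, fun c _ => ?_⟩,
    ?_, key⟩
  · rintro c - _ ⟨u, hu, rfl⟩
    change (f c * u * (f c)⁻¹) • c = c
    rw [mul_smul, mul_smul, inv_smul_eq_iff.2 (hf' c).symm, hf u hu, hf']
  · rintro g - c - _ ⟨u, hu, rfl⟩
    have := (key (g * f c) u).2 hu
    rw [mul_smul, hf'] at this
    change g * (f c * u * (f c)⁻¹) * g⁻¹ ∈ _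
    simpa [mul_assoc] using this
  · rintro c - x - y - hx hy
    obtain ⟨u, hu, e⟩ := ht ((f c)⁻¹ • x) ((f c)⁻¹ • y)
      (fun e => hx (by rw [← hf' c, ← e, smul_inv_smul]))
      (fun e => hy (by rw [← hf' c, ← e, smul_inv_smul]))
    refine ⟨_, ⟨u, hu, rfl⟩, ?_⟩
    change (f c * u * (f c)⁻¹) • x = y
    rw [mul_smul, mul_smul, e, smul_inv_smul]
  · exact nilpotent_of_mulEquiv (A.equivMapOfInjective _ (MulAut.conj (f c)).injective)
  · rwa [card_map_of_injective (MulAut.conj (f c)).injective]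
  · ext u
    simpa using key 1 u

/-- a normal transitive subgroup of `U a` defines a family of root groups -/
theorem Cb.fam (h : Cb U) {a : Ω} {A : Subgroup G} (hA : A ≤ U a)
    (hn : ∀ g : G, g • a = a → ∀ u ∈ A, g * u * g⁻¹ ∈ A)
    (ht : ∀ x y : Ω, x ≠ a → y ≠ a → ∃ u ∈ A, u • x = y) :
    ∃ V : Ω → Subgroup G, LD ⊤ Set.univ V ∧ V a = A ∧ ∀ c, V c ≤ U c := by
  haveI := h.nil a
  obtain ⟨V, h1, h2, h3⟩ := fam_aux (h.trans a) (fun u hu => h.fix (hA hu)) hn ht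
    (nilpotent_of_mulEquiv (subgroupOfEquivOfLe hA)) ((h.odd a).of_dvd_nat (card_dvd_of_le hA))
  refine ⟨V, h1, h2, fun c u hu => ?_⟩
  obtain ⟨g, rfl⟩ := h.trans a c
  have : g⁻¹ * u * g ∈ A := (h3 g _).1 (by simpa [mul_assoc] using hu)
  simpa [mul_assoc] using (h.cj g _ a).2 (hA this)

theorem Top.fam {A : Subgroup G} {a : Ω} (h : Top A a) (ho : Odd (Nat.card A)) :
    ∃ V : Ω → Subgroup G, Cb V ∧ V a = A := by
  haveI := h.two
  haveI : IsPretransitive G Ω := isPretransitive_of_is_two_pretransitive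
  obtain ⟨V, h1, h2, -⟩ := fam_aux (exists_smul_eq G a) h.fix h.nrm h.tr h.nil ho
  exact ⟨V, ⟨h1, h.faith, h.three⟩, h2⟩

theorem Cy.sub (h : Cy U) {a : Ω} {A : Subgroup G} (hA : A ≤ U a) (hne : A ≠ U a)
    (hn : ∀ g : G, g • a = a → ∀ u ∈ A, g * u * g⁻¹ ∈ A)
    (ht : ∀ x y : Ω, x ≠ a → y ≠ a → ∃ u ∈ A, u • x = y) : Gl G Ω := by
  obtain ⟨V, h1, h2, h3⟩ := h.toCb.fam hA hn ht
  exact h.ih2 V h1 h3 ⟨a, h2 ▸ hne⟩

/-- `u • b` is fixed by `g ∈ G_{ab}` iff `g` centralises `u` -/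
theorem Cx.fix_iff (h : Cx U) {a b : Ω} (hab : a ≠ b) {g u : G} (hg : g ∈ Hb G a b)
    (hu : u ∈ U a) : g • u • b = u • b ↔ g * u = u * g := by
  constructor
  · intro e
    have h1 := mem_normalizer_iff.1 (h.toCb.norm hg.1) u
    have h2 := h.reg a b hab.symm _ (mul_mem (inv_mem hu) (h1.1 hu)) (by
      rw [mul_smul, mul_smul, mul_smul, inv_smul_eq_iff.2 (mem_Hb.1 hg).2.symm, e, inv_smul_smul])
    calc g * u = u * (u⁻¹ * (g * u * g⁻¹)) * g := by group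
      _ = u * g := by rw [h2, mul_one]
  · intro e
    rw [← mul_smul, e, mul_smul, (mem_Hb.1 hg).2]

theorem Fx_norm {Y : Set G} {g : G} (hg : g ∈ normalizer Y) {x : Ω} (hx : x ∈ Fx Ω Y) :
    g • x ∈ Fx Ω Y := fun y hy => by
  have := hx _ ((mem_set_normalizer_iff''.1 hg y).1 hy)
  rw [mul_smul, mul_smul, inv_smul_eq_iff] at this
  exact this

theorem cent_le_norm (Y : Set G) : centralizer Y ≤ normalizer Y := fun g hg =>
  mem_set_normalizer_iff.2 fun n => by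
    constructor
    · intro hn; rw [← hg n hn]; simpa using hn
    · intro hn
      have := hg _ hn
      have e : n = g * n * g⁻¹ := by
        calc n = g⁻¹ * (g * n * g⁻¹ * g) := by group
          _ = g * n * g⁻¹ := by rw [this]; group
      rwa [e]

theorem Cx.ldY (h : Cx U) (Y : Set G) : LD (normalizer Y) (Fx Ω Y) (UY U Y) := by
  refine ⟨fun g hg x hx => Fx_norm hg hx, fun c _ => inf_le_right.trans (cent_le_norm Y),
    fun c _ u hu => h.toCb.fix hu.1, fun g hg c _ u hu => ⟨(h.toCb.cj g u c).2 hu.1, ?_⟩,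
    fun c hc x hx y hy hxc hyc => ?_, fun c _ => ?_,
    fun c _ => (h.toCb.odd c).of_dvd_nat (card_dvd_of_le inf_le_left)⟩
  · intro y hy
    have := hu.2 _ ((mem_set_normalizer_iff''.1 hg y).1 hy)
    calc y * (g * u * g⁻¹) = g * (g⁻¹ * y * g * u) * g⁻¹ := by group
      _ = g * u * g⁻¹ * y := by rw [this]; group
  · obtain ⟨u, hu, rfl⟩ := h.toCb.tr hxc hyc
    exact ⟨u, ⟨hu, fun y hy' => (h.fix_iff hxc.symm ⟨hc y hy', hx y hy'⟩ hu).1 (hy y hy')⟩, rfl⟩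
  · haveI := h.toCb.nil c
    exact nilpotent_of_mulEquiv (subgroupOfEquivOfLe (inf_le_left : UY U Y c ≤ U c))

theorem Cx.faithY (h : Cx U) {Y : Set G} (h2 : 2 ≤ (Fx Ω Y).ncard) :
    FaithV (Fx Ω Y) (UY U Y) := fun c _ u hu ht => by
  obtain ⟨d, hd, hdc⟩ := Set.exists_ne_of_one_lt_ncard h2 c
  exact h.reg c d hdc u hu.1 (ht d hd)

theorem Cx.cardY (h : Cx U) {Y : Set G} {c : Ω} (hc : c ∈ Fx Ω Y) (h2 : 2 ≤ (Fx Ω Y).ncard) :
    Nat.card (UY U Y c) + 1 = (Fx Ω Y).ncard := by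
  obtain ⟨d, hd, hdc⟩ := Set.exists_ne_of_one_lt_ncard h2 c
  have e : UY U Y c ⊓ stabilizer G d = ⊥ :=
    eq_bot_iff.2 fun u hu => h.reg c d hdc u hu.1.1 hu.2
  rw [(h.ldY Y).card_V hc hd hdc.symm, e, card_bot]
  omega

/-- a set of elements of a 2-group with a fixed point has a second one -/
theorem Cb.two_le_Fx (h : Cb U) {T : Subgroup G} (hT : IsPGroup 2 T) {Y : Set G} (hY : Y ⊆ T)
    {c : Ω} (hc : ∀ t ∈ T, t • c = c) : 2 ≤ (Fx Ω Y).ncard := by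
  obtain ⟨d, -, hdc, hd⟩ := h.ld.second (by rw [Set.ncard_univ]; have := h.three; omega) hT le_top
    (Set.mem_univ c) hc
  exact (Set.one_lt_ncard_iff (s := Fx Ω Y)).2
    ⟨d, c, fun y hy => hd y (hY hy), fun y hy => hc y (hY hy), hdc⟩

theorem Cb.two_le_Fx2 (h : Cb U) {s t : G} (hs : s * s = 1) (ht : t * t = 1) (hc : s * t = t * s)
    {c : Ω} (sc : s • c = c) (tc : t • c = c) : 2 ≤ (Fx Ω ({s, t} : Set G)).ncard := by
  refine h.two_le_Fx (T := closure {s, t}) (fun x => ⟨1, ?_⟩) subset_closure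
    (c := c) fun g hg => ?_
  · obtain ⟨x, hx⟩ := x
    refine Subtype.ext ?_
    have cm : ∀ x ∈ closure ({s, t} : Set G), ∀ y ∈ closure ({s, t} : Set G), x * y = y * x := by
      intro x hx y hy
      refine closure_induction₂ (p := fun x y _ _ => Commute x y) ?_ (fun _ _ => Commute.one_left _)
        (fun _ _ => Commute.one_right _) (fun _ _ _ _ _ _ h1 h2 => h1.mul_left h2)
        (fun _ _ _ _ _ _ h1 h2 => h1.mul_right h2) (fun _ _ _ _ h1 => h1.inv_left)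
        (fun _ _ _ _ h1 => h1.inv_right) hx hy
      rintro x y (rfl | rfl) (rfl | rfl)
      exacts [rfl, hc, hc.symm, rfl]
    change x ^ 2 ^ 1 = 1
    rw [pow_one, sq]
    induction hx using closure_induction with
    | mem x hx => rcases hx with rfl | rfl; exacts [hs, ht]
    | one => simp
    | mul x y hx hy h1 h2 =>
      calc x * y * (x * y) = x * (y * x) * y := by group
        _ = (x * x) * (y * y) := by rw [← cm x hx y hy]; group
        _ = 1 := by rw [h1, h2, one_mul]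
    | inv x _ h1 => rw [← _root_.mul_inv_rev, h1, inv_one]
  · refine (closure_le (K := stabilizer G c)).2 ?_ hg
    rintro x (rfl | rfl)
    exacts [sc, tc]

theorem Cb.two_le_Fx1 (h : Cb U) {t : G} (ht : t * t = 1) {c : Ω} (tc : t • c = c) :
    2 ≤ (Fx Ω {t}).ncard := by
  simpa using h.two_le_Fx2 ht ht rfl tc tc

theorem Cx.card1 (h : Cx U) {t : G} (ht : t * t = 1) {c : Ω} (tc : t • c = c) :
    Nat.card (UY U {t} c) + 1 = (Fx Ω {t}).ncard :=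
  h.cardY (mem_Fx1.2 tc) (h.toCb.two_le_Fx1 ht tc)

theorem Cx.card2 (h : Cx U) {s t : G} (hs : s * s = 1) (ht : t * t = 1) (hc : s * t = t * s)
    {c : Ω} (sc : s • c = c) (tc : t • c = c) :
    Nat.card (UY U {s, t} c) + 1 = (Fx Ω ({s, t} : Set G)).ncard :=
  h.cardY (mem_Fx2.2 ⟨sc, tc⟩) (h.toCb.two_le_Fx2 hs ht hc sc tc)

theorem Cx.card_U (h : Cx U) (c : Ω) : Nat.card (U c) + 1 = Nat.card Ω := by
  have h3 := h.three
  obtain ⟨d, -, hdc⟩ := Set.exists_ne_of_one_lt_ncard (s := (Set.univ : Set Ω))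
    (by rw [Set.ncard_univ]; omega) c
  have e : U c ⊓ stabilizer G d = ⊥ := eq_bot_iff.2 fun u hu => h.reg c d hdc u hu.1 hu.2
  rw [h.ld.card_V (Set.mem_univ c) (Set.mem_univ d) hdc.symm, e, card_bot, Set.ncard_univ]
  omega

end H51.HK
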