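import Cfsg.Agent.Lib.Ree.Cover
import Cfsg.Agent.Lib.Ree.Aut
import Cfsg.Agent.Lib.ReeT.FL3

/-! Small Ree groups: odd kernels of stem extensions, and automorphisms that normalise the Borel pair. -/

set_option autoImplicit false
set_option linter.unusedSectionVars false

namespace H85.KRe

open Matrix MulAction H64.SL2 H40.Ree
open scoped commutatorElement MatrixGroups

variable {G : Type*} [Group G] {K : Type*} [Field K] [CharP K 3]

section Lift
variable {Γ : Type*} [Group Γ] {σ : Γ →* G}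

theorem comm_of_cube (hc : σ.ker ≤ Subgroup.center Γ) {x y : Γ} (hx : σ x * σ x = 1)
    (h : σ y * σ x = σ x * σ y) (hy : σ y ^ 3 = 1) : Commute x y := by
  have hm : ⁅x, y⁆ ∈ Subgroup.center Γ := hc (by
    rw [MonoidHom.mem_ker, map_commutatorElement, commutatorElement_eq_one_iff_mul_comm, h])
  have hz := Subgroup.mem_center_iff.1 hm
  have e : x * y = ⁅x, y⁆ * (y * x) := by simp only [commutatorElement_def]; group
  have h2 : x * x ∈ Subgroup.center Γ := hc (by rw [MonoidHom.mem_ker, map_mul, hx])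
  have h3 : y ^ 3 ∈ Subgroup.center Γ := hc (by rw [MonoidHom.mem_ker, map_pow, hy])
  have a2 : ⁅x, y⁆ * ⁅x, y⁆ = 1 := by
    rw [← H14.Sz.comm_mul_left (hz x), commutatorElement_eq_one_iff_mul_comm]
    exact (Subgroup.mem_center_iff.1 h2 y).symm
  have a3 : ⁅x, y⁆ * (⁅x, y⁆ * ⁅x, y⁆) = 1 := by
    have b2 : ⁅x, y * y⁆ = ⁅x, y⁆ * ⁅x, y⁆ := H14.Sz.comm_mul_right (hz y)
    have b3 : ⁅x, y * (y * y)⁆ = ⁅x, y⁆ * ⁅x, y * y⁆ := H14.Sz.comm_mul_right (by
      rw [b2]; exact (Commute.mul_right (hz y) (hz y)))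
    rw [← b2, ← b3, commutatorElement_eq_one_iff_mul_comm, ← pow_three]
    exact Subgroup.mem_center_iff.1 h3 x
  rw [a2, mul_one] at a3
  exact commutatorElement_eq_one_iff_commute.1 a3

theorem commute_lift [Finite K] (S : Model G K) (hs : Function.Surjective σ)
    (hc : σ.ker ≤ Subgroup.center Γ) {x y : Γ} (hx : σ x * σ x = 1)
    (h : σ y * σ x = σ x * σ y) : Commute x y := by
  by_cases h1 : σ x = 1
  · exact (Subgroup.mem_center_iff.1 (hc h1) y).symm
  obtain ⟨g, hg⟩ := S.exists_conj_a0 hx h1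
  set T := S.conj g
  -- the elements all of whose lifts commute with `x`
  have key : ∀ y y' : Γ, σ y = σ y' → Commute x y → Commute x y' := fun y y' e hy => by
    rw [← commutatorElement_eq_one_iff_commute] at hy ⊢
    rw [← hy]; exact H14.Sz.comm_eq_of_eq hc rfl e.symm
  let A : Subgroup G := (Subgroup.centralizer {x}).map σ
  have memA : ∀ t : G, t ∈ A ↔ ∀ y, σ y = t → Commute x y := fun t => by
    constructor
    · rintro ⟨y, hy, rfl⟩ y' e
      exact key y y' e.symm (Subgroup.mem_centralizer_singleton_iff.1 hy).symm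
    · intro ht
      obtain ⟨y, rfl⟩ := hs t
      exact ⟨y, Subgroup.mem_centralizer_singleton_iff.2 (ht y rfl).symm, rfl⟩
  have h3 : ∀ t : G, t * T.a0 = T.a0 * t → t ^ 3 = 1 → t ∈ A := fun t h1 h2 =>
    (memA t).2 fun y e => comm_of_cube hc hx (by rw [e, ← hg, h1]) (by rw [e, h2])
  have hu : ∀ b, T.u 0 b 0 ∈ A := fun b =>
    h3 _ (by rw [T.a0_mul_u]; simp) (T.u_pow_three_eq_one.2 rfl)
  have hv : ∀ b, T.w * (T.u 0 b 0 * T.w) ∈ A := fun b => h3 _ (by
      rw [← mul_assoc T.a0, T.a0_mul_w, mul_assoc T.w T.a0, ← mul_assoc T.a0, T.a0_mul_u, neg_zero,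
        mul_assoc _ T.a0, T.a0_mul_w]
      simp only [mul_assoc]) (by
      rw [← mul_assoc]
      conv_lhs => rw [← T.w_inv]
      rw [show T.w⁻¹ * T.u 0 b 0 * T.w⁻¹ = T.w * T.u 0 b 0 * T.w⁻¹ by rw [T.w_inv], conj_pow,
        T.u_pow_three_eq_one.2 rfl, mul_one, mul_inv_cancel])
  have hn : ∀ b : Kˣ, T.h (T.sdiv b) * T.w ∈ A := fun b => by
    rw [← T.n_rel]; exact mul_mem (mul_mem (hu _) (hv _)) (hu _)
  have hw : T.w ∈ A := by
    have := hn 1
    rwa [← T.phi_diag, map_one, map_one, one_mul] at this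
  have hf : ∀ t, T.phi t ∈ A := fun t => by
    refine sl2_induction (P := fun t => T.phi t ∈ A) (fun g g' a b => ?_) (fun b => ?_) ?_ (fun t => ?_) t
    · rw [map_mul]; exact mul_mem a b
    · rw [T.phi_up]; exact hu b
    · rw [T.phi_iS]; exact hw
    · rw [T.phi_diag]; exact (Subgroup.mul_mem_cancel_right _ hw).1 (hn t)
  have ha : T.a0 ∈ A := ⟨x, Subgroup.mem_centralizer_singleton_iff.2 rfl, hg.symm⟩
  rw [← hg] at h
  refine (memA (σ y)).1 ?_ y rfl
  obtain ⟨t, ht | ht⟩ := T.commute_a0_iff.1 h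
  · rw [ht]; exact hf t
  · rw [ht]; exact mul_mem ha (hf t)

theorem odd_ker [Finite K] [Finite Γ] (S : Model G K) (hσ : Cfsg.IsStemExtension σ) :
    Odd (Nat.card σ.ker) := by
  have := S.finite
  rw [← Nat.not_even_iff_odd, even_iff_two_dvd]
  intro h2
  have : Fact (Nat.Prime 2) := ⟨Nat.prime_two⟩
  obtain ⟨z, hz⟩ := exists_prime_orderOf_dvd_card' 2 h2
  have h1 := H60.pow_index_mem_of_stem hσ (S.E.comap σ) z.2
  rw [Subgroup.map_comap_eq_self_of_surjective hσ.1] at h1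
  have h3 : ⁅S.E.comap σ, S.E.comap σ⁆ ≤ ⊥ :=
    Subgroup.commutator_le.2 fun _ hx _ hy => commutatorElement_eq_one_iff_commute.2
      (commute_lift S hσ.1 hσ.2.1 (S.sq_of_mem_E hx) (S.E_comm hy hx))
  have h4 : z ^ S.E.index = 1 := Subtype.ext (h3 h1)
  have h5 := orderOf_dvd_of_pow_eq_one h4
  rw [hz] at h5
  exact (Nat.not_even_iff_odd.2 S.odd_index_E) (even_iff_two_dvd.2 h5)

end Lift

section Aut

theorem aut_pow_of_comm {α : MulAut G} {x v : G} (h : α x = x * v) (hv : α v = v) (n : ℕ) :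
    (α ^ n) x = x * v ^ n := by
  induction n with
  | zero => simp
  | succ n ih => rw [pow_succ', MulAut.mul_apply, ih, map_mul, map_pow, h, hv, pow_succ', mul_assoc]

/-- a 2-element that moves `x` by a fixed element of `U` fixes `x` -/
theorem fix_of_two (S : Model G K) {α : MulAut G} {i : ℕ} (h2 : α ^ 2 ^ i = 1) {x v : G}
    (hU : v ∈ S.U) (h : α x = x * v) (hv : α v = v) : α x = x := by
  have h1 := aut_pow_of_comm h hv (2 ^ i)
  rw [h2, MulAut.one_apply, left_eq_mul] at h1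
  have h3 := S.pow_nine_of_mem_U hU
  have h4 : v = 1 := by
    have := pow_gcd_eq_one.2 ⟨h1, h3⟩
    rwa [Nat.Coprime.gcd_eq_one (Nat.Coprime.pow_left i (by norm_num)), pow_one] at this
  rw [h, h4, mul_one]

theorem cases_three [Finite K] (hq : ¬ 3 < Nat.card K) (a : K) : a = 0 ∨ a = 1 ∨ a = -1 := by
  by_contra hn
  push Not at hn
  apply hq
  have h1 : ({0, 1, -1, a} : Set K).ncard = 4 := by
    have e1 : (-1 : K) ≠ 1 := neg_one_ne_one_K
    rw [Set.ncard_insert_of_notMem, Set.ncard_insert_of_notMem, Set.ncard_pair hn.2.2.symm]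
    · simp [e1.symm, hn.2.1.symm]
    · simp [hn.1.symm]
  have h2 := Set.ncard_le_card ({0, 1, -1, a} : Set K)
  omega

theorem s_id [Finite K] (S : Model G K) (hq : ¬ 3 < Nat.card K) (a : K) : S.s a = a := by
  rcases cases_three hq a with rfl | rfl | rfl <;> simp

/-- `q = 3`: a 2-element that acts trivially on the first coordinate is trivial on `U` -/
theorem aut_two_small [Finite K] (S : Model G K) (hq : ¬ 3 < Nat.card K) {α : MulAut G}
    (hU : ∀ x ∈ S.U, α x ∈ S.U) {i : ℕ} (h2 : α ^ 2 ^ i = 1) {b c : K}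
    (h1 : α (S.u 1 0 0) = S.u 1 b c) : ∀ x ∈ S.U, α x = x := by
  have hz : α (S.u 0 0 (-1)) = S.u 0 0 (-1) := by
    have e : ∀ b c : K, S.u 1 b c ^ 3 = S.u 0 0 (-1) := fun b c => by rw [S.u_cube]; simp
    rw [← e 0 0, map_pow, h1, e, e]
  let L : Subgroup G := (α.toMonoidHom).eqLocus (MonoidHom.id G)
  have memL : ∀ x, x ∈ L ↔ α x = x := fun x => Iff.rfl
  have hZ : ∀ c, S.u 0 0 c ∈ L := fun c => by
    rcases cases_three hq c with rfl | rfl | rfl
    · rw [S.u_zero]; exact one_mem _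
    · have := inv_mem ((memL _).2 hz)
      rwa [S.u_zero_inv, neg_zero, neg_neg] at this
    · exact (memL _).2 hz
  have hy : S.u 0 1 0 ∈ L := by
    obtain ⟨a', b', c', e⟩ := S.mem_U.1 (hU _ (S.u_mem_U 0 1 0))
    have e3 : a' = 0 := by
      rw [← S.u_pow_three_eq_one (b := b') (c := c'), ← e, ← map_pow, S.u_pow_three_eq_one.2 rfl, map_one]
    subst e3
    have e4 := S.u_comm_u 1 0 0 0 1 0
    have e5 := congrArg α e4
    rw [map_commutatorElement, h1, e, S.u_comm_u] at e5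
    simp only [map_one, map_zero, mul_zero, mul_one, zero_mul, sub_zero, add_zero, one_mul, sub_self,
      ne_eq, OfNat.ofNat_ne_zero, not_false_eq_true, zero_pow] at e5
    rw [(memL _).1 (hZ 1), S.u_inj] at e5
    refine (memL _).2 (fix_of_two S h2 (S.u_mem_U 0 0 c') ?_ ((memL _).1 (hZ c')))
    rw [e, S.u_zero_mul, e5.2.2, add_zero, zero_add]
  have hY : ∀ b c, S.u 0 b c ∈ L := fun b c => by
    have : S.u 0 b 0 ∈ L := by
      rcases cases_three hq b with rfl | rfl | rfl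
      · rw [S.u_zero]; exact one_mem _
      · exact hy
      · have := inv_mem hy
        rwa [S.u_zero_inv, neg_zero] at this
    have := mul_mem this (hZ c)
    rwa [S.u_zero_mul, add_zero, zero_add] at this
  have hx : S.u 1 0 0 ∈ L := by
    refine (memL _).2 (fix_of_two S h2 (S.u_mem_U 0 b c) ?_ ((memL _).1 (hY b c)))
    rw [h1, S.u_mul]; simp
  refine fun x hx' => (memL x).1 (S.U_le_of_coords (fun a => ?_) (fun b => ⟨0, hY b 0⟩) hZ hx')
  rcases cases_three hq a with rfl | rfl | rfl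
  · exact ⟨0, 0, hY 0 0⟩
  · exact ⟨0, 0, hx⟩
  · exact ⟨_, _, S.u_inv 1 0 0 ▸ inv_mem hx⟩

theorem ringAut_two [Finite K] (S : Model G K) {φ : RingAut K} {i : ℕ} (h : φ ^ 2 ^ i = 1) : φ = 1 := by
  have := Fintype.ofFinite K
  have : Fact (Nat.Prime 3) := ⟨Nat.prime_three⟩
  obtain ⟨n, h1, h2⟩ := H13.RT.card_aut (F := K) 3
  obtain ⟨m, hm⟩ := S.exists_card_eq
  rw [Nat.card_eq_fintype_card, h1] at hm
  have hn : n = 2 * m + 1 := Nat.pow_right_injective (by norm_num : 2 ≤ 3) hm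
  have h3 : φ ^ n = 1 := by rw [← h2]; exact pow_card_eq_one'
  have := pow_gcd_eq_one.2 ⟨h, h3⟩
  rwa [Nat.Coprime.gcd_eq_one (Nat.Coprime.pow_left i (by
    rw [hn, Nat.coprime_two_left]; exact odd_two_mul_add_one m)), pow_one] at this

/-- a 2-element normalising `U` and `H` acts on `U` trivially or as the involution of `H` -/
theorem aut_two [Finite K] (S : Model G K) {α : MulAut G} (hU : ∀ x ∈ S.U, α x ∈ S.U)
    (hH : ∀ x ∈ S.H, α x ∈ S.H) {i : ℕ} (h2 : α ^ 2 ^ i = 1) :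
    (∀ x ∈ S.U, α x = x) ∨ ∀ x ∈ S.U, α x = S.a0 * x * S.a0⁻¹ := by
  by_cases hq : 3 < Nat.card K
  · obtain ⟨g, φ, e⟩ := S.exists_eq_conj_mul_fieldAut hq α
    have ap : ∀ x, α x = g * S.fieldAut φ x * g⁻¹ := fun x => by rw [e]; rfl
    have hB : g ∈ S.B := by
      refine S.mem_B_of_conj_mem_B (S.u_mem_U 1 0 0) (fun e => one_ne_zero (S.u_eq_one.1 e).1) ?_
      have := hU _ (S.u_mem_U 1 0 0)
      rw [ap, S.fieldAut_u, map_one, map_zero] at this
      exact S.U_le_B this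
    obtain ⟨k, k1, k2⟩ := exists_unit_ne hq
    have hg : g ∈ S.H := by
      have := hH _ (S.h_mem_H (Units.map φ.symm.toRingHom.toMonoidHom k))
      rw [ap, S.fieldAut_h, show Units.map φ.toRingHom.toMonoidHom
        (Units.map φ.symm.toRingHom.toMonoidHom k) = k from Units.ext (by simp)] at this
      rcases S.mem_H_or_of_conj_mem_H k1 k2 this with h | ⟨l, h⟩
      · exact h
      · rw [h, Subgroup.mul_mem_cancel_left _ (S.h_mem_B l)] at hB
        exact absurd hB S.w_not_mem_B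
    obtain ⟨l, rfl⟩ := S.mem_H.1 hg
    have it : ∀ n : ℕ, ∃ d : K, ∀ a b c : K, ∃ b' c', (α ^ n) (S.u a b c) = S.u (d * (φ ^ n) a) b' c' := by
      intro n
      induction n with
      | zero => exact ⟨1, fun a b c => ⟨b, c, by simp⟩⟩
      | succ n ih =>
        obtain ⟨d, hd⟩ := ih
        refine ⟨l * φ d, fun a b c => ?_⟩
        obtain ⟨b', c', h⟩ := hd a b c
        have e1 : (l : K) * φ d * (φ ^ (n + 1)) a = l * φ (d * (φ ^ n) a) := by
          rw [pow_succ', map_mul, mul_assoc]; rfl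
        rw [pow_succ' α, MulAut.mul_apply, h, ap, S.fieldAut_u, S.h_conj_u, e1]
        exact ⟨_, _, rfl⟩
    have hφ : φ = 1 := by
      obtain ⟨d, hd⟩ := it (2 ^ i)
      have e1 : ∀ a, a = d * (φ ^ 2 ^ i) a := fun a => by
        obtain ⟨b', c', h⟩ := hd a 0 0
        rw [h2, MulAut.one_apply, S.u_inj] at h
        exact h.1
      have e2 := e1 1
      rw [map_one, mul_one] at e2
      refine ringAut_two S (i := i) (RingEquiv.ext fun a => ?_)
      have := e1 a
      rw [← e2, one_mul] at this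
      exact this.symm
    have e' : α = MulAut.conj (S.h l) := by
      rw [e, hφ, show S.fieldAut 1 = S.fieldAutHom 1 from rfl, map_one, mul_one]
    have h3 : S.h l ^ 2 ^ i = 1 := by
      rw [e', ← map_pow] at h2
      exact (S.eq_one_of_fieldAut_eq_conj (φ := 1) (by
        rw [h2, show S.fieldAut 1 = S.fieldAutHom 1 from rfl, map_one])).1
    by_cases h1 : S.h l = 1
    · left; intro x _; rw [e', h1]; simp
    · right; intro x _
      rw [e', S.eq_a0_of_mem_H (S.h_mem_H l) h1 (S.sq_eq_one_of_two_pow h3), MulAut.conj_apply]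
  · obtain ⟨a, b, c, e⟩ := S.mem_U.1 (hU _ (S.u_mem_U 1 0 0))
    rcases cases_three hq a with rfl | rfl | rfl
    · have h3 := S.u_pow_three_eq_one (a := 0) (b := b) (c := c).2 rfl
      rw [← e, ← map_pow, MulEquiv.map_eq_one_iff, S.u_pow_three_eq_one] at h3
      exact absurd h3 one_ne_zero
    · exact Or.inl (aut_two_small S hq hU h2 e)
    · right
      have ha : α S.a0 = S.a0 := S.eq_a0_of_mem_H (hH _ S.a0_mem_H)
        (by rw [Ne, MulEquiv.map_eq_one_iff]; exact S.a0_ne_one) (by rw [← map_mul, S.a0_mul_a0, map_one])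
      have hc : Commute (MulAut.conj S.a0) α := by
        refine MulEquiv.ext fun x => ?_
        simp only [MulAut.mul_apply, MulAut.conj_apply, map_mul, map_inv, ha]
      have h3 : (MulAut.conj S.a0 * α) ^ 2 ^ (i + 1) = 1 := by
        rw [hc.mul_pow, pow_succ 2 i, pow_mul α, h2, one_pow, mul_one, ← map_pow, mul_comm, pow_mul,
          pow_two, S.a0_mul_a0, one_pow, map_one]
      have h4 := aut_two_small S hq (α := MulAut.conj S.a0 * α) (fun x hx =>
        S.conj_mem_U (S.H_le_B S.a0_mem_H) (hU x hx)) h3 (b := b) (c := -c) (by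
          rw [MulAut.mul_apply, e, MulAut.conj_apply, S.a0_mul_u, mul_inv_cancel_right, neg_neg])
      intro x hx
      have := h4 x hx
      rw [MulAut.mul_apply, MulAut.conj_apply] at this
      conv_rhs => rw [← this]
      rw [S.a0_inv]
      simp only [← mul_assoc, S.a0_mul_a0, one_mul]
      rw [mul_assoc, S.a0_mul_a0, mul_one]

theorem exists_fix [Finite K] {e : K → G} (he : Function.Injective e) {α : MulAut G} {k : ℕ}
    (h3 : α ^ 3 ^ k = 1) (hm : ∀ c, ∃ c', α (e c) = e c') (h0 : e 0 = 1) :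
    ∃ c, c ≠ 0 ∧ α (e c) = e c := by
  classical
  have := Fintype.ofFinite K
  have : Fact (Nat.Prime 3) := ⟨Nat.prime_three⟩
  choose f hf using hm
  let F : Function.End K := f
  have it : ∀ (n : ℕ) c, (α ^ n) (e c) = e ((F ^ n) c) := fun n => by
    induction n with
    | zero => intro c; rfl
    | succ n ih => intro c; rw [pow_succ', MulAut.mul_apply, ih, hf, pow_succ']; rfl
  have hF : F ^ 3 ^ k = 1 := funext fun c => he (by rw [← it, h3]; rfl)
  have h1 := Equiv.Perm.card_fixedPoints_modEq hF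
  by_contra hn
  push Not at hn
  have f0 : f 0 = 0 := he (by rw [← hf, h0, map_one])
  have h2 : Fintype.card (Function.fixedPoints F) = 1 := by
    refine Fintype.card_eq_one_iff.2 ⟨⟨0, f0⟩, fun ⟨c, hc⟩ => Subtype.ext ?_⟩
    by_contra hc0
    exact hn c hc0 (by rw [hf, show f c = c from hc])
  rw [h2, ← Nat.card_eq_fintype_card] at h1
  have h4 := (Model.card_three_ne (K := K)).2
  unfold Nat.ModEq at h1
  omega

theorem fix_Y [Finite K] (S : Model G K) {α : MulAut G} (hU : ∀ x ∈ S.U, α x ∈ S.U)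
    (hH : ∀ l, α (S.h l) = S.h l) {k : ℕ} (h3 : α ^ 3 ^ k = 1) (b : K) :
    α (S.u 0 b 0) = S.u 0 b 0 := by
  have ha : α S.a0 = S.a0 := hH _
  obtain ⟨b0, hb0, e0⟩ := exists_fix (e := fun b => S.u 0 b 0) (fun b b' e => (S.u_inj.1 e).2.1) h3
    (fun b => by
      obtain ⟨x, y, z, e⟩ := S.mem_U.1 (hU _ (S.u_mem_U 0 b 0))
      have h1 := congrArg α (S.a0_mul_u 0 b 0)
      rw [neg_zero, map_mul, map_mul, ha, e, S.a0_mul_u, mul_left_inj, S.u_inj] at h1
      have hx : x = 0 := by have := h1.1; grind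
      have hz : z = 0 := by have := h1.2.2; grind
      exact ⟨y, by rw [e, hx, hz]⟩) S.u_zero
  by_cases hb : b = 0
  · rw [hb, S.u_zero, map_one]
  have key : ∀ y : Kˣ, α (S.u 0 (y * y * b0) 0) = S.u 0 (y * y * b0) 0 := fun y => by
    have h1 := S.h_conj_u (S.sdiv y) 0 b0 0
    rw [S.sdiv_mul, mul_zero, mul_zero] at h1
    rw [← h1, map_mul, map_mul, map_inv, hH, e0]
  obtain ⟨y, hy | hy⟩ := sq_or_neg_sq S.hs (Units.mk0 (b / b0) (div_ne_zero hb hb0))
  · have e : (y : K) * y * b0 = b := by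
      rw [← Units.val_mul, ← hy, Units.val_mk0, div_mul_cancel₀ _ hb0]
    rw [← e]; exact key y
  · have e : -((y : K) * y * b0) = b := by
      rw [← neg_mul, ← Units.val_mul, ← Units.val_neg, ← hy, Units.val_mk0, div_mul_cancel₀ _ hb0]
    have h1 := S.u_zero_inv (y * y * b0) 0
    rw [neg_zero, e] at h1
    rw [← h1, map_inv, key]

theorem fix_Z [Finite K] (S : Model G K) {α : MulAut G} (hU : ∀ x ∈ S.U, α x ∈ S.U)
    (hH : ∀ l, α (S.h l) = S.h l) {k : ℕ} (h3 : α ^ 3 ^ k = 1) (c : K) :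
    α (S.u 0 0 c) = S.u 0 0 c := by
  obtain ⟨c0, hc0, e0⟩ := exists_fix (e := fun c => S.u 0 0 c) (fun b b' e => (S.u_inj.1 e).2.2) h3
    (fun c => by
      obtain ⟨a, ha⟩ := S.exists_sq_s (-c)
      obtain ⟨x, y, z, e⟩ := S.mem_U.1 (hU _ (S.u_mem_U a 0 0))
      have h1 := S.u_cube a 0 0
      rw [ha, neg_neg] at h1
      exact ⟨-(x ^ 2 * S.s x), by
        show α (S.u 0 0 c) = _
        rw [← h1, map_pow, e, S.u_cube]⟩) S.u_zero
  by_cases hc : c = 0
  · rw [hc, S.u_zero, map_one]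
  obtain ⟨a, ha⟩ := S.exists_sq_s (c / c0)
  have a0 : a ≠ 0 := by
    rintro rfl
    rw [map_zero, mul_zero] at ha
    exact div_ne_zero hc hc0 ha.symm
  have h1 := S.h_conj_u (Units.mk0 a a0) 0 0 c0
  rw [Units.val_mk0, ha, mul_zero, mul_zero, div_mul_cancel₀ _ hc0] at h1
  rw [← h1, map_mul, map_mul, map_inv, hH, e0]

theorem bruhat_z (S : Model G K) : ∃ (x y z a b c : K) (k : Kˣ), x ≠ 0 ∧
    S.w * (S.u 0 0 1 * S.w) = S.u x y z * S.w * (S.u a b c * S.h k) := by
  have e1 : S.mat (S.w * (S.u 0 0 1 * S.w)) *ᵥ e 0 = ![1, 0, 0, -1, 0, 1, -1] := by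
    have e0 : (wM : Matrix (Fin 7) (Fin 7) K) *ᵥ e 0 = (-1 : K) • e 6 := by
      rw [wM_mulVec]; ext j; fin_cases j <;> simp
    rw [S.mat_mul_vec, S.mat_mul_vec, S.mat_w, S.mat_u, e0, mulVec_smul, uM_e6, mulVec_smul, wM_mulVec]
    ext j; fin_cases j <;> simp
  have hB : S.w * (S.u 0 0 1 * S.w) ∉ S.B := fun h => by
    have := S.coord_of_mem_B h
    rw [e1] at this
    simp at this
  obtain ⟨x, y, z, a, b, c, k, h⟩ := S.bruhat hB
  refine ⟨x, y, z, a, b, c, k, ?_, h⟩
  rintro rfl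
  obtain ⟨l, hl⟩ := S.mem_B_mat.1 (mul_mem (S.u_mem_B a b c) (S.h_mem_B k))
  have e0 : (wM : Matrix (Fin 7) (Fin 7) K) *ᵥ e 0 = (-1 : K) • e 6 := by
    rw [wM_mulVec]; ext j; fin_cases j <;> simp
  rw [h, S.mat_mul_vec, hl, mulVec_smul, S.mat_mul_vec, S.mat_w, e0, mulVec_smul, S.mat_u, uM_e6] at e1
  have := congrFun e1 5
  simp at this

/-- a 3-element normalising `U` and `U^w` and centralising `H` is trivial on `U` -/
theorem aut_three [Finite K] (S : Model G K) {α : MulAut G} (hU : ∀ x ∈ S.U, α x ∈ S.U)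
    (hV : ∀ x ∈ S.U, S.w * α (S.w * x * S.w) * S.w ∈ S.U)
    (hH : ∀ l, α (S.h l) = S.h l) {k : ℕ} (h3 : α ^ 3 ^ k = 1) : ∀ x ∈ S.U, α x = x := by
  have hY := fix_Y S hU hH h3
  have hZ := fix_Z S hU hH h3
  have ww : ∀ x, S.w * (S.w * x) = x := fun x => by rw [← mul_assoc, S.w_mul_w, one_mul]
  have ap : ∀ x, (MulAut.conj S.w * α * (MulAut.conj S.w)⁻¹) x = S.w * α (S.w * x * S.w) * S.w :=
    fun x => by simp [S.w_inv]
  have hY' := fix_Y S (α := MulAut.conj S.w * α * (MulAut.conj S.w)⁻¹) (k := k)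
    (fun x hx => by rw [ap]; exact hV x hx)
    (fun l => by
      rw [ap, S.w_mul_h, mul_assoc _ S.w S.w, S.w_mul_w, mul_one, map_inv, hH, mul_assoc, ← S.w_mul_h, ww])
    (by rw [conj_pow, h3, mul_one, mul_inv_cancel])
  have hv : α (S.w * (S.u 0 1 0 * S.w)) = S.w * (S.u 0 1 0 * S.w) := by
    have := hY' 1
    rw [ap] at this
    conv_rhs => rw [← this]
    simp only [mul_assoc, S.w_mul_w, mul_one, ww]
  have hw : α S.w = S.w := by
    have h1 := S.n_rel 1
    rw [← S.phi_diag, map_one, map_one, one_mul, inv_one, Units.val_one] at h1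
    conv_lhs => rw [← h1]
    rw [map_mul, map_mul, hv, hY, h1]
  obtain ⟨x, y, z, a, b, c, l, hx, e⟩ := bruhat_z S
  have h1 := congrArg α e
  rw [map_mul, map_mul, hw, hZ, e, map_mul, map_mul, hw, map_mul, hH] at h1
  obtain ⟨x', y', z', e'⟩ := S.mem_U.1 (hU _ (S.u_mem_U x y z))
  have h2 : S.pt x y z = S.pt x' y' z' := by
    have h3 := congrArg (· • S.inf) h1
    simp only [mul_smul, S.h_smul_inf, S.u_smul_inf, S.mem_B.1 (S.U_le_B (hU _ (S.u_mem_U a b c))), e',
      ← S.pt_def] at h3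
    exact h3
  rw [S.pt_inj] at h2
  rw [← h2.1, ← h2.2.1, ← h2.2.2] at e'
  let L : Subgroup G := (α.toMonoidHom).eqLocus (MonoidHom.id G)
  have memL : ∀ x, x ∈ L ↔ α x = x := fun x => Iff.rfl
  refine fun t ht => (memL t).1 (S.U_le_of_coords (fun a => ?_) (fun b => ⟨0, hY b⟩) hZ ht)
  by_cases ha : a = 0
  · exact ⟨0, 0, by rw [ha]; exact hY 0⟩
  have h4 := S.h_conj_u (Units.mk0 (a / x) (div_ne_zero ha hx)) x y z
  rw [Units.val_mk0, div_mul_cancel₀ _ hx] at h4
  exact ⟨_, _, h4 ▸ mul_mem (mul_mem ((memL _).2 (hH _)) ((memL _).2 e')) (inv_mem ((memL _).2 (hH _)))⟩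

end Aut

/-- a 3-element centralising the involution lies in the `L₂(q)` -/
theorem mem_phi [Finite K] (S : Model G K) {v : G} {k : ℕ} (h3 : v ^ 3 ^ k = 1)
    (h : v * S.a0 = S.a0 * v) : v ∈ S.phi.range := by
  obtain ⟨x, hx | hx⟩ := S.commute_a0_iff.1 h
  · exact ⟨x, hx.symm⟩
  · exfalso
    have hc : Commute S.a0 (S.phi x) := S.a0_mul_phi x
    obtain ⟨n, hn⟩ : Odd (3 ^ k) := Odd.pow (by decide)
    rw [hx, hc.mul_pow, ← map_pow, hn, pow_succ, pow_mul, pow_two, S.a0_mul_a0, one_pow, one_mul] at h3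
    exact S.a0_phi_ne_one _ h3

/-- the fixed points of the involution -/
theorem ncard_fix_a0 [Finite K] (S : Model G K) :
    {p : S.Pt | S.a0 • p = p}.ncard = Nat.card K + 1 := by
  have e : {p : S.Pt | S.a0 • p = p} = insert S.inf (Set.range fun b : K => S.pt 0 b 0) := by
    ext p
    constructor
    · intro hp
      rcases S.pt_cases p with rfl | ⟨x, y, z, rfl⟩
      · exact Or.inl rfl
      · obtain ⟨rfl, rfl⟩ := S.a0_smul_pt_eq.1 hp
        exact Or.inr ⟨y, rfl⟩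
    · rintro (rfl | ⟨b, rfl⟩)
      · exact (S.mem_H_iff.1 S.a0_mem_H).1
      · exact S.a0_smul_pt_eq.2 ⟨rfl, rfl⟩
  rw [e, Set.ncard_insert_of_notMem (by rintro ⟨b, hb⟩; exact S.pt_ne_inf _ _ _ hb) (Set.finite_range _),
    Set.ncard_range_of_injective fun b b' e => (S.pt_inj.1 e).2.1]

end H85.KRe
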