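import Cfsg.Agent.Lib.HK.Bas
import Cfsg.Agent.Lib.HK.KRea
import Cfsg.Agent.Lib.Ree.LieModel

/-! Split rank one groups generated as a small Ree group (blueprint/HKS2.md, package KRe). -/

set_option autoImplicit false
set_option linter.unusedSectionVars false

namespace H51.HK

open MulAction Subgroup Matrix H69
open scoped MatrixGroups Classical commutatorElement

variable {G Ω : Type*} [Group G] [MulAction G Ω] [Finite G] [Finite Ω]

variable {U : Ω → Subgroup G}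

section Aux
open H40.Ree H85.KRe

variable {K : Type} [Field K] [CharP K 3] [Finite K]

/-- a model of `L` adapted to the pair `a, b` -/
structure KReM (U : Ω → Subgroup G) (a b : Ω) (S : Model (Lt Set.univ U) K) : Prop where
  mU : ∀ g : Lt Set.univ U, g ∈ S.U ↔ (g : G) ∈ U a
  mB : ∀ g : Lt Set.univ U, g ∈ S.B ↔ (g : G) • a = a
  wa : (S.w : G) • a = b

theorem kre_three (h : Cb U) : 3 ≤ (Set.univ : Set Ω).ncard := by
  rw [Set.ncard_univ]; exact h.three

theorem kre_mem_conj (h : Cb U) (g u : G) (c : Ω) : g * u * g⁻¹ ∈ U (g • c) ↔ u ∈ U c := by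
  refine ⟨fun hu => ?_, h.ld.cj g trivial c trivial u⟩
  have := h.ld.cj g⁻¹ trivial _ trivial _ hu
  rwa [inv_smul_smul, show g⁻¹ * (g * u * g⁻¹) * g⁻¹⁻¹ = u by group] at this

theorem kre_model (h : Cb U) (hr : Reg U) (hS : SylF U 3) (S0 : Model (Lt Set.univ U) K) {a b : Ω}
    (hab : a ≠ b) : ∃ S : Model (Lt Set.univ U) K, KReM U a b S := by
  have : Fact (Nat.Prime 3) := ⟨Nat.prime_three⟩
  have hle : U a ≤ Lt Set.univ U := le_Lt (Set.mem_univ a)
  have hp : IsPGroup 3 ((U a).subgroupOf (Lt Set.univ U)) :=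
    (hS a).1.of_equiv (subgroupOfEquivOfLe hle).symm
  obtain ⟨g, hg⟩ := S0.exists_conj_U_eq (hp.toSylow (hS a).2)
  have mU : ∀ x : Lt Set.univ U, x ∈ (S0.conj g).U ↔ (x : G) ∈ U a := fun x => by
    rw [hg]; exact mem_subgroupOf
  have mB : ∀ S : Model (Lt Set.univ U) K, (∀ x : Lt Set.univ U, x ∈ S.U ↔ (x : G) ∈ U a) →
      ∀ x : Lt Set.univ U, x ∈ S.B ↔ (x : G) • a = a := fun S mU x => by
    have n1 : S.u 1 0 0 ≠ 1 := fun e => _root_.one_ne_zero (S.u_eq_one.1 e).1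
    constructor
    · intro hx
      by_contra hne
      have h1 := (mU _).1 (S.conj_mem_U hx (S.u_mem_U 1 0 0))
      have h2 := hr a _ hne _ h1 (by
        rw [coe_mul, coe_mul, coe_inv, mul_smul, mul_smul, inv_smul_smul,
          h.ld.fix a trivial _ ((mU _).1 (S.u_mem_U 1 0 0))])
      exact H40.Tor.conj_ne_one n1 (Subtype.ext h2)
    · intro hx
      refine S.mem_B_of_conj_mem_B (S.u_mem_U 1 0 0) n1 (S.U_le_B ((mU _).2 ?_))
      have := h.ld.cj x trivial a trivial _ ((mU _).1 (S.u_mem_U 1 0 0))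
      rwa [hx] at this
  set S := S0.conj g
  have hw : (S.w : G) • a ≠ a := fun e => S.w_not_mem_B ((mB S mU _).2 e)
  obtain ⟨u, hu, e⟩ := h.ld.tr a trivial _ trivial b trivial hw hab.symm
  have hU : (S.conj ⟨u, hle hu⟩).U = S.U := S.conj_U_of_mem_B (S.U_le_B ((mU _).2 hu))
  have mU' : ∀ x : Lt Set.univ U, x ∈ (S.conj ⟨u, hle hu⟩).U ↔ (x : G) ∈ U a := fun x => by
    rw [hU, mU]
  refine ⟨S.conj ⟨u, hle hu⟩, mU', mB _ mU', ?_⟩
  rw [Model.conj_w, coe_mul, coe_mul, coe_inv, mul_smul, mul_smul, coe_mk,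
    h.ld.fix a trivial _ (inv_mem hu), e]

namespace KReM
variable {a b : Ω} {S : Model (Lt Set.univ U) K}

theorem wb (m : KReM U a b S) : (S.w : G) • b = a := by
  rw [← m.wa, ← mul_smul, ← coe_mul, S.w_mul_w, coe_one, one_smul]

theorem smul_eq (m : KReM U a b S) {g x : Lt Set.univ U} :
    g • x • S.inf = x • S.inf ↔ (g : G) • (x : G) • a = (x : G) • a := by
  rw [← mul_smul, eq_comm, S.smul_inf_eq_iff, m.mB, coe_mul, coe_mul, coe_inv, mul_smul, mul_smul,
    inv_smul_eq_iff]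

theorem mH (m : KReM U a b S) {g : Lt Set.univ U} :
    g ∈ S.H ↔ (g : G) • a = a ∧ (g : G) • b = b := by
  rw [S.mem_H_iff, ← S.mem_B, m.mB, ← S.w_smul_inf, m.smul_eq, m.wa]

/-- the identification of the points -/
theorem equiv (m : KReM U a b S) (h : Cb U) (hab : a ≠ b) : ∃ φ : S.Pt ≃ Ω,
    ∀ (g : Lt Set.univ U) (p : S.Pt), g • p = p ↔ (g : G) • φ p = φ p := by
  choose r hr using S.exists_smul_inf
  have key : ∀ x y : Lt Set.univ U, x • S.inf = y • S.inf ↔ (x : G) • a = (y : G) • a := fun x y => by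
    rw [S.smul_inf_eq_iff, m.mB, coe_mul, coe_inv, mul_smul, inv_smul_eq_iff, eq_comm]
  refine ⟨Equiv.ofBijective (fun p => (r p : G) • a) ⟨fun p p' e => ?_, fun c => ?_⟩, fun g p => ?_⟩
  · rw [← hr p, ← hr p', key]; exact e
  · obtain ⟨d, hd⟩ : ∃ d : Ω, c ≠ d := by
      by_cases hc : c = a
      · exact ⟨b, hc ▸ hab⟩
      · exact ⟨a, hc⟩
    obtain ⟨g, hg, e, -⟩ := h.ld.two (kre_three h) (Set.mem_univ a) (Set.mem_univ b) (Set.mem_univ c)
      (Set.mem_univ d) hab hd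
    exact ⟨(⟨g, hg⟩ : Lt Set.univ U) • S.inf, ((key _ _).1 (hr _)).trans e⟩
  · show _ ↔ (g : G) • (r p : G) • a = (r p : G) • a
    rw [← m.smul_eq, hr]

theorem eq_a0 (m : KReM U a b S) (h : Cb U) {j : G} (hj : InI Set.univ U a b j) : j = S.a0 := by
  obtain ⟨h1, h2, h3, h4, h5⟩ := hj
  have := S.eq_a0_of_mem_H (x := ⟨j, h1⟩) (m.mH.2 ⟨h2, h3⟩)
    (fun e => h5 fun x _ => by rw [show j = 1 from congrArg Subtype.val e, one_smul])
    (Subtype.ext (h.faith _ fun x => h4 x trivial))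
  exact congrArg Subtype.val this

end KReM

/-- conjugation by an element of `G` as an automorphism of `L` -/
noncomputable def kreAut (h : Cb U) : G →* MulAut (Lt Set.univ U) :=
  haveI : (Lt Set.univ U).Normal := ⟨fun _ hl g => h.ld.Lt_conj (mem_top g) hl⟩
  MulAut.conjNormal

theorem kreAut_apply (h : Cb U) (g : G) (x : Lt Set.univ U) : (kreAut h g x : G) = g * x * g⁻¹ := rfl

theorem kre_tr (h : Cb U) {g : G} : Tr (Set.univ : Set Ω) g ↔ g = 1 :=
  ⟨fun e => h.faith g fun x => e x trivial, fun e x _ => by rw [e, one_smul]⟩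

theorem KReM.autU {a b : Ω} {S : Model (Lt Set.univ U) K} (m : KReM U a b S) (h : Cb U) {g : G}
    (ga : g • a = a) : ∀ x ∈ S.U, kreAut h g x ∈ S.U := fun x hx => by
  have := h.ld.cj g trivial a trivial _ ((m.mU x).1 hx)
  rw [ga] at this
  exact (m.mU _).2 this

theorem kre_reP (h : Cb U) (hr : Reg U) (hS : SylF U 3) (S0 : Model (Lt Set.univ U) K) :
    ReP ⊤ Set.univ U (Nat.card K) where
  pw := S0.exists_card_eq
  card := by
    have : Nontrivial Ω := Finite.one_lt_card_iff_nontrivial.1 (by have := h.three; omega)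
    obtain ⟨a, b, hab⟩ := exists_pair_ne Ω
    obtain ⟨S, m⟩ := kre_model h hr hS S0 hab
    obtain ⟨φ, -⟩ := m.equiv h hab
    rw [Set.ncard_univ, ← Nat.card_congr φ, S.card_Pt]
  pg := fun c _ u hu => by
    obtain ⟨k, hk⟩ := (hS c).1 ⟨u, hu⟩
    exact ⟨k, (kre_tr h).2 (congrArg Subtype.val hk)⟩
  ex := fun a _ b _ hab => by
    obtain ⟨S, m⟩ := kre_model h hr hS S0 hab
    refine ⟨S.a0, S.a0.2, (m.mH.1 S.a0_mem_H).1, (m.mH.1 S.a0_mem_H).2, (kre_tr h).2 ?_, fun e => ?_⟩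
    · rw [← coe_mul, S.a0_mul_a0, coe_one]
    · exact S.a0_ne_one (Subtype.ext ((kre_tr h).1 e))
  fx := fun a _ b _ hab j hj => by
    obtain ⟨S, m⟩ := kre_model h hr hS S0 hab
    obtain ⟨φ, hφ⟩ := m.equiv h hab
    rw [m.eq_a0 h hj, ← ncard_fix_a0 S, ← Set.ncard_image_of_injective _ φ.injective]
    congr 1
    ext x
    obtain ⟨p, rfl⟩ := φ.surjective x
    rw [φ.injective.mem_set_image, Set.mem_setOf_eq, Set.mem_setOf_eq, hφ]
    simp
  two := fun a _ b _ hab j hj g _ ga gb i hi => by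
    obtain ⟨S, m⟩ := kre_model h hr hS S0 hab
    rw [m.eq_a0 h hj, kre_tr h, kre_tr h]
    rw [kre_tr h] at hi
    have hle : U a ≤ Lt Set.univ U := le_Lt (Set.mem_univ a)
    have ha := m.mH.1 S.a0_mem_H
    rcases aut_two S (α := kreAut h g) (m.autU h ga) (fun x hx => by
      obtain ⟨xa, xb⟩ := m.mH.1 hx
      refine m.mH.2 ⟨?_, ?_⟩
      · rw [kreAut_apply, mul_smul, mul_smul, inv_smul_eq_iff.2 ga.symm, xa, ga]
      · rw [kreAut_apply, mul_smul, mul_smul, inv_smul_eq_iff.2 gb.symm, xb, gb]) (i := i)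
      (by rw [← map_pow, hi, map_one]) with e | e
    · refine Or.inl (h.eq_one hab (mem_Hb.2 ⟨ga, gb⟩) fun u hu => ?_)
      have := congrArg Subtype.val (e ⟨u, hle hu⟩ ((m.mU _).2 hu))
      rwa [kreAut_apply, mul_inv_eq_iff_eq_mul] at this
    · refine Or.inr (h.eq_one hab (mul_mem (inv_mem (mem_Hb.2 ha)) (mem_Hb.2 ⟨ga, gb⟩)) fun u hu => ?_)
      have := congrArg Subtype.val (e ⟨u, hle hu⟩ ((m.mU _).2 hu))
      rw [kreAut_apply, coe_mul, coe_mul, coe_inv, coe_mk] at this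
      calc (S.a0 : G)⁻¹ * g * u = (S.a0 : G)⁻¹ * (g * u * g⁻¹) * g := by group
        _ = _ := by rw [this]; group
  cjI := fun g hg g' hg' h1 h2 h3 h4 => by
    rw [kre_tr h] at h1 h2 h3 h4
    have c1 := S0.isConj_a0 (t := ⟨g, hg⟩) (Subtype.ext h1) (fun e => h3 (congrArg Subtype.val e))
    have c2 := S0.isConj_a0 (t := ⟨g', hg'⟩) (Subtype.ext h2) (fun e => h4 (congrArg Subtype.val e))
    obtain ⟨l, hl⟩ := isConj_iff.1 (c1.symm.trans c2)
    refine ⟨l, l.2, (kre_tr h).2 ?_⟩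
    rw [inv_mul_eq_one]
    exact (congrArg Subtype.val hl).symm
  sq := fun g hg i hi => by
    rw [kre_tr h] at hi ⊢
    exact congrArg Subtype.val (S0.sq_eq_one_of_two_pow (x := ⟨g, hg⟩) (n := i) (Subtype.ext hi))
  sub := fun a _ b _ hab j hj g hg hf => by
    obtain ⟨S, m⟩ := kre_model h hr hS S0 hab
    obtain ⟨φ, hφ⟩ := m.equiv h hab
    have ej := m.eq_a0 h hj
    have h1 : LS Set.univ U j ≤ S.phi.range.map (Lt Set.univ U).subtype := by
      refine (closure_le _).2 ?_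
      rintro v ⟨c, -, -, hv, hc⟩
      rw [kre_tr h, commutatorElement_eq_one_iff_mul_comm, ej] at hc
      obtain ⟨k, hk⟩ := (hS c).1 ⟨v, hv⟩
      have hk' : v ^ 3 ^ k = 1 := congrArg Subtype.val hk
      exact ⟨⟨v, le_Lt (Set.mem_univ c) hv⟩,
        mem_phi S (k := k) (Subtype.ext hk') (Subtype.ext hc), rfl⟩
    obtain ⟨_, ⟨x, rfl⟩, rfl⟩ := h1 hg
    have hH : S.phi x ∈ S.H := m.mH.2 ⟨hf a trivial hj.2.1, hf b trivial hj.2.2.1⟩
    have hp : S.phi x • S.pt 0 1 0 = S.pt 0 1 0 :=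
      (hφ _ _).2 (hf _ trivial (by rw [ej]; exact (hφ _ _).1 (S.a0_smul_pt_eq.2 ⟨rfl, rfl⟩)))
    rcases S.eq_of_fix_three (S.pt_ne_inf 0 1 0) (fun e => _root_.one_ne_zero (S.pt_inj.1 e).2.1) hH hp
      with e | e
    · rw [kre_tr h, e, map_one]
    · exact absurd e (S.phi_ne_a0 x)

theorem kre_o12 (h : Cb U) (hr : Reg U) (hS : SylF U 3) (S0 : Model (Lt Set.univ U) K) : O12 U 3 := by
  rintro a b hab g hg ⟨k, hk⟩ hc
  obtain ⟨S, m⟩ := kre_model h hr hS S0 hab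
  obtain ⟨ga, gb⟩ := mem_Hb.1 hg
  have hle : U a ≤ Lt Set.univ U := le_Lt (Set.mem_univ a)
  have hD : ∀ l, g * (S.h l : G) = S.h l * g := fun l => by
    rcases hc with hc | hc
    · obtain ⟨l', e⟩ := S.mem_H.1 (m.mH (g := ⟨g, hc⟩).2 ⟨ga, gb⟩)
      rw [show g = S.h l' from congrArg Subtype.val e, ← coe_mul, S.h_comm, coe_mul]
    · exact hc _ (S.h l).2 (mem_Hb.2 (m.mH.1 (S.h_mem_H l)))
  have e := aut_three S (α := kreAut h g) (m.autU h ga) (fun x hx => by
      have wi : (S.w : G)⁻¹ = S.w := by rw [← coe_inv, S.w_inv]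
      have h1 := (kre_mem_conj h S.w x a).2 ((m.mU x).1 hx)
      rw [m.wa] at h1
      have h2 := (kre_mem_conj h g _ b).2 h1
      rw [gb] at h2
      have h3 := (kre_mem_conj h S.w _ b).2 h2
      rw [m.wb, wi] at h3
      refine (m.mU _).2 ?_
      rw [coe_mul, coe_mul, kreAut_apply, coe_mul, coe_mul]
      exact h3)
    (fun l => Subtype.ext (by rw [kreAut_apply, hD, mul_inv_cancel_right])) (k := k)
    (by rw [← map_pow, hk, map_one])
  refine h.eq_one hab hg fun u hu => ?_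
  have := congrArg Subtype.val (e ⟨u, hle hu⟩ ((m.mU _).2 hu))
  rwa [kreAut_apply, mul_inv_eq_iff_eq_mul] at this

end Aux

theorem kre (h : Cb U) (hr : Reg U) (hS : SylF U 3) {K : Type} [Field K] [Fintype K] {m : ℕ}
    (hK : Fintype.card K = 3 ^ (2 * m + 1))
    (e : Lt Set.univ U ≃* Cfsg.Lie.twistedG2 K (3 ^ m)) :
    ReA ⊤ Set.univ U ∧ OddM (Lt Set.univ U) ∧ O12 U 3 := by
  have := H40.Ree.charP_three hK
  let S := (H40.Ree.lieModel hK).comap e
  exact ⟨⟨_, kre_reP h hr hS S⟩, fun E _ _ f hf => H85.KRe.odd_ker S hf, kre_o12 h hr hS S⟩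

end H51.HK
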