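import Cfsg.Agent.Lib.HK.Bas
import Cfsg.Agent.Lib.FrobC.Trans
import Cfsg.Agent.Lib.SE42.FieldRec
import Cfsg.Agent.Lib.PGroup.Omega
import Cfsg.Agent.Lib.Core.MinNormal
import Cfsg.Agent.Lib.Core.Fitting

set_option autoImplicit false
set_option linter.unusedSectionVars false

namespace H51.HK.AFF

open scoped MatrixGroups

local instance instDec : DecidableEq (OnePoint (ZMod 3)) := inferInstanceAs (DecidableEq (Option (ZMod 3)))

/-- Möbius maps over the field with three elements -/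
def mob (a b c d : ZMod 3) : OnePoint (ZMod 3) → OnePoint (ZMod 3)
  | none => if c = 0 then none else some (a * c)
  | some k => if c * k + d = 0 then none else some ((a * k + b) * (c * k + d))

theorem d1 : ∀ f : OnePoint (ZMod 3) → OnePoint (ZMod 3), Function.Injective f →
    ∃ a b c d, a * d - b * c ≠ 0 ∧ ∀ x, f x = mob a b c d x := by decide +kernel

set_option synthInstance.maxSize 1024 in
theorem d2 : ∀ f : OnePoint (ZMod 3) → OnePoint (ZMod 3), Function.Injective f → ∀ z, f z = z →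
    (∀ x, x ≠ z → f x = x → ∀ y, f y = y) →
    (∃ a b c d, a * d - b * c = 1 ∧ ∀ x, f x = mob a b c d x) ∧
      (z = OnePoint.infty → ∃ c, ∀ x, f x = mob 1 c 0 1 x) := by
  decide +kernel

set_option synthInstance.maxSize 1024 in
theorem d3 : ∀ a b c d a' b' c' d', a * d - b * c = 1 → a' * d' - b' * c' = 1 →
    mob a b c d OnePoint.infty = mob a' b' c' d' OnePoint.infty → mob a b c d (0 : ZMod 3) = mob a' b' c' d' (0 : ZMod 3) →
    ∀ x, mob a b c d x = mob a' b' c' d' x := by decide +kernel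

theorem smul_eq (i : DecidableEq (ZMod 3)) (A : GL (Fin 2) (ZMod 3)) (x : OnePoint (ZMod 3)) :
    (letI := i; A • x) = mob (A 0 0) (A 0 1) (A 1 0) (A 1 1) x := by
  obtain rfl : i = ZMod.decidableEq 3 := Subsingleton.elim _ _
  have hd : ∀ u v : ZMod 3, u / v = u * v := by decide +kernel
  induction x using OnePoint.rec with
  | infty => exact (OnePoint.smul_infty_eq_ite A).trans (by rw [hd]; rfl)
  | coe k => exact OnePoint.smul_some_eq_ite.trans (by rw [hd]; rfl)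

theorem eqns : True := by
  have := @mob.eq_1
  have := @mob.eq_2
  have := @mob.eq_def
  trivial

end H51.HK.AFF

namespace H51.HK

open MulAction Subgroup Matrix H69
open scoped MatrixGroups Classical commutatorElement

variable {G Ω : Type*} [Group G] [MulAction G Ω] [Finite G] [Finite Ω]

variable {U : Ω → Subgroup G}

namespace AFF

theorem act_iff {e : Ω → OnePoint (ZMod 3)} {g : G} {A : GL (Fin 2) (ZMod 3)} :
    Act e Set.univ g A (RingEquiv.refl _) ↔ ∀ x, e (g • x) = mob (A 0 0) (A 0 1) (A 1 0) (A 1 1) (e x) := by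
  refine forall_congr' fun x => ?_
  rw [← smul_eq (fun _ _ => Classical.propDecidable _), show OnePoint.map (RingEquiv.refl (ZMod 3)) (e x) = e x from
    congrFun OnePoint.map_id _]
  simp

/-- a regular normal elementary abelian 2-subgroup -/
structure RN (Ω : Type*) [MulAction G Ω] (E : Subgroup G) : Prop where
  nrm : E.Normal
  comm : ∀ x ∈ E, ∀ y ∈ E, x * y = y * x
  sq : ∀ x ∈ E, x ^ 2 = 1
  tr : ∀ a b : Ω, ∃ t ∈ E, t • a = b
  inj : ∀ s ∈ E, ∀ t ∈ E, ∀ a : Ω, s • a = t • a → s = t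

theorem exists_rn (h : Cb U) (hs : ¬ NoSolv G) : ∃ E : Subgroup G, RN Ω E := by
  obtain ⟨M, h1, h2, h3⟩ : ∃ M : Subgroup G, M.Normal ∧ Group.IsSolvable M ∧ M ≠ ⊥ := by
    by_contra c
    exact hs fun M a b => by_contra fun k => c ⟨M, a, b, k⟩
  obtain ⟨E, hE, -, hc, p, hp, -, h4, h5⟩ := H3.exists_normal_elementary_le M h3 h2
  have hn := hE.normal
  have cm : ∀ x ∈ E, ∀ y ∈ E, x * y = y * x := fun x hx y hy => setLike_mul_comm hx hy
  obtain ⟨⟨t, ht⟩, t1⟩ := ne_bot_iff_exists_ne_one.1 hE.ne_bot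
  obtain ⟨x, hx⟩ : ∃ x : Ω, x ≠ t • x := by
    by_contra c
    push Not at c
    exact t1 (Subtype.ext (h.faith t fun x => (c x).symm))
  have tr : ∀ a b : Ω, ∃ t ∈ E, t • a = b := fun a b => by
    by_cases e : a = b
    · exact ⟨1, one_mem _, by rw [one_smul, e]⟩
    obtain ⟨g, g1, g2⟩ := h.pair hx e
    exact ⟨g * t * g⁻¹, hn.conj_mem t ht g, by rw [← g1, ← g2, mul_smul, inv_smul_smul, mul_smul]⟩
  have inj : ∀ s ∈ E, ∀ t ∈ E, ∀ a : Ω, s • a = t • a → s = t := fun s hs t ht a e =>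
    (inv_mul_eq_one.1 (h.faith _ fun y => by
      obtain ⟨r, hr, rfl⟩ := tr a y
      rw [← mul_smul, cm _ (mul_mem (inv_mem ht) hs) r hr, mul_smul, mul_smul, e, inv_smul_smul])).symm
  refine ⟨E, hn, cm, ?_, tr, inj⟩
  have := Fact.mk hp
  obtain ⟨k, hk⟩ := IsPGroup.iff_card.1 h5
  have c : Nat.card E = Nat.card Ω := Nat.card_eq_of_bijective (fun t => (t : G) • x)
    ⟨fun s t e => Subtype.ext (inj s s.2 t t.2 x e), fun y => let ⟨t, a, b⟩ := tr x y; ⟨⟨t, a⟩, b⟩⟩
  have := h.even.two_dvd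
  rw [← c, hk] at this
  rwa [(Nat.prime_dvd_prime_iff_eq Nat.prime_two hp).1 (Nat.prime_two.dvd_of_dvd_pow this)]

variable {E : Subgroup G} (h : Cb U) (r : RN Ω E)
include h r

theorem trans (a : Ω) : ∀ v ∈ E, ∀ w ∈ E, v ≠ 1 → w ≠ 1 → ∃ g ∈ U a, g * v * g⁻¹ = w := fun v hv w hw v1 w1 => by
  have ne : ∀ v ∈ E, v ≠ 1 → v • a ≠ a := fun v hv v1 e => v1 (r.inj v hv 1 (one_mem _) a (by rw [e, one_smul]))
  obtain ⟨u, hu, e⟩ := h.ld.tr a trivial _ trivial _ trivial (ne v hv v1) (ne w hw w1)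
  refine ⟨u, hu, r.inj _ (r.nrm.conj_mem v hv u) w hw a ?_⟩
  rw [mul_smul, h.ld.fix a trivial _ (inv_mem hu), mul_smul, e]

theorem eq_one {a : Ω} {g : G} (ha : g • a = a) (hc : ∀ v ∈ E, g * v * g⁻¹ = v) : g = 1 := h.faith g fun x => by
  obtain ⟨t, ht, rfl⟩ := r.tr a x
  rw [← mul_smul, mul_inv_eq_iff_eq_mul.1 (hc t ht), mul_smul, ha]

theorem cyc (a : Ω) : IsCyclic (U a) := by
  have hn := r.nrm
  have nil := h.ld.nil a trivial
  have : Nontrivial Ω := Finite.one_lt_card_iff_nontrivial.1 (by have := h.three; omega)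
  obtain ⟨b, hb⟩ := exists_ne a
  obtain ⟨t, ht, e⟩ := r.tr a b
  have : Nontrivial E := ⟨⟨t, ht⟩, 1, fun k => hb (by rw [← e, show t = 1 from congrArg Subtype.val k, one_smul])⟩
  let : CommGroup E := { (inferInstance : Group E) with mul_comm := fun a b => Subtype.ext (r.comm a a.2 b b.2) }
  have : Module (ZMod 2) (Additive E) := AddCommGroup.zmodModule fun x =>
    Additive.toMul.injective (Subtype.ext (r.sq _ (Additive.toMul x).2))
  let φ : U a →* MulAut E := MulAut.conjNormal.comp (U a).subtype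
  let ρ : U a →* Module.End (ZMod 2) (Additive E) :=
    { toFun := fun g => (MonoidHom.toAdditive (φ g).toMonoidHom).toZModLinearMap 2
      map_one' := by ext x; simp
      map_mul' := fun g g' => by ext x; simp }
  have hρ : ∀ (g : U a) (u w : E), ρ g (Additive.ofMul u) = Additive.ofMul w ↔ g * (u : G) * (g : G)⁻¹ = w :=
    fun g u w => Additive.ofMul.apply_eq_iff_eq.trans Subtype.ext_iff
  have hT : H82.TrRep ρ := ⟨(injective_iff_map_eq_one ρ).2 fun g hg => Subtype.ext (eq_one h r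
    (h.ld.fix a trivial _ g.2) fun u hu => (hρ g ⟨u, hu⟩ ⟨u, hu⟩).1 (by rw [hg]; rfl)), fun u w hu hw => by
    obtain ⟨g, hg, e⟩ := trans h r a _ u.toMul.2 _ w.toMul.2 (fun e => hu (Subtype.ext e)) fun e => hw (Subtype.ext e)
    exact ⟨⟨g, hg⟩, (hρ _ _ _).2 e⟩⟩
  have : IsZGroup (U a) := ⟨fun p hp P => by
    have := Fact.mk hp
    by_contra hc
    have p2 : p ≠ 2 := by
      rintro rfl
      obtain ⟨k, hk⟩ := IsPGroup.iff_card.1 P.isPGroup'
      rcases k with _ | k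
      · rw [card_eq_one.1 hk] at hc
        exact hc inferInstance
      · exact (h.ld.odd a trivial).not_two_dvd_nat ((dvd_pow_self 2 k.succ_ne_zero).trans
          (hk ▸ card_subgroup_dvd_card _))
    obtain ⟨A, a1, a2, a3⟩ := H5.exists_normal_elementary_sq p2 P.isPGroup' hc
    have b1 : (A.map (P : Subgroup (U a)).subtype).Normal := by
      rw [← normalizer_eq_top_iff, eq_top_iff, ← H1.pCore_sup_pPrimeCore_eq_top p]
      refine sup_le ?_ (H1.pPrimeCore_le_centralizer_pCore.trans ((centralizer_le ?_).trans (centralizer_le_normalizer _)))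
      · rw [H1.pCore_eq_sylow_of_isNilpotent P]
        exact le_normalizer_iff.2 fun g hg _ ⟨x, hx, e⟩ => ⟨_, a1.conj_mem x hx ⟨g, hg⟩, by rw [← e]; rfl⟩
      · rw [H1.pCore_eq_sylow_of_isNilpotent P]
        exact map_subtype_le A
    have := a2.1
    obtain ⟨-, -, b2, -⟩ := hT.exists_deg (A.map (P : Subgroup (U a)).subtype) inferInstance
    obtain ⟨g, hg⟩ := ((A.equivMapOfInjective _ (subtype_injective _)).isCyclic.2 b2).exists_ofOrder_eq_natCard
    have := Nat.le_of_dvd hp.pos (orderOf_dvd_of_pow_eq_one (x := g) (Subtype.ext (a2.2 g g.2)))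
    rw [hg, a3] at this
    have := hp.one_lt
    nlinarith⟩
  infer_instance

theorem comm (a : Ω) : ∀ u ∈ U a, ∀ v ∈ U a, u * v = v * u := fun u hu v hv =>
  congrArg Subtype.val ((cyc h r a).commGroup.mul_comm ⟨u, hu⟩ ⟨v, hv⟩)

theorem reg : Reg U := fun a b hb u hu e => h.faith u fun x => by
  by_cases k : x = a
  · rw [k, h.ld.fix a trivial u hu]
  obtain ⟨v, hv, rfl⟩ := h.ld.tr a trivial b trivial x trivial hb k
  rw [← mul_smul, comm h r a u hu v hv, mul_smul, e]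

omit r in
theorem l2a (hr : Reg U) (h4 : Nat.card Ω = 4) : L2A ⊤ Set.univ U := fun a _ b _ hab => by
  obtain ⟨e₀⟩ : Nonempty (Ω ≃ OnePoint (ZMod 3)) := Finite.card_eq.1 (by
    rw [h4, Nat.card_eq_fintype_card]; rfl)
  obtain ⟨e, ea, eb⟩ : ∃ e : Ω ≃ OnePoint (ZMod 3), e a = OnePoint.infty ∧ e b = (0 : ZMod 3) := by
    let e₁ := e₀.trans (Equiv.swap (e₀ a) OnePoint.infty)
    have h1 : e₁ a = OnePoint.infty := by simp [e₁]
    refine ⟨e₁.trans (Equiv.swap (e₁ b) (0 : ZMod 3)), ?_, by simp⟩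
    rw [Equiv.trans_apply, h1, Equiv.swap_apply_of_ne_of_ne (h1 ▸ e₁.injective.ne hab) (by simp)]
  have inj : ∀ g : G, Function.Injective fun y => e (g • e.symm y) := fun g =>
    e.injective.comp ((MulAction.injective g).comp e.symm.injective)
  have hU := fun c (u : G) (hu : u ∈ U c) => d2 _ (inj u) (e c) (by simp [h.ld.fix c trivial u hu]) fun x hx k y => by
    rw [hr c (e.symm x) (fun k => hx (by simp [← k])) u hu (e.eq_symm_apply.2 k), one_smul, e.apply_symm_apply]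
  have hL : ∀ g ∈ Lt Set.univ U, ∃ B : SL(2, ZMod 3), Act e Set.univ g B (RingEquiv.refl _) := by
    let S : Subgroup G :=
      { carrier := {g | ∃ B : SL(2, ZMod 3), ∀ x, e (g • x) = (B : GL (Fin 2) (ZMod 3)) • e x}
        one_mem' := ⟨1, fun x => by simp⟩
        mul_mem' := fun ⟨B, hB⟩ ⟨B', hB'⟩ => ⟨B * B', fun x => by rw [mul_smul, hB, hB', map_mul, mul_smul]⟩
        inv_mem' := fun {g} ⟨B, hB⟩ => ⟨B⁻¹, fun x => by rw [map_inv, eq_inv_smul_iff, ← hB, smul_inv_smul]⟩ }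
    intro g hg
    obtain ⟨B, hB⟩ := (iSup₂_le fun c _ u hu => by
      obtain ⟨⟨x, y, z, w, h1, h2⟩, -⟩ := hU c u hu
      exact ⟨⟨!![x, y; z, w], by rwa [det_fin_two_of]⟩, fun t => by
        rw [smul_eq]
        exact (by simpa using h2 (e t) : e (u • t) = mob x y z w (e t))⟩ : Lt Set.univ U ≤ S) hg
    exact ⟨B, act_iff.2 fun x => (hB x).trans (smul_eq _ _ _)⟩
  refine ⟨ZMod 3, inferInstance, inferInstance, e, by decide, e.bijective.bijOn_univ, ea, eb, fun u hu => ?_, hL,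
    fun B => ?_, fun g _ => ?_⟩
  · obtain ⟨c, hc⟩ := (hU a u hu).2 ea
    exact ⟨c, act_iff.2 fun x => (by simpa using hc (e x) : e (u • x) = mob 1 c 0 1 (e x))⟩
  · obtain ⟨g, hg, g1, g2⟩ := h.ld.two (by rw [Set.ncard_univ]; exact h.three) (Set.mem_univ a) (Set.mem_univ b)
      (Set.mem_univ (e.symm ((B : GL (Fin 2) (ZMod 3)) • e a))) (Set.mem_univ (e.symm ((B : GL (Fin 2) (ZMod 3)) • e b)))
      hab (e.symm.injective.ne ((MulAction.injective _).ne (e.injective.ne hab)))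
    obtain ⟨B', hB⟩ := hL g hg
    rw [act_iff] at hB
    refine ⟨g, hg, act_iff.2 fun x => (hB x).trans (d3 _ _ _ _ _ _ _ _ ((det_fin_two _).symm.trans B'.2)
      ((det_fin_two _).symm.trans B.2) ?_ ?_ _)⟩
    · exact ea ▸ (hB a).symm.trans (by rw [g1, e.apply_symm_apply]; exact smul_eq _ _ _)
    · exact eb ▸ (hB b).symm.trans (by rw [g2, e.apply_symm_apply]; exact smul_eq _ _ _)
  · obtain ⟨x, y, z, w, h1, h2⟩ := d1 _ (inj g)
    exact ⟨GeneralLinearGroup.mkOfDetNeZero !![x, y; z, w] (by rwa [det_fin_two_of]), _,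
      act_iff.2 fun t => by simpa using h2 (e t)⟩

theorem afa (h4 : Nat.card Ω ≠ 4) : AfA ⊤ Set.univ U := fun a _ b _ hab => by
  choose τ τE τa using r.tr a
  have fx := h.ld.fix a trivial
  have k1 : ∀ t ∈ E, ∀ x, τ (t • x) = t * τ x := fun t ht x =>
    r.inj _ (τE _) _ (mul_mem ht (τE x)) a (by rw [τa, mul_smul, τa])
  have k2 : ∀ g : G, g • a = a → ∀ x, τ (g • x) = g * τ x * g⁻¹ := fun g hg x =>
    r.inj _ (τE _) _ (r.nrm.conj_mem _ (τE x) g) a (by rw [τa, mul_smul, inv_smul_eq_iff.2 hg.symm, mul_smul, τa])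
  have τ1 : τ a = 1 := r.inj _ (τE _) _ (one_mem _) a (by rw [τa, one_smul])
  have τi : Function.Injective τ := fun x y k => by rw [← τa x, k, τa]
  obtain ⟨F, _, e, hadd, hbij, he1, hmul⟩ := H42.exists_field_of_regular E (U a) (comm h r a)
    (fun d _ x hx => r.nrm.conj_mem x hx d) (τE b) (fun k => hab (τi (τ1.trans k.symm))) fun t ht t1 => by
      obtain ⟨d, hd, k⟩ := trans h r a _ (τE b) t ht (fun k => hab (τi (τ1.trans k.symm))) t1
      refine ⟨d, ⟨hd, k⟩, fun d' ⟨hd', k'⟩ => (inv_mul_eq_one.1 (reg h r a b hab.symm _ (mul_mem (inv_mem hd) hd') ?_)).symm⟩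
      rw [mul_smul, inv_smul_eq_iff]
      exact τi (by rw [k2 d (fx d hd), k2 d' (fx d' hd'), k, k'])
  have e0 : e 1 = 0 := by simpa using hadd 1 (one_mem _) 1 (one_mem _)
  obtain ⟨ε, hε⟩ : ∃ ε : Ω ≃ F, ∀ x, ε x = e (τ x) := ⟨Equiv.ofBijective (fun x => e (τ x))
    ⟨fun x y k => τi (hbij.injOn (τE x) (τE y) k), fun y => by
      obtain ⟨t, ht, k⟩ := hbij.surjOn (Set.mem_univ y)
      exact ⟨t • a, show e (τ _) = y by rw [k1 t ht, τ1, mul_one, k]⟩⟩, fun _ => rfl⟩
  have εa : ε a = 0 := by rw [hε, τ1, e0]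
  have εb : ε b = 1 := by rw [hε, he1]
  have k3 : ∀ t ∈ E, ∀ x, ε (t • x) = e t + ε x := fun t ht x => by rw [hε, hε, k1 t ht, hadd t ht _ (τE x)]
  have k4 : ∀ d ∈ U a, ∀ x, ε (d • x) = ε (d • b) * ε x := fun d hd x => by
    rw [hε, hε, hε, k2 d (fx d hd), k2 d (fx d hd), hmul d hd _ (τE x)]
  have k5 : ∀ g : G, g • a = a → ε (g • b) ≠ 0 := fun g hg k =>
    hab (MulAction.injective g (hg.trans (ε.injective (εa.trans k.symm))))
  have : Finite F := Finite.of_equiv _ ε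
  have := Fintype.ofFinite F
  have c2 : CharP F 2 := (CharP.charP_iff_prime_eq_zero Nat.prime_two).2 (by
    rw [Nat.cast_ofNat, ← one_add_one_eq_two, ← he1, ← hadd _ (τE b) _ (τE b), ← sq, r.sq _ (τE b), e0])
  have cF : Fintype.card F = Nat.card Ω := by rw [Nat.card_congr ε, Nat.card_eq_fintype_card]
  refine ⟨F, inferInstance, inferInstance, ε, c2, ?_, ε.bijective.bijOn_univ, εa, εb,
    fun u hu => ⟨_, fun x _ => k4 u hu x⟩, fun g hg => ?_, fun d => ?_, fun g _ => ?_⟩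
  · obtain ⟨⟨n, n0⟩, -, hn⟩ := FiniteField.card F 2
    have := h.three
    rw [← cF, hn] at this h4
    rw [hn]
    refine Nat.pow_le_pow_right (n := 2) (i := 3) two_pos (by_contra fun k => ?_)
    change ¬ 3 ≤ n at k
    change 3 ≤ 2 ^ n at this
    change 2 ^ n ≠ 4 at h4
    have : n < 3 := by omega
    interval_cases n <;> omega
  · let S : Subgroup G :=
      { carrier := {g | ∃ c d : F, c ≠ 0 ∧ ∀ x ∈ Set.univ, ε (g • x) = c * ε x + d}
        one_mem' := ⟨1, 0, _root_.one_ne_zero, fun x _ => by simp⟩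
        mul_mem' := fun ⟨c, d, h1, h2⟩ ⟨c', d', h3, h4⟩ => ⟨c * c', c * d' + d, mul_ne_zero h1 h3, fun x _ => by
          rw [mul_smul, h2 _ trivial, h4 _ trivial]; ring⟩
        inv_mem' := fun {g} ⟨c, d, h1, h2⟩ => ⟨c⁻¹, -(c⁻¹ * d), inv_ne_zero h1, fun x _ => by
          have := h2 (g⁻¹ • x) trivial
          rw [smul_inv_smul] at this
          rw [this]
          field_simp
          ring⟩ }
    have hE : ∀ c, τ c ∈ S := fun c => ⟨1, _, _root_.one_ne_zero, fun x _ => by rw [k3 _ (τE c), one_mul, add_comm]⟩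
    refine (iSup₂_le fun c _ u hu => ?_ : Lt Set.univ U ≤ S) hg
    have h1 := h.ld.cj (τ c)⁻¹ trivial c trivial u hu
    rw [inv_smul_eq_iff.2 (τa c).symm] at h1
    have h2 : (τ c)⁻¹ * u * (τ c)⁻¹⁻¹ ∈ S := ⟨_, 0, k5 _ (fx _ h1), fun x _ => by rw [k4 _ h1, add_zero]⟩
    exact (mul_mem_cancel_left (inv_mem (hE c))).1 ((mul_mem_cancel_right (inv_mem (inv_mem (hE c)))).1 h2)
  · obtain ⟨x₀, hx⟩ : ∃ x₀, x₀ ∉ ({a, b} : Set Ω) := (Set.ne_univ_iff_exists_notMem _).1 fun k => by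
      have := h.three
      rw [← Set.ncard_univ, ← k, Set.ncard_pair hab] at this
      omega
    simp only [Set.mem_insert_iff, Set.mem_singleton_iff, not_or] at hx
    obtain ⟨u, hu, k⟩ := h.ld.tr a trivial b trivial x₀ trivial hab.symm hx.1
    have l1 : ε x₀ - 1 ≠ 0 := sub_ne_zero.2 (εb ▸ ε.injective.ne hx.2)
    obtain ⟨y, hy⟩ := ε.surjective (d / (ε x₀ - 1))
    refine ⟨u * (τ y * u⁻¹ * (τ y)⁻¹), mul_mem (le_Lt (Set.mem_univ _) hu)
      (le_Lt (Set.mem_univ _) (h.ld.cj _ trivial a trivial _ (inv_mem hu))), fun x _ => ?_⟩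
    have h1 := k3 _ (τE y) ((τ y)⁻¹ • x)
    have h2 := k4 u hu (u⁻¹ • (τ y)⁻¹ • x)
    rw [smul_inv_smul] at h1 h2
    rw [mul_smul, mul_smul, mul_smul, k4 u hu, k3 _ (τE y), mul_add, ← h2, h1, k, ← hε, hy]
    field_simp
    ring
  · obtain ⟨t, ht, g, hg, rfl⟩ : ∃ t ∈ E, ∃ g₀ : G, g₀ • a = a ∧ g = t * g₀ :=
      ⟨_, τE (g • a), (τ (g • a))⁻¹ * g, by rw [mul_smul, inv_smul_eq_iff, τa], by rw [mul_inv_cancel_left]⟩
    have c0 := k5 g hg
    let σ : F ≃+* F :=
      { ((ε.symm.trans (MulAction.toPerm g)).trans ε).trans (Equiv.mulLeft₀ _ (inv_ne_zero c0)) with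
        map_mul' := fun y z => by
          obtain ⟨y, rfl⟩ := ε.surjective y
          obtain ⟨z, rfl⟩ := ε.surjective z
          change (ε (g • b))⁻¹ * ε (g • ε.symm _) = (ε (g • b))⁻¹ * ε (g • ε.symm _) * ((ε (g • b))⁻¹ * ε (g • ε.symm _))
          by_cases k : y = a
          · rw [k, εa, zero_mul, ← εa, ε.symm_apply_apply, hg, εa, mul_zero, zero_mul]
          obtain ⟨d, hd, rfl⟩ := h.ld.tr a trivial b trivial y trivial hab.symm k
          have h1 := h.ld.cj g trivial a trivial d hd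
          rw [hg] at h1
          have h2 : ∀ x : Ω, g • d • x = (g * d * g⁻¹) • g • x := fun x => by rw [mul_smul, inv_smul_smul, mul_smul]
          rw [← k4 d hd]
          simp only [Equiv.symm_apply_apply]
          rw [h2, h2, k4 _ h1, k4 _ h1 (g • b)]
          field_simp
        map_add' := fun y z => by
          obtain ⟨y, rfl⟩ := ε.surjective y
          obtain ⟨z, rfl⟩ := ε.surjective z
          change _ * ε (g • ε.symm _) = _ * ε (g • ε.symm _) + _ * ε (g • ε.symm _)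
          rw [hε y, ← k3 _ (τE y), ← hε y]
          simp only [Equiv.symm_apply_apply]
          rw [← mul_add, hε (g • y), ← k3 _ (τE _), k2 g hg, mul_smul, inv_smul_smul, mul_smul] }
    refine ⟨_, e t, σ, c0, fun x _ => ?_⟩
    rw [mul_smul, k3 _ ht, add_comm]
    congr 1
    change _ = _ * ((ε (g • b))⁻¹ * ε (g • ε.symm _))
    rw [ε.symm_apply_apply, mul_inv_cancel_left₀ c0]

end AFF

theorem aff (h : Cb U) (hs : ¬ NoSolv G) :
    Reg U ∧ (L2A ⊤ Set.univ U ∨ AfA ⊤ Set.univ U) := by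
  obtain ⟨E, r⟩ := AFF.exists_rn h hs
  exact ⟨AFF.reg h r, (em _).imp (AFF.l2a h (AFF.reg h r)) (AFF.afa h r)⟩

end H51.HK
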