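import Cfsg.Agent.Lib.HK.Defs
import Cfsg.Agent.Lib.AutCl.PSLAut

/-! `SL₂(F)` on the projective line: two-transitivity, `p`-elements, automorphisms. -/

set_option autoImplicit false

namespace H51.HK.KL2

open MulAction Subgroup Matrix OnePoint
open scoped MatrixGroups Classical

variable {F : Type} [Field F]

theorem sl_inf (B : SL(2, F)) : (B : GL (Fin 2) F) • (∞ : OnePoint F) =
    if B.1 1 0 = 0 then ∞ else ((B.1 0 0 / B.1 1 0 : F) : OnePoint F) := smul_infty_eq_ite _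

theorem sl_coe (B : SL(2, F)) (t : F) : (B : GL (Fin 2) F) • (t : OnePoint F) =
    if B.1 1 0 * t + B.1 1 1 = 0 then ∞ else
      (((B.1 0 0 * t + B.1 0 1) / (B.1 1 0 * t + B.1 1 1) : F) : OnePoint F) := smul_some_eq_ite

/-- a matrix of determinant one -/
def m2 (a b c d : F) (h : a * d - b * c = 1) : SL(2, F) := ⟨!![a, b; c, d], by rw [det_fin_two]; exact h⟩

theorem eqns_m2 : True := by have := @m2.eq_1; trivial

theorem m2_val (a b c d : F) (h : a * d - b * c = 1) : (m2 a b c d h).1 = !![a, b; c, d] := rfl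

theorem up_val (c : F) : (up c : SL(2, F)).1 = !![1, c; 0, 1] := rfl

theorem dg_val (c : Fˣ) : (dg c : SL(2, F)).1 = !![(c : F), 0; 0, ((c⁻¹ : Fˣ) : F)] := rfl

theorem up_coe (c t : F) : ((up c : SL(2, F)) : GL (Fin 2) F) • (t : OnePoint F) = ((t + c : F) : OnePoint F) := by
  simp [sl_coe, up_val]

theorem up_inf (c : F) : ((up c : SL(2, F)) : GL (Fin 2) F) • (∞ : OnePoint F) = ∞ := by
  simp [sl_inf, up_val]

theorem up_mul (c d : F) : (up c : SL(2, F)) * up d = up (c + d) := by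
  refine Subtype.ext ?_
  change !![1, c; 0, 1] * !![1, d; 0, 1] = !![1, c + d; 0, 1]
  simp [add_comm]

theorem up_zero : (up 0 : SL(2, F)) = 1 := by
  ext i j; fin_cases i <;> fin_cases j <;> simp [up]

theorem two_tr {x y : OnePoint F} (h : x ≠ y) :
    ∃ B : SL(2, F), (B : GL (Fin 2) F) • x = ∞ ∧ (B : GL (Fin 2) F) • y = ((0 : F) : OnePoint F) := by
  cases x with
  | infty =>
    cases y with
    | infty => exact absurd rfl h
    | coe c => exact ⟨up (-c), up_inf _, by rw [up_coe, add_neg_cancel]⟩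
  | coe c =>
    cases y with
    | infty => exact ⟨m2 0 (-1) 1 (-c) (by simp), by simp [sl_coe, m2_val], by simp [sl_inf, m2_val]⟩
    | coe d =>
      have h1 : d - c ≠ 0 := fun e => h (by rw [sub_eq_zero.1 e])
      refine ⟨m2 (d - c)⁻¹ (-((d - c)⁻¹ * d)) 1 (-c) (by field_simp; ring), by simp [sl_coe, m2_val], ?_⟩
      simp [sl_coe, m2_val, ← sub_eq_add_neg, h1]

theorem ex_ne (x : OnePoint F) : ∃ y, y ≠ x := by
  cases x with
  | infty => exact ⟨_, coe_ne_infty 0⟩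
  | coe c => exact ⟨_, infty_ne_coe c⟩

theorem one_tr (x y : OnePoint F) : ∃ B : SL(2, F), (B : GL (Fin 2) F) • x = y := by
  obtain ⟨x', h1⟩ := ex_ne x
  obtain ⟨y', h2⟩ := ex_ne y
  obtain ⟨B, b, -⟩ := two_tr h1.symm
  obtain ⟨C, c, -⟩ := two_tr h2.symm
  exact ⟨C⁻¹ * B, by rw [map_mul, mul_smul, b, map_inv, inv_smul_eq_iff, c]⟩

theorem eq_one_of_pow {p : ℕ} (hp : p.Prime) [CharP F p] {a : F} {k : ℕ} (h : a ^ p ^ k = 1) : a = 1 := by
  have := Fact.mk hp
  have h1 := sub_pow_char_pow a 1 k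
  rw [h, one_pow, sub_self] at h1
  exact sub_eq_zero.1 (pow_eq_zero_iff (pow_ne_zero k hp.ne_zero) |>.1 h1)

theorem eq_up {p : ℕ} (hp : p.Prime) [CharP F p] {B : SL(2, F)} {k : ℕ} (h : B ^ p ^ k = 1)
    (hf : (B : GL (Fin 2) F) • (∞ : OnePoint F) = ∞) : ∃ c, B = up c := by
  have h0 : B.1 1 0 = 0 := smul_infty_eq_self_iff.1 hf
  have h1 : ∀ n : ℕ, (B ^ n).1 0 0 = B.1 0 0 ^ n := fun n => by
    induction n with
    | zero => simp
    | succ n ih => rw [pow_succ, pow_succ, ← ih]; simp [Matrix.mul_apply, Fin.sum_univ_two, h0]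
  have h2 : B.1 0 0 = 1 := eq_one_of_pow hp (k := k) (by rw [← h1, h]; simp)
  have h3 := B.2
  rw [det_fin_two, h0, h2, one_mul, mul_zero, sub_zero] at h3
  exact ⟨B.1 0 1, by ext i j; fin_cases i <;> fin_cases j <;> simp [up, h0, h2, h3]⟩

theorem conj_up {p : ℕ} (hp : p.Prime) [CharP F p] {B C : SL(2, F)} {k : ℕ} (h : B ^ p ^ k = 1) {x : OnePoint F}
    (hf : (B : GL (Fin 2) F) • x = x) (hC : (C : GL (Fin 2) F) • x = ∞) : ∃ c, B = C⁻¹ * up c * C := by
  obtain ⟨c, hc⟩ := eq_up hp (B := C * B * C⁻¹) (k := k) (by rw [conj_pow, h, mul_one, mul_inv_cancel]) (by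
    rw [map_mul, map_mul, mul_smul, mul_smul, map_inv, ← hC, inv_smul_smul, hf])
  exact ⟨c, by rw [← hc]; group⟩

theorem fix_uniq {p : ℕ} (hp : p.Prime) [CharP F p] {B : SL(2, F)} {k : ℕ} (h : B ^ p ^ k = 1) (h1 : B ≠ 1)
    {x y : OnePoint F} (hx : (B : GL (Fin 2) F) • x = x) (hy : (B : GL (Fin 2) F) • y = y) : x = y := by
  by_contra hn
  obtain ⟨C, c1, c2⟩ := two_tr hn
  obtain ⟨c, rfl⟩ := conj_up hp h hx c1
  rw [map_mul, map_mul, mul_smul, mul_smul, c2, map_inv, inv_smul_eq_iff, c2, up_coe, zero_add, coe_eq_coe] at hy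
  exact h1 (by rw [hy, up_zero, mul_one, inv_mul_cancel])

theorem center_cases {z : SL(2, F)} (hz : z ∈ Subgroup.center SL(2, F)) :
    z * z = 1 ∧ ∀ x : OnePoint F, (z : GL (Fin 2) F) • x = x := by
  obtain ⟨r, h1, h2⟩ := Matrix.SpecialLinearGroup.mem_center_iff.1 hz
  have h0 : r ≠ 0 := by rintro rfl; simp at h1
  refine ⟨Subtype.ext ?_, fun x => ?_⟩
  · change z.1 * z.1 = 1
    rw [← h2, ← map_mul, ← sq]
    exact (congrArg _ h1).trans (map_one _)
  · have e : ∀ i j, (z : GL (Fin 2) F) i j = scalar (Fin 2) r i j := fun i j => by rw [h2]; rfl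
    cases x with
    | infty => simp [smul_infty_eq_ite, e]
    | coe c => simp [smul_some_eq_ite, e, h0]

theorem aut [Finite F] (β : MulAut PSL(2, F)) : ∃ (A : GL (Fin 2) F) (σ : F ≃+* F), ∀ B : SL(2, F), ∃ B' : SL(2, F),
    (B' : GL (Fin 2) F) = A * GeneralLinearGroup.map (σ : F →+* F) (B : GL (Fin 2) F) * A⁻¹ ∧
      β (QuotientGroup.mk B) = QuotientGroup.mk B' := by
  obtain ⟨A, σ, h | ⟨h, -⟩⟩ := H67.psl_aut (by simp) β
  · refine ⟨A, σ, fun B => ?_⟩
    rw [h, H67.pslInn_eq, H67.pslField_eq, ← map_mul]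
    exact ⟨_, H67.j_resAut H67.toGL_inj _ B, H67.indAut_mk _ _ (H67.j_resAut _ _ B)⟩
  · simp at h

end H51.HK.KL2
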