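import Cfsg.Agent.Lib.HK.Bas
import Cfsg.Agent.Lib.HK.KL2a

/-! Split rank one groups: the groups with socle `L₂(q)`, and uniqueness of the root groups. -/

set_option autoImplicit false
set_option linter.unusedSectionVars false
set_option linter.unusedVariables false

namespace H51.HK

open MulAction Subgroup Matrix H69
open scoped MatrixGroups Classical commutatorElement

variable {G Ω : Type*} [Group G] [MulAction G Ω] [Finite G] [Finite Ω]

variable {U : Ω → Subgroup G}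

namespace KL2

open OnePoint

theorem third (h3 : 3 ≤ Nat.card Ω) (a b : Ω) : ∃ c, c ≠ a ∧ c ≠ b := by
  by_contra hn
  push Not at hn
  have h1 : (Set.univ : Set Ω) ⊆ {a, b} := fun c _ => by
    by_cases e : c = a
    exacts [Or.inl e, Or.inr (hn c e)]
  have h2 := (Set.ncard_le_ncard h1).trans (Set.ncard_insert_le a {b})
  rw [Set.ncard_univ, Set.ncard_singleton] at h2
  omega

theorem ex_ne_one {P : Ω → Subgroup G} (h3 : 3 ≤ Nat.card Ω) (hP : LD ⊤ Set.univ P) (c : Ω) : ∃ u ∈ P c, u ≠ 1 := by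
  obtain ⟨x, h1, -⟩ := third h3 c c
  obtain ⟨y, h2, h4⟩ := third h3 c x
  obtain ⟨u, hu, e⟩ := hP.tr c trivial x trivial y trivial h1 h2
  exact ⟨u, hu, fun f => h4 (by rw [← e, f, one_smul])⟩

variable {F : Type} [Field F] [Fintype F] {p : ℕ}

/-- the covering map -/
def th (e : Lt Set.univ U ≃* PSL(2, F)) : SL(2, F) →* G :=
  (Lt Set.univ U).subtype.comp (e.symm.toMonoidHom.comp (QuotientGroup.mk' _))

theorem eqns_th : True := by have := @th.eq_1.{0, 0}; trivial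

theorem th_apply (e : Lt Set.univ U ≃* PSL(2, F)) (B : SL(2, F)) :
    th e B = (e.symm (QuotientGroup.mk B) : Lt Set.univ U) := rfl

theorem th_mem (e : Lt Set.univ U ≃* PSL(2, F)) (B : SL(2, F)) : th e B ∈ Lt Set.univ U := (e.symm _).2

theorem th_surj (e : Lt Set.univ U ≃* PSL(2, F)) {g : G} (hg : g ∈ Lt Set.univ U) : ∃ B, th e B = g := by
  obtain ⟨B, hB⟩ := QuotientGroup.mk_surjective (e ⟨g, hg⟩)
  exact ⟨B, by rw [th_apply, hB, MulEquiv.symm_apply_apply]⟩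

theorem th_ker (e : Lt Set.univ U ≃* PSL(2, F)) {B : SL(2, F)} (h : th e B = 1) : B ∈ center SL(2, F) :=
  (QuotientGroup.eq_one_iff B).1 ((map_eq_one_iff _ e.symm.injective).1 (Subtype.ext h))

theorem th_smul (e : Lt Set.univ U ≃* PSL(2, F)) {B C : SL(2, F)} (h : th e B = th e C) (x : OnePoint F) :
    (B : GL (Fin 2) F) • x = (C : GL (Fin 2) F) • x := by
  have := (center_cases (th_ker e (B := C⁻¹ * B) (by rw [map_mul, map_inv, h, inv_mul_cancel]))).2 x
  rwa [map_mul, mul_smul, map_inv, inv_smul_eq_iff] at this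

theorem th_lift (e : Lt Set.univ U ≃* PSL(2, F)) (ho : Odd p) {g : G} (hg : g ∈ Lt Set.univ U) {k : ℕ}
    (hk : g ^ p ^ k = 1) : ∃ B, th e B = g ∧ B ^ p ^ k = 1 := by
  obtain ⟨B, rfl⟩ := th_surj e hg
  obtain ⟨m, hm⟩ := ho.pow (n := k)
  have h1 := (center_cases (th_ker e (B := B ^ p ^ k) (by rw [map_pow, hk]))).1
  refine ⟨B ^ (p ^ k + 1), by rw [map_pow, pow_succ, hk, one_mul], ?_⟩
  rw [← pow_mul, mul_comm, pow_mul, show p ^ k + 1 = 2 * (m + 1) by omega, pow_mul, sq, h1, one_pow]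

theorem exists_e (hp : p.Prime) [CharP F p] (hS : ∀ c, IsPGroup p (U c)) (e : Lt Set.univ U ≃* PSL(2, F)) (c : Ω) :
    ∃ x : OnePoint F, ∀ B, th e B ∈ U c → (B : GL (Fin 2) F) • x = x := by
  have := Fact.mk hp
  let φ : SL(2, F) →* Equiv.Perm (OnePoint F) :=
    (MulAction.toPermHom (GL (Fin 2) F) (OnePoint F)).comp Matrix.SpecialLinearGroup.toGL
  have hQ : IsPGroup p (((U c).comap (th e)).map φ) := by
    rintro ⟨_, B, hB, rfl⟩
    obtain ⟨k, hk⟩ := hS c ⟨_, hB⟩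
    refine ⟨k, Subtype.ext (Equiv.ext fun x => ?_)⟩
    change (φ B ^ p ^ k) x = x
    rw [← map_pow]
    exact (center_cases (th_ker e (by rw [map_pow]; exact congrArg Subtype.val hk))).2 x
  obtain ⟨x, hx⟩ := hQ.nonempty_fixed_point_of_prime_not_dvd_card (OnePoint F) (by
    obtain ⟨n, -, hn⟩ := FiniteField.card F p
    change ¬ p ∣ Nat.card (Option F)
    rw [Finite.card_option, Nat.card_eq_fintype_card, hn]
    exact fun h => hp.one_lt.ne' (Nat.dvd_one.1 ((Nat.dvd_add_right (dvd_pow_self p n.ne_zero)).1 h)))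
  exact ⟨x, fun B hB => hx ⟨_, B, hB, rfl⟩⟩

/-- the data of the model -/
structure Md (U : Ω → Subgroup G) (p : ℕ) (e : Lt Set.univ U ≃* PSL(2, F)) (f : Ω → OnePoint F) : Prop where
  cb : Cb U
  reg : Reg U
  pr : p.Prime
  pg : ∀ c, IsPGroup p (U c)
  fx : ∀ c B, th e B ∈ U c → (B : GL (Fin 2) F) • f c = f c

variable [CharP F p] {e : Lt Set.univ U ≃* PSL(2, F)} {f : Ω → OnePoint F}

theorem Md.odd (m : Md U p e f) : Odd p := by
  have := Fact.mk m.pr
  have : Nonempty Ω := (Nat.card_pos_iff.1 (by have := m.cb.three; omega)).1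
  obtain ⟨c⟩ := this
  obtain ⟨u, hu, h1⟩ := ex_ne_one m.cb.three m.cb.ld c
  obtain ⟨n, hn⟩ := (m.pg c).exists_card_eq
  have h2 := m.cb.ld.odd c trivial
  rw [hn] at h2
  refine h2.of_dvd_nat (dvd_pow_self p ?_)
  rintro rfl
  exact h1 (mem_bot.1 ((card_eq_one.1 hn).le hu))

theorem Md.lift (m : Md U p e f) {c : Ω} {u : G} (hu : u ∈ U c) : ∃ B k, th e B = u ∧ B ^ p ^ k = 1 := by
  obtain ⟨k, hk⟩ := m.pg c ⟨u, hu⟩
  obtain ⟨B, h⟩ := th_lift e m.odd (le_Lt (Set.mem_univ c) hu) (congrArg Subtype.val hk)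
  exact ⟨B, k, h⟩

theorem Md.uq (m : Md U p e f) {c : Ω} {B : SL(2, F)} (hB : th e B ∈ U c) (h1 : th e B ≠ 1) {x : OnePoint F}
    (hx : (B : GL (Fin 2) F) • x = x) : f c = x := by
  obtain ⟨C, k, h2, h3⟩ := m.lift hB
  exact fix_uniq m.pr h3 (fun e => h1 (by rw [← h2, e, map_one])) (m.fx c C (h2 ▸ hB)) (by rw [th_smul e h2, hx])

theorem Md.key (m : Md U p e f) {g : G} {A : GL (Fin 2) F} {σ : F ≃+* F} (h : ∀ B : SL(2, F), ∃ B' : SL(2, F),
    (B' : GL (Fin 2) F) = A * GeneralLinearGroup.map (σ : F →+* F) (B : GL (Fin 2) F) * A⁻¹ ∧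
      g * th e B * g⁻¹ = th e B') : Act f Set.univ g A σ := fun x _ => by
  obtain ⟨u, hu, h1⟩ := ex_ne_one m.cb.three m.cb.ld x
  obtain ⟨B, rfl⟩ := th_surj e (le_Lt (Set.mem_univ x) hu)
  obtain ⟨B', h2, h3⟩ := h B
  refine m.uq (B := B') (h3 ▸ m.cb.ld.cj g trivial x trivial _ hu) (by rw [← h3]; simpa using h1) ?_
  rw [h2, mul_smul, mul_smul, inv_smul_smul]
  exact congrArg _ ((map_smul (σ : F →+* F) _ _).symm.trans (congrArg _ (m.fx x B hu)))

theorem Md.act (m : Md U p e f) (B : SL(2, F)) : Act f Set.univ (th e B) B (RingEquiv.refl F) :=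
  m.key fun C => ⟨B * C * B⁻¹, by rw [map_mul, map_mul, map_inv]; rfl, by rw [map_mul, map_mul, map_inv]⟩

theorem act_refl {g : G} {A : GL (Fin 2) F} (h : Act f Set.univ g A (RingEquiv.refl F)) (x : Ω) :
    f (g • x) = A • f x := (h x trivial).trans (congrArg _ (congrFun OnePoint.map_id _))

theorem Md.ngl (m : Md U p e f) (g : G) : ∃ (A : GL (Fin 2) F) (σ : F ≃+* F), Act f Set.univ g A σ := by
  have : (Lt Set.univ U).Normal := ⟨fun l hl g => m.cb.ld.Lt_conj (mem_top g) hl⟩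
  obtain ⟨A, σ, h⟩ := aut (e.symm.trans ((MulAut.conjNormal g).trans e))
  refine ⟨A, σ, m.key fun B => ?_⟩
  obtain ⟨B', h1, h2⟩ := h B
  refine ⟨B', h1, ?_⟩
  rw [th_apply, th_apply, ← h2]
  simp

theorem Md.inj (m : Md U p e f) : Function.Injective f := fun c d hcd => by
  by_contra hn
  obtain ⟨u, hu, h1⟩ := ex_ne_one m.cb.three m.cb.ld c
  obtain ⟨x, h2, h3⟩ := third m.cb.three c d
  obtain ⟨v, hv, rfl⟩ := m.cb.ld.tr d trivial c trivial x trivial hn h3
  obtain ⟨B, k, rfl, h4⟩ := m.lift hu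
  obtain ⟨B', k', rfl, h5⟩ := m.lift hv
  obtain ⟨C, hC⟩ := one_tr (f c) ∞
  obtain ⟨s, rfl⟩ := conj_up m.pr h4 (m.fx c _ hu) hC
  obtain ⟨t, rfl⟩ := conj_up m.pr h5 (m.fx d _ hv) (hcd ▸ hC)
  refine h1 (m.reg c _ h2 _ hu ?_)
  rw [← mul_smul, ← map_mul, show C⁻¹ * up s * C * (C⁻¹ * up t * C) = C⁻¹ * (up s * up t) * C by group, up_mul,
    add_comm, ← up_mul, show C⁻¹ * (up t * up s) * C = C⁻¹ * up t * C * (C⁻¹ * up s * C) by group, map_mul, mul_smul,
    m.cb.ld.fix c trivial _ hu]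

theorem Md.l2p (m : Md U p e f) {a b : Ω} (ha : f a = ∞) (hb : f b = ((0 : F) : OnePoint F)) :
    L2P ⊤ Set.univ U a b F f where
  odd := by
    have := Fact.mk m.pr
    obtain ⟨n, -, hn⟩ := FiniteField.card F p
    exact hn ▸ m.odd.pow
  bij := ⟨fun _ _ => trivial, m.inj.injOn, fun y _ => by
    obtain ⟨B, hB⟩ := one_tr (f a) y
    exact ⟨_, trivial, (act_refl (m.act B) a).trans hB⟩⟩
  ea := ha
  eb := hb
  Vt u hu := by
    obtain ⟨B, k, rfl, h⟩ := m.lift hu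
    obtain ⟨c, rfl⟩ := eq_up m.pr h (ha ▸ m.fx a _ hu)
    exact ⟨c, m.act _⟩
  Lsl g hg := by
    obtain ⟨B, rfl⟩ := th_surj e hg
    exact ⟨B, m.act B⟩
  slL B := ⟨_, th_mem e B, m.act B⟩
  Ngl g _ := m.ngl g

theorem Md.move (m : Md U p e f) (C : SL(2, F)) : Md U p (e.trans (MulAut.conj (QuotientGroup.mk C)))
    fun c => (C : GL (Fin 2) F) • f c := ⟨m.cb, m.reg, m.pr, m.pg, fun c B hB => by
  have := m.fx c (C⁻¹ * B * C) hB
  rwa [map_mul, map_mul, mul_smul, mul_smul, map_inv, inv_smul_eq_iff] at this⟩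

theorem sc_of_act {a b : Ω} (ha : f a = ∞) (hb : f b = ((0 : F) : OnePoint F)) {g : G} (hg : g ∈ Hb G a b)
    {A : GL (Fin 2) F} {σ : F ≃+* F} (h : Act f Set.univ g A σ) :
    ∀ x (t : F), f x = t → f (g • x) = ((A 0 0 / A 1 1 * σ t : F) : OnePoint F) := fun x t hx => by
  have h1 := h a trivial
  have h2 := h b trivial
  rw [(mem_Hb.1 hg).1, ha, map_infty, eq_comm, smul_infty_eq_self_iff] at h1
  have h3 : A 1 1 ≠ 0 := fun e => A.det_ne_zero (by rw [det_fin_two, h1, e]; ring)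
  rw [(mem_Hb.1 hg).2, hb, map_some, smul_some_eq_ite] at h2
  have h4 : A 0 1 = 0 := by simpa [h3, eq_comm (a := (0 : F))] using h2
  rw [h x trivial, hx, map_some, smul_some_eq_ite]
  simp [h1, h3, h4, div_mul_eq_mul_div]

theorem o12 (h : Cb U) (hp : p.Prime) {a b : Ω} (l : L2P ⊤ Set.univ U a b F f) {g : G} (hg : g ∈ Hb G a b) {k : ℕ}
    (hk : g ^ p ^ k = 1) (hc : g ∈ Lt Set.univ U ∨ ∀ d ∈ Lt Set.univ U, d ∈ Hb G a b → g * d = d * g) : g = 1 := by
  have hs : ∀ t : F, ∃ x, f x = t := fun t => let ⟨x, _, hx⟩ := l.bij.2.2 (Set.mem_univ _); ⟨x, hx⟩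
  have hi : Function.Injective f := Set.injOn_univ.1 l.bij.2.1
  obtain ⟨c, h1⟩ : ∃ c : F, ∀ x (t : F), f x = t → f (g • x) = ((c * t : F) : OnePoint F) := by
    rcases hc with hc | hc
    · obtain ⟨B, hB⟩ := l.Lsl g hc
      exact ⟨_, sc_of_act l.ea l.eb hg hB⟩
    obtain ⟨A, σ, hA⟩ := l.Ngl g trivial
    have h1 := sc_of_act l.ea l.eb hg hA
    generalize A 0 0 / A 1 1 = c at h1
    obtain ⟨x, hx⟩ := hs 1
    have h0 : c ≠ 0 := fun e => by
      have := hi ((h1 x 1 hx).trans (by rw [e, zero_mul, ← l.eb, ← (mem_Hb.1 hg).2]))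
      rw [smul_left_cancel_iff] at this
      rw [this, l.eb, coe_eq_coe] at hx
      exact zero_ne_one hx
    have h2 : ∀ t : F, σ (t ^ 2) = t ^ 2 := fun t => by
      by_cases ht : t = 0
      · simp [ht]
      obtain ⟨d, hd, hD⟩ := l.slL (dg (Units.mk0 t ht))
      have h3 : ∀ x (s : F), f x = s → f (d • x) = ((t ^ 2 * s : F) : OnePoint F) := fun x s hs => by
        rw [act_refl hD, hs, sl_coe]
        simp [dg_val, ht]
        ring
      have h4 := hc d hd (mem_Hb.2 ⟨hi (by rw [act_refl hD, l.ea, sl_inf]; simp [dg_val]),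
        hi (by rw [h3 b 0 l.eb, mul_zero, l.eb])⟩)
      have h5 := h1 _ _ (h3 x 1 hx)
      rw [← mul_smul, h4, mul_smul, h3 _ _ (h1 x 1 hx), coe_eq_coe, map_one, mul_one, mul_one, mul_comm] at h5
      exact (mul_left_cancel₀ h0 h5).symm
    refine ⟨c, fun x t ht => (h1 x t ht).trans ?_⟩
    have h6 : (2 : F) ≠ 0 := Ring.two_ne_zero (by
      rw [Ne, FiniteField.even_card_iff_char_two]; have := Nat.odd_iff.1 l.odd; omega)
    have h7 := h2 (t + 1)
    rw [add_sq, map_add, map_add, h2, map_mul, map_mul, map_pow, map_one, map_ofNat] at h7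
    rw [show σ t = t from mul_left_cancel₀ h6 (by linear_combination h7)]
  have h2 : ∀ (n : ℕ) x (t : F), f x = t → f (g ^ n • x) = ((c ^ n * t : F) : OnePoint F) := fun n x t hx => by
    induction n with
    | zero => simpa using hx
    | succ n ih => rw [pow_succ', mul_smul, h1 _ _ ih, pow_succ', mul_assoc]
  obtain ⟨x, hx⟩ := hs 1
  have h3 := h2 (p ^ k) x 1 hx
  rw [hk, one_smul, hx, coe_eq_coe, mul_one] at h3
  obtain rfl := eq_one_of_pow hp h3.symm
  refine h.faith g fun y => hi ?_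
  cases hy : f y with
  | infty => rw [hi (hy.trans l.ea.symm), (mem_Hb.1 hg).1, l.ea]
  | coe t => rw [h1 y t hy, one_mul]

end KL2

open KL2

theorem kl2 (h : Cb U) (hr : Reg U) {p : ℕ} (hp : p.Prime) (hS : SylF U p) {F : Type} [Field F]
    [Fintype F] [CharP F p] (h4 : 4 ≤ Fintype.card F) (e : Lt Set.univ U ≃* PSL(2, F)) :
    L2A ⊤ Set.univ U ∧ O12 U p := by
  choose f hf using exists_e hp (fun c => (hS c).1) e
  have m : Md U p e f := ⟨h, hr, hp, fun c => (hS c).1, hf⟩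
  have h1 : ∀ a b : Ω, a ≠ b → ∃ f : Ω → OnePoint F, L2P ⊤ Set.univ U a b F f := fun a b hab => by
    obtain ⟨C, c1, c2⟩ := two_tr (m.inj.ne hab)
    exact ⟨_, (m.move C).l2p c1 c2⟩
  refine ⟨fun a _ b _ hab => ⟨F, _, _, h1 a b hab⟩, fun a b hab g hg ⟨k, hk⟩ hc => ?_⟩
  obtain ⟨f, l⟩ := h1 a b hab
  exact o12 h hp l hg hk hc

/-- the root groups of a known group are unique -/
theorem ov (h : Cb U) {P : Ω → Subgroup G} (hP : LD ⊤ Set.univ P) (hr : Reg P) {p : ℕ}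
    (hp : p.Prime) (hS : ∀ c, IsPGroup p (P c)) (ho : O12 P p) : U = P := by
  have := Fact.mk hp
  funext a
  obtain ⟨b, hb, -⟩ := third h.three a a
  have hn : ∀ {V : Ω → Subgroup G}, LD ⊤ Set.univ V → ∀ g : G, g • a = a → ∀ u ∈ V a, g * u * g⁻¹ ∈ V a :=
    fun hV g hg u hu => hg ▸ hV.cj g trivial a trivial u hu
  have h1 : IsPGroup p (U a) := by
    refine IsPGroup.iff_card.2 ⟨_, Nat.eq_prime_pow_of_unique_prime_dvd Nat.card_pos.ne' fun {r} hr' hd => ?_⟩
    by_contra hrp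
    have := Fact.mk hr'
    have := h.ld.nil a trivial
    obtain ⟨S⟩ : Nonempty (Sylow r (U a)) := inferInstance
    obtain ⟨⟨u, hu⟩, h1⟩ := (ne_bot_iff_exists_ne_one.1 (S.ne_bot_of_dvd_card hd))
    have hS' := S.isPGroup'.map (U a).subtype
    have hc : ∀ v ∈ P a, v * u = u * v := fun v hv => by
      obtain ⟨k, hk⟩ := S.isPGroup' ⟨u, hu⟩
      let w : U a := ⟨_, hn h.ld v (hP.fix a trivial v hv) u u.2⟩
      have h2 : IsPGroup r (zpowers w) := by
        rintro ⟨_, n, rfl⟩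
        refine ⟨k, Subtype.ext (Subtype.ext ?_)⟩
        change ((v * u * v⁻¹) ^ n) ^ r ^ k = (1 : G)
        rw [← _root_.zpow_natCast, ← _root_.zpow_mul, mul_comm n, _root_.zpow_mul, _root_.zpow_natCast, conj_pow,
          show (u : G) ^ r ^ k = 1 from congrArg (fun x : S => ((x : U a) : G)) hk]
        simp
      have h3 : w ∈ (S : Subgroup (U a)) := (S.is_maximal' (S.isPGroup'.to_sup_of_normal_left h2) le_sup_left).le
        (mem_sup_right (mem_zpowers w))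
      have h4 := disjoint_def.1 (IsPGroup.disjoint_of_ne r p hrp _ _ hS' (hS a)) (x := v * u * v⁻¹ * (u : G)⁻¹)
        (mul_mem ⟨w, h3, rfl⟩ (inv_mem ⟨u, hu, rfl⟩)) (by
          rw [show v * u * v⁻¹ * (u : G)⁻¹ = v * (u * v⁻¹ * (u : G)⁻¹) by group]
          exact mul_mem hv (hn hP u (h.ld.fix a trivial u u.2) _ (inv_mem hv)))
      rwa [mul_inv_eq_one, mul_inv_eq_iff_eq_mul] at h4
    obtain ⟨x, hx, h5⟩ : ∃ x, x ≠ a ∧ (u : G) • x = x := by
      by_contra hno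
      push Not at hno
      have h6 : IsPGroup r (zpowers (u : G)) := hS'.to_le (zpowers_le.2 ⟨u, hu, rfl⟩)
      have h7 := h6.card_modEq_card_fixedPoints Ω
      have h8 : fixedPoints (zpowers (u : G)) Ω = {a} := Set.eq_singleton_iff_unique_mem.2
        ⟨fun g => h.ld.fix a trivial _ (zpowers_le.2 u.2 g.2), fun x hx => by
          by_contra e; exact hno x e (hx ⟨_, mem_zpowers _⟩)⟩
      have h9 := hP.card_V (Set.mem_univ a) (Set.mem_univ b) hb.symm
      obtain ⟨n, h10⟩ := (hS a).exists_card_eq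
      rw [h8, Nat.card_unique (α := ({a} : Set Ω))] at h7
      have h11 := ((Nat.modEq_iff_dvd' (by have := h.three; omega)).1 h7.symm).mul_right
        (Nat.card ↥(P a ⊓ stabilizer G b))
      rw [Set.ncard_univ, h10] at h9
      exact hrp ((Nat.prime_dvd_prime_iff_eq hr' hp).1 (hr'.dvd_of_dvd_pow (h9 ▸ h11)))
    refine h1 (Subtype.ext (Subtype.ext (h.faith _ fun y => ?_)))
    by_cases hy : y = a
    · rw [hy]; exact h.ld.fix a trivial _ u.2
    · obtain ⟨v, hv, rfl⟩ := hP.tr a trivial x trivial y trivial hx hy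
      rw [← mul_smul, ← hc v hv, mul_smul, h5]
  have h2 : U a ≤ P a := fun u hu => by
    have h3 : IsPGroup p ↥(U a ⊔ P a) := h1.to_sup_of_normal_right' (hS a) fun g hg =>
      mem_normalizer_fintype fun v hv => hn hP g (h.ld.fix a trivial g hg) v hv
    have h4 : ∀ g : G, g • a = a → ∀ u ∈ U a ⊔ P a, g * u * g⁻¹ ∈ U a ⊔ P a := fun g hg =>
      (sup_le (fun u hu => mem_sup_left (hn h.ld g hg u hu)) fun u hu => mem_sup_right (hn hP g hg u hu) :
        U a ⊔ P a ≤ (U a ⊔ P a).comap (MulAut.conj g).toMonoidHom)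
    have h5 : ∀ g ∈ U a ⊔ P a, ∃ k, g ^ p ^ k = 1 := fun g hg =>
      let ⟨k, hk⟩ := h3 ⟨g, hg⟩; ⟨k, congrArg Subtype.val hk⟩
    obtain ⟨v, hv, e⟩ := hP.tr a trivial b trivial (u • b) trivial hb fun e =>
      hb (by rw [← inv_smul_smul u b, e, inv_smul_eq_iff, h.ld.fix a trivial u hu])
    have h6 : v⁻¹ * u ∈ U a ⊔ P a := mul_mem (mem_sup_right (inv_mem hv)) (mem_sup_left hu)
    have h7 : v⁻¹ * u ∈ Hb G a b := mem_Hb.2 ⟨by
      rw [mul_smul, h.ld.fix a trivial u hu, inv_smul_eq_iff, hP.fix a trivial v hv], by rw [mul_smul, ← e, inv_smul_smul]⟩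
    have h8 := ho a b hb.symm _ h7 (h5 _ h6) (Or.inr fun d hd dH => ?_)
    · exact inv_mul_eq_one.1 h8 ▸ hv
    · generalize v⁻¹ * u = r at h6 h7
      have := ho a b hb.symm (d * r * d⁻¹ * r⁻¹) (mul_mem (mul_mem (mul_mem dH h7) (inv_mem dH)) (inv_mem h7))
        (h5 _ (mul_mem (h4 d (mem_Hb.1 dH).1 r h6) (inv_mem h6))) (Or.inl (by
          rw [show d * r * d⁻¹ * r⁻¹ = d * (r * d⁻¹ * r⁻¹) by group]
          exact mul_mem hd (hP.Lt_conj trivial (inv_mem hd))))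
      rw [mul_inv_eq_one, mul_inv_eq_iff_eq_mul] at this
      exact this.symm
  refine le_antisymm h2 fun v hv => ?_
  obtain ⟨u, hu, e⟩ := h.ld.tr a trivial b trivial (v • b) trivial hb fun e =>
    hb (by rw [← inv_smul_smul v b, e, inv_smul_eq_iff, hP.fix a trivial v hv])
  exact inv_mul_eq_one.1 (hr a b hb _ (mul_mem (inv_mem (h2 hu)) hv) (by rw [mul_smul, ← e, inv_smul_smul])) ▸ hu

end H51.HK
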