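import Cfsg.Agent.Lib.HK.LQ
import Cfsg.Agent.S2117
import Cfsg.Agent.S2118

/-! Central kernels of the groups of type `L₂(q)` and `AGL₁(2^k)` (package KPI of HKS2). -/

set_option autoImplicit false
set_option linter.unusedSectionVars false
set_option linter.style.haveILetI false

namespace H51.HK

open MulAction Subgroup Matrix H69
open scoped MatrixGroups Classical commutatorElement

section Tools

/-- transfer into an abelian subgroup -/
theorem kp_tr {X : Type*} [Group X] [Finite X] (H : Subgroup X)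
    (hc : ∀ x ∈ H, ∀ y ∈ H, x * y = y * x) {z : X} (hz : z ∈ commutator X)
    (hzc : ∀ g, z * g = g * z) : z ^ H.index = 1 := by
  letI : CommGroup H :=
    { (inferInstance : Group H) with mul_comm := fun x y => Subtype.ext (hc _ x.2 _ y.2) }
  have key : ∀ (k : ℕ) (g₀ : X), g₀⁻¹ * z ^ k * g₀ ∈ H → g₀⁻¹ * z ^ k * g₀ = z ^ k := by
    intro k g _
    have : Commute (z ^ k) g := Commute.pow_left (hzc g) k
    rw [mul_assoc, this.eq, inv_mul_cancel_left]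
  have h1 := MonoidHom.transfer_eq_pow (MonoidHom.id H) z key
  have h2 : MonoidHom.transfer (MonoidHom.id H) z = 1 :=
    Abelianization.commutator_subset_ker _ hz
  exact congrArg Subtype.val (h1.symm.trans h2)

theorem kp_mem_comm {X : Type*} [Group X] {M : Subgroup X} {z : M} (hz : (z : X) ∈ ⁅M, M⁆) :
    z ∈ commutator M := by
  rw [← map_subtype_commutator] at hz
  obtain ⟨y, hy, e⟩ := hz
  rwa [← Subtype.ext e]

theorem kp_cj {X : Type*} [Group X] {M : Subgroup X} {m c : X} (hm : m ∈ M) (hc : c ∈ ⁅M, M⁆) :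
    m⁻¹ * c * m ∈ ⁅M, M⁆ := by
  have hcM : c ∈ M := (Subgroup.commutator_le_self M) hc
  have : m⁻¹ * c * m = ⁅m⁻¹, c⁆ * c := by simp only [commutatorElement_def]; group
  rw [this]
  exact mul_mem (commutator_mem_commutator (inv_mem hm) hcM) hc

/-- a group generated by conjugates of `W` is the product of `W` and the derived group -/
theorem kp_gen {X : Type*} [Group X] {W : Subgroup X} {S : Set X} (hW : W ≤ closure S)
    (hS : ∀ s ∈ S, ∃ m ∈ closure S, m⁻¹ * s * m ∈ W) {x : X} (hx : x ∈ closure S) :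
    ∃ w ∈ W, w⁻¹ * x ∈ ⁅closure S, closure S⁆ := by
  induction hx using closure_induction with
  | mem s hs =>
    obtain ⟨m, hm, hw⟩ := hS s hs
    refine ⟨_, hw, ?_⟩
    have : (m⁻¹ * s * m)⁻¹ * s = ⁅m⁻¹, s⁻¹⁆ := by simp only [commutatorElement_def]; group
    rw [this]
    exact commutator_mem_commutator (inv_mem hm) (inv_mem (subset_closure hs))
  | one => exact ⟨1, one_mem _, by simp⟩
  | mul x y _ _ hx hy =>
    obtain ⟨w, hw, c⟩ := hx
    obtain ⟨v, hv, d⟩ := hy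
    refine ⟨w * v, mul_mem hw hv, ?_⟩
    have : (w * v)⁻¹ * (x * y) = v⁻¹ * (w⁻¹ * x) * v * (v⁻¹ * y) := by group
    rw [this]
    exact mul_mem (kp_cj (hW hv) c) d
  | inv x _ hx =>
    obtain ⟨w, hw, c⟩ := hx
    refine ⟨w⁻¹, inv_mem hw, ?_⟩
    have : w⁻¹⁻¹ * x⁻¹ = w⁻¹⁻¹ * (w⁻¹ * x)⁻¹ * w⁻¹ := by group
    rw [this]
    exact kp_cj (inv_mem (hW hw)) (inv_mem c)

theorem kp_stem {Γ : Type*} [Group Γ] [Finite Γ] {Q : Type} [Group Q] {n : ℕ}
    (h : Cfsg.HasCyclicSchurMultiplier Q n) (σ : Γ →* Q) (h1 : Function.Surjective σ)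
    (h2 : ∀ z, σ z = 1 → (∀ g, z * g = g * z) ∧ z ∈ commutator Γ) {z : Γ} (hz : σ z = 1) :
    z ^ n = 1 := by
  let ε : Shrink.{0} Γ ≃* Γ := Shrink.mulEquiv
  haveI : Finite (Shrink.{0} Γ) := Finite.of_equiv _ ε.toEquiv.symm
  obtain ⟨π, hπ⟩ := h.2 (Shrink.{0} Γ) (σ.comp ε.toMonoidHom)
    ⟨h1.comp ε.surjective, fun y hy => mem_center_iff.2 fun g => ε.injective (by
      rw [map_mul, map_mul]; exact ((h2 _ hy).1 _).symm), fun y hy => by
      have := (h2 _ hy).2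
      have e : (commutator Γ).map ε.symm.toMonoidHom ≤ commutator _ := by
        rw [commutator_def, map_commutator]; exact commutator_mono le_top le_top
      exact e ⟨_, this, ε.symm_apply_apply y⟩⟩
  obtain ⟨k, hk⟩ := hπ ⟨ε.symm z, by simpa using hz⟩
  have hk1 : k ^ n = 1 := by
    rw [← ofAdd_toAdd k, ← ofAdd_nsmul, nsmul_eq_mul, ZMod.natCast_self, zero_mul, ofAdd_zero]
  have : (⟨ε.symm z, by simpa using hz⟩ : (σ.comp ε.toMonoidHom).ker) ^ n = 1 := by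
    rw [← hk, ← map_pow, hk1, map_one]
  have h3 : (ε.symm z) ^ n = 1 := congrArg Subtype.val this
  rw [← map_pow] at h3
  exact ε.symm.injective (h3.trans (map_one _).symm)

theorem kp_three : ∀ c : ZMod 3, (up c : SL(2, ZMod 3)) ∈ commutator SL(2, ZMod 3) → c = 0 := by
  have h1 : ∀ B C : SL(2, ZMod 3), B ^ 4 = 1 → C ^ 4 = 1 → (B * C) ^ 4 = 1 := by decide +kernel
  have h2 : ∀ B C : SL(2, ZMod 3), (B * C * B⁻¹ * C⁻¹) ^ 4 = 1 := by decide +kernel
  have h3 : ∀ c : ZMod 3, (up c : SL(2, ZMod 3)) ^ 4 = 1 → c = 0 := by decide +kernel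
  let K : Subgroup SL(2, ZMod 3) :=
    { carrier := {B | B ^ 4 = 1}
      mul_mem' := fun hB hC => h1 _ _ hB hC
      one_mem' := one_pow _
      inv_mem' := fun {B} (hB : B ^ 4 = 1) => by
        show B⁻¹ ^ 4 = 1
        rw [inv_pow, hB, inv_one] }
  have : commutator SL(2, ZMod 3) ≤ K := commutator_le.2 fun B _ C _ => h2 B C
  exact fun c hc => h3 c (this hc)

theorem kp_cc {X : Type*} [Group X] {z w : X} (hz : ∀ y, z * y = y * z) (hw : ∀ y, w * y = y * w)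
    (x y : X) : ⁅x * z, y * w⁆ = ⁅x, y⁆ := by
  have e1 : x * z * (y * w) = x * y * (z * w) := by
    rw [mul_assoc x, ← mul_assoc z, hz y]; simp only [mul_assoc]
  have e2 : y * w * (x * z) = y * x * (z * w) := by
    rw [mul_assoc y, ← mul_assoc w, hw x, hz w]; simp only [mul_assoc]
  rw [commutatorElement_def, commutatorElement_def, mul_assoc, ← _root_.mul_inv_rev, e1, e2]
  group

/-- an invariant commutator form on a field with more than four elements vanishes -/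
theorem kp_beta {X F : Type*} [Group X] [Field F] (T : F → X → Prop) (ex : ∀ d, ∃ g, T d g)
    (mul : ∀ {d d' g g'}, T d g → T d' g' → T (d + d') (g * g'))
    (inv : ∀ {d g}, T d g → T (-d) g⁻¹) (cen : ∀ {g}, T 0 g → ∀ y, g * y = y * g)
    (sc : ∀ c, c ≠ 0 → ∃ v, ∀ d g, T d g → T (c * d) (v * g * v⁻¹)) {ω : F} (h0 : ω ≠ 0)
    (h1 : ω + 1 ≠ 0) (h2 : ω ^ 2 + ω + 1 ≠ 0) {d d' : F} {g g' : X} (hg : T d g) (hg' : T d' g') :
    g * g' = g' * g := by
  choose t ht using ex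
  have dif : ∀ {x g}, T x g → ∀ y, (t x)⁻¹ * g * y = y * ((t x)⁻¹ * g) := fun {x g} h =>
    cen (by simpa using mul (inv (ht x)) h)
  have wd : ∀ {x y g g'}, T x g → T y g' → ⁅g, g'⁆ = ⁅t x, t y⁆ := fun {x y g g'} h h' => by
    rw [← kp_cc (dif h) (dif h') (t x) (t y), mul_inv_cancel_left, mul_inv_cancel_left]
  have cb : ∀ x y z, ⁅t x, t y⁆ * z = z * ⁅t x, t y⁆ := fun x y =>
    cen (by simpa [commutatorElement_def] using mul (mul (mul (ht x) (ht y)) (inv (ht x))) (inv (ht y)))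
  have al : ∀ x x' y, ⁅t (x + x'), t y⁆ = ⁅t x, t y⁆ * ⁅t x', t y⁆ := fun x x' y => by
    rw [← wd (mul (ht x) (ht x')) (ht y), ← cb x' y]
    have : ⁅t x * t x', t y⁆ = t x * ⁅t x', t y⁆ * (t x)⁻¹ * ⁅t x, t y⁆ := by
      simp only [commutatorElement_def]; group
    rw [this, ← cb x' y, mul_inv_cancel_right]
  have ar : ∀ x y y', ⁅t x, t (y + y')⁆ = ⁅t x, t y⁆ * ⁅t x, t y'⁆ := fun x y y' => by
    rw [← commutatorElement_inv, al, _root_.mul_inv_rev, commutatorElement_inv,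
      commutatorElement_inv, cb]
  have sl : ∀ c, c ≠ 0 → ∀ x y, ⁅t (c * x), t (c * y)⁆ = ⁅t x, t y⁆ := fun c hc x y => by
    obtain ⟨v, hv⟩ := sc c hc
    rw [← wd (hv _ _ (ht x)) (hv _ _ (ht y))]
    have : ⁅v * t x * v⁻¹, v * t y * v⁻¹⁆ = v * ⁅t x, t y⁆ * v⁻¹ := by
      simp only [commutatorElement_def]; group
    rw [this, ← cb, mul_inv_cancel_right]
  have key : ∀ x y, ⁅t x, t (ω * (ω * y) + y + ω * y)⁆ = 1 := fun x y => by
    have a1 := sl _ h1 x (ω * y)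
    rw [add_mul, add_mul, one_mul, one_mul, al, ar, ar, sl _ h0, sl _ h0, mul_assoc,
      mul_eq_left] at a1
    rw [ar, ar, ← cb x y, mul_assoc, a1]
  obtain ⟨y, hy⟩ : ∃ y, (ω ^ 2 + ω + 1) * y = d' := ⟨_, mul_div_cancel₀ d' h2⟩
  have := key d y
  rw [show ω * (ω * y) + y + ω * y = d' by linear_combination hy, ← wd hg hg'] at this
  exact commutatorElement_eq_one_iff_mul_comm.1 this

end Tools

variable {G Ω : Type*} [Group G] [MulAction G Ω] [Finite G] [Finite Ω]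

variable {U : Ω → Subgroup G}

variable {N : Subgroup G} {Δ : Set Ω} {V : Ω → Subgroup G}

theorem kp_Lt (Δ : Set Ω) (V : Ω → Subgroup G) :
    Lt Δ V = closure {u | ∃ c ∈ Δ, u ∈ V c} := by
  refine le_antisymm (iSup₂_le fun c hc u hu => subset_closure ⟨c, hc, hu⟩) ?_
  rw [closure_le]
  rintro u ⟨c, hc, hu⟩
  exact le_Lt hc hu

theorem kp_move (hd : LD N Δ V) (h3 : 3 ≤ Δ.ncard) {a b c : Ω} (ha : a ∈ Δ) (hb : b ∈ Δ)
    (hab : a ≠ b) (hc : c ∈ Δ) {u : G} (hu : u ∈ V c) : ∃ l ∈ Lt Δ V, l⁻¹ * u * l ∈ V a := by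
  have : ∃ l ∈ Lt Δ V, l • a = c := by
    by_cases h : c = a
    · exact ⟨1, one_mem _, by rw [one_smul, h]⟩
    · obtain ⟨l, hl, h1, -⟩ := hd.two h3 ha hb hc ha hab h
      exact ⟨l, hl, h1⟩
  obtain ⟨l, hl, e⟩ := this
  refine ⟨l, hl, ?_⟩
  have := hd.cj l⁻¹ (inv_mem (hd.Lt_le hl)) c hc u hu
  rwa [inv_inv, ← e, inv_smul_smul] at this

section L2

variable {a b : Ω} {F : Type} [Field F] [Fintype F] {e : Ω → OnePoint F}

theorem kp_act {g : G} {A : GL (Fin 2) F} :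
    Act e Δ g A (RingEquiv.refl F) ↔ ∀ x ∈ Δ, e (g • x) = A • e x := by
  simp [Act]

theorem kp_conj (hd : LD N Δ V) {g l : G} (hg : g ∈ N) (hl : l ∈ N) {A : GL (Fin 2) F}
    {σ : F ≃+* F} (h : Act e Δ g A σ) {B B' : SL(2, F)} (hB : Act e Δ l B (RingEquiv.refl F))
    (hA : (B' : Matrix (Fin 2) (Fin 2) F) * A = A * (B : Matrix (Fin 2) (Fin 2) F).map σ) :
    Act e Δ (g * l * g⁻¹) B' (RingEquiv.refl F) := by
  rw [kp_act] at hB ⊢
  intro x hx
  have hy := hd.inv _ (inv_mem hg) x hx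
  have h1 := h _ hy
  rw [smul_inv_smul] at h1
  have e1 : (B' : GL (Fin 2) F) * A = A * (B : GL (Fin 2) F).map (σ : F →+* F) :=
    Units.ext hA
  rw [mul_smul, mul_smul, h _ (hd.inv _ hl _ hy), hB _ hy, h1, ← mul_smul, e1, mul_smul]
  congr 1
  exact OnePoint.map_smul (σ : F →+* F) _ _

theorem kp_trace {A : GL (Fin 2) F} {σ : F ≃+* F} {B B' : SL(2, F)}
    (hA : (B' : Matrix (Fin 2) (Fin 2) F) * A = A * (B : Matrix (Fin 2) (Fin 2) F).map σ)
    (hB : (B : Matrix (Fin 2) (Fin 2) F).trace = 2) :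
    (B' : Matrix (Fin 2) (Fin 2) F).trace = 2 := by
  have : (B' : Matrix (Fin 2) (Fin 2) F) =
      A * (B : Matrix (Fin 2) (Fin 2) F).map σ * (A⁻¹ : GL (Fin 2) F) := by
    rw [← hA, Units.mul_inv_cancel_right]
  rw [this, trace_mul_cycle, Units.inv_mul, one_mul, trace_fin_two, map_apply, map_apply,
    ← map_add, ← trace_fin_two, hB, map_ofNat]

/-- the semilinear conjugation on `SL₂` -/
theorem kp_alpha (A : GL (Fin 2) F) (σ : F ≃+* F) : ∃ α : SL(2, F) →* SL(2, F), ∀ B B' : SL(2, F),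
    (B' : Matrix (Fin 2) (Fin 2) F) * A = A * (B : Matrix (Fin 2) (Fin 2) F).map σ ↔ B' = α B := by
  let f : SL(2, F) → SL(2, F) := fun B =>
    ⟨A * (B : Matrix (Fin 2) (Fin 2) F).map σ * (A⁻¹ : GL (Fin 2) F), by
      rw [det_mul_right_comm, Units.mul_inv, one_mul]
      have := (σ : F →+* F).map_det (B : Matrix (Fin 2) (Fin 2) F)
      rw [B.2, map_one] at this
      exact this.symm⟩
  refine ⟨MonoidHom.mk' f fun B C => Subtype.ext ?_, fun B B' => ⟨fun h => Subtype.ext ?_, ?_⟩⟩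
  · show (A : Matrix (Fin 2) (Fin 2) F) * ((B : Matrix (Fin 2) (Fin 2) F) * C).map σ * _ =
      A * (B : Matrix (Fin 2) (Fin 2) F).map σ * (A⁻¹ : GL (Fin 2) F) *
        (A * (C : Matrix (Fin 2) (Fin 2) F).map σ * (A⁻¹ : GL (Fin 2) F))
    have := Matrix.map_mul (L := (B : Matrix (Fin 2) (Fin 2) F))
      (M := (C : Matrix (Fin 2) (Fin 2) F)) (f := (σ : F →+* F))
    simp only [RingHom.coe_coe] at this
    rw [this]
    simp only [mul_assoc, Units.inv_mul_cancel_left]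
  · show (B' : Matrix (Fin 2) (Fin 2) F) = A * (B : Matrix (Fin 2) (Fin 2) F).map σ * _
    rw [← h, Units.mul_inv_cancel_right]
  · rintro rfl
    show (A : Matrix (Fin 2) (Fin 2) F) * (B : Matrix (Fin 2) (Fin 2) F).map σ * _ * _ = _
    rw [Units.inv_mul_cancel_right]

theorem kp_two (h : L2P N Δ V a b F e) : (2 : F) ≠ 0 := by
  intro h2
  have := (FiniteField.even_card_iff_char_two (F := F)).1 (by
    haveI : CharP F 2 := CharTwo.of_one_ne_zero_of_two_eq_zero _root_.one_ne_zero h2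
    exact ringChar.eq F 2)
  have := Nat.odd_iff.1 h.odd
  omega

theorem kp_up_trace (c : F) : ((up c : SL(2, F)) : Matrix (Fin 2) (Fin 2) F).trace = 2 := by
  simp [up, trace_fin_two, one_add_one_eq_two]

theorem kp_up_mul (c d : F) : (up (c + d) : SL(2, F)) = up c * up d := by
  apply Subtype.ext
  show !![1, c + d; 0, 1] = !![1, c; 0, 1] * !![1, d; 0, 1]
  simp [add_comm]

theorem kp_up_zero : (up 0 : SL(2, F)) = 1 := Subtype.ext one_fin_two.symm

theorem kp_up_inj {c d : F} (h : (up c : SL(2, F)) = up d) : c = d := by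
  simpa [up] using congrArg (fun B : SL(2, F) => (B : Matrix (Fin 2) (Fin 2) F) 0 1) h

theorem kp_up_smul (c d : F) :
    ((up c : SL(2, F)) : GL (Fin 2) F) • (d : OnePoint F) = ((d + c : F) : OnePoint F) := by
  rw [OnePoint.smul_some_eq_ite]
  show (if (0 : F) * d + 1 = 0 then OnePoint.infty else (((1 * d + c) / (0 * d + 1) : F) : OnePoint F)) = _
  simp

theorem kp_dg_up (l : Fˣ) (c : F) :
    (dg l : SL(2, F)) * up c = up ((l : F) ^ 2 * c) * dg l := by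
  apply Subtype.ext
  show !![(l : F), 0; 0, ((l⁻¹ : Fˣ) : F)] * !![1, c; 0, 1] =
    !![1, (l : F) ^ 2 * c; 0, 1] * !![(l : F), 0; 0, ((l⁻¹ : Fˣ) : F)]
  have := l.ne_zero
  simp only [mul_fin_two, Units.val_inv_eq_inv_val]
  congr 1
  field_simp
  simp

theorem kp_three' (h : Fintype.card F = 3) {c : F} (hc : (up c : SL(2, F)) ∈ commutator SL(2, F)) :
    c = 0 := by
  let φ := (ZMod.ringEquivOfPrime F Nat.prime_three h).symm
  have e1 : SpecialLinearGroup.map (φ : F →+* ZMod 3) (up c : SL(2, F)) = up (φ c) := by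
    apply Subtype.ext
    show (!![1, c; 0, 1] : Matrix (Fin 2) (Fin 2) F).map φ = !![1, φ c; 0, 1]
    ext i j
    fin_cases i <;> fin_cases j <;> simp
  have e2 : (commutator SL(2, F)).map (SpecialLinearGroup.map (φ : F →+* ZMod 3)) ≤
      commutator _ := by
    rw [_root_.commutator_def, map_commutator]; exact commutator_mono le_top le_top
  exact φ.injective ((kp_three _ (e2 ⟨_, hc, e1⟩)).trans (map_zero φ).symm)

theorem kp_uniq (h : L2P N Δ V a b F e) {g : G} {B C : SL(2, F)}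
    (h1 : Act e Δ g B (RingEquiv.refl F)) (h2 : Act e Δ g C (RingEquiv.refl F)) :
    C = B ∨ C = -B := by
  obtain ⟨-, c, hc⟩ := h.uniq h1 h2
  change (C : Matrix (Fin 2) (Fin 2) F) = c • (B : Matrix (Fin 2) (Fin 2) F) at hc
  have := congrArg Matrix.det hc
  rw [det_smul, B.2, C.2, Fintype.card_fin, mul_one, eq_comm, sq_eq_one_iff] at this
  rcases this with rfl | rfl
  · exact Or.inl (Subtype.ext (by rw [hc, one_smul]))
  · exact Or.inr (Subtype.ext (by rw [hc, neg_smul, one_smul]; rfl))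

theorem kp_W (h : L2P N Δ V a b F e) {u : G} (hu : u ∈ V a) {B : SL(2, F)}
    (h1 : Act e Δ u B (RingEquiv.refl F)) (h2 : (B : Matrix (Fin 2) (Fin 2) F).trace = 2) :
    ∃ c, B = up c := by
  obtain ⟨c, hc⟩ := h.Vt u hu
  rcases kp_uniq h hc h1 with e1 | e1
  · exact ⟨c, e1⟩
  · exfalso
    have h3 : (B : Matrix (Fin 2) (Fin 2) F).trace = -2 := by
      rw [e1, SpecialLinearGroup.coe_neg, trace_neg, kp_up_trace]
    have : (2 : F) * 2 = 0 := by linear_combination h3 - h2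
    exact mul_ne_zero (kp_two h) (kp_two h) this

theorem kp_Weq (h : L2P N Δ V a b F e) (hd : LD N Δ V) (hf : FaithV Δ V) (ha : a ∈ Δ) {u v : G}
    (hu : u ∈ V a) (hv : v ∈ V a) {A : GL (Fin 2) F} (h1 : Act e Δ u A (RingEquiv.refl F))
    (h2 : Act e Δ v A (RingEquiv.refl F)) : u = v := by
  refine inv_mul_eq_one.1 (hf a ha _ (mul_mem (inv_mem hu) hv) fun x hx => ?_)
  rw [mul_smul, inv_smul_eq_iff]
  exact h.bij.injOn (hd.inv _ (hd.le a ha hv) x hx) (hd.inv _ (hd.le a ha hu) x hx)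
    ((h2 x hx).trans (h1 x hx).symm)

theorem kp_upV (h : L2P N Δ V a b F e) (hd : LD N Δ V) (ha : a ∈ Δ) (hb : b ∈ Δ) (hab : a ≠ b)
    (c : F) : ∃ u ∈ V a, Act e Δ u (up c : SL(2, F)) (RingEquiv.refl F) := by
  obtain ⟨x, hx, ex⟩ := h.bij.surjOn (Set.mem_univ (c : OnePoint F))
  obtain ⟨u, hu, e1⟩ := hd.tr a ha b hb x hx hab.symm (by
    rintro rfl
    exact OnePoint.infty_ne_coe c (h.ea.symm.trans ex))
  obtain ⟨d, hd'⟩ := h.Vt u hu
  have := kp_act.1 hd' b hb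
  rw [e1, ex, h.eb, kp_up_smul, zero_add, OnePoint.coe_eq_coe] at this
  exact ⟨u, hu, this ▸ hd'⟩

variable {S : Set (G × SL(2, F))}
  (hS : ∀ x, x ∈ S ↔ (∃ c ∈ Δ, x.1 ∈ V c) ∧ Act e Δ x.1 x.2 (RingEquiv.refl F) ∧
    (x.2 : Matrix (Fin 2) (Fin 2) F).trace = 2)
include hS

theorem kp_E (hd : LD N Δ V) {x : G × SL(2, F)} (hx : x ∈ closure S) :
    x.1 ∈ Lt Δ V ∧ Act e Δ x.1 x.2 (RingEquiv.refl F) := by
  induction hx using closure_induction with
  | mem s hs =>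
    obtain ⟨⟨c, hc, hu⟩, h1, -⟩ := (hS s).1 hs
    exact ⟨le_Lt hc hu, h1⟩
  | one => exact ⟨one_mem _, kp_act.2 fun x _ => by simp⟩
  | mul x y _ _ hx hy =>
    refine ⟨mul_mem hx.1 hy.1, kp_act.2 fun z hz => ?_⟩
    rw [Prod.fst_mul, Prod.snd_mul, mul_smul, kp_act.1 hx.2 _ (hd.inv _ (hd.Lt_le hy.1) z hz),
      kp_act.1 hy.2 z hz, map_mul, mul_smul]
  | inv x _ hx =>
    refine ⟨inv_mem hx.1, kp_act.2 fun z hz => ?_⟩
    rw [Prod.fst_inv, Prod.snd_inv, map_inv, eq_inv_smul_iff,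
      ← kp_act.1 hx.2 _ (hd.inv _ (inv_mem (hd.Lt_le hx.1)) z hz), smul_inv_smul]

theorem kp_Sconj (hd : LD N Δ V) {g : G} (hg : g ∈ N) {A : GL (Fin 2) F} {σ : F ≃+* F}
    (h : Act e Δ g A σ) {x : G × SL(2, F)} (hx : x ∈ S) {B' : SL(2, F)}
    (hA : (B' : Matrix (Fin 2) (Fin 2) F) * A = A * (x.2 : Matrix (Fin 2) (Fin 2) F).map σ) :
    (g * x.1 * g⁻¹, B') ∈ S := by
  obtain ⟨⟨c, hc, hu⟩, h1, h2⟩ := (hS x).1 hx
  exact (hS _).2 ⟨⟨g • c, hd.inv g hg c hc, hd.cj g hg c hc _ hu⟩,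
    kp_conj hd hg (hd.le c hc hu) h h1 hA, kp_trace hA h2⟩

theorem kp_Sconj' (hd : LD N Δ V) {g : G} (hg : g ∈ N) {C : SL(2, F)}
    (h : Act e Δ g C (RingEquiv.refl F)) {x : G × SL(2, F)} (hx : x ∈ S) :
    (g, C) * x * (g, C)⁻¹ ∈ S :=
  kp_Sconj hS hd hg h hx (B' := C * x.2 * C⁻¹)
    (congrArg Subtype.val (inv_mul_cancel_right (C * x.2) C))

variable (h : L2P N Δ V a b F e) (hd : LD N Δ V) (ha : a ∈ Δ) (hb : b ∈ Δ) (hab : a ≠ b)
include h hd ha hb hab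

theorem kp_surj1 {l : G} (hl : l ∈ Lt Δ V) : ∃ B, (l, B) ∈ closure S := by
  have h3 : 3 ≤ Δ.ncard := by
    have := Fintype.one_lt_card (α := F)
    rw [h.card]; omega
  rw [kp_Lt] at hl
  induction hl using closure_induction with
  | mem u hu =>
    obtain ⟨c, hc, hu⟩ := hu
    obtain ⟨l, hl, hv⟩ := kp_move hd h3 ha hb hab hc hu
    obtain ⟨d, hd'⟩ := h.Vt _ hv
    obtain ⟨C, hC⟩ := h.Lsl l hl
    have := kp_Sconj' hS hd (hd.Lt_le hl) hC (x := (l⁻¹ * u * l, up d))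
      ((hS _).2 ⟨⟨a, ha, hv⟩, hd', kp_up_trace d⟩)
    refine ⟨C * up d * C⁻¹, subset_closure ?_⟩
    convert this using 1
    ext1
    · simp [mul_assoc]
    · rfl
  | one => exact ⟨1, one_mem _⟩
  | mul x y _ _ hx hy =>
    obtain ⟨B, hB⟩ := hx
    obtain ⟨C, hC⟩ := hy
    exact ⟨B * C, mul_mem hB hC⟩
  | inv x _ hx =>
    obtain ⟨B, hB⟩ := hx
    exact ⟨B⁻¹, inv_mem hB⟩

theorem kp_surj2 (B : SL(2, F)) : ∃ l, (l, B) ∈ closure S := by
  have key : ∀ B : SL(2, F), ∃ l, (l, B) ∈ closure S ∨ (l, -B) ∈ closure S := fun B => by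
    obtain ⟨l, hl, h1⟩ := h.slL B
    obtain ⟨C, hC⟩ := kp_surj1 hS h hd ha hb hab hl
    rcases kp_uniq h h1 (kp_E hS hd hC).2 with e1 | e1
    · exact ⟨l, Or.inl (e1 ▸ hC)⟩
    · exact ⟨l, Or.inr (e1 ▸ hC)⟩
  have h1 : (ad 1 : SL(2, F)) * ad 1 = -1 := by
    rw [ad_mul_ad, inv_one, mul_one, dg_neg_one]
  have h2 : ∃ l, (l, (-1 : SL(2, F))) ∈ closure S := by
    obtain ⟨l, hl | hl⟩ := key (ad 1)
    · exact ⟨l * l, h1 ▸ mul_mem hl hl⟩
    · refine ⟨l * l, ?_⟩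
      have := mul_mem hl hl
      rwa [Prod.mk_mul_mk, neg_mul_neg, h1] at this
  obtain ⟨l, hl | hl⟩ := key B
  · exact ⟨l, hl⟩
  · obtain ⟨m, hm⟩ := h2
    have := mul_mem hm hl
    rw [Prod.mk_mul_mk, neg_mul_neg, one_mul] at this
    exact ⟨_, this⟩

theorem kp_cent (hf : FaithV Δ V) {z x : G × SL(2, F)} (hz : z ∈ closure S) (h1 : z.2 = 1)
    (hx : x ∈ closure S) : z * x = x * z := by
  obtain ⟨zL, zA⟩ := kp_E hS hd hz
  rw [h1, map_one] at zA
  exact Prod.ext (hd.commK hf (hd.Lt_le zL) ((h.tr_iff hd (hd.Lt_le zL)).2 zA) (kp_E hS hd hx).1) (by simp [h1])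

theorem kp_comm (hf : FaithV Δ V) {z : G × SL(2, F)} (hz : z ∈ closure S) (h1 : z.2 = 1) :
    z ∈ ⁅closure S, closure S⁆ := by
  have h3 : 3 ≤ Δ.ncard := by
    have := Fintype.one_lt_card (α := F)
    rw [h.card]; omega
  let W : Subgroup (G × SL(2, F)) :=
    { carrier := {x | x ∈ closure S ∧ x.1 ∈ V a ∧ ∃ c, x.2 = up c}
      mul_mem' := fun ⟨x1, x2, c, x3⟩ ⟨y1, y2, d, y3⟩ =>
        ⟨mul_mem x1 y1, mul_mem x2 y2, c + d, by rw [Prod.snd_mul, x3, y3, kp_up_mul]⟩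
      one_mem' := ⟨one_mem _, one_mem _, 0, kp_up_zero.symm⟩
      inv_mem' := fun ⟨x1, x2, c, x3⟩ => ⟨inv_mem x1, inv_mem x2, -c, by
        rw [Prod.snd_inv, x3, inv_eq_iff_mul_eq_one, ← kp_up_mul, add_neg_cancel, kp_up_zero]⟩ }
  obtain ⟨w, ⟨w1, w2, c, w3⟩, hw⟩ := kp_gen (W := W) (fun x hx => hx.1) (fun s hs => by
    obtain ⟨⟨c, hc, hu⟩, -⟩ := (hS s).1 hs
    obtain ⟨l, hl, hv⟩ := kp_move hd h3 ha hb hab hc hu
    obtain ⟨C, hC⟩ := kp_surj1 hS h hd ha hb hab hl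
    have h4 := kp_E hS hd (inv_mem hC)
    have h5 := kp_Sconj' hS hd (hd.Lt_le h4.1) h4.2 hs
    rw [Prod.mk.eta, inv_inv] at h5
    obtain ⟨-, h6, h7⟩ := (hS _).1 h5
    exact ⟨_, hC, subset_closure h5, hv, kp_W h hv h6 h7⟩) hz
  have hwA := (kp_E hS hd w1).2
  suffices w ∈ ⁅closure S, closure S⁆ by simpa using mul_mem this hw
  by_cases hq : Fintype.card F = 3
  · have e2 : ⁅closure S, closure S⁆.map (MonoidHom.snd G SL(2, F)) ≤ commutator _ := by
      rw [commutator_def, map_commutator]; exact commutator_mono le_top le_top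
    have h4 : (w⁻¹ * z).2 ∈ commutator SL(2, F) := e2 ⟨_, hw, rfl⟩
    rw [Prod.snd_mul, h1, mul_one, Prod.snd_inv, inv_mem_iff, w3] at h4
    rw [kp_three' hq h4, kp_up_zero] at w3
    rw [w3, map_one] at hwA
    have : w = 1 := Prod.ext (hf a ha _ w2 ((h.tr_iff hd (hd.le a ha w2)).2 hwA)) w3
    exact this ▸ one_mem _
  · obtain ⟨l, hl⟩ : ∃ l : F, l ∉ ({0, 1, -1} : Finset F) := by
      by_contra hc
      push Not at hc
      have h4 := Finset.card_le_card fun x (_ : x ∈ Finset.univ) => hc x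
      have h5 : ({0, 1, -1} : Finset F).card ≤ 3 := Finset.card_le_three
      have h6 := Fintype.one_lt_card (α := F)
      have h7 := Nat.odd_iff.1 h.odd
      rw [Finset.card_univ] at h4
      omega
    simp only [Finset.mem_insert, Finset.mem_singleton, not_or] at hl
    have l2 : l ^ 2 - 1 ≠ 0 := fun h0 => by
      rcases sq_eq_one_iff.1 (sub_eq_zero.1 h0) with h' | h'
      exacts [hl.2.1 h', hl.2.2 h']
    obtain ⟨u, hu, uA⟩ := kp_upV h hd ha hb hab (c / (l ^ 2 - 1))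
    have uS : (u, (up (c / (l ^ 2 - 1)) : SL(2, F))) ∈ closure S :=
      subset_closure ((hS _).2 ⟨⟨a, ha, hu⟩, uA, kp_up_trace _⟩)
    obtain ⟨d, dS⟩ := kp_surj2 hS h hd ha hb hab (dg (Units.mk0 l hl.1))
    obtain ⟨dL, dA⟩ := kp_E hS hd dS
    have da : d • a = a := by
      refine h.bij.injOn (hd.inv _ (hd.Lt_le dL) a ha) ha ?_
      rw [kp_act.1 dA a ha, h.ea, OnePoint.smul_infty_eq_self_iff]
      rfl
    have hy := commutator_mem_commutator dS uS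
    have y2 : ⁅(dg (Units.mk0 l hl.1) : SL(2, F)), (up (c / (l ^ 2 - 1)) : SL(2, F))⁆ = w.2 := by
      rw [commutatorElement_def, kp_dg_up, mul_inv_cancel_right, w3, mul_inv_eq_iff_eq_mul,
        ← kp_up_mul]
      congr 1
      rw [Units.val_mk0]
      field_simp
      ring
    have y1 : ⁅d, u⁆ ∈ V a :=
      mul_mem (by simpa only [da] using hd.cj d (hd.Lt_le dL) a ha u hu) (inv_mem hu)
    have yA := (kp_E hS hd ((Subgroup.commutator_le_self _) hy)).2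
    have e3 : ⁅(d, (dg (Units.mk0 l hl.1) : SL(2, F))), (u, (up (c / (l ^ 2 - 1)) : SL(2, F)))⁆ =
        (⁅d, u⁆, w.2) := Prod.ext rfl y2
    rw [e3] at hy yA
    rwa [kp_Weq h hd hf ha y1 w2 yA hwA] at hy

theorem kp_inj (hf : FaithV Δ V) {z : G × SL(2, F)} (hz : z ∈ closure S) (h1 : z.2 = 1) :
    z = 1 := by
  let f : closure S →* SL(2, F) := (MonoidHom.snd G SL(2, F)).comp (closure S).subtype
  have f1 : Function.Surjective f := fun B => by
    obtain ⟨l, hl⟩ := kp_surj2 hS h hd ha hb hab B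
    exact ⟨⟨_, hl⟩, rfl⟩
  have f2 : ∀ y, f y = 1 → (∀ g, y * g = g * y) ∧ y ∈ commutator (closure S) := fun y hy =>
    ⟨fun g => Subtype.ext (kp_cent hS h hd ha hb hab hf y.2 hy g.2),
      kp_mem_comm (kp_comm hS h hd ha hb hab hf y.2 hy)⟩
  suffices (⟨z, hz⟩ : closure S) = 1 from congrArg Subtype.val this
  by_cases hq : Fintype.card F = 9
  · have e1 := kp_stem (Cfsg.Agent.S2118.result hq) f f1 f2 (z := ⟨z, hz⟩) h1
    let υ : Multiplicative F →* SL(2, F) :=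
      MonoidHom.mk' (fun c => up c.toAdd) fun c d => kp_up_mul _ _
    have υi : Function.Injective υ := fun c d hcd => kp_up_inj (F := F) hcd
    have i1 : υ.range.index = 80 := by
      have := υ.range.card_mul_index
      rw [card_sl2, ← Nat.card_congr (MonoidHom.ofInjective υi).toEquiv, Nat.card_eq_fintype_card,
        Fintype.card_multiplicative, hq] at this
      omega
    have key : ∀ x ∈ υ.range.comap f, ∃ u ∈ V a, ∃ c, ∃ hu : (u, up c) ∈ closure S,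
        ∃ y, f y = 1 ∧ x = ⟨_, hu⟩ * y := by
      rintro x ⟨c, hc⟩
      obtain ⟨u, hu, uA⟩ := kp_upV h hd ha hb hab c.toAdd
      have uS : (u, (up c.toAdd : SL(2, F))) ∈ closure S :=
        subset_closure ((hS _).2 ⟨⟨a, ha, hu⟩, uA, kp_up_trace _⟩)
      refine ⟨u, hu, _, uS, (⟨_, uS⟩ : closure S)⁻¹ * x, ?_, by group⟩
      rw [map_mul, map_inv, ← hc]
      exact inv_mul_cancel _
    have e2 := kp_tr (υ.range.comap f) (fun x hx y hy => by
      obtain ⟨u, hu, c, uS, x', x1, rfl⟩ := key x hx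
      obtain ⟨v, hv, d, vS, y', y1, rfl⟩ := key y hy
      have c1 : Commute (⟨_, uS⟩ : closure S) ⟨_, vS⟩ := by
        refine Subtype.ext (Prod.ext ?_ ?_)
        · exact commutatorElement_eq_one_iff_mul_comm.1 (hf a ha _ (mul_mem (mul_mem
            (mul_mem hu hv) (inv_mem hu)) (inv_mem hv)) (h.V_comm hd ha hu hv).1)
        · show up c * up d = up d * up c
          rw [← kp_up_mul, ← kp_up_mul, add_comm]
      exact (Commute.mul_left (c1.mul_right ((f2 _ y1).1 _).symm) ((f2 _ x1).1 _)).eq)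
      (f2 ⟨z, hz⟩ h1).2 (f2 ⟨z, hz⟩ h1).1
    rw [index_comap_of_surjective _ f1, i1] at e2
    simpa using pow_gcd_eq_one.2 ⟨e1, e2⟩
  · have h4 : Fintype.card F ≠ 4 := fun h4 => by
      have := Nat.odd_iff.1 h.odd
      omega
    simpa using kp_stem (Cfsg.Agent.S2117.result h4 hq) f f1 f2 (z := ⟨z, hz⟩) h1

end L2

theorem kpi_l2 (hd : LD N Δ V) (hf : FaithV Δ V) (h : L2A N Δ V) : L2G N Δ V := by
  intro a ha b hb hab
  obtain ⟨F, _, _, e, h⟩ := h a ha b hb hab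
  obtain ⟨S, hS⟩ : ∃ S : Set (G × SL(2, F)), ∀ x, x ∈ S ↔ (∃ c ∈ Δ, x.1 ∈ V c) ∧
      Act e Δ x.1 x.2 (RingEquiv.refl F) ∧ (x.2 : Matrix (Fin 2) (Fin 2) F).trace = 2 :=
    ⟨{x | _}, fun _ => Iff.rfl⟩
  let f : closure S →* SL(2, F) := (MonoidHom.snd G SL(2, F)).comp (closure S).subtype
  have f1 : Function.Surjective f := fun B => by
    obtain ⟨l, hl⟩ := kp_surj2 hS h hd ha hb hab B
    exact ⟨⟨_, hl⟩, rfl⟩
  have f2 : Function.Injective f := (injective_iff_map_eq_one _).2 fun y hy =>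
    Subtype.ext (kp_inj hS h hd ha hb hab hf y.2 hy)
  let ε := MulEquiv.ofBijective f ⟨f2, f1⟩
  obtain ⟨π, p1, p2⟩ : ∃ π : SL(2, F) →* G, (∀ B, (π B, B) ∈ closure S) ∧
      ∀ l B, (l, B) ∈ closure S → l = π B := by
    refine ⟨((MonoidHom.fst G SL(2, F)).comp (closure S).subtype).comp ε.symm.toMonoidHom,
      fun B => ?_, fun l B hl => ?_⟩
    · have := (ε.symm B).2
      rwa [← Prod.mk.eta (p := (ε.symm B).1), show (ε.symm B).1.2 = B from ε.apply_symm_apply B]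
        at this
    · have : ε.symm B = ⟨_, hl⟩ := ε.symm_apply_eq.2 rfl
      show l = (ε.symm B).1.1
      rw [this]
  refine ⟨F, inferInstance, inferInstance, e, π, h, ?_, fun B => (kp_E hS hd (p1 B)).2, fun c => ?_,
    fun u hu => ?_, fun g hg A σ hA B B' hB => ?_⟩
  · refine le_antisymm ?_ fun l hl => ?_
    · rintro _ ⟨B, rfl⟩
      exact (kp_E hS hd (p1 B)).1
    · obtain ⟨B, hB⟩ := kp_surj1 hS h hd ha hb hab hl
      exact ⟨B, (p2 l B hB).symm⟩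
  · obtain ⟨u, hu, uA⟩ := kp_upV h hd ha hb hab c
    rwa [← p2 u (up c) (subset_closure ((hS _).2 ⟨⟨a, ha, hu⟩, uA, kp_up_trace _⟩))]
  · obtain ⟨c, hc⟩ := h.Vt u hu
    exact ⟨c, p2 u _ (subset_closure ((hS _).2 ⟨⟨a, ha, hu⟩, hc, kp_up_trace _⟩))⟩
  · obtain ⟨α, hα⟩ := kp_alpha A σ
    have : (closure S).map ((MulAut.conj g).toMonoidHom.prodMap α) ≤ closure S := by
      rw [MonoidHom.map_closure, closure_le]
      rintro _ ⟨x, hx, rfl⟩
      exact subset_closure (kp_Sconj hS hd hg hA hx ((hα _ _).2 rfl))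
    rw [(hα B B').1 hB]
    exact p2 _ _ (this ⟨_, p1 B, rfl⟩)

theorem kpi_af (hd : LD N Δ V) (hf : FaithV Δ V) (h2 : 2 ≤ Δ.ncard) (h : AfA N Δ V) :
    TrivK Δ V := by
  obtain ⟨a, ha, b, hb, hab⟩ := (Set.one_lt_ncard (Set.toFinite Δ)).1 h2
  obtain ⟨F, _, _, e, h⟩ := h a ha b hb hab
  have hq := h.big
  have cardΔ : Δ.ncard = Fintype.card F := by
    rw [← h.bij.injOn.ncard_image, h.bij.image_eq, Set.ncard_univ,
      Nat.card_eq_fintype_card]
  have inv : ∀ g : Lt Δ V, ∀ x ∈ Δ, (g : G) • x ∈ Δ := fun g => hd.inv _ (hd.Lt_le g.2)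
  have aff : ∀ g : Lt Δ V, e ((g : G) • b) - e ((g : G) • a) ≠ 0 ∧ ∀ x ∈ Δ,
      e ((g : G) • x) = (e ((g : G) • b) - e ((g : G) • a)) * e x + e ((g : G) • a) := fun g => by
    obtain ⟨c, d, h1, h2⟩ := h.Laf g g.2
    rw [h2 a ha, h2 b hb, h.ea, h.eb]
    simpa using ⟨h1, h2⟩
  obtain ⟨l, hl⟩ : ∃ l : Lt Δ V →* Fˣ, ∀ g : Lt Δ V, ∀ x ∈ Δ,
      e ((g : G) • x) = l g * e x + e ((g : G) • a) := by
    refine ⟨MonoidHom.mk' (fun g => Units.mk0 _ (aff g).1) fun g g' => Units.ext ?_,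
      fun g => (aff g).2⟩
    simp only [Units.val_mk0, Units.val_mul, coe_mul, mul_smul]
    rw [(aff g).2 _ (inv g' b hb), (aff g).2 _ (inv g' a ha)]
    ring
  have tr : ∀ g : Lt Δ V, (∀ x ∈ Δ, e ((g : G) • x) = e x + 0) → Tr Δ (g : G) :=
    fun g hg x hx => h.bij.injOn (inv g x hx) hx (by rw [hg x hx, add_zero])
  have cen : ∀ g : Lt Δ V, Tr Δ (g : G) → ∀ y, g * y = y * g := fun g hg y =>
    Subtype.ext (hd.commK hf (hd.Lt_le g.2) hg y.2)
  have sc : ∀ c : F, c ≠ 0 → ∃ v : Lt Δ V, (v : G) ∈ V a ∧ ∀ x ∈ Δ, e ((v : G) • x) = c * e x := by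
    intro c hc
    obtain ⟨x, hx, ex⟩ := h.bij.surjOn (Set.mem_univ c)
    obtain ⟨u, hu, e1⟩ := hd.tr a ha b hb x hx hab.symm (by
      rintro rfl
      exact hc (ex.symm.trans h.ea))
    obtain ⟨d, hd'⟩ := h.Vm u hu
    have := hd' b hb
    rw [e1, ex, h.eb, mul_one] at this
    exact ⟨⟨u, le_Lt ha hu⟩, hu, this ▸ hd'⟩
  intro z hz zt
  have zc : (⟨z, hz⟩ : Lt Δ V) ∈ commutator (Lt Δ V) := by
    obtain ⟨w, hw, h1⟩ := kp_gen (W := V a) (S := {u | ∃ c ∈ Δ, u ∈ V c})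
      (fun u hu => subset_closure ⟨a, ha, hu⟩) (fun u ⟨c, hc, hu⟩ => by
        rw [← kp_Lt]; exact kp_move hd (by omega) ha hb hab hc hu) (kp_Lt Δ V ▸ hz)
    rw [← kp_Lt] at h1
    have h3 : (⟨w, le_Lt ha hw⟩ : Lt Δ V)⁻¹ * ⟨z, hz⟩ ∈ commutator (Lt Δ V) := kp_mem_comm h1
    have h4 : l ((⟨w, le_Lt ha hw⟩ : Lt Δ V)⁻¹ * ⟨z, hz⟩) = 1 :=
      Abelianization.commutator_subset_ker l h3
    have h5 : l ⟨z, hz⟩ = 1 := by
      have := hl ⟨z, hz⟩ b hb
      rw [zt a ha, zt b hb, h.ea, h.eb, mul_one, add_zero] at this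
      exact Units.ext this.symm
    rw [map_mul, h5, mul_one, map_inv, inv_eq_one] at h4
    have h6 : w = 1 := hf a ha w hw (tr ⟨w, le_Lt ha hw⟩ fun x hx => by
      rw [hl _ x hx, h4, hd.fix a ha w hw, h.ea, Units.val_one, one_mul])
    subst h6
    exact kp_mem_comm (by simpa using h1)
  obtain ⟨ω, hω⟩ := IsCyclic.exists_ofOrder_eq_natCard (α := Fˣ)
  rw [Nat.card_units, Nat.card_eq_fintype_card] at hω
  have o1 : ∀ k, 0 < k → k < 7 → (ω : F) ^ k ≠ 1 := fun k k0 k7 hk =>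
    pow_ne_one_of_lt_orderOf k0.ne' (by omega) (Units.ext hk : ω ^ k = 1)
  have e1 := kp_tr l.ker (fun x hx y hy => kp_beta
    (fun d (g : Lt Δ V) => ∀ x ∈ Δ, e ((g : G) • x) = e x + d)
    (fun d => by
      obtain ⟨g, h1, h2⟩ := h.trL d
      exact ⟨⟨g, h1⟩, h2⟩)
    (fun {d d' g g'} h1 h2 x hx => by
      rw [coe_mul, mul_smul, h1 _ (inv g' x hx), h2 x hx]; ring)
    (fun {d g} h1 x hx => by
      have := h1 _ (inv g⁻¹ x hx)
      rw [coe_inv, smul_inv_smul] at this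
      rw [coe_inv, this]; ring)
    (fun {g} h1 => cen g (tr g h1))
    (fun c hc => by
      obtain ⟨v, -, hv⟩ := sc c hc
      refine ⟨v, fun d g h1 x hx => ?_⟩
      have := hv _ (inv v⁻¹ x hx)
      rw [coe_inv, smul_inv_smul] at this
      rw [coe_mul, coe_mul, mul_smul, mul_smul, hv _ (inv g _ (inv v⁻¹ x hx)),
        h1 _ (inv v⁻¹ x hx), mul_add, coe_inv, ← this])
    ω.ne_zero (fun h0 => o1 2 (by norm_num) (by norm_num) (by linear_combination (ω - 1) * h0))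
    (fun h0 => o1 3 (by norm_num) (by norm_num) (by linear_combination (ω - 1) * h0))
    (d := e ((x : G) • a)) (d' := e ((y : G) • a))
    (fun p hp => by rw [hl x p hp, show l x = 1 from hx, Units.val_one, one_mul])
    (fun p hp => by rw [hl y p hp, show l y = 1 from hy, Units.val_one, one_mul]))
    zc (cen _ zt)
  have key : ∀ x ∈ stabilizer (Lt Δ V) a, ∃ v : Lt Δ V, (v : G) ∈ V a ∧ Tr Δ ((v⁻¹ * x : Lt Δ V) : G) := by
    intro x hx
    obtain ⟨v, h1, h2⟩ := sc _ (l x).ne_zero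
    refine ⟨v, h1, fun p hp => ?_⟩
    rw [coe_mul, coe_inv, mul_smul, inv_smul_eq_iff]
    refine h.bij.injOn (inv x p hp) (inv v p hp) ?_
    rw [h2 p hp, hl x p hp, show (x : G) • a = a from hx, h.ea, add_zero]
  have e2 := kp_tr (stabilizer (Lt Δ V) a) (fun x hx y hy => by
    obtain ⟨u, hu, x1⟩ := key x hx
    obtain ⟨v, hv, y1⟩ := key y hy
    have c1 : Commute u v := by
      refine Subtype.ext (eq_of_inv_mul_eq_one (hf a ha _ (mul_mem (inv_mem (mul_mem hu hv))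
        (mul_mem hv hu)) fun p hp => ?_))
      obtain ⟨c, hc⟩ := h.Vm _ hu
      obtain ⟨d, hd'⟩ := h.Vm _ hv
      rw [mul_smul, inv_smul_eq_iff, coe_mul, coe_mul, mul_smul, mul_smul]
      refine h.bij.injOn (inv v _ (inv u p hp)) (inv u _ (inv v p hp)) ?_
      rw [hd' _ (inv u p hp), hc _ (inv v p hp), hc p hp, hd' p hp]
      ring
    have := Commute.mul_left (c1.mul_right (cen _ y1 u).symm) (cen _ x1 (v * (v⁻¹ * y)))
    simpa using this.eq) zc (cen _ zt)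
  have i1 : l.ker.index ∣ Fintype.card F - 1 := by
    rw [index_ker, ← hω, hω, ← Nat.card_eq_fintype_card, ← Nat.card_units]
    exact card_subgroup_dvd_card _
  have i2 : (stabilizer (Lt Δ V) a).index = Fintype.card F := by
    rw [index_stabilizer, ← cardΔ]
    congr 1
    refine Set.Subset.antisymm ?_ fun c hc => ?_
    · rintro _ ⟨g, rfl⟩
      exact inv g a ha
    · obtain ⟨g, h1, h3⟩ := h.trL (e c)
      refine ⟨⟨g, h1⟩, h.bij.injOn (inv ⟨g, h1⟩ a ha) hc ?_⟩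
      show e (g • a) = e c
      rw [h3 a ha, h.ea, zero_add]
  obtain ⟨k, hk⟩ := i1
  have e3 : (⟨z, hz⟩ : Lt Δ V) ^ (Fintype.card F - 1) = 1 := by rw [hk, pow_mul, e1, one_pow]
  rw [i2, ← Nat.sub_add_cancel (by omega : 1 ≤ Fintype.card F), pow_succ, e3, one_mul] at e2
  exact congrArg Subtype.val e2

end H51.HK
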