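import Cfsg.Agent.Lib.HK.KU3a

set_option autoImplicit false
set_option linter.unusedSectionVars false

namespace H71.KU

open MulAction Subgroup H51.HK Cfsg H11.U H8.U3
open scoped commutatorElement

variable {G Ω : Type*} [Group G] [MulAction G Ω] [Finite G] [Finite Ω] {U : Ω → Subgroup G}
  {F : Type} [Field F] [Fintype F] {q : ℕ} [IsSq F q]

set_option hygiene false in
local notation "⟪" u "," v "⟫" => hermForm 3 F q u v

theorem tv_comm {e : Fin 3 → F} (t : F) {u : SU 3 F q} (hu : u ∈ H8.U3.Fx q e) :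
    u * tv q e t * u⁻¹ = tv q e t := by
  rw [conj_tv', mem_Fx.1 hu]

theorem xx_zero {e w f : Fin 3 → F} (h : Fr q e w f) {u : SU 3 F q} (hu : u ∈ H8.U3.Fx q e)
    (hc : ∀ v ∈ H8.U3.Fx q e, u * v = v * u) : xx q w f u = 0 := by
  have key : ∀ y : F, y * cj q (xx q w f u) = xx q w f u * cj q y := by
    intro y
    obtain ⟨c, hc'⟩ := exists_trace_eq (F := F) (q := q) (c := -(y * cj q y))
      (by rw [map_neg, cj_norm])
    obtain ⟨v, hv, h1, h2⟩ := h.exists_Q (x := y) (c := c) (by rw [hc']; ring)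
    have := congrArg (cc q f) (hc v hv)
    rw [h.cc_mul hu hv, h.cc_mul hv hu, h1] at this
    linear_combination -this
  obtain ⟨a, ha⟩ := exists_cj_ne F q
  have h1 := key 1
  have h2 := key a
  rw [map_one, one_mul, mul_one] at h1
  rw [h1] at h2
  have : xx q w f u * (cj q a - a) = 0 := by linear_combination -h2
  exact (mul_eq_zero.1 this).resolve_right (sub_ne_zero.2 ha)

theorem rf_e {e w f : Fin 3 → F} (h : Fr q e w f) : ac (rf q w) e = (-1 : F) • e := by
  rw [ac_rf h.ww, h.ew]; simp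

theorem rf_w {e w f : Fin 3 → F} (h : Fr q e w f) : ac (rf q w) w = w := by
  rw [ac_rf h.ww, h.ww, ← add_smul]; norm_num

theorem rf_not_center (h2 : (2 : F) ≠ 0) {e w f : Fin 3 → F} (h : Fr q e w f) :
    rf q w ∉ center (SU 3 F q) := fun hc =>
  rf_ne_one h2 h.ww (eq_one_of_mem_center hc h.w_ne (rf_w h))

theorem rf_eq_sq {e w f : Fin 3 → F} (h : Fr q e w f) {d : F} (d0 : d ≠ 0) (hd : cj q d = -d) :
    rf q w = (tv q e d * tv q f (-d⁻¹) * tv q e d) * (tv q e d * tv q f (-d⁻¹) * tv q e d) := by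
  have hs : cj q (-d⁻¹) = -(-d⁻¹) := by rw [map_neg, map_inv₀, hd, inv_neg]
  have h1 : ac (tv q e d * tv q f (-d⁻¹) * tv q e d) e = (-d⁻¹) • f := by
    have h3 : ac (tv q e d) e = e := by rw [ac_tv h.ee hd, h.ee]; simp
    have h4 : ac (tv q f (-d⁻¹)) e = e + (-d⁻¹) • f := by rw [ac_tv h.ff hs, h.ef, mul_one]
    rw [ac_mul, ac_mul, h3, h4, ac_tv h.ee hd, form_add_left, form_smul_left, h.ee, h.fe]
    have : d * (0 + -d⁻¹ * 1) = -1 := by field_simp; ring
    rw [this]; module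
  have h2 : ac (tv q e d * tv q f (-d⁻¹) * tv q e d) f = d • e := by
    have h3 : ac (tv q e d) f = f + d • e := by rw [ac_tv h.ee hd, h.fe, mul_one]
    have h4 : ac (tv q f (-d⁻¹)) (f + d • e) = d • e := by
      rw [ac_tv h.ff hs, form_add_left, form_smul_left, h.ff, h.ef]
      have : -d⁻¹ * (0 + d * 1) = -1 := by field_simp; ring
      rw [this]; module
    rw [ac_mul, ac_mul, h3, h4, ac_smul, ac_tv h.ee hd, h.ee]; simp
  have h3 : ac (tv q e d * tv q f (-d⁻¹) * tv q e d) w = w := by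
    simp only [ac_mul, ac_tv h.ee hd, ac_tv h.ff hs, h.we, h.wf, mul_zero, zero_smul, add_zero]
  refine h.ext ?_ ?_ ?_
  · rw [rf_e h, ac_mul, h1, ac_smul, h2, smul_smul]; congr 1; field_simp
  · rw [rf_w h, ac_mul, h3, h3]
  · rw [rf_e h.symm, ac_mul, h2, ac_smul, h1, smul_smul]; congr 1; field_simp

theorem center_cube {z : SU 3 F q} (hz : z ∈ center (SU 3 F q)) : z ^ 3 = 1 := by
  have h1 : (⟨z, hz⟩ : center (SU 3 F q)) ^ 3 = 1 := by
    apply orderOf_dvd_iff_pow_eq_one.1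
    refine (_root_.orderOf_dvd_natCard _).trans ?_
    rw [card_center_SU (by norm_num)]
    exact Nat.gcd_dvd_left _ _
  exact congrArg Subtype.val h1

theorem eq_one_of_fix {v w : Fin 3 → F} (hv : Iso q v) (hvw : ⟪v, w⟫ ≠ 0) {g : SU 3 F q}
    (h1 : g ∈ St q v) (h2 : g ∈ H8.U3.Fx q w) : g = 1 := by
  obtain ⟨a, ha⟩ := h1
  have h3 := form_ac g v w
  rw [ha, mem_Fx.1 h2, form_smul_left] at h3
  have a1 : a = 1 := mul_right_cancel₀ hvw (by rw [h3, one_mul])
  rw [a1, one_smul] at ha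
  obtain ⟨w', f', h⟩ := hv.exists_fr
  obtain ⟨α, β, γ, hw⟩ := h.exists_comb w
  have hγ : γ ≠ 0 := by
    rintro rfl
    apply form_ne_zero_symm hvw
    rw [hw, h.form_e]
  have h4 : ac g w = w := h2
  have h5 : (α - β * cj q (xx q w' f' g) + γ * cc q f' g) • v + (β + γ * xx q w' f' g) • w' +
      γ • f' = α • v + β • w' + γ • f' := by
    rw [← hw, ← h4]
    conv_rhs => rw [hw]
    rw [ac_add, ac_add, ac_smul, ac_smul, ac_smul, ha, h.Q_w ha, h.Q_f ha]
    module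
  obtain ⟨e1, e2, -⟩ := h.comb_inj h5
  have x0 : xx q w' f' g = 0 := by
    have : γ * xx q w' f' g = 0 := by linear_combination e2
    exact (mul_eq_zero.1 this).resolve_left hγ
  have c0 : cc q f' g = 0 := by
    rw [x0, map_zero] at e1
    have : γ * cc q f' g = 0 := by linear_combination e1
    exact (mul_eq_zero.1 this).resolve_left hγ
  exact h.Q_ext ha (one_mem _) (by rw [x0, h.xx_one]) (by rw [c0, h.cc_one])

namespace UM

variable {φ : SU 3 F q →* G} {vec : Ω → Fin 3 → F} (m : UM U φ vec) (h : Cb U)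
include m h

theorem mem_ZV {c : Ω} {z : G} :
    z ∈ ZV Set.univ U c ↔ ∃ t : F, cj q t = -t ∧ z = φ (tv q (vec c) t) := by
  obtain ⟨w, f, fr⟩ := (m.iso c).exists_fr
  constructor
  · rintro ⟨hz, hc⟩
    rw [m.Uc] at hz hc
    obtain ⟨u, hu, rfl⟩ := hz
    have hx : xx q w f u = 0 := by
      refine xx_zero fr hu fun v hv => ?_
      have h1 := (tr_iff h).1 (hc _ (mem_map_of_mem φ hv))
      rw [← map_commutatorElement] at h1
      have := m.inj (m.iso c).1 (mul_mem (mul_mem (mul_mem hu hv) (inv_mem hu)) (inv_mem hv)) h1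
      exact commutatorElement_eq_one_iff_mul_comm.1 this
    exact ⟨_, fr.cj_cc hu hx, congrArg φ (fr.eq_tv hu hx)⟩
  · rintro ⟨t, ht, rfl⟩
    rw [ZV, Set.mem_setOf_eq, m.Uc]
    refine ⟨mem_map_of_mem φ (tv_mem_Fx t (m.iso c).2), ?_⟩
    rintro _ ⟨u, hu, rfl⟩
    rw [tr_iff h, ← map_commutatorElement, commutatorElement_eq_one_iff_mul_comm.2, map_one]
    conv_lhs => rw [← tv_comm t hu]
    simp

omit h in
theorem tv_smul_iff {a b x : Ω} {w : Fin 3 → F} {s : F} (s0 : s ≠ 0)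
    (fr : Fr q (vec a) w (s • vec b)) {t : F} (ht : cj q t = -t) :
    φ (tv q (vec a) t) • b = x ↔ ∃ r : F, t • vec a + s • vec b = r • vec x := by
  have h1 := fr.tv_f ht
  rw [zero_smul, add_zero, ac_smul] at h1
  rw [m.act, ← h1]
  constructor
  · rintro ⟨r, hr⟩
    exact ⟨s * r, by rw [hr, smul_smul]⟩
  · rintro ⟨r, hr⟩
    exact ⟨s⁻¹ * r, by rw [← smul_smul, ← hr, smul_smul, inv_mul_cancel₀ s0, one_smul]⟩

theorem mem_Blk {a b x : Ω} {w : Fin 3 → F} {s : F} (s0 : s ≠ 0)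
    (fr : Fr q (vec a) w (s • vec b)) : x ∈ Blk Set.univ U a b ↔ ⟪vec x, w⟫ = 0 := by
  constructor
  · rintro (rfl | ⟨z, hz, e⟩)
    · exact fr.ew
    · obtain ⟨t, ht, rfl⟩ := (m.mem_ZV h).1 hz
      obtain ⟨r, hr⟩ := (m.tv_smul_iff s0 fr ht).1 e
      have h1 := fr.form_w t 0 1
      have h2 := fr.form_e t 0 1
      rw [zero_smul, add_zero, one_smul, hr, form_smul_left] at h1 h2
      refine (mul_eq_zero.1 h1).resolve_left ?_
      rintro rfl
      simp at h2
  · intro hx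
    obtain ⟨α, β, γ, e⟩ := fr.exists_comb (vec x)
    have hβ : β = 0 := by rw [← fr.form_w α β γ, ← e, hx]
    subst hβ
    by_cases hγ : γ = 0
    · left
      rw [hγ, zero_smul, zero_smul, add_zero, add_zero] at e
      exact m.eq_of_smul e
    · right
      have h1 := (m.iso x).2
      rw [e, fr.form_form] at h1
      have h2 : cj q γ ≠ 0 := cj_ne_zero.2 hγ
      have ht : cj q (α / γ) = -(α / γ) := by
        rw [map_div₀]
        field_simp
        linear_combination h1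
      refine ⟨_, (m.mem_ZV h).2 ⟨_, ht, rfl⟩, (m.tv_smul_iff s0 fr ht).2 ⟨γ⁻¹, ?_⟩⟩
      rw [e, zero_smul, add_zero, smul_add, smul_smul, smul_smul γ⁻¹ γ, inv_mul_cancel₀ hγ, one_smul,
        div_eq_inv_mul]

theorem card_Blk {a b : Ω} (hab : a ≠ b) : (Blk Set.univ U a b).ncard = q + 1 := by
  obtain ⟨w, s, s0, fr⟩ := m.frame hab
  have e : Blk Set.univ U a b =
      insert a ((fun t : F => φ (tv q (vec a) t) • b) '' (TZ F q : Set F)) := by
    ext x
    simp only [Blk, Set.mem_setOf_eq, Set.mem_insert_iff, Set.mem_image, SetLike.mem_coe, mem_TZ,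
      m.mem_ZV h]
    refine or_congr Iff.rfl ⟨?_, ?_⟩
    · rintro ⟨_, ⟨t, ht, rfl⟩, e⟩
      exact ⟨t, ht, e⟩
    · rintro ⟨t, ht, e⟩
      exact ⟨_, ⟨t, ht, rfl⟩, e⟩
  rw [e, Set.ncard_insert_of_notMem, Set.InjOn.ncard_image]
  · exact congrArg (· + 1) (card_TZ (F := F) (q := q))
  · intro t ht t' ht' e
    obtain ⟨r, hr⟩ := (m.tv_smul_iff s0 fr (mem_TZ.1 ht)).1 e
    obtain ⟨r', hr'⟩ := (m.tv_smul_iff s0 fr (mem_TZ.1 ht')).1 rfl
    have h1 := fr.form_e t 0 1
    have h2 := fr.form_e t' 0 1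
    have h3 := fr.form_f t 0 1
    have h4 := fr.form_f t' 0 1
    rw [zero_smul, add_zero, one_smul] at h1 h2 h3 h4
    rw [hr, form_smul_left] at h1 h3
    rw [hr', form_smul_left] at h2 h4
    have : r = r' := by
      have h5 : r * (r' * ⟪vec (φ (tv q (vec a) t') • b), vec a⟫) =
        r' * (r * ⟪vec (φ (tv q (vec a) t') • b), vec a⟫) := by ring
      rw [h1, h2] at h5
      simpa using h5
    exact h3.symm.trans (this ▸ h4)
  · rintro ⟨t, ht, e⟩
    obtain ⟨r, hr⟩ := (m.tv_smul_iff s0 fr (mem_TZ.1 ht)).1 e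
    have h1 := fr.form_e t 0 1
    rw [zero_smul, add_zero, one_smul, hr, form_smul_left, fr.ee] at h1
    simp at h1

theorem two_ne : (2 : F) ≠ 0 := two_ne_zero_of_odd F (odd_q h m)

theorem rf_fix {w : Fin 3 → F} (hw : ⟪w, w⟫ = 1) {x : Ω} : φ (rf q w) • x = x ↔ ⟪vec x, w⟫ = 0 := by
  rw [m.fix_iff, rf_mem_St_iff (m.two_ne h) hw]
  refine ⟨fun h1 => h1.elim ?_ id, Or.inr⟩
  rintro ⟨a, ha⟩
  have h1 := (m.iso x).2
  rw [ha, form_smul_left, form_smul_right, hw, mul_one] at h1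
  have : a = 0 := (mul_eq_zero.1 h1).elim id cj_eq_zero.1
  exact absurd (by rw [ha, this, zero_smul]) (m.iso x).1

theorem inI_iff {a b : Ω} {w : Fin 3 → F} {s : F} (s0 : s ≠ 0)
    (fr : Fr q (vec a) w (s • vec b)) {j : G} : InI Set.univ U a b j ↔ j = φ (rf q w) := by
  have hb : ⟪vec b, w⟫ = 0 := by
    have := fr.fw
    rw [form_smul_left] at this
    exact (mul_eq_zero.1 this).resolve_left s0
  constructor
  · rintro ⟨h1, h2, h3, h4, h5⟩
    rw [tr_iff h] at h4 h5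
    obtain ⟨g, rfl⟩ := m.exists_of_mem h1
    have e3 : φ (g ^ 3) = φ g := by rw [map_pow, pow_succ, pow_two, h4, one_mul]
    have h6 : g ^ 3 * g ^ 3 = 1 := by
      rw [← (Commute.refl g).mul_pow]
      exact center_cube ((m.ker _).1 (by rw [map_mul, h4]))
    obtain ⟨w', hw', e⟩ := exists_rf (m.two_ne h) (t := g ^ 3)
      (fun e => h5 (by rw [← e3, e, map_one])) h6
    rw [← e3, e] at h2 h3 ⊢
    rw [m.rf_fix h hw'] at h2 h3
    congr 1
    refine (rf_eq_iff (m.two_ne h) fr.ww hw').2 ⟨⟪w', w⟫, ?_⟩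
    have h7 := fr.expand w'
    rw [form_eq_zero_symm h2, form_smul_right, form_eq_zero_symm h3] at h7
    simpa using h7
  · rintro rfl
    refine ⟨m.mem_Lt _, (m.rf_fix h fr.ww).2 fr.ew, (m.rf_fix h fr.ww).2 hb, ?_, ?_⟩
    · rw [tr_iff h, ← map_mul, rf_mul_self fr.ww, map_one]
    · rw [tr_iff h, m.ker]
      exact rf_not_center (m.two_ne h) fr

theorem u3p (hr : Reg U) {p : ℕ} (hp : p.Prime) [CharP F p] : U3P Set.univ U p q where
  pr := hp
  pw := dvd_q F q p
  odd := odd_q h m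
  card := by
    have : Nonempty Ω := by
      have := h.three
      exact (Nat.card_pos_iff.1 (by omega)).1
    obtain ⟨a⟩ := this
    obtain ⟨b, hb⟩ := exists_two h a
    have h1 := h.ld.card_V (Set.mem_univ a) (Set.mem_univ b) hb.symm
    have h2 : U a ⊓ stabilizer G b = ⊥ :=
      (eq_bot_iff_forall _).2 fun u hu => hr a b hb u hu.1 hu.2
    rw [h2, card_bot, mul_one, m.card_U] at h1
    have := h.three
    rw [Set.ncard_univ] at h1 ⊢
    omega
  pg := by
    intro c _ u hu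
    have := Fact.mk hp
    rw [m.Uc] at hu
    obtain ⟨x, hx, rfl⟩ := hu
    obtain ⟨k, hk⟩ := isPGroup_Fx p (m.iso c) ⟨x, hx⟩
    refine ⟨k, (tr_iff h).2 ?_⟩
    rw [← map_pow, show x ^ p ^ k = 1 from congrArg Subtype.val hk, map_one]
  blk := fun a _ b _ hab => m.card_Blk h hab
  ex := by
    intro a _ b _ hab
    obtain ⟨w, s, s0, fr⟩ := m.frame hab
    exact ⟨_, (m.inI_iff h s0 fr).2 rfl⟩
  fx := by
    intro a _ b _ hab j hj x _
    obtain ⟨w, s, s0, fr⟩ := m.frame hab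
    rw [(m.inI_iff h s0 fr).1 hj, m.rf_fix h fr.ww, m.mem_Blk h s0 fr]
  inLZ := by
    intro a _ b _ hab j hj
    obtain ⟨w, s, s0, fr⟩ := m.frame hab
    refine ⟨j, ?_, by rw [inv_mul_cancel, tr_iff h]⟩
    obtain ⟨d, d0, hd⟩ := exists_trace_zero F q
    have hs : cj q (-d⁻¹) = -(-d⁻¹) := by rw [map_neg, map_inv₀, hd, inv_neg]
    have h1 : φ (tv q (vec a) d) ∈ LZ Set.univ U a b :=
      subset_closure ⟨a, Or.inl rfl, (m.mem_ZV h).2 ⟨d, hd, rfl⟩⟩
    have h2 : φ (tv q (s • vec b) (-d⁻¹)) ∈ LZ Set.univ U a b := by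
      refine subset_closure ⟨b, Or.inr ⟨1, (m.mem_ZV h).2 ⟨0, by simp, by simp [tv_zero]⟩,
        one_smul _ _⟩, (m.mem_ZV h).2 ⟨_, ?_, congrArg φ (tv_smul (m.iso b).2 hs s)⟩⟩
      rw [map_mul, cj_norm, hs]; ring
    rw [(m.inI_iff h s0 fr).1 hj, rf_eq_sq fr d0 hd]
    simp only [map_mul]
    exact mul_mem (mul_mem (mul_mem h1 h2) h1) (mul_mem (mul_mem h1 h2) h1)
  ell := by
    intro a _ b _ hab j hj
    obtain ⟨w, s, s0, fr⟩ := m.frame hab
    obtain ⟨α, hα⟩ := exists_trace_eq (F := F) (q := q) (c := 1) (map_one _)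
    have h1 : ⟪α • vec a + (0 : F) • w + (1 : F) • s • vec b,
        α • vec a + (0 : F) • w + (1 : F) • s • vec b⟫ = 1 := by
      rw [fr.form_form]; simpa using hα
    obtain ⟨g, hg⟩ := exists_su_norm (n := 3) (by norm_num) (fr.ww.trans h1.symm)
      (by rw [fr.ww]; exact one_ne_zero)
    have hg' : ac g w = α • vec a + (0 : F) • w + (1 : F) • s • vec b := hg
    refine ⟨φ g, m.mem_Lt g, ?_, fun x hx => ?_⟩
    · rw [(m.inI_iff h s0 fr).1 hj, tr_iff h, ← map_inv, ← map_mul, ← map_mul, conj_rf fr.ww, hg',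
        ← map_commutatorElement, commutatorElement_eq_one_iff_commute.2, map_one]
      exact ((commute_rf_rf (m.two_ne h) fr.ww h1).2 (Or.inr (fr.form_w _ _ _))).symm
    · rw [(m.inI_iff h s0 fr).1 hj, ← map_inv, ← map_mul, ← map_mul, conj_rf fr.ww, hg', Ne,
        m.rf_fix h h1]
      rw [m.mem_Blk h s0 fr] at hx
      obtain ⟨β, γ, δ, e⟩ := fr.exists_comb (vec x)
      have hγ : γ = 0 := by rw [← fr.form_w β γ δ, ← e, hx]
      have h2 := (m.iso x).2
      rw [e, fr.form_form] at h2 ⊢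
      rw [hγ] at h2 ⊢
      simp only [map_one, mul_one, zero_mul, add_zero] at h2 ⊢
      intro h3
      have h4 : β = -(δ * cj q α) := by linear_combination h3
      rw [h4, map_neg, map_mul, cj_cj] at h2
      have h5 : δ * cj q δ = 0 := by linear_combination -h2 - δ * cj q δ * hα
      have h6 : δ = 0 := (mul_eq_zero.1 h5).elim id cj_eq_zero.1
      apply (m.iso x).1
      rw [e, h4, hγ, h6]; simp
  semi := by
    intro a _ b _ hab l hl x _ hx hlx
    obtain ⟨w, s, s0, fr⟩ := m.frame hab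
    have hle : LZ Set.univ U a b ≤ (H8.U3.Fx q w).map φ := by
      refine (closure_le _).2 ?_
      rintro z ⟨c, hc, hz⟩
      obtain ⟨t, -, rfl⟩ := (m.mem_ZV h).1 hz
      exact mem_map_of_mem φ (tv_mem_Fx t (form_eq_zero_symm ((m.mem_Blk h s0 fr).1 hc)))
    obtain ⟨g, hg, rfl⟩ := hle hl
    rw [m.mem_Blk h s0 fr] at hx
    rw [tr_iff h, eq_one_of_fix (m.iso x) hx (m.fix_iff.1 hlx) hg, map_one]

end UM

end H71.KU

namespace H51.HK

open MulAction Subgroup Matrix H69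
open scoped MatrixGroups Classical commutatorElement

variable {G Ω : Type*} [Group G] [MulAction G Ω] [Finite G] [Finite Ω]

variable {U : Ω → Subgroup G}

theorem ku3 (h : Cb U) (hr : Reg U) {p : ℕ} (hp : p.Prime) (hS : SylF U p) {F : Type} [Field F]
    [Fintype F] [CharP F p] {q : ℕ} (hF : Fintype.card F = q ^ 2)
    (e : Lt Set.univ U ≃* Cfsg.PSU 3 F q) : U3A Set.univ U := by
  have : H11.U.IsSq F q := ⟨hF⟩
  obtain ⟨φ, vec, m, -⟩ := H71.KU.exists_UM h hr hp hS e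
  exact ⟨p, q, m.u3p h hr hp⟩

end H51.HK
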