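import Cfsg.Agent.Lib.HK.KU3a
import Cfsg.Agent.Lib.MinDeg8.U3Spec
import Cfsg.Agent.Lib.KInf.Comm
import Cfsg.Agent.S2089

set_option autoImplicit false
set_option linter.unusedSectionVars false

namespace H71.KU

open MulAction Subgroup H51.HK Cfsg H11.U H8.U3
open scoped commutatorElement

variable {G Ω : Type*} [Group G] [MulAction G Ω] [Finite G] [Finite Ω] {U : Ω → Subgroup G}
  {F : Type} [Field F] [Fintype F] {q : ℕ} [IsSq F q]

theorem add_eq_top (ho : Odd q) {A : AddSubgroup F}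
    (hA : ∀ l : F, l ≠ 0 → ∀ x ∈ A, cj q l ^ 2 / l * x ∈ A) {x : F} (hx : x ∈ A) (x0 : x ≠ 0) :
    A = ⊤ := by
  obtain ⟨l, l0, hl⟩ := exists_gen (F := F) (q := q)
  have h1 := pow_card_sub_one A (div_ne_zero (pow_ne_zero 2 (cj_ne_zero.2 l0)) l0) (hA l l0)
  set n := Nat.card A - 1 with hn
  have y0 : l ^ n ≠ 0 := pow_ne_zero _ l0
  have h2 : cj q (l ^ n) ^ 2 = l ^ n := by
    rw [div_pow, div_eq_one_iff_eq y0, ← pow_mul, mul_comm, pow_mul, ← map_pow] at h1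
    exact h1
  have h3 : (l ^ n) ^ 2 = cj q (l ^ n) := by
    have := congrArg (cj q) h2
    rwa [map_pow, cj_cj] at this
  have h4 : l ^ (n * 3) = 1 := by
    rw [← h3] at h2
    rw [pow_mul]
    apply mul_right_cancel₀ y0
    linear_combination h2
  have h5 := hl _ h4
  have hF : Nat.card F = q ^ 2 := by rw [Nat.card_eq_fintype_card]; exact IsSq.card_eq
  obtain ⟨r, hr⟩ := A.card_addSubgroup_dvd_card
  have h6 : 1 < Nat.card A := by
    rw [Finite.one_lt_card_iff_nontrivial]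
    exact ⟨⟨⟨x, hx⟩, 0, fun e => x0 (congrArg Subtype.val e)⟩⟩
  have h7 := Nat.le_of_dvd (by omega) h5
  have h8 : Odd r := by
    have : Odd (Nat.card A * r) := by rw [← hr, hF]; exact ho.pow
    exact (Nat.odd_mul.1 this).2
  apply AddSubgroup.eq_top_of_card_eq
  by_contra hne
  have h9 : 3 ≤ r := by
    obtain ⟨k, rfl⟩ := h8
    rcases k with _ | k
    · exact absurd (by omega) hne
    · omega
  have : Nat.card A * 3 ≤ Nat.card A * r := Nat.mul_le_mul_left _ h9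
  omega

theorem Fx_le (ho : Odd q) {e w f : Fin 3 → F} (h : Fr q e w f) {X : Subgroup (SU 3 F q)}
    (hT : ∀ t ∈ St q e, t ∈ St q f → t ∈ X) {u : SU 3 F q} (hu : u ∈ X) (hu' : u ∈ H8.U3.Fx q e)
    (hx : xx q w f u ≠ 0) : H8.U3.Fx q e ≤ X := by
  have tor : ∀ l : F, l ≠ 0 → ∃ t ∈ X, ac t e = l • e := by
    intro l hl
    obtain ⟨t, h1, -, h3⟩ := h.exists_torus hl
    exact ⟨t, hT t ⟨_, h1⟩ ⟨_, h3⟩, h1⟩
  have hS : h.SS X = ⊤ := by
    refine add_eq_top ho (fun l hl x hx => ?_) (h.mem_SS.2 ⟨u, hu, hu', rfl⟩) hx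
    obtain ⟨t, ht, h1⟩ := tor l hl
    exact h.SS_conj ht h1 hx
  obtain ⟨a, ha⟩ := exists_cj_ne F q
  have h0 := h.comm_mem (X := X) (x := 1) (y := a) (by rw [hS]; trivial) (by rw [hS]; trivial)
  rw [map_one, one_mul, mul_one] at h0
  have c0 : cj q a - a ≠ 0 := sub_ne_zero.2 ha
  have hC : ∀ t : F, cj q t = -t → tv q e t ∈ X := by
    intro t ht
    by_cases t0 : t = 0
    · rw [t0, tv_zero]; exact one_mem _
    obtain ⟨s, hs⟩ := exists_norm_eq (q := q) (c := t / (cj q a - a))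
      (by rw [map_div₀, ht, h0.1, neg_div_neg_eq])
    have s0 : s ≠ 0 := by
      rintro rfl
      rw [zero_mul] at hs
      exact div_ne_zero t0 c0 hs.symm
    obtain ⟨g, hg, h1⟩ := tor s s0
    have := CC_conj h.ee hg h1 h0
    rw [hs, div_mul_cancel₀ _ c0] at this
    exact this.2
  intro v hv
  obtain ⟨v', h1, h2, h3⟩ := h.mem_SS.1 (show xx q w f v ∈ h.SS X by rw [hS]; trivial)
  have h4 : xx q w f (v'⁻¹ * v) = 0 := by
    rw [h.xx_mul (inv_mem h2) hv, h.xx_inv h2, h3, neg_add_cancel]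
  have h5 := h.eq_tv (mul_mem (inv_mem h2) hv) h4
  have h6 : v'⁻¹ * v ∈ X := h5 ▸ hC _ (h.cj_cc (mul_mem (inv_mem h2) hv) h4)
  simpa using mul_mem h1 h6

/-- the elements of the stabiliser of `e` whose commutator with `g` is a transvection -/
def cmX (φ : SU 3 F q →* G) {e : Fin 3 → F} (he : Iso q e) (g : G) : Subgroup (SU 3 F q) where
  carrier := {y | y ∈ St q e ∧ ∃ t : F, cj q t = -t ∧ ⁅φ y, g⁆ = φ (tv q e t)}
  one_mem' := ⟨one_mem _, 0, by simp, by simp [tv_zero]⟩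
  mul_mem' := by
    rintro y z ⟨⟨a, ha⟩, s, hs, e1⟩ ⟨hz, t, ht, e2⟩
    have h1 : cj q (a * cj q a * t) = -(a * cj q a * t) := by rw [map_mul, cj_norm, ht]; ring
    refine ⟨mul_mem ⟨a, ha⟩ hz, a * cj q a * t + s, by rw [map_add, h1, hs]; ring, ?_⟩
    rw [← tv_mul he.2 h1 hs, ← tv_smul he.2 ht, ← ha, ← conj_tv', map_mul, map_mul, map_mul,
      map_mul, map_inv, ← e1, ← e2]
    simp only [commutatorElement_def]
    group
  inv_mem' := by
    rintro y ⟨hy, s, hs, e1⟩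
    obtain ⟨a, ha⟩ := inv_mem hy
    have hs' : cj q (-s) = -(-s) := by rw [map_neg, hs]
    refine ⟨inv_mem hy, a * cj q a * (-s), by rw [map_mul, cj_norm, hs']; ring, ?_⟩
    rw [← tv_smul he.2 hs', ← ha, ← conj_tv', ← tv_inv, inv_inv, map_mul, map_mul, map_inv, map_inv, ← e1]
    simp only [commutatorElement_def]
    group

theorem UM.o12 {φ : SU 3 F q →* G} {vec : Ω → Fin 3 → F} (m : UM U φ vec) (h : Cb U) {p : ℕ}
    (hp : p.Prime) [CharP F p] : O12 U p := by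
  have := Fact.mk hp
  intro a b hab g hg ⟨k, hk⟩ hc
  obtain ⟨w, s, s0, fr⟩ := m.frame hab
  have ho := odd_q h m
  rw [mem_Hb] at hg
  rcases hc with hc | hc
  · obtain ⟨x, rfl⟩ := m.exists_of_mem hc
    have h1 := pow_mem_Fx (m.iso a).1 (m.fix_iff.1 hg.1)
    have h2 : x ^ (q ^ 2 - 1) = 1 := by
      by_contra hne
      obtain ⟨r, hr⟩ := eq_smul_of_fix (m.iso a) (m.iso b) h1 hne
        (pow_mem (m.fix_iff.1 hg.2) _)
      exact hab (m.eq_of_smul hr).symm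
    have h3 : φ x ^ (q ^ 2 - 1) = 1 := by rw [← map_pow, h2, map_one]
    have h4 : Nat.Coprime (p ^ k) (q ^ 2 - 1) :=
      ((Nat.Prime.coprime_iff_not_dvd hp).2 (not_dvd_sq_sub F q p)).pow_left k
    have := pow_gcd_eq_one.2 ⟨hk, h3⟩
    rwa [h4.gcd_eq_one, pow_one] at this
  have tor : ∀ t ∈ St q (vec a), t ∈ St q (s • vec b) → g * φ t = φ t * g := by
    intro t h1 h2
    rw [St_smul s0] at h2
    exact hc _ (m.mem_Lt t) (mem_Hb.2 ⟨m.fix_iff.2 h1, m.fix_iff.2 h2⟩)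
  have hU : IsPGroup p (U a) := by
    rw [m.Uc]; exact (isPGroup_Fx p (m.iso a)).map φ
  have hz : IsPGroup p (zpowers g) := by
    refine IsPGroup.of_card_dvd_pow (n := k) ?_
    rw [Nat.card_zpowers]
    exact orderOf_dvd_of_pow_eq_one hk
  have hn : zpowers g ≤ normalizer (U a : Set G) := by
    rw [zpowers_le]
    refine mem_normalizer_fintype fun u hu => ?_
    have := h.ld.cj g (mem_top _) a (Set.mem_univ _) u hu
    rwa [hg.1] at this
  obtain ⟨c1, hc1⟩ := exists_trace_eq (F := F) (q := q) (c := -(1 * cj q 1)) (by simp)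
  have hnle : ¬ U a ≤ (tvGroup q (vec a)).map φ := by
    obtain ⟨u, hu, h1, -⟩ := fr.exists_Q (x := 1) (c := c1) (by rw [hc1]; ring)
    intro hle
    obtain ⟨_, ⟨t, rfl⟩, e⟩ := hle (by rw [m.Uc]; exact mem_map_of_mem φ hu)
    have h2 := tv_mem_Fx (q := q) t (m.iso a).2
    have h3 := m.inj (m.iso a).1 (mul_mem (inv_mem h2) hu) (by rw [map_mul, map_inv, e]; simp)
    rw [inv_mul_eq_one] at h3
    rw [← h3] at h1
    by_cases ht : cj q t = -t
    · rw [fr.xx_tv ht] at h1; exact zero_ne_one h1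
    · rw [tv_of_not fun h => ht h.2, fr.xx_one] at h1; exact zero_ne_one h1
  obtain ⟨x, hx, h1, h2⟩ := H57.exists_fixed_mod_of_isPGroup
    (IsPGroup.to_sup_of_normal_left' hU hz hn) le_sup_left le_sup_right hn hnle
  rw [m.Uc] at hx
  obtain ⟨u, hu, rfl⟩ := hx
  have h3 : xx q w (s • vec b) u ≠ 0 := fun e =>
    h1 (mem_map_of_mem φ ⟨_, fr.eq_tv hu e⟩)
  have h4 : u ∈ cmX φ (m.iso a) g := by
    obtain ⟨_, ⟨t, rfl⟩, e⟩ := h2 g (mem_zpowers g)
    refine ⟨Fx_le_St _ hu, ?_⟩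
    by_cases ht : cj q t = -t
    · exact ⟨t, ht, e.symm⟩
    · exact ⟨0, by simp, by rw [← e, tv_of_not fun h => ht h.2, tv_zero]⟩
  have h5 := Fx_le ho fr (X := cmX φ (m.iso a) g) (fun t h1 h2 => ⟨h1, 0, by simp, by
    rw [tv_zero, map_one, commutatorElement_eq_one_iff_mul_comm, tor t h1 h2]⟩) h4 hu h3
  have h6 : ∀ y : F, ∃ v ∈ H8.U3.Fx q (vec a), xx q w (s • vec b) v = y ∧
      ∃ t : TZ F q, ⁅φ v, g⁆ = φ (tv q (vec a) t) := by
    intro y
    obtain ⟨c, hc'⟩ := exists_trace_eq (F := F) (q := q) (c := -(y * cj q y))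
      (by rw [map_neg, cj_norm])
    obtain ⟨v, hv, h1, -⟩ := fr.exists_Q (x := y) (c := c) (by rw [hc']; ring)
    obtain ⟨-, t, ht, e⟩ := h5 hv
    exact ⟨v, hv, h1, ⟨t, ht⟩, e⟩
  choose v v1 v2 t v3 using h6
  have h7 : ¬ Function.Injective t := by
    intro hi
    have h8 := Nat.card_le_card_of_injective t hi
    rw [card_TZ, Nat.card_eq_fintype_card, IsSq.card_eq (q := q)] at h8
    have := two_le_q F q
    nlinarith
  obtain ⟨y, z, e, hyz⟩ := Function.not_injective_iff.1 h7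
  have h8 : (v z)⁻¹ * v y ∈ (centralizer {g}).comap φ := by
    have e1 : ⁅φ (v y), g⁆ = ⁅φ (v z), g⁆ := by rw [v3, v3, e]
    simp only [commutatorElement_def, mul_left_inj] at e1
    rw [mem_comap, mem_centralizer_singleton_iff, map_mul, map_inv]
    calc (φ (v z))⁻¹ * φ (v y) * g = (φ (v z))⁻¹ * (φ (v y) * g * (φ (v y))⁻¹) * φ (v y) := by group
      _ = g * ((φ (v z))⁻¹ * φ (v y)) := by rw [e1]; group
  have h9 := Fx_le ho fr (X := (centralizer {g}).comap φ)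
    (fun t h1 h2 => mem_centralizer_singleton_iff.2 (tor t h1 h2).symm) h8
    (mul_mem (inv_mem (v1 z)) (v1 y)) (by
      rw [fr.xx_mul (inv_mem (v1 z)) (v1 y), fr.xx_inv (v1 z), v2, v2]
      exact fun e => hyz (neg_add_eq_zero.1 e).symm)
  refine h.eq_one hab (mem_Hb.2 hg) fun u hu => ?_
  rw [m.Uc] at hu
  obtain ⟨x, hx, rfl⟩ := hu
  exact (mem_centralizer_singleton_iff.1 (h9 hx)).symm

theorem oddM {X : Type*} [Group X] (hF : Fintype.card F = q ^ 2) (ho : Odd q)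
    (e : X ≃* PSU 3 F q) : OddM X := by
  intro E _ _ f hf
  have hq : ¬ (3 = 3 ∧ q = 2) := by
    rintro ⟨-, rfl⟩
    exact absurd ho (by decide)
  have hk : (e.toMonoidHom.comp f).ker = f.ker := by
    ext x
    simp
  obtain ⟨π, hπ⟩ := (Cfsg.Agent.S2089.result 3 q hF le_rfl hq (by simp)).2 E
    (e.toMonoidHom.comp f) ⟨e.surjective.comp hf.1, hk ▸ hf.2.1, hk ▸ hf.2.2⟩
  have h1 := card_dvd_of_surjective π hπ
  rw [hk, Nat.card_congr Multiplicative.toAdd, Nat.card_zmod] at h1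
  exact Odd.of_dvd_nat (by decide : Odd 3) (h1.trans (Nat.gcd_dvd_left _ _))

end H71.KU

namespace H51.HK

open MulAction Subgroup Matrix H69
open scoped MatrixGroups Classical commutatorElement

variable {G Ω : Type*} [Group G] [MulAction G Ω] [Finite G] [Finite Ω]

variable {U : Ω → Subgroup G}

theorem ku3b (h : Cb U) (hr : Reg U) {p : ℕ} (hp : p.Prime) (hS : SylF U p) {F : Type} [Field F]
    [Fintype F] [CharP F p] {q : ℕ} (hF : Fintype.card F = q ^ 2)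
    (e : Lt Set.univ U ≃* Cfsg.PSU 3 F q) : OddM (Lt Set.univ U) ∧ O12 U p := by
  have : H11.U.IsSq F q := ⟨hF⟩
  obtain ⟨φ, vec, m, -⟩ := H71.KU.exists_UM h hr hp hS e
  exact ⟨H71.KU.oddM hF (H71.KU.odd_q h m) e, m.o12 h hp⟩

end H51.HK
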