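import Cfsg.Agent.Lib.HK.Bas
import Cfsg.Agent.Lib.Core.Fitting

/-! Passage to the faithful image on `Δ` and to the group generated by the root groups. -/

set_option autoImplicit false
set_option linter.unusedSectionVars false

namespace H51.HK

open MulAction Subgroup Matrix H69
open scoped Classical commutatorElement

variable {G Ω : Type} [Group G] [MulAction G Ω] [Finite G] [Finite Ω]
  {N : Subgroup G} {Δ : Set Ω} {V : Ω → Subgroup G} {n : ℕ}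

namespace Lf

variable {X : Type} [Group X] [MulAction X Δ] {f : N →* X}

/-- `f` maps `N` onto a group that acts on `Δ` in the same way -/
structure Im (V : Ω → Subgroup G) (f : N →* X) : Prop where
  hd : LD N Δ V
  surj : Function.Surjective f
  act : ∀ (g : N) (x : Δ), ((f g • x : Δ) : Ω) = (g : G) • (x : Ω)
  faith : ∀ g : X, (∀ x : Δ, g • x = x) → g = 1

/-- the images of the root groups -/
def W (V : Ω → Subgroup G) (f : N →* X) (c : Δ) : Subgroup X := ((V c).subgroupOf N).map f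

/-- coordinates extended to `Ω` -/
noncomputable def ex {T : Type} (e : Δ → T) (t : T) (x : Ω) : T := if h : x ∈ Δ then e ⟨x, h⟩ else t

theorem ex_eq {T : Type} (e : Δ → T) (t : T) {x : Ω} (h : x ∈ Δ) : ex e t x = e ⟨x, h⟩ := dif_pos h

theorem ex_bij {T : Type} {e : Δ → T} (t : T) (h : Set.BijOn e Set.univ Set.univ) :
    Set.BijOn (ex e t) Δ Set.univ := by
  refine ⟨fun _ _ => trivial, fun x hx y hy hxy => ?_, fun y _ => ?_⟩
  · rw [ex_eq e t hx, ex_eq e t hy] at hxy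
    exact congrArg Subtype.val (h.injOn trivial trivial hxy)
  · obtain ⟨x, -, rfl⟩ := h.surjOn (Set.mem_univ y)
    exact ⟨x, x.2, ex_eq e t x.2⟩

theorem memW {c : Δ} {x : X} : x ∈ W V f c ↔ ∃ g : N, (g : G) ∈ V c ∧ f g = x := Iff.rfl

theorem clo {S : Set G} {S' : Set X} (hS : ∀ s ∈ S, s ∈ N)
    (hS' : ∀ x, x ∈ S' ↔ ∃ g : N, (g : G) ∈ S ∧ f g = x) {x : X} :
    x ∈ closure S' ↔ ∃ g : N, (g : G) ∈ closure S ∧ f g = x := by
  have e1 : S' = f '' (N.subtype ⁻¹' S) := Set.ext fun x => hS' x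
  have e2 : closure S = (closure (N.subtype ⁻¹' S)).map N.subtype := by
    rw [MonoidHom.map_closure, Set.image_preimage_eq_of_subset]
    exact fun s hs => ⟨⟨s, hS s hs⟩, rfl⟩
  rw [e1, ← MonoidHom.map_closure, e2]
  constructor
  · rintro ⟨g, hg, rfl⟩
    exact ⟨g, ⟨g, hg, rfl⟩, rfl⟩
  · rintro ⟨g, ⟨g', hg, e⟩, rfl⟩
    exact ⟨g, Subtype.ext e ▸ hg, rfl⟩

theorem Lt_clo {H Λ : Type} [Group H] (D : Set Λ) (P : Λ → Subgroup H) :
    Lt D P = closure {x | ∃ c ∈ D, x ∈ P c} := by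
  refine le_antisymm (iSup₂_le fun c hc x hx => subset_closure ⟨c, hc, hx⟩) ((closure_le _).2 ?_)
  rintro x ⟨c, hc, hx⟩
  exact (le_iSup₂ (f := fun c (_ : c ∈ D) => P c) c hc) hx

namespace Im

variable (h : Im (Δ := Δ) V f)
include h

theorem act' (g : N) {x : Ω} (hx : x ∈ Δ) :
    f g • (⟨x, hx⟩ : Δ) = ⟨(g : G) • x, h.hd.inv g g.2 x hx⟩ := Subtype.ext (h.act g _)

theorem eq_iff (g : N) (x y : Δ) : f g • x = y ↔ (g : G) • (x : Ω) = y := by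
  rw [Subtype.ext_iff, h.act]

theorem tr (g : N) : Tr (Set.univ : Set Δ) (f g) ↔ Tr Δ (g : G) :=
  ⟨fun t x hx => (h.eq_iff g ⟨x, hx⟩ ⟨x, hx⟩).1 (t _ trivial),
    fun t x _ => (h.eq_iff g x x).2 (t x x.2)⟩

theorem one_iff (g : N) : f g = 1 ↔ Tr Δ (g : G) := by
  rw [← h.tr]
  exact ⟨fun e x _ => by rw [e, one_smul], fun t => h.faith _ fun x => t x trivial⟩

theorem memL {x : X} :
    x ∈ Lt (Set.univ : Set Δ) (W V f) ↔ ∃ g : N, (g : G) ∈ Lt Δ V ∧ f g = x := by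
  rw [Lt_clo, Lt_clo]
  refine clo (by rintro s ⟨c, hc, hs⟩; exact h.hd.le c hc hs) fun x => ⟨?_, ?_⟩
  · rintro ⟨c, -, g, hg, rfl⟩
    exact ⟨g, ⟨c, c.2, hg⟩, rfl⟩
  · rintro ⟨g, ⟨c, hc, hg⟩, rfl⟩
    exact ⟨⟨c, hc⟩, trivial, g, hg, rfl⟩

theorem toL {g : N} (hg : (g : G) ∈ Lt Δ V) : f g ∈ Lt (Set.univ : Set Δ) (W V f) :=
  h.memL.2 ⟨g, hg, rfl⟩

theorem cb (h3 : 3 ≤ Δ.ncard) : Cb (W V f : Δ → Subgroup X) where
  ld :=
    { inv := fun _ _ _ _ => trivial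
      le := fun _ _ => le_top
      fix := by
        rintro c - _ ⟨g, hg, rfl⟩
        exact (h.eq_iff g c c).2 (h.hd.fix c c.2 g hg)
      cj := by
        rintro x - c - _ ⟨u, hu, rfl⟩
        obtain ⟨g, rfl⟩ := h.surj x
        refine ⟨g * u * g⁻¹, ?_, by simp⟩
        have := h.hd.cj g g.2 c c.2 u hu
        rw [← h.act] at this
        exact this
      tr := fun c _ x _ y _ hx hy => by
        obtain ⟨u, hu, e⟩ := h.hd.tr c c.2 x x.2 y y.2 (fun e => hx (Subtype.ext e))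
          (fun e => hy (Subtype.ext e))
        exact ⟨f ⟨u, h.hd.le c c.2 hu⟩, ⟨_, hu, rfl⟩, (h.eq_iff _ x y).2 e⟩
      nil := fun c _ => by
        have := h.hd.nil c c.2
        have := Group.nilpotent_of_mulEquiv (subgroupOfEquivOfLe (h.hd.le c c.2)).symm
        exact Group.nilpotent_of_surjective _ (f.subgroupMap_surjective _)
      odd := fun c _ => by
        have := h.hd.odd c c.2
        rw [← Nat.card_congr (subgroupOfEquivOfLe (h.hd.le c c.2)).toEquiv] at this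
        exact this.of_dvd_nat (card_map_dvd _ f) }
  faith := h.faith
  three := by rwa [Nat.card_coe_set_eq]

theorem reg (r : RegOn (Set.univ : Set Δ) (W V f)) : RegOn Δ V := fun c hc u hu x hx hxc e =>
  (h.tr ⟨u, h.hd.le c hc hu⟩).1 (r ⟨c, hc⟩ trivial _ ⟨_, hu, rfl⟩ ⟨x, hx⟩ trivial
    (fun e => hxc (congrArg Subtype.val e)) ((h.eq_iff _ _ _).2 e))

theorem ex_iff {T : Type} (e : Δ → T) (t : T) (g : N) (φ : T → T) :
    (∀ x ∈ (Set.univ : Set Δ), e (f g • x) = φ (e x)) ↔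
      ∀ x ∈ Δ, ex e t ((g : G) • x) = φ (ex e t x) := by
  refine ⟨fun a x hx => ?_, fun a x _ => ?_⟩
  · rw [ex_eq e t hx, ex_eq e t (h.hd.inv g g.2 x hx), ← h.act', a _ trivial]
  · have := a x x.2
    rwa [ex_eq e t x.2, ex_eq e t (h.hd.inv g g.2 x x.2), ← h.act'] at this

theorem act_iff {F : Type} [Field F] (e : Δ → OnePoint F) (g : N) (A : GL (Fin 2) F) (σ : F ≃+* F) :
    Act e Set.univ (f g) A σ ↔ Act (ex e OnePoint.infty) Δ (g : G) A σ :=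
  h.ex_iff e _ g fun y => A • OnePoint.map σ y

theorem l2a (r : L2A ⊤ (Set.univ : Set Δ) (W V f)) : L2A N Δ V := fun a ha b hb hab => by
  obtain ⟨F, _, _, e, r⟩ := r ⟨a, ha⟩ trivial ⟨b, hb⟩ trivial fun e => hab (congrArg Subtype.val e)
  refine ⟨F, inferInstance, inferInstance, ex e OnePoint.infty, r.odd, ex_bij _ r.bij,
    (ex_eq _ _ ha).trans r.ea, (ex_eq _ _ hb).trans r.eb, fun u hu => ?_, fun g hg => ?_,
    fun B => ?_, fun g hg => ?_⟩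
  · obtain ⟨c, hc⟩ := r.Vt (f ⟨u, h.hd.le a ha hu⟩) ⟨_, hu, rfl⟩
    exact ⟨c, (h.act_iff e _ _ _).1 hc⟩
  · obtain ⟨B, hB⟩ := r.Lsl (f ⟨g, h.hd.Lt_le hg⟩) (h.toL hg)
    exact ⟨B, (h.act_iff e _ _ _).1 hB⟩
  · obtain ⟨x, hx, hB⟩ := r.slL B
    obtain ⟨g, hg, rfl⟩ := h.memL.1 hx
    exact ⟨g, hg, (h.act_iff e _ _ _).1 hB⟩
  · obtain ⟨A, σ, hA⟩ := r.Ngl (f ⟨g, hg⟩) trivial
    exact ⟨A, σ, (h.act_iff e _ _ _).1 hA⟩

theorem afa (r : AfA ⊤ (Set.univ : Set Δ) (W V f)) : AfA N Δ V := fun a ha b hb hab => by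
  obtain ⟨F, _, _, e, r⟩ := r ⟨a, ha⟩ trivial ⟨b, hb⟩ trivial fun e => hab (congrArg Subtype.val e)
  refine ⟨F, inferInstance, inferInstance, ex e 0, r.two, r.big, ex_bij _ r.bij,
    (ex_eq _ _ ha).trans r.ea, (ex_eq _ _ hb).trans r.eb, fun u hu => ?_, fun g hg => ?_,
    fun d => ?_, fun g hg => ?_⟩
  · obtain ⟨c, hc⟩ := r.Vm (f ⟨u, h.hd.le a ha hu⟩) ⟨_, hu, rfl⟩
    exact ⟨c, (h.ex_iff e 0 _ fun y => c * y).1 hc⟩
  · obtain ⟨c, d, h0, hc⟩ := r.Laf (f ⟨g, h.hd.Lt_le hg⟩) (h.toL hg)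
    exact ⟨c, d, h0, (h.ex_iff e 0 _ fun y => c * y + d).1 hc⟩
  · obtain ⟨x, hx, hB⟩ := r.trL d
    obtain ⟨g, hg, rfl⟩ := h.memL.1 hx
    exact ⟨g, hg, (h.ex_iff e 0 _ fun y => y + d).1 hB⟩
  · obtain ⟨c, d, σ, h0, hc⟩ := r.Naf (f ⟨g, hg⟩) trivial
    exact ⟨c, d, σ, h0, (h.ex_iff e 0 _ fun y => c * σ y + d).1 hc⟩

theorem tr_comm (g k : N) : Tr (Set.univ : Set Δ) ⁅f g, f k⁆ ↔ Tr Δ ⁅(g : G), (k : G)⁆ := by
  rw [← map_commutatorElement, h.tr]; rfl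

theorem memZ {c : Δ} {x : X} :
    x ∈ ZV (Set.univ : Set Δ) (W V f) c ↔ ∃ g : N, (g : G) ∈ ZV Δ V c ∧ f g = x := by
  constructor
  · rintro ⟨⟨g, hg, rfl⟩, t⟩
    exact ⟨g, ⟨hg, fun u hu => (h.tr_comm g ⟨u, h.hd.le c c.2 hu⟩).1 (t _ ⟨_, hu, rfl⟩)⟩, rfl⟩
  · rintro ⟨g, ⟨hg, t⟩, rfl⟩
    refine ⟨⟨g, hg, rfl⟩, ?_⟩
    rintro _ ⟨u, hu, rfl⟩
    exact (h.tr_comm g u).2 (t u hu)

theorem memB {a b x : Δ} : x ∈ Blk (Set.univ : Set Δ) (W V f) a b ↔ (x : Ω) ∈ Blk Δ V a b := by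
  refine or_congr Subtype.ext_iff ⟨?_, ?_⟩
  · rintro ⟨z, hz, e⟩
    obtain ⟨g, hg, rfl⟩ := h.memZ.1 hz
    exact ⟨g, hg, (h.eq_iff _ _ _).1 e⟩
  · rintro ⟨z, hz, e⟩
    exact ⟨f ⟨z, h.hd.le a a.2 hz.1⟩, h.memZ.2 ⟨_, hz, rfl⟩, (h.eq_iff _ _ _).2 e⟩

theorem blk_sub {a b x : Ω} (ha : a ∈ Δ) (hb : b ∈ Δ) (hx : x ∈ Blk Δ V a b) : x ∈ Δ := by
  rcases hx with rfl | ⟨z, hz, rfl⟩
  exacts [ha, h.hd.inv z (h.hd.le a ha hz.1) b hb]

theorem memLZ {a b : Δ} {x : X} :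
    x ∈ LZ (Set.univ : Set Δ) (W V f) a b ↔ ∃ g : N, (g : G) ∈ LZ Δ V a b ∧ f g = x := by
  refine clo (by rintro s ⟨c, hc, hs⟩; exact h.hd.le c (h.blk_sub a.2 b.2 hc) hs.1)
    fun x => ⟨?_, ?_⟩
  · rintro ⟨c, hc, hx⟩
    obtain ⟨g, hg, rfl⟩ := h.memZ.1 hx
    exact ⟨g, ⟨c, h.memB.1 hc, hg⟩, rfl⟩
  · rintro ⟨g, ⟨c, hc, hg⟩, rfl⟩
    exact ⟨⟨c, h.blk_sub a.2 b.2 hc⟩, h.memB.2 hc, h.memZ.2 ⟨g, hg, rfl⟩⟩

theorem LZ_le {a b : Ω} (ha : a ∈ Δ) (hb : b ∈ Δ) : LZ Δ V a b ≤ N :=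
  (closure_le _).2 fun _ ⟨c, hc, hs⟩ => h.hd.le c (h.blk_sub ha hb hc) hs.1

theorem memLS {j : N} {x : X} :
    x ∈ LS (Set.univ : Set Δ) (W V f) (f j) ↔ ∃ g : N, (g : G) ∈ LS Δ V j ∧ f g = x := by
  refine clo (by rintro s ⟨c, hc, _, hs, _⟩; exact h.hd.le c hc hs) fun x => ⟨?_, ?_⟩
  · rintro ⟨c, -, e, ⟨g, hg, rfl⟩, t⟩
    exact ⟨g, ⟨c, c.2, (h.eq_iff _ _ _).1 e, hg, (h.tr_comm _ _).1 t⟩, rfl⟩
  · rintro ⟨g, ⟨c, hc, e, hg, t⟩, rfl⟩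
    exact ⟨⟨c, hc⟩, trivial, (h.eq_iff _ _ _).2 e, ⟨g, hg, rfl⟩, (h.tr_comm _ _).2 t⟩

theorem LS_le (j : G) : LS Δ V j ≤ N :=
  (closure_le _).2 fun _ ⟨c, hc, _, hs, _⟩ => h.hd.le c hc hs

theorem toI {a b : Ω} (ha : a ∈ Δ) (hb : b ∈ Δ) {j : N} (i : InI Δ V a b j) :
    InI (Set.univ : Set Δ) (W V f) ⟨a, ha⟩ ⟨b, hb⟩ (f j) :=
  ⟨h.toL i.1, (h.eq_iff _ _ _).2 i.2.1, (h.eq_iff _ _ _).2 i.2.2.1,
    by rw [← map_mul, h.tr]; exact i.2.2.2.1, by rw [h.tr]; exact i.2.2.2.2⟩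

theorem ofI {a b : Δ} {x : X} (i : InI (Set.univ : Set Δ) (W V f) a b x) :
    ∃ j, InI Δ V a b j := by
  obtain ⟨h1, h2, h3, h4, h5⟩ := i
  obtain ⟨g, hg, rfl⟩ := h.memL.1 h1
  rw [← map_mul, h.tr] at h4
  rw [h.tr] at h5
  exact ⟨g, hg, (h.eq_iff _ _ _).1 h2, (h.eq_iff _ _ _).1 h3, h4, h5⟩

omit h in
theorem ncard_eq {S : Set Ω} {S' : Set Δ} (h1 : ∀ x ∈ S, x ∈ Δ) (h2 : ∀ x : Δ, x ∈ S' ↔ (x : Ω) ∈ S) :
    S.ncard = S'.ncard := by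
  rw [← Set.ncard_image_of_injective S' Subtype.val_injective]
  congr 1
  ext x
  exact ⟨fun hx => ⟨⟨x, h1 x hx⟩, (h2 _).2 hx, rfl⟩, fun ⟨y, hy, e⟩ => e ▸ (h2 y).1 hy⟩

theorem pg {p : ℕ} (r : ∀ c ∈ (Set.univ : Set Δ), ∀ u ∈ W V f c, ∃ k,
    Tr (Set.univ : Set Δ) (u ^ p ^ k)) : ∀ c ∈ Δ, ∀ u ∈ V c, ∃ k, Tr Δ (u ^ p ^ k) := fun c hc u hu => by
  obtain ⟨k, t⟩ := r ⟨c, hc⟩ trivial (f ⟨u, h.hd.le c hc hu⟩) ⟨_, hu, rfl⟩
  rw [← map_pow, h.tr] at t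
  exact ⟨k, t⟩

theorem u3a (r : U3A (Set.univ : Set Δ) (W V f)) : U3A Δ V := by
  obtain ⟨p, q, r⟩ := r
  have ne : ∀ {a b : Ω} (ha : a ∈ Δ) (hb : b ∈ Δ), a ≠ b → (⟨a, ha⟩ : Δ) ≠ ⟨b, hb⟩ :=
    fun _ _ hab e => hab (congrArg Subtype.val e)
  refine ⟨p, q, r.pr, r.pw, r.odd, ?_, h.pg r.pg, fun a ha b hb hab => ?_, fun a ha b hb hab => ?_,
    fun a ha b hb hab j i x hx => ?_, fun a ha b hb hab j i => ?_, fun a ha b hb hab j i => ?_,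
    fun a ha b hb hab l hl x hx hxb e => ?_⟩
  · rw [← r.card, Set.ncard_univ, Nat.card_coe_set_eq]
  · rw [← r.blk _ trivial _ trivial (ne ha hb hab)]
    exact ncard_eq (fun x => h.blk_sub ha hb) fun x => h.memB
  · obtain ⟨x, i⟩ := r.ex _ trivial _ trivial (ne ha hb hab)
    exact h.ofI i
  · have := r.fx _ trivial _ trivial (ne ha hb hab) _
      (h.toI ha hb (j := ⟨j, h.hd.Lt_le i.1⟩) i) ⟨x, hx⟩ trivial
    rwa [h.eq_iff, h.memB] at this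
  · obtain ⟨x, hx, t⟩ := r.inLZ _ trivial _ trivial (ne ha hb hab) _
      (h.toI ha hb (j := ⟨j, h.hd.Lt_le i.1⟩) i)
    obtain ⟨g, hg, rfl⟩ := h.memLZ.1 hx
    rw [← map_inv, ← map_mul, h.tr] at t
    exact ⟨g, hg, t⟩
  · obtain ⟨x, hx, t, s⟩ := r.ell _ trivial _ trivial (ne ha hb hab) _
      (h.toI ha hb (j := ⟨j, h.hd.Lt_le i.1⟩) i)
    obtain ⟨g, hg, rfl⟩ := h.memL.1 hx
    rw [← map_inv, ← map_mul, ← map_mul] at t s
    rw [h.tr_comm] at t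
    exact ⟨g, hg, t, fun y hy e =>
      s ⟨y, h.blk_sub ha hb hy⟩ (h.memB.2 hy) ((h.eq_iff _ _ _).2 e)⟩
  · exact (h.tr ⟨l, h.LZ_le ha hb hl⟩).1 (r.semi _ trivial _ trivial (ne ha hb hab) _
      (h.memLZ.2 ⟨_, hl, rfl⟩) ⟨x, hx⟩ trivial (fun b => hxb (h.memB.1 b)) ((h.eq_iff _ _ _).2 e))

theorem rea (r : ReA ⊤ (Set.univ : Set Δ) (W V f)) : ReA N Δ V := by
  obtain ⟨q, r⟩ := r
  have ne : ∀ {a b : Ω} (ha : a ∈ Δ) (hb : b ∈ Δ), a ≠ b → (⟨a, ha⟩ : Δ) ≠ ⟨b, hb⟩ :=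
    fun _ _ hab e => hab (congrArg Subtype.val e)
  refine ⟨q, r.pw, ?_, h.pg r.pg, fun a ha b hb hab => ?_, fun a ha b hb hab j i => ?_,
    fun a ha b hb hab j i g hg ga gb k t => ?_, fun g hg g' hg' t t' s s' => ?_,
    fun g hg i t => ?_, fun a ha b hb hab j i g hg s => ?_⟩
  · rw [← r.card, Set.ncard_univ, Nat.card_coe_set_eq]
  · obtain ⟨x, i⟩ := r.ex _ trivial _ trivial (ne ha hb hab)
    exact h.ofI i
  · rw [← r.fx _ trivial _ trivial (ne ha hb hab) _ (h.toI ha hb (j := ⟨j, h.hd.Lt_le i.1⟩) i)]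
    exact ncard_eq (fun x hx => hx.1) fun x =>
      ⟨fun e => ⟨x.2, (h.eq_iff _ _ _).1 e.2⟩, fun e => ⟨trivial, (h.eq_iff _ _ _).2 e.2⟩⟩
  · have := r.two _ trivial _ trivial (ne ha hb hab) _
      (h.toI ha hb (j := ⟨j, h.hd.Lt_le i.1⟩) i) (f ⟨g, hg⟩) trivial ((h.eq_iff _ _ _).2 ga)
      ((h.eq_iff _ _ _).2 gb) k (by rw [← map_pow, h.tr]; exact t)
    rwa [← map_inv, ← map_mul, h.tr, h.tr] at this
  · obtain ⟨x, hx, e⟩ := r.cjI (f ⟨g, h.hd.Lt_le hg⟩) (h.toL hg) (f ⟨g', h.hd.Lt_le hg'⟩) (h.toL hg')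
      (by rw [← map_mul, h.tr]; exact t) (by rw [← map_mul, h.tr]; exact t')
      (by rw [h.tr]; exact s) (by rw [h.tr]; exact s')
    obtain ⟨l, hl, rfl⟩ := h.memL.1 hx
    rw [← map_inv, ← map_inv, ← map_mul, ← map_mul, ← map_mul, h.tr] at e
    exact ⟨l, hl, e⟩
  · have := r.sq (f ⟨g, h.hd.Lt_le hg⟩) (h.toL hg) i (by rw [← map_pow, h.tr]; exact t)
    rwa [← map_mul, h.tr] at this
  · exact (h.tr ⟨g, h.LS_le j hg⟩).1 (r.sub _ trivial _ trivial (ne ha hb hab) _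
      (h.toI ha hb (j := ⟨j, h.hd.Lt_le i.1⟩) i) _ (h.memLS.2 ⟨_, hg, rfl⟩) fun x _ e =>
        (h.eq_iff _ _ _).2 (s x x.2 ((h.eq_iff _ _ _).1 e)))

theorem oddK (r : OddM (Lt (Set.univ : Set Δ) (W V f))) (hf : FaithV Δ V) : OddK Δ V := by
  obtain ⟨k, m, hm, e⟩ := Nat.exists_eq_two_pow_mul_odd (Nat.card_pos (α := G)).ne'
  have hL := h.hd.Lt_le
  let ψ : Lt Δ V →* Lt (Set.univ : Set Δ) (W V f) :=
    (f.comp (inclusion hL)).codRestrict _ fun l => h.toL l.2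
  have ker : ∀ l : Lt Δ V, ψ l = 1 ↔ Tr Δ (l : G) := fun l => by
    rw [Subtype.ext_iff]
    exact h.one_iff (inclusion hL l)
  have cen : ∀ z l : Lt Δ V, ψ z = 1 → l * z = z * l := fun z l hz =>
    Subtype.ext (h.hd.commK hf (hL z.2) ((ker z).1 hz) l.2).symm
  let O : Subgroup (Lt Δ V) :=
    { carrier := {z | ψ z = 1 ∧ z ^ m = 1}
      one_mem' := ⟨map_one _, one_pow _⟩
      mul_mem' := fun {a b} ha hb => ⟨by rw [map_mul, ha.1, hb.1, mul_one],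
        by rw [(show Commute a b from cen b a hb.1).mul_pow, ha.2, hb.2, mul_one]⟩
      inv_mem' := fun {a} ha => ⟨by rw [map_inv, ha.1, inv_one], by rw [inv_pow, ha.2, inv_one]⟩ }
  have : O.Normal := ⟨fun z hz l => by rwa [cen z l hz.1, mul_inv_cancel_right]⟩
  have cop : ∀ i, (2 ^ i).Coprime m := fun i => (Nat.coprime_two_left.2 hm).pow_left i
  have pw : ∀ z : Lt Δ V, (z ^ 2 ^ k) ^ m = 1 := fun z => Subtype.ext (by
    simp only [SubmonoidClass.coe_pow, OneMemClass.coe_one]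
    rw [← pow_mul, ← e, pow_card_eq_one'])
  have ab : ∀ l : Lt Δ V, l ^ m ∈ commutator (Lt Δ V) := by
    rintro ⟨l, hl⟩
    rw [← Abelianization.ker_of, MonoidHom.mem_ker, map_pow]
    have : Lt Δ V ≤ (((powMonoidHom m).comp (Abelianization.of (G := Lt Δ V))).ker).map
        (Lt Δ V).subtype := iSup₂_le fun c hc u hu => by
      refine ⟨⟨u, le_Lt hc hu⟩, ?_, rfl⟩
      have o : Odd (orderOf u) := (h.hd.odd c hc).of_dvd_nat (orderOf_dvd_natCard _ hu)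
      have d : orderOf u ∣ 2 ^ k * m := e ▸ _root_.orderOf_dvd_natCard u
      have : u ^ m = 1 := orderOf_dvd_iff_pow_eq_one.1
        (((Nat.coprime_two_right.2 o).pow_right k).dvd_of_dvd_mul_left d)
      show Abelianization.of _ ^ m = 1
      rw [← map_pow, show (⟨u, le_Lt hc hu⟩ : Lt Δ V) ^ m = 1 from Subtype.ext this, map_one]
    obtain ⟨l', hl', rfl⟩ := this hl
    exact hl'
  let χ := QuotientGroup.lift O ψ fun z hz => hz.1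
  have two : ∀ z : Lt Δ V, ψ z = 1 → (z : Lt Δ V ⧸ O) ^ 2 ^ k = 1 := fun z hz => by
    rw [← QuotientGroup.mk_pow, QuotientGroup.eq_one_iff]
    exact ⟨by rw [map_pow, hz, one_pow], pw z⟩
  have odd := r _ χ ⟨fun y => by
      obtain ⟨g, hg, e⟩ := h.memL.1 y.2
      exact ⟨(⟨g, hg⟩ : Lt Δ V), Subtype.ext e⟩, fun y hy => by
      obtain ⟨z, rfl⟩ := QuotientGroup.mk_surjective y
      refine mem_center_iff.2 fun y => ?_
      obtain ⟨l, rfl⟩ := QuotientGroup.mk_surjective y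
      rw [← QuotientGroup.mk_mul, cen z l hy, QuotientGroup.mk_mul], fun y hy => by
      obtain ⟨z, rfl⟩ := QuotientGroup.mk_surjective y
      have a : (z : Lt Δ V ⧸ O) ^ m ∈ commutator (Lt Δ V ⧸ O) := by
        have := mem_map_of_mem (QuotientGroup.mk' O) (ab z)
        rw [map_pow, _root_.commutator_def, map_commutator] at this
        exact commutator_mono le_top le_top this
      have c : m.Coprime (orderOf (z : Lt Δ V ⧸ O)) :=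
        ((cop k).symm).of_dvd_right (orderOf_dvd_of_pow_eq_one (two z hy))
      exact zpowers_le.2 a (mem_zpowers_pow_iff.2 c)⟩
  intro g hg t
  have z1 : ψ ⟨g, hg⟩ = 1 := (ker _).2 t
  have d := orderOf_dvd_natCard χ.ker (x := ((⟨g, hg⟩ : Lt Δ V) : Lt Δ V ⧸ O)) z1
  have d2 := orderOf_dvd_of_pow_eq_one (two _ z1)
  have o1 := (Nat.coprime_self _).1 (((Nat.coprime_two_right.2
    (odd.of_dvd_nat d)).pow_right k).of_dvd_right d2)
  rw [orderOf_eq_one_iff, QuotientGroup.eq_one_iff] at o1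
  exact hm.of_dvd_nat (orderOf_dvd_of_pow_eq_one (congrArg Subtype.val o1.2))

end Im

theorem exists_im (hd : LD N Δ V) : ∃ (X : Type) (_ : Group X) (_ : Finite X) (_ : MulAction X Δ)
    (f : N →* X), Im (Δ := Δ) V f := by
  let _ : MulAction N Δ :=
    { smul := fun g x => ⟨(g : G) • (x : Ω), hd.inv g g.2 x x.2⟩
      one_smul := fun x => Subtype.ext (one_smul G (x : Ω))
      mul_smul := fun g g' x => Subtype.ext (mul_smul (g : G) (g' : G) (x : Ω)) }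
  exact ⟨(toPermHom N Δ).range, inferInstance, inferInstance, inferInstance,
    (toPermHom N Δ).rangeRestrict, hd, MonoidHom.rangeRestrict_surjective _, fun _ _ => rfl,
    fun g t => Subtype.ext (Equiv.ext t)⟩

theorem Lt_sub (U : Ω → Subgroup G) :
    Lt (G := Lt Set.univ U) Set.univ (fun c => (U c).subgroupOf (Lt Set.univ U)) = ⊤ := by
  rw [eq_top_iff]
  rintro ⟨x, hx⟩ -
  have : Lt Set.univ U ≤ (Lt (G := Lt Set.univ U) Set.univ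
      fun c => (U c).subgroupOf (Lt Set.univ U)).map (Lt Set.univ U).subtype :=
    iSup₂_le fun c hc u hu => ⟨⟨u, le_Lt hc hu⟩, le_Lt (G := Lt Set.univ U) hc hu, rfl⟩
  obtain ⟨y, hy, rfl⟩ := this hx
  exact hy

theorem eqns_Lf : True := by
  have := @W.eq_1
  have := @ex.eq_1
  trivial

end Lf

theorem lift (ih : IH2 n) (hd : LD N Δ V) (h3 : 3 ≤ Δ.ncard) (hn : Δ.ncard < n) :
    RegOn Δ V ∧ (L2A N Δ V ∨ (U3A Δ V ∧ (FaithV Δ V → OddK Δ V)) ∨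
      (ReA N Δ V ∧ (FaithV Δ V → OddK Δ V)) ∨ AfA N Δ V) := by
  obtain ⟨X, _, _, _, f, h⟩ := Lf.exists_im hd
  obtain ⟨r, c⟩ := ih X Δ _ (h.cb h3) (by rwa [Nat.card_coe_set_eq])
  refine ⟨h.reg r, ?_⟩
  rcases c with c | ⟨c, o⟩ | ⟨c, o⟩ | c
  exacts [.inl (h.l2a c), .inr (.inl ⟨h.u3a c, h.oddK o⟩), .inr (.inr (.inl ⟨h.rea c, h.oddK o⟩)),
    .inr (.inr (.inr (h.afa c)))]

/-- passage to `L = ⟨U c⟩` -/
theorem sub_c0 {U : Ω → Subgroup G} (h : Cb U) (hs : NoSolv G) :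
    C0 (G := Lt Set.univ U) fun c => (U c).subgroupOf (Lt Set.univ U) where
  ld :=
    { inv := fun _ _ _ _ => trivial
      le := fun _ _ => le_top
      fix := fun c hc u hu => h.ld.fix c hc u hu
      cj := fun g _ c hc u hu => h.ld.cj g trivial c hc u hu
      tr := fun c hc x hx y hy xc yc => by
        obtain ⟨u, hu, e⟩ := h.ld.tr c hc x hx y hy xc yc
        exact ⟨⟨u, le_Lt hc hu⟩, hu, e⟩
      nil := fun c hc => by
        have := h.ld.nil c hc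
        exact Group.nilpotent_of_mulEquiv (subgroupOfEquivOfLe (le_Lt hc)).symm
      odd := fun c hc => by
        rw [Nat.card_congr (subgroupOfEquivOfLe (le_Lt hc)).toEquiv]
        exact h.ld.odd c hc }
  faith g t := Subtype.ext (h.faith g t)
  three := h.three
  gen := Lf.Lt_sub U
  nosolv M hM s := by
    have : (Lt Set.univ U).Normal := ⟨fun l hl g => h.ld.Lt_conj trivial hl⟩
    have e : Cfsg.solvableRadical G = ⊥ := eq_bot_iff.2 (H1.solvableRadical_le fun K hK s =>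
      (hs K hK s).le)
    have e2 := H1.map_subtype_solvableRadical_eq_of_isSubnormal (K := Lt Set.univ U)
      this.isSubnormal
    rw [e, bot_inf_eq, map_eq_bot_iff_of_injective _ (subtype_injective _)] at e2
    exact eq_bot_iff.2 ((H1.le_solvableRadical s).trans e2.le)

theorem sub_kn {U : Ω → Subgroup G}
    (h : Kn (G := Lt Set.univ U) fun c => (U c).subgroupOf (Lt Set.univ U)) : Kn U := by
  obtain ⟨r, p, hp, s, c⟩ := h
  have le : ∀ c, U c ≤ Lt Set.univ U := fun c => le_Lt trivial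
  rw [Lf.Lt_sub] at s c
  refine ⟨fun a b hb u hu e => congrArg Subtype.val (r a b hb ⟨u, le a hu⟩ hu e), p, hp,
    fun c => ⟨(s c).1.of_equiv (subgroupOfEquivOfLe (le c)), ?_⟩, ?_⟩
  · have := (s c).2
    rwa [relIndex_top_right] at this
  · rcases c with ⟨F, _, _, c, ⟨e⟩⟩ | ⟨F, _, _, q, c, d, ⟨e⟩⟩ | ⟨c, K, _, _, m, d, ⟨e⟩⟩
    exacts [.inl ⟨F, _, ‹_›, c, ⟨topEquiv.symm.trans e⟩⟩,
      .inr (.inl ⟨F, _, _, q, c, d, ⟨topEquiv.symm.trans e⟩⟩),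
      .inr (.inr ⟨c, K, _, _, m, d, ⟨topEquiv.symm.trans e⟩⟩)]

end H51.HK
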