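import Cfsg.Agent.Lib.HK.Defs2
import Cfsg.Agent.Lib.AutCl.Galois

/-! Semilinear maps of the projective line (helper14). -/

set_option autoImplicit false
set_option linter.unusedSectionVars false

namespace H51.HK

open MulAction Subgroup Matrix H69 OnePoint
open scoped MatrixGroups Classical commutatorElement

namespace LL

variable {F : Type} [Field F]

instance finOne [Finite F] : Finite (OnePoint F) := inferInstanceAs (Finite (Option F))

/-- homogeneous coordinates -/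
noncomputable def pt (x y : F) : OnePoint F := if y = 0 then ∞ else ((x / y : F) : OnePoint F)

theorem pt_inf : pt (1 : F) 0 = ∞ := if_pos rfl
theorem pt_one (x : F) : pt x 1 = (x : OnePoint F) := by simp [pt]

theorem exists_pt (p : OnePoint F) : ∃ x y : F, (x ≠ 0 ∨ y ≠ 0) ∧ p = pt x y := by
  cases p with
  | infty => exact ⟨1, 0, .inl one_ne_zero, pt_inf.symm⟩
  | coe x => exact ⟨x, 1, .inr one_ne_zero, (pt_one x).symm⟩

theorem pt_eq {x y x' y' : F} (h : x ≠ 0 ∨ y ≠ 0) (h' : x' ≠ 0 ∨ y' ≠ 0) :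
    pt x y = pt x' y' ↔ x * y' = x' * y := by
  by_cases a : y = 0 <;> by_cases b : y' = 0
  · simp [pt, a, b]
  · simp [pt, a, b, h.resolve_right (not_not.2 a)]
  · simp [pt, a, b, h'.resolve_right (not_not.2 b)]
  · simp [pt, a, b, div_eq_div_iff]

theorem ne_smul (A : GL (Fin 2) F) {x y : F} (h : x ≠ 0 ∨ y ≠ 0) :
    A 0 0 * x + A 0 1 * y ≠ 0 ∨ A 1 0 * x + A 1 1 * y ≠ 0 := by
  by_contra! k
  have d := A.det_ne_zero
  rw [det_fin_two] at d
  rcases h with h | h
  · exact mul_ne_zero d h (by linear_combination A 1 1 * k.1 - A 0 1 * k.2)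
  · exact mul_ne_zero d h (by linear_combination A 0 0 * k.2 - A 1 0 * k.1)

theorem smul_pt (A : GL (Fin 2) F) {x y : F} (h : x ≠ 0 ∨ y ≠ 0) :
    A • pt x y = pt (A 0 0 * x + A 0 1 * y) (A 1 0 * x + A 1 1 * y) := by
  by_cases a : y = 0
  · have hx := h.resolve_right (not_not.2 a)
    simp [pt, a, smul_infty_eq_ite, hx, mul_div_mul_right _ _ hx]
  · have e : A 1 0 * (x / y) + A 1 1 = (A 1 0 * x + A 1 1 * y) / y := by field_simp
    have e' : A 0 0 * (x / y) + A 0 1 = (A 0 0 * x + A 0 1 * y) / y := by field_simp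
    simp only [pt, a, if_false, smul_some_eq_ite, e, e', div_eq_zero_iff, or_false,
      div_div_div_cancel_right₀ a]

theorem map_pt (σ : F ≃+* F) (x y : F) : OnePoint.map σ (pt x y) = pt (σ x) (σ y) := by
  by_cases a : y = 0 <;> simp [pt, a]

theorem map_refl (p : OnePoint F) : OnePoint.map (RingEquiv.refl F) p = p := by cases p <;> rfl

theorem map_trans (σ σ' : F ≃+* F) (p : OnePoint F) :
    OnePoint.map (σ'.trans σ) p = OnePoint.map σ (OnePoint.map σ' p) := by cases p <;> rfl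

theorem fix_iff (A : GL (Fin 2) F) {x y : F} (h : x ≠ 0 ∨ y ≠ 0) :
    A • pt x y = pt x y ↔ A 1 0 * x ^ 2 + (A 1 1 - A 0 0) * x * y - A 0 1 * y ^ 2 = 0 := by
  rw [smul_pt A h, pt_eq (ne_smul A h) h]
  exact ⟨fun e => by linear_combination -e, fun e => by linear_combination -e⟩

/-- scalar matrix -/
def Scal (A : GL (Fin 2) F) : Prop := A 0 1 = 0 ∧ A 1 0 = 0 ∧ A 0 0 = A 1 1

theorem Scal.smul {A : GL (Fin 2) F} (h : Scal A) (p : OnePoint F) : A • p = p := by
  obtain ⟨x, y, k, rfl⟩ := exists_pt p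
  rw [fix_iff A k, h.1, h.2.1, h.2.2]; ring

theorem scal_of_three {A : GL (Fin 2) F} (h : 3 ≤ {p : OnePoint F | A • p = p}.ncard) : Scal A := by
  obtain ⟨p1, p2, p3, h1, h2, h3, n1, n2, n3⟩ := (Set.two_lt_ncard_iff (Set.finite_of_ncard_pos
    (by omega))).1 h
  obtain ⟨x1, y1, k1, rfl⟩ := exists_pt p1
  obtain ⟨x2, y2, k2, rfl⟩ := exists_pt p2
  obtain ⟨x3, y3, k3, rfl⟩ := exists_pt p3
  rw [Set.mem_ofPred_eq, fix_iff A ‹_›] at h1 h2 h3
  rw [Ne, pt_eq ‹_› ‹_›, ← sub_eq_zero] at n1 n2 n3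
  have d := mul_ne_zero n1 (mul_ne_zero n2 n3)
  refine ⟨mul_left_cancel₀ d ?_, mul_left_cancel₀ d ?_, mul_left_cancel₀ d ?_⟩
  · linear_combination (-(x2 * x3 * (x2 * y3 - x3 * y2))) * h1 + x1 * x3 * (x1 * y3 - x3 * y1) * h2 -
      x1 * x2 * (x1 * y2 - x2 * y1) * h3
  · linear_combination (y2 * y3 * (x2 * y3 - x3 * y2)) * h1 - y1 * y3 * (x1 * y3 - x3 * y1) * h2 +
      y1 * y2 * (x1 * y2 - x2 * y1) * h3
  · linear_combination ((x2 * y3 + x3 * y2) * (x2 * y3 - x3 * y2)) * h1 -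
      (x1 * y3 + x3 * y1) * (x1 * y3 - x3 * y1) * h2 + (x1 * y2 + x2 * y1) * (x1 * y2 - x2 * y1) * h3

theorem smul_congr {A A' : GL (Fin 2) F} {c : F}
    (h : (A' : Matrix (Fin 2) (Fin 2) F) = c • (A : Matrix (Fin 2) (Fin 2) F)) (p : OnePoint F) :
    A' • p = A • p := by
  obtain ⟨x, y, k, rfl⟩ := exists_pt p
  rw [smul_pt _ k, smul_pt _ k, pt_eq (ne_smul _ k) (ne_smul _ k), h]
  simp only [Matrix.smul_apply, smul_eq_mul]; ring

theorem key {A A' : GL (Fin 2) F} {σ σ' : F ≃+* F}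
    (h : ∀ p : OnePoint F, A • OnePoint.map σ p = A' • OnePoint.map σ' p) :
    σ = σ' ∧ ∃ c : F, (A' : Matrix (Fin 2) (Fin 2) F) = c • (A : Matrix (Fin 2) (Fin 2) F) := by
  have k : ∀ p : OnePoint F, (A⁻¹ * A') • OnePoint.map σ' p = OnePoint.map σ p := fun p => by
    rw [mul_smul, ← h, inv_smul_smul]
  have s : Scal (A⁻¹ * A') := by
    have h1 := k (pt 1 0)
    have h2 := k (pt 0 1)
    have h3 := k (pt 1 1)
    simp only [map_pt, map_one, map_zero] at h1 h2 h3
    rw [fix_iff _ (by simp)] at h1 h2 h3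
    exact ⟨by linear_combination -h2, by linear_combination h1, by linear_combination h1 + h2 - h3⟩
  refine ⟨RingEquiv.ext fun z => ?_, (A⁻¹ * A') 0 0, ?_⟩
  · have := k z
    rw [s.smul] at this
    exact (coe_eq_coe.1 this).symm
  · generalize hB : A⁻¹ * A' = B at s
    rw [show A' = A * B by rw [← hB, mul_inv_cancel_left], Units.val_mul]
    ext i j
    fin_cases j <;> simp [mul_apply, Fin.sum_univ_two, s.1, s.2.1, s.2.2, mul_comm]

theorem up_smul (c : F) (p : OnePoint F) :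
    ((up c : SL(2, F)) : GL (Fin 2) F) • p = OnePoint.map (· + c) p := by
  have e : (((up c : SL(2, F)) : GL (Fin 2) F) : Matrix (Fin 2) (Fin 2) F) = !![1, c; 0, 1] := rfl
  cases p <;> simp [smul_infty_eq_ite, smul_some_eq_ite, e]

theorem dg_smul (c : Fˣ) (p : OnePoint F) :
    ((dg c : SL(2, F)) : GL (Fin 2) F) • p = OnePoint.map ((c : F) * c * ·) p := by
  have e : (((dg c : SL(2, F)) : GL (Fin 2) F) : Matrix (Fin 2) (Fin 2) F) =
    !![(c : F), 0; 0, ((c⁻¹ : Fˣ) : F)] := rfl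
  cases p <;> simp [smul_infty_eq_ite, smul_some_eq_ite, e, mul_right_comm]

theorem diag_smul {A : GL (Fin 2) F} (h1 : A 0 1 = 0) (h2 : A 1 0 = 0) :
    ∃ c : Fˣ, ∀ p : OnePoint F, A • p = OnePoint.map ((c : F) * ·) p := by
  have d := A.det_ne_zero
  rw [det_fin_two, h1, zero_mul, sub_zero, mul_ne_zero_iff] at d
  refine ⟨Units.mk0 _ (div_ne_zero d.1 d.2), fun p => ?_⟩
  cases p <;> simp [smul_infty_eq_ite, smul_some_eq_ite, h1, h2, d.2, div_mul_eq_mul_div]

/-- a traceless matrix is an involution -/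
theorem scal_sq {A : GL (Fin 2) F} (h : A 0 0 + A 1 1 = 0) : Scal (A * A) := by
  simp only [Scal, Units.val_mul, mul_apply, Fin.sum_univ_two]
  exact ⟨by linear_combination A 0 1 * h, by linear_combination A 1 0 * h,
    by linear_combination (A 0 0 - A 1 1) * h⟩

theorem tr_of_sq {A : GL (Fin 2) F} (h : Scal (A * A)) : Scal A ∨ A 0 0 + A 1 1 = 0 := by
  simp only [Scal, Units.val_mul, mul_apply, Fin.sum_univ_two] at h
  refine or_iff_not_imp_right.2 fun k => ⟨mul_left_cancel₀ k ?_, mul_left_cancel₀ k ?_,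
    mul_left_cancel₀ k ?_⟩
  · linear_combination h.1
  · linear_combination h.2.1
  · linear_combination h.2.2

theorem scal_iff {A : GL (Fin 2) F} : Scal A ↔ ∃ c : F, (A : Matrix (Fin 2) (Fin 2) F) =
    c • ((1 : GL (Fin 2) F) : Matrix (Fin 2) (Fin 2) F) :=
  ⟨fun h => ⟨A 0 0, by ext i j; fin_cases i <;> fin_cases j <;> simp [h.1, h.2.1, h.2.2]⟩,
    fun ⟨c, h⟩ => by simp [Scal, h]⟩

/-- what inverts an element of order at least three is an involution -/
theorem inv_tr {M J : GL (Fin 2) F} {c : F} (h : ((M * J * M : GL (Fin 2) F) : Matrix (Fin 2) (Fin 2) F)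
    = c • (J : Matrix (Fin 2) (Fin 2) F)) : Scal (M * M) ∨ Scal (J * J) := by
  have h0 := congrFun (congrFun h 0) 0
  have h1 := congrFun (congrFun h 0) 1
  have h2 := congrFun (congrFun h 1) 0
  have h3 := congrFun (congrFun h 1) 1
  simp only [Units.val_mul, mul_apply, Fin.sum_univ_two, Matrix.smul_apply, smul_eq_mul] at h0 h1 h2 h3
  have d := M.det_ne_zero
  have d' := J.det_ne_zero
  rw [det_fin_two] at d d'
  by_cases t : M 0 0 + M 1 1 = 0
  · exact .inl (scal_sq t)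
  by_cases t' : J 0 0 + J 1 1 = 0
  · exact .inr (scal_sq t')
  have e : c = M 0 0 * M 1 1 - M 0 1 * M 1 0 := mul_left_cancel₀ (mul_ne_zero d' t) (by
    linear_combination (-(J 1 1)) * (M 1 1 * h0 - M 0 1 * h2) + J 1 0 * (M 1 1 * h1 - M 0 1 * h3) +
      J 0 1 * (M 0 0 * h2 - M 1 0 * h0) - J 0 0 * (M 0 0 * h3 - M 1 0 * h1))
  subst e
  have s : Scal M := ⟨mul_left_cancel₀ (mul_ne_zero d t') (by
      linear_combination M 1 1 * h1 - M 0 1 * h3), mul_left_cancel₀ (mul_ne_zero d t') (by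
      linear_combination M 0 0 * h2 - M 1 0 * h0), mul_left_cancel₀ (mul_ne_zero d t') (by
      linear_combination M 1 1 * h0 - M 0 1 * h2 - (M 0 0 * h3 - M 1 0 * h1))⟩
  refine .inl ?_
  simp [Scal, mul_apply, Fin.sum_univ_two, s.1, s.2.1, s.2.2]

theorem swap_smul {A : GL (Fin 2) F} (h1 : A 0 0 = 0) (h2 : A 1 1 = 0) (c : Fˣ) (p : OnePoint F) :
    A • OnePoint.map ((c : F) * ·) p = OnePoint.map (((c⁻¹ : Fˣ) : F) * ·) (A • p) := by
  have d := A.det_ne_zero
  rw [det_fin_two, h1, zero_mul, zero_sub, neg_ne_zero, mul_ne_zero_iff] at d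
  cases p with
  | infty => simp [smul_infty_eq_ite, h1, d.2]
  | coe x =>
    by_cases hx : x = 0 <;> simp [smul_some_eq_ite, h1, h2, d.2, hx]
    field_simp

/-- Hilbert 90 -/
theorem h90 {σ : F ≃+* F} (h1 : σ ≠ RingEquiv.refl F) (h2 : ∀ y, σ (σ y) = y) {c : F}
    (hc : c * σ c = 1) : ∃ d, d ≠ 0 ∧ c * σ d = d := by
  obtain ⟨w, hw⟩ : ∃ w, w + c * σ w ≠ 0 := by
    by_contra! k
    have e := k 1
    rw [map_one, mul_one] at e
    exact h1 (RingEquiv.ext fun w => by have := k w; show σ w = w; linear_combination σ w * e - this)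
  exact ⟨_, hw, by rw [map_add, map_mul, h2]; linear_combination w * hc⟩

/-- a semilinear involution has three fixed points -/
theorem semi_three {A : GL (Fin 2) F} {σ : F ≃+* F} (h1 : σ ≠ RingEquiv.refl F)
    (h2 : ∀ y, σ (σ y) = y) {μ : F}
    (h : (A : Matrix (Fin 2) (Fin 2) F) * (A : Matrix (Fin 2) (Fin 2) F).map σ = (μ * σ μ) • 1)
    (h0 : μ ≠ 0) [Finite F] : 3 ≤ {p : OnePoint F | A • OnePoint.map σ p = p}.ncard := by
  have e0 := congrFun (congrFun h 0) 0
  have e1 := congrFun (congrFun h 0) 1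
  have e2 := congrFun (congrFun h 1) 0
  have e3 := congrFun (congrFun h 1) 1
  simp only [mul_apply, Fin.sum_univ_two, Matrix.smul_apply, smul_eq_mul, map_apply, one_apply_eq,
    one_apply_ne (zero_ne_one' (Fin 2)), one_apply_ne (one_ne_zero' (Fin 2))] at e0 e1 e2 e3
  let W : F → F → Prop := fun x y =>
    A 0 0 * σ x + A 0 1 * σ y = μ * x ∧ A 1 0 * σ x + A 1 1 * σ y = μ * y
  have w : ∀ x y, W (σ μ * x + (A 0 0 * σ x + A 0 1 * σ y)) (σ μ * y + (A 1 0 * σ x + A 1 1 * σ y)) :=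
    fun x y => by
      simp only [W, map_add, map_mul, h2]
      exact ⟨by linear_combination x * e0 + y * e1, by linear_combination x * e2 + y * e3⟩
  have span : ∀ α β : F, (∀ x y, W x y → α * x + β * y = 0) → α = 0 ∧ β = 0 := fun α β k => by
    obtain ⟨ω, hω⟩ : ∃ ω, ω - σ ω ≠ 0 := by
      by_contra! k
      exact h1 (RingEquiv.ext fun w => (sub_eq_zero.1 (k w)).symm)
    have d := mul_ne_zero hω ((map_ne_zero σ).2 h0)
    have k1 := k _ _ (w 1 0)
    have k2 := k _ _ (w ω 0)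
    have k3 := k _ _ (w 0 1)
    have k4 := k _ _ (w 0 ω)
    simp only [map_one, map_zero] at k1 k2 k3 k4
    exact ⟨mul_left_cancel₀ d (by linear_combination k2 - σ ω * k1),
      mul_left_cancel₀ d (by linear_combination k4 - σ ω * k3)⟩
  have fx : ∀ x y, (x ≠ 0 ∨ y ≠ 0) → W x y → A • OnePoint.map σ (pt x y) = pt x y := fun x y k e => by
    have k' : σ x ≠ 0 ∨ σ y ≠ 0 := by simpa using k
    rw [map_pt, smul_pt _ k', pt_eq (ne_smul _ k') k, e.1, e.2]; ring
  obtain ⟨x, y, a, n⟩ : ∃ x y, W x y ∧ x ≠ 0 := by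
    by_contra! k
    exact one_ne_zero (span 1 0 fun x y e => by simp [k x y e]).1
  obtain ⟨x', y', a', n'⟩ : ∃ x' y', W x' y' ∧ y * x' + -x * y' ≠ 0 := by
    by_contra! k
    exact n (neg_eq_zero.1 (span _ _ k).2)
  have k1 : x ≠ 0 ∨ y ≠ 0 := .inl n
  have k2 : x' ≠ 0 ∨ y' ≠ 0 := by
    by_contra! k
    simp [k.1, k.2] at n'
  have k3 : x + x' ≠ 0 ∨ y + y' ≠ 0 := by
    by_contra! k
    exact n' (by linear_combination y * k.1 - x * k.2)
  refine (Set.two_lt_ncard_iff (Set.toFinite _)).2 ⟨_, _, _, fx _ _ k1 a, fx _ _ k2 a', fx _ _ k3 ?_,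
    fun e => n' ?_, fun e => n' ?_, fun e => n' ?_⟩
  · simp only [W, map_add]
    exact ⟨by linear_combination a.1 + a'.1, by linear_combination a.2 + a'.2⟩
  · linear_combination -(pt_eq k1 k2).1 e
  · linear_combination -(pt_eq k1 k3).1 e
  · linear_combination (pt_eq k2 k3).1 e

/-- a traceless matrix whose negative determinant is not a square has no fixed point -/
theorem ell {A : GL (Fin 2) F} (t : A 0 0 + A 1 1 = 0)
    (h : ¬ IsSquare (-(A : Matrix (Fin 2) (Fin 2) F).det)) (p : OnePoint F) : A • p ≠ p := by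
  obtain ⟨x, y, k, rfl⟩ := exists_pt p
  rw [Ne, fix_iff _ k]
  refine fun e => h ?_
  rw [det_fin_two]
  by_cases hy : y = 0
  · have hx := k.resolve_right (not_not.2 hy)
    have : A 1 0 = 0 := mul_left_cancel₀ (pow_ne_zero 2 hx) (by rw [hy] at e; linear_combination e)
    exact ⟨A 0 0, by rw [this]; linear_combination (-A 0 0) * t⟩
  · refine ⟨(A 1 0 * x - A 0 0 * y) / y, ?_⟩
    field_simp
    linear_combination (-A 1 0) * e + (A 1 0 * x * y - A 0 0 * y ^ 2) * t

theorem hyp (h2 : (2 : F) ≠ 0) {A : GL (Fin 2) F} (t : A 0 0 + A 1 1 = 0)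
    (h : IsSquare (-(A : Matrix (Fin 2) (Fin 2) F).det)) [Finite F] :
    2 ≤ {p : OnePoint F | A • p = p}.ncard := by
  obtain ⟨μ, h⟩ := h
  have h0 : μ ≠ 0 := fun e => A.det_ne_zero (by simpa [e] using h)
  rw [det_fin_two] at h
  have ev : ∀ ε : F, ε ≠ 0 → ε * ε = μ * μ → ∃ x y, (x ≠ 0 ∨ y ≠ 0) ∧
      A 0 0 * x + A 0 1 * y = ε * x ∧ A 1 0 * x + A 1 1 * y = ε * y := fun ε e0 e => by
    by_cases k : A 0 0 + ε = 0
    · exact ⟨A 0 1, ε - A 0 0, .inr fun k' => mul_ne_zero h2 e0 (by linear_combination k + k'),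
        by ring, by linear_combination h - e + ε * t⟩
    · exact ⟨A 0 0 + ε, A 1 0, .inl k, by linear_combination h - e + A 0 0 * t,
        by linear_combination A 1 0 * t⟩
  obtain ⟨x, y, k, a, b⟩ := ev μ h0 rfl
  obtain ⟨x', y', k', a', b'⟩ := ev (-μ) (neg_ne_zero.2 h0) (by ring)
  have d := mul_ne_zero h2 h0
  refine (Set.one_lt_ncard_iff (Set.toFinite _)).2 ⟨pt x y, pt x' y', ?_, ?_, fun e => ?_⟩
  · rw [Set.mem_ofPred_eq, smul_pt _ k, pt_eq (ne_smul _ k) k, a, b]; ring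
  · rw [Set.mem_ofPred_eq, smul_pt _ k', pt_eq (ne_smul _ k') k', a', b']; ring
  rw [pt_eq k k'] at e
  have e1 : x * x' = 0 := mul_left_cancel₀ d (by linear_combination x * a' - x' * a - A 0 1 * e)
  have e2 : y * y' = 0 := mul_left_cancel₀ d (by linear_combination y * b' - y' * b + A 1 0 * e)
  have e3 : x * y' = 0 := mul_left_cancel₀ d (by linear_combination y * a' - y' * a + (A 0 0 + μ) * e)
  rcases k with k | k <;> rcases k' with k' | k'
  exacts [mul_ne_zero k k' e1, mul_ne_zero k k' e3, mul_ne_zero k' k (e ▸ e3), mul_ne_zero k k' e2]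

variable [Fintype F]

theorem inv_aut {σ : F ≃+* F} (h1 : σ ≠ RingEquiv.refl F) (h2 : ∀ y, σ (σ y) = y) :
    ∃ r, Fintype.card F = r ^ 2 ∧ (∀ y, σ y = y ^ r) ∧ {y | σ y = y}.ncard = r := by
  obtain ⟨p, f, hp, hF⟩ := H67.exists_card_eq_pow F
  have := Fact.mk hp
  have o : orderOf (σ : RingAut F) = 2 :=
    orderOf_eq_prime (by rw [pow_two]; exact RingEquiv.ext h2) h1
  obtain ⟨φ, e1, e2, e3⟩ := H67.exists_frob hF
  obtain ⟨k, hk, rfl⟩ := Finset.mem_image.1
    (mem_zpowers_iff_mem_range_orderOf.1 (e3 ▸ mem_top (σ : RingAut F)))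
  have pw : ∀ k y, (φ ^ k) y = y ^ p ^ k := fun k => by
    induction k with
    | zero => simp
    | succ k ih => intro y; rw [pow_succ', RingAut.mul_apply, ih, e1, ← pow_mul, pow_succ]
  have k0 : k ≠ 0 := by rintro rfl; exact h1 rfl
  have d : orderOf φ ∣ k * 2 := orderOf_dvd_of_pow_eq_one (by rw [pow_mul, ← o, pow_orderOf_eq_one])
  rw [Finset.mem_range] at hk
  have f2 : f = k * 2 := by
    obtain ⟨c, hc⟩ := d
    rw [e2] at hc hk
    rcases c with _ | _ | c
    · omega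
    · omega
    · nlinarith
  have c := H67.card_fixF_pow (φ ^ k)
  rw [o, hF, f2, pow_mul] at c
  refine ⟨p ^ k, by rw [← Nat.card_eq_fintype_card, hF, f2, pow_mul], pw k, ?_⟩
  rw [← Nat.pow_left_injective two_ne_zero c, ← Nat.card_coe_set_eq]
  exact Nat.card_congr (Equiv.subtypeEquivRight fun _ => H67.mem_fixF.symm)

theorem norm_onto {σ : F ≃+* F} (h1 : σ ≠ RingEquiv.refl F) (h2 : ∀ y, σ (σ y) = y) {c : F}
    (hc : σ c = c) : ∃ a, c = a * σ a := by
  rcases eq_or_ne c 0 with rfl | h0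
  · exact ⟨0, by simp⟩
  obtain ⟨a, e⟩ := H67.norm_surj σ (Units.mk0 c h0) hc
  rw [show orderOf (σ : RingAut F) = 2 from
    orderOf_eq_prime (by rw [pow_two]; exact RingEquiv.ext h2) h1, H67.tnorm_two] at e
  exact ⟨a, (congrArg Units.val e).symm⟩

theorem norm_sq (ho : Odd (Fintype.card F)) {σ : F ≃+* F} (h2 : ∀ y, σ (σ y) = y) (a : F) :
    IsSquare (a * σ a) := by
  by_cases h1 : σ = RingEquiv.refl F
  · exact ⟨a, by rw [h1]; rfl⟩
  obtain ⟨r, e1, e2, -⟩ := inv_aut h1 h2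
  obtain ⟨m, rfl⟩ := (Nat.odd_pow_iff two_ne_zero).1 (e1 ▸ ho)
  exact ⟨a ^ (m + 1), by rw [e2]; ring⟩

theorem two_ne (ho : Odd (Fintype.card F)) : (2 : F) ≠ 0 :=
  Ring.two_ne_zero fun e => by
    have := FiniteField.even_card_iff_char_two.1 e
    have := Nat.odd_iff.1 ho
    omega

theorem sq_mul {a b : F} (ha : ¬ IsSquare a) (hb : ¬ IsSquare b) : IsSquare (a * b) := by
  have h0 : a * b ≠ 0 := mul_ne_zero (fun e => ha (e ▸ IsSquare.zero)) fun e => hb (e ▸ IsSquare.zero)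
  rw [← quadraticChar_neg_one_iff_not_isSquare] at ha hb
  rw [← quadraticChar_one_iff_isSquare h0, map_mul, ha, hb]; norm_num

theorem sq_neg {a : F} (h0 : a ≠ 0) (h : IsSquare (-a)) : IsSquare a ↔ IsSquare (-1 : F) :=
  ⟨fun k => by simpa [h0] using h.mul k.inv, fun k => by simpa using k.mul h⟩

theorem aut3 (hq : Fintype.card F % 4 = 3) {σ : RingAut F} {i : ℕ} (h : σ ^ 2 ^ i = 1) : σ = 1 := by
  induction i with
  | zero => simpa using h
  | succ i ih =>
    refine ih (by_contra fun k => ?_)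
    obtain ⟨r, e, -⟩ := inv_aut (σ := σ ^ 2 ^ i) k fun y => by
      rw [← RingAut.mul_apply, ← pow_two, ← pow_mul, ← pow_succ, h]; rfl
    rw [e, Nat.pow_mod] at hq
    have := Nat.mod_lt r four_pos
    generalize r % 4 = s at *
    interval_cases s <;> simp at hq

theorem pm (hq : Fintype.card F % 4 = 3) {c : F} {i : ℕ} (h : c ^ 2 ^ i = 1) : c = 1 ∨ c = -1 := by
  induction i generalizing c with
  | zero => exact .inl (by simpa using h)
  | succ i ih =>
    rcases ih (c := c ^ 2) (by rw [← pow_mul, ← pow_succ', h]) with e | e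
    · exact sq_eq_one_iff.1 e
    · exact absurd hq (FiniteField.isSquare_neg_one_iff.1 ⟨c, by rw [← e, sq]⟩)

theorem card_fix {σ : F ≃+* F} {c d : F} (h0 : d ≠ 0) (h : c * σ d = d) :
    {p : OnePoint F | OnePoint.map (fun y => c * σ y) p = p}.ncard = {y | σ y = y}.ncard + 1 := by
  have : {p : OnePoint F | OnePoint.map (fun y => c * σ y) p = p} =
      insert ∞ ((fun y => ((d * y : F) : OnePoint F)) '' {y | σ y = y}) := by
    ext p
    cases p with
    | infty => simp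
    | coe x =>
      simp only [Set.mem_ofPred_eq, map_some, coe_eq_coe, Set.mem_insert_iff, coe_ne_infty, false_or,
        Set.mem_image]
      refine ⟨fun e => ⟨x / d, ?_, by field_simp⟩, ?_⟩
      · have : σ d ≠ 0 := (map_ne_zero σ).2 h0
        rw [map_div₀, div_eq_div_iff this h0]
        linear_combination σ d * e - σ x * h
      · rintro ⟨y, e, rfl⟩
        rw [map_mul, e, ← mul_assoc, h]
  rw [this, Set.ncard_insert_of_notMem (by simp), Set.ncard_image_of_injective _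
    fun x y e => mul_left_cancel₀ h0 (coe_eq_coe.1 e)]

end LL

end H51.HK
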