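import Cfsg.Agent.Lib.HK.Defs2
import Cfsg.Agent.Lib.HB.EVa
import Cfsg.Agent.Lib.Holt.BF2
import Cfsg.Agent.Lib.Gold2.BF0
import Cfsg.Agent.Lib.Perm.Burnside2
import Cfsg.Agent.Lib.FGS.NilpCover
import Cfsg.Agent.Lib.PGroup.Basic
import Cfsg.Agent.Lib.SE42.Basic
import Cfsg.Agent.S0205
import Cfsg.Agent.S0215
import Cfsg.Agent.S1175

/-! `S1145` for root groups of even order, almost simple case (blueprint/HKS2.md, EVB). -/

set_option autoImplicit false
set_option linter.unusedSectionVars false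

namespace H51.HK

open MulAction Subgroup Matrix H69
open scoped MatrixGroups Classical commutatorElement

namespace EVB

open H29.Holt H69.SI H45.HB

section Perm

variable {Λ : Type*} [Finite Λ] {L : Subgroup (Equiv.Perm Λ)} {a b : Λ} {e : Equiv.Perm Λ}

theorem irr (h : IsBen L) (a : Λ) (W : Subgroup (Equiv.Perm Λ)) (h1 : Vb L a ≤ W) (h2 : W ≤ Sb L a)
    (h3 : ∀ g ∈ L, g a = a → ∀ x ∈ W, g * x * g⁻¹ ∈ W) : W = Vb L a ∨ W = Sb L a := by
  obtain ⟨b, hb⟩ := h.exists_ne a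
  obtain ⟨t, Q, hS, -, -, hQ, hQ0⟩ := h.su27 hb
  have bf := Gold.BF0.bf_setup hS h.rank2
  have e : (W.subgroupOf L).map L.subtype = W := map_subgroupOf_eq_of_le (h2.trans h.Sb_le)
  rcases bf.irr (W.subgroupOf L) (fun x hx => h1 (hQ0 ▸ mem_map_of_mem L.subtype hx))
    (fun x hx => by
      have : (x : Equiv.Perm Λ) ∈ Q.map L.subtype := hQ ▸ h2 hx
      obtain ⟨y, hy, e⟩ := this
      exact (Subtype.ext e : y = x) ▸ hy)
    (fun g hg x hx => h3 g g.2 hg x hx) with f | f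
  · exact Or.inl (by rw [← e, f, hQ0])
  · exact Or.inr (by rw [← e, f, hQ])

theorem comm (h : IsBen L) {s s' : Equiv.Perm Λ} (hs : s ∈ Sb L a) (hs' : s' ∈ Sb L a) :
    s * s' * s⁻¹ * s'⁻¹ ∈ Vb L a := by
  have e : s * s' * s⁻¹ * s'⁻¹ = s * s * (s⁻¹ * s' * (s⁻¹ * s')) * (s'⁻¹ * s'⁻¹) := by group
  rw [e]
  exact mul_mem (mul_mem (h.sq_mem hs) (h.sq_mem (mul_mem (inv_mem hs) hs'))) (h.sq_mem (inv_mem hs'))

/-- an involution normalising a Bender group and centralising a two point stabiliser -/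
theorem key (h : IsBen L) (hb : b ≠ a) (he : e ∈ 𝐍(L)) (h2 : e * e = 1) (ha : e a = a) (hb' : e b = b)
    (hc : ∀ t ∈ L, t a = a → t b = b → e * t = t * e) : e = 1 := by
  by_contra h1
  have hL : e ∉ L := fun hL => hb (h.uniq hL h1 h2 hb' ha)
  have ei : e⁻¹ = e := inv_eq_of_mul_eq_one_right h2
  have cV : ∀ v ∈ Vb L a, e * v * e⁻¹ ∈ Vb L a := fun v hv => by
    simpa only [ha] using h.conj_mem_Vb he hv
  have cS : ∀ s ∈ Sb L a, e * s * e⁻¹ ∈ Sb L a := fun s hs => by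
    simpa only [ha] using h.conj_mem_Sb he hs
  have ee : ∀ x : Equiv.Perm Λ, e * (e * x * e⁻¹) * e⁻¹ = x := fun x => by
    calc e * (e * x * e⁻¹) * e⁻¹ = e * e * x * (e * e)⁻¹ := by group
      _ = x := by rw [h2]; group
  have four := h.four_le a
  -- `e` centralises `V`
  obtain ⟨v, hv, v1, cv⟩ : ∃ v ∈ Vb L a, v ≠ 1 ∧ e * v * e⁻¹ = v := by
    obtain ⟨v, h3, h4, h5, h6⟩ := h.exists_inv a
    have hv : v ∈ Vb L a := h.mem_Vb.2 ⟨h3, h6, h5⟩
    by_cases c : e * v * e⁻¹ = v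
    · exact ⟨v, hv, h4, c⟩
    refine ⟨v * (e * v * e⁻¹), mul_mem hv (cV v hv), fun f => c ?_, ?_⟩
    · rw [← h5] at f
      exact mul_left_cancel f
    · calc e * (v * (e * v * e⁻¹)) * e⁻¹ = e * v * e⁻¹ * (e * (e * v * e⁻¹) * e⁻¹) := by group
        _ = _ := by rw [ee, ← h.Vb_comm hv (h.Vb_le_Sb (cV v hv))]
  have hV : ∀ w ∈ Vb L a, e * w * e⁻¹ = w := fun w hw => by
    by_cases w1 : w = 1
    · simp [w1]
    obtain ⟨t, ht, t1, t2, rfl⟩ := h.torus hb hv v1 hw w1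
    have := hc t ht t1 t2
    calc e * (t * v * t⁻¹) * e⁻¹ = (e * t) * v * (e * t)⁻¹ := by group
      _ = t * (e * v * e⁻¹) * t⁻¹ := by rw [this]; group
      _ = _ := by rw [cv]
  obtain ⟨-, hCS, ⟨-, c1⟩ | ⟨c2, -⟩⟩ := h.field27 he h2 hL ha
  · rw [inf_eq_left.2 fun w hw => mem_centralizer_singleton_iff.2
      (mul_inv_eq_iff_eq_mul.1 (hV w hw)).symm] at c1
    nlinarith
  let W : Subgroup (Equiv.Perm Λ) :=
    { carrier := {x | x ∈ Sb L a ∧ e * x * e⁻¹ * x⁻¹ ∈ Vb L a}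
      one_mem' := ⟨one_mem _, by simp⟩
      mul_mem' := fun {x y} hx hy => ⟨mul_mem hx.1 hy.1, by
        have : e * (x * y) * e⁻¹ * (x * y)⁻¹ = e * x * e⁻¹ * (e * y * e⁻¹ * y⁻¹) * x⁻¹ := by group
        rw [this, mul_assoc, h.Vb_comm hy.2 (inv_mem hx.1), ← mul_assoc]
        exact mul_mem hx.2 hy.2⟩
      inv_mem' := fun {x} hx => ⟨inv_mem hx.1, by
        have : e * x⁻¹ * e⁻¹ * x⁻¹⁻¹ = x⁻¹ * ((e * x * e⁻¹ * x⁻¹)⁻¹ * x) := by group
        rw [this, h.Vb_comm (inv_mem hx.2) hx.1, inv_mul_cancel_left]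
        exact inv_mem hx.2⟩ }
  have VW : Vb L a ≤ W := fun w hw => ⟨h.Vb_le_Sb hw, by rw [hV w hw, mul_inv_cancel]; exact one_mem _⟩
  have hW : ∀ s ∈ Sb L a, e * s * e⁻¹ * s⁻¹ ∈ Vb L a := by
    rcases irr h a W VW (fun x hx => hx.1) (fun g hg ga x hx => by
      have gb : g b ≠ a := fun f => hb (g.injective (f.trans ga.symm))
      obtain ⟨s, hs, sb⟩ := h.Sb_trans hb gb
      have sa := (h.mem_Sb.1 hs).2.1
      have tL : s⁻¹ * g ∈ L := mul_mem (inv_mem (h.Sb_le hs)) hg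
      have ta : (s⁻¹ * g) a = a := by
        rw [Equiv.Perm.mul_apply, ga, Equiv.Perm.inv_eq_iff_eq, sa]
      have tb : (s⁻¹ * g) b = b := by
        rw [Equiv.Perm.mul_apply, Equiv.Perm.inv_eq_iff_eq, sb]
      have c := hc _ tL ta tb
      generalize ht : s⁻¹ * g = t at tL ta tb c
      obtain rfl : g = s * t := by rw [← ht]; group
      have m : t * x * t⁻¹ ∈ W := ⟨by simpa only [ta] using h.conj_mem_Sb (le_normalizer tL) hx.1, by
        have : e * (t * x * t⁻¹) * e⁻¹ * (t * x * t⁻¹)⁻¹ = t * (e * x * e⁻¹ * x⁻¹) * t⁻¹ := by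
          calc e * (t * x * t⁻¹) * e⁻¹ * (t * x * t⁻¹)⁻¹
              = (e * t) * x * (e * t)⁻¹ * (t * x * t⁻¹)⁻¹ := by group
            _ = _ := by rw [c]; group
        rw [this]
        simpa only [ta] using h.conj_mem_Vb (le_normalizer tL) hx.2⟩
      have : s * t * x * (s * t)⁻¹ =
          s * (t * x * t⁻¹) * s⁻¹ * (t * x * t⁻¹)⁻¹ * (t * x * t⁻¹) := by group
      rw [this]
      exact mul_mem (VW (comm h hs m.1)) m) with f | f
    · intro s hs
      have m : e * s * e⁻¹ * s ∈ W := ⟨mul_mem (cS s hs) hs, by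
        have : e * (e * s * e⁻¹ * s) * e⁻¹ * (e * s * e⁻¹ * s)⁻¹ =
            e * (e * s * e⁻¹) * e⁻¹ * (e * s * e⁻¹) * s⁻¹ * (e * s * e⁻¹)⁻¹ := by group
        rw [this, ee]
        exact comm h hs (cS s hs)⟩
      rw [f] at m
      have : e * s * e⁻¹ * s⁻¹ = e * s * e⁻¹ * s * (s⁻¹ * s⁻¹) := by group
      rw [this]
      exact mul_mem m (h.sq_mem (inv_mem hs))
    · intro s hs
      rw [← f] at hs
      exact hs.2
  have c3 := card_le_comm (P := Sb L a) (W := Vb L a) (a := e) fun s hs => by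
    simpa [mul_assoc] using inv_mem (hW s hs)
  have c4 : Nat.card ↥(Sb L a ⊓ centralizer {e}) ≤ Nat.card (Vb L a) := card_le_of_le hCS
  have c5 := c3.trans (Nat.mul_le_mul_right _ c4)
  rw [c2] at c5
  nlinarith

end Perm

variable {G Ω : Type*} [Group G] [MulAction G Ω] [Finite G] [Finite Ω] {A : Subgroup G} {a : Ω}

theorem fixZ (h : Top A a) {z : G} (hz : z ∈ zo A) {b : Ω} (hb : b ≠ a) (e : z • b = b) : z = 1 := by
  refine h.faith z fun x => ?_
  by_cases c : x = a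
  · rw [c]; exact h.fix z (zo_le' hz)
  obtain ⟨u, hu, rfl⟩ := h.tr b x hb c
  rw [← mul_smul, ← zo_comm hz hu, mul_smul, e]

theorem exists_z (h : Top A a) (he : Even (Nat.card A)) : ∃ z ∈ zo A, z ≠ 1 := by
  have := h.nil
  let P : Sylow 2 A := default
  have hP : (P : Subgroup A) ≠ ⊥ := P.ne_bot_of_dvd_card he.two_dvd
  have : (P : Subgroup A).Normal := inferInstance
  obtain ⟨⟨x, hx, hc⟩, x1⟩ := ne_bot_iff_exists_ne_one.1 (H5.inf_center_ne_bot_of_nilpotent _ hP)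
  obtain ⟨k, hk⟩ := pow_of_mem P.isPGroup' hx
  obtain ⟨n, n1, n2⟩ := exists_inv_pow (fun e => x1 (Subtype.ext e)) hk
  refine ⟨(x ^ n : A), ⟨⟨(x ^ n).2, fun s hs => ?_⟩, congrArg Subtype.val n2⟩, fun e => n1 (Subtype.ext e)⟩
  exact congrArg Subtype.val (mem_center_iff.1 (pow_mem hc n) ⟨s, hs⟩)

theorem norm (h : Top A a) {g : G} (hg : g • a = a) : g ∈ 𝐍(A) :=
  mem_normalizer_iff.2 fun u => ⟨h.nrm g hg u, fun hu => by
    simpa [mul_assoc] using h.nrm g⁻¹ (inv_smul_eq_iff.2 hg.symm) _ hu⟩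

/-- a 2-group containing a non-trivial element of `zo A` fixes `a` -/
theorem fix_a (h : Top A a) {z : G} (hz : z ∈ zo A) (z1 : z ≠ 1) {P : Subgroup G} (hP : IsPGroup 2 P)
    (hzP : z ∈ P) : ∀ g ∈ P, g • a = a := by
  have ho : Odd (Nat.card Ω) := by
    by_contra he
    rw [← EVa.ncard_ne a, Nat.odd_add_one, not_not] at he
    obtain ⟨p, hp, hf⟩ := exists_fixed (Ω := Ω) (two_zpowers' (zo_sq hz)) he fun g hg p hp e =>
      hp (MulAction.injective g (e.trans (h.fix g (zpowers_le.2 (zo_le' hz) hg)).symm))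
    exact z1 (fixZ h hz hp (hf z (mem_zpowers z)))
  obtain ⟨p, -, hp⟩ := exists_fixed hP (A := (Set.univ : Set Ω)) (by rwa [Set.ncard_univ])
    fun _ _ _ _ => trivial
  by_cases c : p = a
  · exact c ▸ hp
  · exact absurd (fixZ h hz c (hp z hzP)) z1

theorem socle (h : Top A a) (hs : NoSolv G) : ∃ M : Subgroup G, M.Normal ∧ IsSimpleGroup M ∧
    ¬ IsMulCommutative M ∧ ∀ x y : Ω, ∃ l ∈ M, l • x = y := by
  have : FaithfulSMul G Ω := ⟨fun {x y} e => (inv_mul_eq_one.1 (h.faith (y⁻¹ * x) fun p => by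
    rw [mul_smul, e, inv_smul_smul])).symm⟩
  have : IsPreprimitive G Ω := isPreprimitive_of_is_two_pretransitive h.two
  have : Nontrivial Ω := Finite.one_lt_card_iff_nontrivial.1 (by have := h.three; omega)
  obtain ⟨b, hb⟩ := exists_ne a
  obtain ⟨g, hg⟩ := exists_smul_eq G a b
  obtain ⟨M, hMn, hM, -, hmin⟩ := H26.exists_minNormal_le (⊤ : Subgroup G) fun e => hb (by
    rw [← hg, (eq_bot_iff_forall _).1 e g (mem_top g), one_smul])
  have nab : ¬ IsMulCommutative M := fun c => hM (hs M hMn (Group.isSolvable_of_comm c.is_comm.comm))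
  refine ⟨M, hMn, H26.isSimpleGroup_of_minNormal h.two M hmin (a := a) fun e =>
    nab (H26.elementary_of_regular h.two e hM).1, nab, fun x y => ?_⟩
  obtain ⟨l, hl⟩ := (H26.normal_isPretransitive (α := Ω) M hM).exists_smul_eq x y
  exact ⟨l, l.2, hl⟩

variable {M : Subgroup G}

theorem meet (h : Top A a) (he : Even (Nat.card A)) (nL : M.Normal) (hs : IsSimpleGroup M)
    (nab : ¬ IsMulCommutative M) (tr : ∀ x y : Ω, ∃ l ∈ M, l • x = y) : zo A ⊓ M ≠ ⊥ := by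
  intro e
  obtain ⟨z, hz, z1⟩ := exists_z h he
  have zH : z ∈ M ⊔ zpowers z := mem_sup_right (mem_zpowers z)
  have cL : ∀ l ∈ M, l * z * l⁻¹ * z⁻¹ ∈ M := fun l hl => by
    simpa only [mul_assoc] using M.mul_mem hl (nL.conj_mem _ (M.inv_mem hl) z)
  obtain ⟨P, hP⟩ := (two_zpowers' (u := (⟨z, zH⟩ : (M ⊔ zpowers z : Subgroup G)))
    (Subtype.ext (zo_sq hz))).exists_le_sylow
  obtain ⟨O, hO, odd, hc⟩ := Cfsg.Agent.S0215.result P ⟨z, zH⟩
    (orderOf_eq_prime (Subtype.ext ((pow_two z).trans (zo_sq hz))) fun e => z1 (congrArg Subtype.val e))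
    (hP (mem_zpowers _)) fun g hg => by
      have hp := fix_a h hz z1 (P.isPGroup'.map (M ⊔ zpowers z).subtype) ⟨_, hP (mem_zpowers _), rfl⟩
        _ ⟨_, hg, rfl⟩
      obtain ⟨l, hl, _, ⟨k, rfl⟩, e1⟩ := (mem_sup_of_le_normalizer_left le_normalizer_of_normal).1 g.2
      have e2 : (g : G) * z * (g : G)⁻¹ = l * z * l⁻¹ := by rw [e1]; group
      have hp' : ((g : G) * z * (g : G)⁻¹) • a = a := hp
      rw [e2, mul_smul, mul_smul, smul_eq_iff_eq_inv_smul] at hp'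
      have la : l⁻¹ • a = a := by
        by_contra c
        exact z1 (fixZ h hz c hp')
      have m := conj_mem_of_mem_normalizer (nrm_zo (norm h (inv_smul_eq_iff.1 la).symm)) hz
      exact Subtype.ext (e2.trans (mul_inv_eq_one.1
        (mem_bot.1 (e.le ⟨(zo A).mul_mem m ((zo A).inv_mem hz), cL l hl⟩))))
  rcases (hO.comap (inclusion (le_sup_left : M ≤ M ⊔ zpowers z))).eq_bot_or_eq_top with c | c
  · refine z1 (h.faith z fun p => ?_)
    obtain ⟨l, hl, rfl⟩ := tr a p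
    have m : z * l * z⁻¹ * l⁻¹ ∈ M := M.mul_mem (nL.conj_mem _ hl z) (M.inv_mem hl)
    have : z * l * z⁻¹ * l⁻¹ = 1 := congrArg Subtype.val (mem_bot.1 (c.le (show (⟨_, m⟩ : M) ∈ _ from
      hc ⟨l, mem_sup_left hl⟩)))
    rw [← mul_smul, mul_inv_eq_iff_eq_mul.1 (mul_inv_eq_one.1 this), mul_smul, h.fix z (zo_le' hz)]
  · have d : Nat.card M ∣ Nat.card O := card_dvd_of_injective
      ((inclusion (le_sup_left : M ≤ M ⊔ zpowers z)).codRestrict O fun l => c.ge (mem_top l))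
      fun a b e => inclusion_injective _ (congrArg Subtype.val e)
    exact nab ⟨⟨IsSimpleGroup.comm_iff_isSolvable.2 (Cfsg.Agent.S0205.result (odd.of_dvd_nat d))⟩⟩

theorem one (h : Top A a) (he : Even (Nat.card A)) (nL : M.Normal) (hs : IsSimpleGroup M)
    (nab : ¬ IsMulCommutative M) (tr : ∀ x y : Ω, ∃ l ∈ M, l • x = y) {u : G} (hu : u ∈ M) (u1 : u ≠ 1)
    (u2 : u * u = 1) : ∃! c : Ω, u • c = c := by
  have hR := meet h he nL hs nab tr
  have pR : IsPGroup 2 (zo A ⊓ M : Subgroup G) := fun x =>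
    ⟨1, Subtype.ext (by rw [pow_one, pow_two]; exact zo_sq x.2.1)⟩
  obtain ⟨T, hT, hRT⟩ := exists_isSylowIn_le pR inf_le_right
  obtain ⟨⟨y, hy⟩, y1⟩ := ne_bot_iff_exists_ne_one.1 hR
  have Ta := fix_a h hy.1 (fun e => y1 (Subtype.ext e)) hT.isP (hRT hy)
  obtain ⟨⟨z, ⟨hz, zM⟩, zc⟩, z1'⟩ := ne_bot_iff_exists_ne_one.1 (inf_centralizer_ne_bot pR hT.isP
    (le_normalizer_inf (fun g hg => nrm_zo (norm h (Ta g hg))) le_normalizer_of_normal) hR)
  have z1 : z ≠ 1 := fun e => z1' (Subtype.ext e)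
  have zo2 : orderOf (⟨z, zM⟩ : M) = 2 :=
    orderOf_eq_prime (Subtype.ext ((pow_two z).trans (zo_sq hz))) fun e => z1 (congrArg Subtype.val e)
  have back : ∀ g : G, (g * z * g⁻¹) • a = a → g • a = a := fun g hg => by
    rw [mul_smul, mul_smul, smul_eq_iff_eq_inv_smul] at hg
    by_contra c
    exact z1 (fixZ h hz (fun e => c (inv_smul_eq_iff.1 e).symm) hg)
  obtain ⟨P, hP⟩ := hT.exists_sylow_subgroupOf
  have : Nontrivial Ω := Finite.one_lt_card_iff_nontrivial.1 (by have := h.three; omega)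
  obtain ⟨H, hH⟩ := Cfsg.Agent.S1175.result (G := M) (stabilizer M a) (fun e => by
      obtain ⟨b, hb⟩ := exists_ne a
      obtain ⟨l, hl, f⟩ := tr a b
      have : (⟨l, hl⟩ : M) ∈ stabilizer M a := e ▸ mem_top _
      exact hb (f.symm.trans this))
    ⟨z, zM⟩ zo2 (h.fix z (zo_le' hz))
    ⟨P, hP.ge (hRT ⟨hz, zM⟩), fun s hs => Subtype.ext (zc s (hP.le hs))⟩
    (fun g hg => back g hg) fun g hc hne c hcc => by
      have hc' : z * (g * z * (g : G)⁻¹) = g * z * (g : G)⁻¹ * z := congrArg Subtype.val hc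
      have ga : (g : G) • a = a := back g (by
        by_contra f
        exact z1 (fixZ h hz f (by rw [← mul_smul, hc', mul_smul, h.fix z (zo_le' hz)])))
      have m := mul_mem hz (conj_mem_of_mem_normalizer (nrm_zo (norm h ga)) hz)
      have e : (c : G) * (z * (g * z * (g : G)⁻¹)) = z * (g * z * (g : G)⁻¹) * c :=
        congrArg Subtype.val (mem_centralizer_singleton_iff.1 hcc)
      show (c : G) • a = a
      by_contra f
      have := fixZ h m f (by rw [← mul_smul, ← e, mul_smul, h.fix _ (zo_le' m)])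
      rw [← zo_sq hz] at this
      exact hne (Subtype.ext (mul_left_cancel this))
  obtain ⟨g, hg⟩ := isConj_iff.1 (H42.SE.isConj hH zo2 (b := ⟨u, hu⟩)
    (orderOf_eq_prime (Subtype.ext ((pow_two u).trans u2)) fun e => u1 (congrArg Subtype.val e)))
  obtain rfl : (g : G) * z * (g : G)⁻¹ = u := congrArg Subtype.val hg
  refine ⟨(g : G) • a, cj_smul (h.fix z (zo_le' hz)), fun c hc => ?_⟩
  simp only [mul_smul] at hc
  rw [smul_eq_iff_eq_inv_smul] at hc
  by_contra f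
  exact z1 (fixZ h hz (fun e => f (inv_smul_eq_iff.1 e)) hc)

end EVB

variable {G Ω : Type*} [Group G] [MulAction G Ω] [Finite G] [Finite Ω]

variable {A : Subgroup G} {a : Ω}

open H29.Holt in
/-- `S1145`, even order, almost simple case -/
theorem evb (h : Top A a) (he : Even (Nat.card A)) (hs : NoSolv G) :
    ∀ u ∈ A, ∀ b : Ω, b ≠ a → u • b = b → u = 1 := by
  obtain ⟨M, nL, hM, nab, tr⟩ := EVB.socle h hs
  let φ := toPermHom G Ω
  have hφ : Function.Injective φ := (injective_iff_map_eq_one φ).2 fun g e =>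
    h.faith g fun x => congrArg (fun σ : Equiv.Perm Ω => σ x) e
  have hB : IsBen (M.map φ) := by
    refine ⟨(M.equivMapOfInjective φ hφ).symm.isSimpleGroup, fun c => nab ⟨⟨fun x y => ?_⟩⟩,
      fun x y => ?_, ?_⟩
    · exact (M.equivMapOfInjective φ hφ).injective (by rw [map_mul, map_mul, c.is_comm.comm])
    · obtain ⟨l, hl, e⟩ := tr x y
      exact ⟨φ l, mem_map_of_mem φ hl, e⟩
    · rintro _ ⟨u, hu, rfl⟩ h1 h2
      exact EVB.one h he nL hM nab tr hu (fun e => h1 (by rw [e, map_one]))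
        (hφ (by rw [map_mul, h2, map_one]))
  have hN : ∀ g : G, φ g ∈ 𝐍(M.map φ) := fun g =>
    le_normalizer_map φ (mem_map_of_mem φ (le_normalizer_of_normal (mem_top g)))
  intro u hu b hb ub
  have odd : ∀ w ∈ A, w • b = b → Odd (orderOf w) → w = 1 := fun w hw wb ho => by
    have wa : φ w a = a := h.fix w hw
    refine hφ ((hB.eq_one_of_cent hb wa wb fun σ hσ => ?_).trans (map_one φ).symm)
    obtain ⟨s, sM, rfl⟩ := hB.Sb_le hσ
    have sa : s • a = a := (hB.mem_Sb.1 hσ).2.1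
    have m : φ (w * s * w⁻¹ * s⁻¹) ∈ Sb (M.map φ) a := by
      rw [map_mul, map_mul, map_mul, map_inv, map_inv]
      exact mul_mem (by simpa only [wa] using hB.conj_mem_Sb (hN w) hσ) (inv_mem hσ)
    obtain ⟨n, hn⟩ := (hB.mem_Sb.1 m).2.2
    have hn' : (w * s * w⁻¹ * s⁻¹) ^ 2 ^ n = 1 := hφ (by rw [map_pow, hn, map_one])
    have cop : (orderOf w).Coprime (orderOf (w * s * w⁻¹ * s⁻¹)) :=
      ((Nat.coprime_two_right.2 ho).pow_right n).coprime_dvd_right (orderOf_dvd_of_pow_eq_one hn')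
    have cA : w * s * w⁻¹ * s⁻¹ ∈ A := by
      simpa only [mul_assoc] using mul_mem hw (h.nrm s sa _ (inv_mem hw))
    have cm := H77.commute_of_isNilpotent_of_coprime h.nil hw cA cop
    have e1 : (w⁻¹ * (w * s * w⁻¹ * s⁻¹)) ^ orderOf w = 1 := by
      have : w⁻¹ * (w * s * w⁻¹ * s⁻¹) = s * w⁻¹ * s⁻¹ := by group
      rw [this, conj_pow, inv_pow, pow_orderOf_eq_one]; group
    rw [cm.inv_left.mul_pow, inv_pow, pow_orderOf_eq_one, inv_one, one_mul] at e1
    have e2 : w * s * w⁻¹ * s⁻¹ = 1 := orderOf_eq_one_iff.1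
      (cop.symm.eq_one_of_dvd (orderOf_dvd_of_pow_eq_one e1))
    rw [← map_mul, ← map_mul, mul_inv_eq_iff_eq_mul.1 (mul_inv_eq_one.1 e2)]
  obtain ⟨k, m, hm, e⟩ := Nat.exists_eq_two_pow_mul_odd (orderOf_pos u).ne'
  have pb : ∀ n : ℕ, (u ^ n) • b = b := fun n => pow_mem (show u ∈ stabilizer G b from ub) n
  have u2 : u ^ 2 ^ k = 1 := odd _ (pow_mem hu _) (pb _) (hm.of_dvd_nat (orderOf_dvd_of_pow_eq_one (by
    rw [← pow_mul, ← e, pow_orderOf_eq_one])))
  by_contra u1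
  obtain ⟨n, n1, n2⟩ := H45.HB.exists_inv_pow u1 u2
  have rA := pow_mem hu n
  have rb := pb n
  generalize u ^ n = r at n1 n2 rA rb
  refine n1 (hφ ((EVB.key hB hb (hN r) (by rw [← map_mul, n2, map_one]) (h.fix r rA) rb ?_).trans
    (map_one φ).symm))
  rintro _ ⟨t, tM, rfl⟩ ta tb
  have ta' : t • a = a := ta
  have tb' : t • b = b := tb
  have cA : r * t * r⁻¹ * t⁻¹ ∈ A := by
    simpa only [mul_assoc] using mul_mem rA (h.nrm t ta' _ (inv_mem rA))
  have cb : (r * t * r⁻¹ * t⁻¹) • b = b :=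
    (mul_mem (mul_mem (mul_mem rb tb') (inv_mem rb)) (inv_mem tb') : _ ∈ stabilizer G b)
  have := hB.odd_two (mem_map_of_mem φ (mul_mem (nL.conj_mem t tM r) (inv_mem tM))) hb (h.fix _ cA) cb
  rw [orderOf_injective φ hφ] at this
  rw [← map_mul, ← map_mul, mul_inv_eq_iff_eq_mul.1 (mul_inv_eq_one.1 (odd _ cA cb this))]

end H51.HK
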