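import Cfsg.Agent.Lib.HK.BasA
import Cfsg.Agent.Lib.ZD.BW
import Cfsg.Agent.Lib.Perm.Burnside2
import Cfsg.Agent.S0035

/-! Split rank one groups with nilpotent root groups: coprime action, transfer, the socle. -/

set_option autoImplicit false
set_option linter.unusedSectionVars false

namespace H51.HK

open MulAction Subgroup Matrix H69
open scoped MatrixGroups Classical commutatorElement

variable {G Ω : Type*} [Group G] [MulAction G Ω] [Finite G] [Finite Ω]
variable {U : Ω → Subgroup G}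

theorem cent_pair (s t : G) :
    centralizer ({s, t} : Set G) = centralizer {s} ⊓ centralizer {t} := by
  ext u
  simp [mem_centralizer_iff]

/-- Brauer–Wielandt -/
theorem Cb.bw (h : Cb U) {a : Ω} {s t : G} (hs : Inv s) (ht : Inv t) (hst : s ≠ t)
    (hc : s * t = t * s) (sa : s • a = a) (ta : t • a = a) :
    Nat.card (U a) * Nat.card (UY U {s, t} a) ^ 2 =
      Nat.card (UY U {s} a) * Nat.card (UY U {t} a) * Nat.card (UY U {s * t} a) := by
  have := H24.ZD.card_four hs.1 ht.1 hc hs.2 ht.2 hst (h.odd a) (h.norm sa) (h.norm ta)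
  rw [inf_assoc, ← cent_pair] at this
  exact this

theorem cent_norm {g t : G} (h : g * t = t * g) :
    g ∈ normalizer (centralizer ({t} : Set G) : Set G) := mem_normalizer_iff.2 fun u => by
  rw [mem_centralizer_singleton_iff, mem_centralizer_singleton_iff, ← conj_comm_iff g,
    conj_eq_iff.2 h]

theorem norm_inf {g : G} {A B : Subgroup G} (hA : g ∈ normalizer (A : Set G))
    (hB : g ∈ normalizer (B : Set G)) : g ∈ normalizer ((A ⊓ B : Subgroup G) : Set G) :=
  mem_normalizer_iff.2 fun u => by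
    rw [mem_inf, mem_inf, mem_normalizer_iff.1 hA u, mem_normalizer_iff.1 hB u]

theorem norm_sup {g : G} {A B : Subgroup G} (hA : g ∈ normalizer (A : Set G))
    (hB : g ∈ normalizer (B : Set G)) : g ∈ normalizer ((A ⊔ B : Subgroup G) : Set G) := by
  have key : ∀ g : G, g ∈ normalizer (A : Set G) → g ∈ normalizer (B : Set G) →
      ∀ u ∈ A ⊔ B, g * u * g⁻¹ ∈ A ⊔ B := fun g hA hB u hu => by
    have : A ⊔ B ≤ (A ⊔ B).comap (MulAut.conj g).toMonoidHom := sup_le
      (fun x hx => mem_sup_left ((mem_normalizer_iff.1 hA x).1 hx))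
      fun x hx => mem_sup_right ((mem_normalizer_iff.1 hB x).1 hx)
    exact this hu
  refine mem_normalizer_iff.2 fun u => ⟨key g hA hB u, fun hu => ?_⟩
  simpa [mul_assoc] using key g⁻¹ (inv_mem hA) (inv_mem hB) _ hu

/-- coprime action of a four-group -/
theorem Cb.gen4 (h : Cb U) {a : Ω} {s t : G} (hs : s * s = 1) (ht : t * t = 1)
    (hc : s * t = t * s) (sa : s • a = a) (ta : t • a = a) :
    UY U {s} a ⊔ UY U {t} a ⊔ UY U {s * t} a = U a := by
  have hle : UY U {s} a ⊔ UY U {t} a ⊔ UY U {s * t} a ≤ U a :=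
    sup_le (sup_le inf_le_left inf_le_left) inf_le_left
  have h1 : U a ≤ UY U {1} a := fun u hu => mem_UY1.2 ⟨hu, by simp⟩
  by_cases s1 : s = 1
  · subst s1; exact le_antisymm hle (h1.trans (le_sup_left.trans le_sup_left))
  by_cases t1 : t = 1
  · subst t1; exact le_antisymm hle (h1.trans (le_sup_right.trans le_sup_left))
  by_cases st : s = t
  · subst st; rw [hs] at hle ⊢; exact le_antisymm hle (h1.trans le_sup_right)
  set Y := UY U {s} a ⊔ UY U {t} a ⊔ UY U {s * t} a with hY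
  have nY : ∀ g : G, g • a = a → g * s = s * g → g * t = t * g → g ∈ normalizer (Y : Set G) :=
    fun g ga gs gt => norm_sup (norm_sup (norm_inf (h.norm ga) (cent_norm gs))
      (norm_inf (h.norm ga) (cent_norm gt))) (norm_inf (h.norm ga) (cent_norm (by
        rw [← mul_assoc, gs, mul_assoc, gt, mul_assoc])))
  have e1 := H24.ZD.card_four hs ht hc s1 t1 st (h.odd a) (h.norm sa) (h.norm ta)
  have e2 := H24.ZD.card_four hs ht hc s1 t1 st ((h.odd a).of_dvd_nat (card_dvd_of_le hle))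
    (nY s sa rfl hc) (nY t ta hc.symm rfl)
  have f : ∀ r : G, UY U {r} a ≤ Y → Y ⊓ centralizer {r} = U a ⊓ centralizer {r} := fun r hr =>
    le_antisymm (inf_le_inf_right _ hle) (le_inf hr inf_le_right)
  have f1 := f s (le_sup_left.trans le_sup_left)
  have f2 := f t (le_sup_right.trans le_sup_left)
  have f3 := f (s * t) le_sup_right
  change Nat.card Y * Nat.card ↥(Y ⊓ centralizer {s} ⊓ centralizer {t}) ^ 2 =
    Nat.card ↥(Y ⊓ centralizer {s}) * Nat.card ↥(Y ⊓ centralizer {t}) *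
      Nat.card ↥(Y ⊓ centralizer {s * t}) at e2
  rw [f1, f2, f3] at e2
  exact eq_of_le_of_card_ge hle
    (Nat.eq_of_mul_eq_mul_right (pow_pos Nat.card_pos 2) (e1.trans e2.symm)).le

theorem eq_one_of_odd_two {A : Type*} [Group A] {x : A} {m i : ℕ} (hm : Odd m) (h1 : x ^ m = 1)
    (h2 : x ^ 2 ^ i = 1) : x = 1 := by
  rw [← orderOf_eq_one_iff]
  exact Nat.eq_one_of_dvd_coprimes (Nat.Coprime.pow_right i (Nat.coprime_two_right.2 hm))
    (orderOf_dvd_of_pow_eq_one h1) (orderOf_dvd_of_pow_eq_one h2)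

/-- `G` has no non-trivial 2-quotient -/
theorem C0.hom_triv (h : C0 U) {A : Type*} [Group A] (f : G →* A) (hf : ∀ g, ∃ i, f g ^ 2 ^ i = 1)
    (g : G) : f g = 1 := by
  have : Lt Set.univ U ≤ f.ker := Lt_le_iff.2 fun c _ u hu => by
    obtain ⟨i, hi⟩ := hf u
    exact eq_one_of_odd_two (odd_orderOf (h.toCb.odd c) hu)
      (by rw [← map_pow, pow_orderOf_eq_one, map_one]) hi
  exact this (h.gen ▸ mem_top g)

theorem C0.parity (h : C0 U) {t : G} (ht : t * t = 1) :
    (Fx Ω {t}).ncard % 4 = Nat.card Ω % 4 := by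
  haveI := Fintype.ofFinite Ω
  haveI : Fact (Nat.Prime 2) := ⟨Nat.prime_two⟩
  have h1 := h.hom_triv (Equiv.Perm.sign.comp (MulAction.toPermHom G Ω))
    (fun g => ⟨1, by rw [pow_one, Int.units_sq]⟩) t
  have h2 : (MulAction.toPermHom G Ω t) ^ 2 = 1 := by rw [← map_pow, sq, ht, map_one]
  have h3 := Equiv.Perm.sign_of_pow_two_eq_one h2
  have h4 : Fintype.card (Function.fixedPoints (MulAction.toPermHom G Ω t)) = (Fx Ω {t}).ncard := by
    rw [← Nat.card_eq_fintype_card, Nat.card_coe_set_eq]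
    congr 1
    ext x
    rw [mem_Fx1]; rfl
  have h5 := Equiv.Perm.card_fixedPoints_modEq (f := (MulAction.toPermHom G Ω t : Ω → Ω)) (p := 2)
    (n := 1) (funext fun x => by
      change t • t • x = x
      rw [smul_smul, ht, one_smul])
  have h6 : (Fx Ω {t}).ncard ≤ Nat.card Ω := by
    rw [← Set.ncard_univ]; exact Set.ncard_le_ncard (Set.subset_univ _)
  rw [MonoidHom.comp_apply, h3, neg_one_pow_eq_one_iff_even (by decide), h4] at h1
  rw [h4] at h5
  rw [← Nat.card_eq_fintype_card] at h1 h5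
  obtain ⟨k, hk⟩ := h1
  unfold Nat.ModEq at h5
  omega

theorem C0.index_ne_two (h : C0 U) (M : Subgroup G) : M.index ≠ 2 := fun e => by
  haveI := normal_of_index_eq_two e
  have : M = ⊤ := eq_top_iff.2 fun g _ => (QuotientGroup.eq_one_iff g).1
    (h.hom_triv (QuotientGroup.mk' M) (fun g => ⟨1, by
      rw [pow_one, ← map_pow]; exact (QuotientGroup.eq_one_iff _).2 (sq_mem_of_index_two e g)⟩) g)
  rw [this, index_top] at e
  omega

/-- Transfer of an involution all of whose conjugates in `S` have the same image. -/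
theorem transfer_inv {A : Type*} [CommGroup A] (S : Subgroup G) (hS : Odd S.index) (φ : S →* A)
    {t : G} (ht : t * t = 1) {c : A} (hc : c * c = 1)
    (h : ∀ (g : G) (hg : g⁻¹ * t * g ∈ S), φ ⟨_, hg⟩ = c) : MonoidHom.transfer φ t = c := by
  have := S.fintypeQuotientOfFiniteIndex
  have : Fintype (Quotient (MulAction.orbitRel (zpowers t) (G ⧸ S))) := Fintype.ofFinite _
  rw [MonoidHom.transfer_eq_prod_quotient_orbitRel_zpowers_quot]
  rw [Finset.prod_congr rfl (g := fun q : Quotient (MulAction.orbitRel (zpowers t) (G ⧸ S)) =>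
    c ^ Function.minimalPeriod (t • ·) q.out)]
  · obtain ⟨k, hk⟩ := hS
    rw [Finset.prod_pow_eq_pow_sum, ← index_eq_sum_minimalPeriod S t, hk, pow_succ, pow_mul, sq, hc,
      one_pow, one_mul]
  · intro q _
    have hord : Function.IsPeriodicPt (t • ·) 2 q.out := by
      change t • t • q.out = q.out
      rw [smul_smul, ht, one_smul]
    have key : ∀ (k : ℕ) (hk : q.out.out⁻¹ * t ^ k * q.out.out ∈ S), k ∣ 2 → φ ⟨_, hk⟩ = c ^ k := by
      intro k hk hd
      rcases (Nat.dvd_prime Nat.prime_two).1 hd with rfl | rfl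
      · simpa using h _ (by simpa using hk)
      · rw [sq c, hc, ← φ.map_one]
        congr 1
        exact Subtype.ext (by simp [sq, ht])
    exact key _ _ hord.minimalPeriod_dvd

theorem cyc_inv_uniq {A : Type*} [Group A] [Finite A] [IsCyclic A] {x y : A} (hx : x * x = 1)
    (hy : y * y = 1) (x1 : x ≠ 1) (y1 : y ≠ 1) : x = y := by
  haveI := Fintype.ofFinite A
  by_contra e
  have h1 := IsCyclic.card_pow_eq_one_le (α := A) (n := 2) two_pos
  have h2 : ({1, x, y} : Finset A) ⊆ Finset.univ.filter fun a => a ^ 2 = 1 := by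
    intro z hz
    simp only [Finset.mem_insert, Finset.mem_singleton] at hz
    rcases hz with rfl | rfl | rfl <;> simp [sq, hx, hy]
  have h3 := Finset.card_le_card h2
  rw [Finset.card_eq_three.2 ⟨1, x, y, x1.symm, y1.symm, e, rfl⟩] at h3
  omega

/-- Thompson transfer with a cyclic quotient -/
theorem C0.transfer (h : C0 U) {S M : Subgroup G} (hS : IsSylowIn 2 S ⊤) (hM : M ≤ S)
    (hn : ∀ s ∈ S, ∀ m ∈ M, s * m * s⁻¹ ∈ M) {f : G} (hf : f ∈ S) (hg : S ≤ M ⊔ zpowers f)
    {t : G} (ht : t * t = 1) : ∃ m ∈ M, IsConj t m := by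
  haveI : Fact (Nat.Prime 2) := ⟨Nat.prime_two⟩
  by_contra hno
  push Not at hno
  haveI : (M.subgroupOf S).Normal := ⟨fun m hm s => hn s s.2 m hm⟩
  let π := QuotientGroup.mk' (M.subgroupOf S)
  have hker : ∀ s : S, π s = 1 ↔ (s : G) ∈ M := fun s => QuotientGroup.eq_one_iff s
  haveI : IsCyclic (S ⧸ M.subgroupOf S) := ⟨⟨π ⟨f, hf⟩, fun y => by
    obtain ⟨s, rfl⟩ := QuotientGroup.mk'_surjective _ y
    have h1 : M ⊔ zpowers f ≤ ((zpowers (π ⟨f, hf⟩)).comap π).map S.subtype := sup_le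
      (fun m hm => ⟨⟨m, hM hm⟩, by
        rw [SetLike.mem_coe, mem_comap, (hker ⟨m, hM hm⟩).2 hm]; exact one_mem _, rfl⟩)
      (zpowers_le.2 ⟨⟨f, hf⟩, mem_zpowers _, rfl⟩)
    obtain ⟨s', hs', e⟩ := h1 (hg s.2)
    rwa [show s' = s from Subtype.ext e] at hs'⟩⟩
  letI : CommGroup (S ⧸ M.subgroupOf S) := IsCyclic.commGroup
  have hT : IsPGroup 2 (zpowers t) := by
    rintro ⟨_, i, rfl⟩
    refine ⟨1, Subtype.ext ?_⟩
    change (t ^ i) ^ 2 ^ 1 = 1
    rw [pow_one, sq, ← (Commute.refl t).mul_zpow, ht, _root_.one_zpow]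
  obtain ⟨g₀, -, hg₀⟩ := hS.exists_cj_le hT le_top
  have htS : g₀⁻¹⁻¹ * t * g₀⁻¹ ∈ S := by
    rw [inv_inv]; exact hg₀ ⟨t, mem_zpowers t, rfl⟩
  have hsq : ∀ (g : G) (hg : g⁻¹ * t * g ∈ S), π ⟨_, hg⟩ * π ⟨_, hg⟩ = 1 := fun g hg => by
    rw [← map_mul, ← π.map_one]
    congr 1
    refine Subtype.ext ?_
    calc g⁻¹ * t * g * (g⁻¹ * t * g) = g⁻¹ * (t * t) * g := by group
      _ = 1 := by rw [ht]; group
  have hne : ∀ (g : G) (hg : g⁻¹ * t * g ∈ S), π ⟨_, hg⟩ ≠ 1 := fun g hg e =>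
    hno _ ((hker _).1 e) (isConj_iff.2 ⟨g⁻¹, by rw [inv_inv]⟩)
  have hodd : Odd S.index := by
    have := hS.not_dvd_relIndex; rw [relIndex_top_right] at this; exact Nat.odd_iff.2 (by omega)
  have h2 := transfer_inv S hodd π ht (hsq _ htS) fun g hg =>
    cyc_inv_uniq (hsq g hg) (hsq _ htS) (hne g hg) (hne _ htS)
  rw [h.hom_triv _ fun g => (hS.isP.to_quotient _) _] at h2
  exact hne _ htS h2.symm

theorem C0.odd_bot (h : C0 U) {M : Subgroup G} (hn : M.Normal) (ho : Odd (Nat.card M)) : M = ⊥ :=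
  h.nosolv M hn (Cfsg.Agent.S0205.result ho)

theorem C0.central (h : C0 U) {t : G} (ht : ∀ g, t * g = g * t) : t = 1 := by
  have := h.nosolv (zpowers t) ⟨fun n hn g => by
    obtain ⟨i, rfl⟩ := hn
    rw [conj_eq_iff.2 (Commute.zpow_left (ht g) i).eq.symm]
    exact ⟨i, rfl⟩⟩ (Group.isSolvable_of_comm fun x y => mul_comm' x y)
  exact zpowers_eq_bot.1 this

theorem C0.zstar (h : C0 U) {t : G} (ht : Inv t) : ∃ y, IsConj t y ∧ t * y = y * t ∧ y ≠ t := by
  by_contra hno
  push Not at hno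
  have hO : H42.BSE.Od (⊤ : Subgroup G) = ⊥ := h.odd_bot
    (normalizer_eq_top_iff.1 (eq_top_iff.2 (H45.pcore_normal _ _).2)) (H42.BSE.odd_card_Od _)
  refine ht.2 (h.central fun g => ?_)
  have := H24.ZD.zstar_comm (M := ⊤) (mem_top t) ht.1
    (fun g _ e => hno _ (isConj_iff.2 ⟨g, rfl⟩) e) (mem_top g)
  rw [hO, mem_bot, mul_inv_eq_one, mul_inv_eq_iff_eq_mul] at this
  exact this

theorem C0.soc (h : C0 U) : ∃ M, Soc U M := by
  have h3 := h.three
  haveI : FaithfulSMul G Ω := ⟨fun {g g'} e => by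
    have := h.faith (g⁻¹ * g') fun x => by rw [mul_smul, ← e, inv_smul_smul]
    exact inv_mul_eq_one.1 this⟩
  obtain ⟨a, b, hab⟩ : ∃ a b : Ω, a ≠ b := by
    haveI := Finite.one_lt_card_iff_nontrivial.1 (show 1 < Nat.card Ω by omega)
    exact exists_pair_ne Ω
  have hG : (⊤ : Subgroup G) ≠ ⊥ := fun e => by
    obtain ⟨g, hg⟩ := h.toCb.trans a b
    have h1 : g ∈ (⊥ : Subgroup G) := e ▸ mem_top g
    rw [mem_bot.1 h1, one_smul] at hg
    exact hab hg
  obtain ⟨M, hMn, hM1, -, hmin⟩ := H1.exists_minimal_normal_le ⊤ hG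
  have hnab : ∀ K : Subgroup G, K.Normal → K ≠ ⊥ → ¬ IsMulCommutative K := fun K hK h1 hc =>
    h1 (h.nosolv K hK (Group.isSolvable_of_comm fun x y => mul_comm' x y))
  have hst : ∀ K : Subgroup G, K.Normal → K ≠ ⊥ → ∀ c : Ω, stabilizer K c ≠ ⊥ :=
    fun K hK h1 c e => hnab K hK h1 (H26.elementary_of_regular h.toCb.two e h1).1
  have hsimp := H26.isSimpleGroup_of_minNormal h.toCb.two M hmin (hst M hMn hM1 a)
  have hprim := H26.isPreprimitive_of_minNormal h.toCb.two M hmin (hst M hMn hM1 a)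
  have htr : ∀ c d : Ω, ∃ m ∈ M, m • c = d := fun c d => by
    obtain ⟨m, hm⟩ := exists_smul_eq M c d
    exact ⟨m, m.2, hm⟩
  have hcent : centralizer (M : Set G) = ⊥ := by
    by_contra e
    refine hst _ inferInstance e a (eq_bot_iff.2 fun k hk => Subtype.ext (h.faith _ fun x => ?_))
    obtain ⟨m, hm, rfl⟩ := htr a x
    rw [← mul_smul, ← k.2 m hm, mul_smul]
    exact congrArg _ hk
  have hsup : ∀ c, M ⊔ U c = ⊤ := fun c => by
    rw [eq_top_iff, ← h.gen]
    refine Lt_le_iff.2 fun d _ u hu => ?_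
    obtain ⟨m, hm, rfl⟩ := htr c d
    have h1 : m⁻¹ * u * m ∈ U c := (h.toCb.cj m _ c).1 (by simpa [mul_assoc] using hu)
    simpa [mul_assoc] using mul_mem (mul_mem (mem_sup_left hm) (mem_sup_right h1))
      (mem_sup_left (inv_mem hm) : m⁻¹ ∈ M ⊔ U c)
  refine ⟨M, hMn, hsimp, hnab M hMn hM1, hcent, hsup, ?_, hprim, fun c e => ?_, fun K hK h1 => ?_⟩
  · rw [← relIndex_top_right, ← hsup a, relIndex_sup_left]
    exact (h.toCb.odd a).of_dvd_nat (relIndex_dvd_card _ _)
  · -- `M` would be a Frobenius group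
    have key : ∀ m ∈ M, m • c = c → ∀ d, d ≠ c → m • d = d → m = 1 := fun m hm mc d hd md => by
      refine h.toCb.eq_one hd.symm ⟨mc, md⟩ fun u hu => ?_
      have h1 : m * u * m⁻¹ * u⁻¹ ∈ U c ⊓ M := mem_inf.2 ⟨mul_mem ((mem_normalizer_iff.1
        (h.toCb.norm mc) u).1 hu) (inv_mem hu), by
          rw [mul_assoc, mul_assoc, ← mul_assoc u]
          exact mul_mem hm (hMn.conj_mem _ (inv_mem hm) u)⟩
      rwa [e, mem_bot, mul_inv_eq_one, mul_inv_eq_iff_eq_mul] at h1
    obtain ⟨d, -, hd⟩ := Set.exists_ne_of_one_lt_ncard (s := (Set.univ : Set Ω))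
      (by rw [Set.ncard_univ]; omega) c
    have hT : stabilizer M c ≠ ⊤ := fun e => by
      obtain ⟨m, hm, e'⟩ := htr c d
      exact hd (e'.symm.trans (e ▸ mem_top (⟨m, hm⟩ : M) : (⟨m, hm⟩ : M) ∈ stabilizer M c))
    obtain ⟨K, -, hK, hc⟩ := Cfsg.Agent.S0035.result (stabilizer M c) ⟨hst M hMn hM1 c, hT,
      fun g hg => eq_bot_iff.2 fun x hx => Subtype.ext (key x x.2 hx.1 (g • c) hg (by
        obtain ⟨y, hy, rfl⟩ := hx.2
        change (g * y * g⁻¹) • g • c = g • c
        rw [mul_smul, inv_smul_smul, mul_smul, mem_stabilizer_iff.1 hy]))⟩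
    rcases hK.eq_bot_or_eq_top with rfl | rfl
    · exact hT (isComplement'_bot_left.1 hc)
    · exact hst M hMn hM1 c (isComplement'_top_left.1 hc)
  · rcases hmin (K ⊓ M) inferInstance inf_le_right with e | e
    · refine absurd (eq_bot_iff.2 (hcent ▸ fun k hk m hm => ?_)) h1
      exact (commute_of_normal_of_disjoint K M hK hMn (disjoint_iff.2 e) k m hk hm).eq.symm
    · exact e ▸ inf_le_left

theorem Soc.two_mem {M : Subgroup G} (h : Soc U M) {g : G} {i : ℕ} (hg : g ^ 2 ^ i = 1) :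
    g ∈ M := by
  haveI := h.normal
  refine (QuotientGroup.eq_one_iff g).1 (eq_one_of_odd_two (i := i) h.odd pow_card_eq_one' ?_)
  rw [← QuotientGroup.mk_pow, hg, QuotientGroup.mk_one]

end H51.HK
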