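import Mathlib.Topology.Compactification.OnePoint.ProjectiveLine
import Mathlib.GroupTheory.Nilpotent
import Mathlib.GroupTheory.PGroup
import Mathlib.LinearAlgebra.Matrix.ProjectiveSpecialLinearGroup
import Mathlib.Data.Set.Card
import Mathlib.GroupTheory.GroupAction.FixingSubgroup
import Cfsg.Prelude.Def_LieRecognition
import Cfsg.Prelude.Def_LieTwisted
import Cfsg.Prelude.Def_Classical

/-! Split rank one groups with nilpotent root groups: definitions (blueprint/HKS2.md). -/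

set_option autoImplicit false

namespace H51.HK

open MulAction Subgroup Matrix
open scoped MatrixGroups Classical commutatorElement

variable {G Ω : Type*} [Group G] [MulAction G Ω]

/-- `g` acts trivially on `Δ` -/
def Tr (Δ : Set Ω) (g : G) : Prop := ∀ x ∈ Δ, g • x = x

/-- the group generated by the root groups `V c`, `c ∈ Δ` -/
def Lt (Δ : Set Ω) (V : Ω → Subgroup G) : Subgroup G := ⨆ c ∈ Δ, V c

/-- fixed points of a set of elements -/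
def Fx (Ω : Type*) [MulAction G Ω] (Y : Set G) : Set Ω := {x | ∀ y ∈ Y, y • x = x}

/-- the root groups centralising `Y` -/
def UY (U : Ω → Subgroup G) (Y : Set G) (c : Ω) : Subgroup G := U c ⊓ centralizer Y

/-- the group generated by the root groups centralising `Y` at the fixed points of `Y` -/
def LY (U : Ω → Subgroup G) (Y : Set G) : Subgroup G := Lt (Fx Ω Y) (UY U Y)

/-- the kernel of `N(Y)` on the fixed points of `Y` -/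
def KY (Ω : Type*) [MulAction G Ω] (Y : Set G) : Subgroup G :=
  normalizer Y ⊓ fixingSubgroup G (Fx Ω Y)

/-- `g` acts on `Δ` as an element of `⟨V c⟩` -/
def Inn (Δ : Set Ω) (V : Ω → Subgroup G) (g : G) : Prop := ∃ l ∈ Lt Δ V, Tr Δ (l⁻¹ * g)

/-- two point stabiliser -/
def Hb (G : Type*) [Group G] [MulAction G Ω] (a b : Ω) : Subgroup G :=
  stabilizer G a ⊓ stabilizer G b

/-- involution -/
def Inv (t : G) : Prop := t * t = 1 ∧ t ≠ 1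

/-- `N` acts on `Δ` as a split rank one group with nilpotent root groups `V c` of odd order -/
structure LD (N : Subgroup G) (Δ : Set Ω) (V : Ω → Subgroup G) : Prop where
  inv : ∀ g ∈ N, ∀ x ∈ Δ, g • x ∈ Δ
  le : ∀ c ∈ Δ, V c ≤ N
  fix : ∀ c ∈ Δ, ∀ u ∈ V c, u • c = c
  cj : ∀ g ∈ N, ∀ c ∈ Δ, ∀ u ∈ V c, g * u * g⁻¹ ∈ V (g • c)
  tr : ∀ c ∈ Δ, ∀ x ∈ Δ, ∀ y ∈ Δ, x ≠ c → y ≠ c → ∃ u ∈ V c, u • x = y
  nil : ∀ c ∈ Δ, Group.IsNilpotent (V c)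
  odd : ∀ c ∈ Δ, Odd (Nat.card (V c))

/-- the root groups are regular modulo the kernel -/
def RegOn (Δ : Set Ω) (V : Ω → Subgroup G) : Prop :=
  ∀ c ∈ Δ, ∀ u ∈ V c, ∀ x ∈ Δ, x ≠ c → u • x = x → Tr Δ u

/-! ### type `L₂(q)`, `q` odd -/

/-- `g` acts on `Δ` (coordinates `e`) as the semilinear map `(A, σ)` -/
def Act {F : Type} [Field F] (e : Ω → OnePoint F) (Δ : Set Ω) (g : G) (A : GL (Fin 2) F)
    (σ : F ≃+* F) : Prop :=
  ∀ x ∈ Δ, e (g • x) = A • OnePoint.map σ (e x)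

/-- upper unipotent matrix, acting as `x ↦ x + c` -/
def up {F : Type} [Field F] (c : F) : SL(2, F) := ⟨!![1, c; 0, 1], by simp [det_fin_two]⟩

/-- diagonal matrix in `SL₂`, acting as `x ↦ c² x` -/
def dg {F : Type} [Field F] (c : Fˣ) : SL(2, F) :=
  ⟨!![(c : F), 0; 0, ((c⁻¹ : Fˣ) : F)], by simp [det_fin_two]⟩

/-- antidiagonal matrix in `SL₂`, acting as `x ↦ -c² / x` -/
def ad {F : Type} [Field F] (c : Fˣ) : SL(2, F) :=
  ⟨!![0, (c : F); -((c⁻¹ : Fˣ) : F), 0], by simp [det_fin_two]⟩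

/-- `g` acts on the affine part of `Δ` as `x ↦ c σ(x)` -/
def Sc {F : Type} [Field F] (e : Ω → OnePoint F) (Δ : Set Ω) (g : G) (c : F) (σ : F ≃+* F) :
    Prop :=
  ∀ x ∈ Δ, e (g • x) = OnePoint.map (fun y : F => c * σ y) (e x)

/-- coordinates of type `L₂(q)` at the pair `a, b` -/
structure L2P (N : Subgroup G) (Δ : Set Ω) (V : Ω → Subgroup G) (a b : Ω) (F : Type) [Field F]
    [Fintype F] (e : Ω → OnePoint F) : Prop where
  odd : Odd (Fintype.card F)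
  bij : Set.BijOn e Δ Set.univ
  ea : e a = OnePoint.infty
  eb : e b = ((0 : F) : OnePoint F)
  Vt : ∀ u ∈ V a, ∃ c : F, Act e Δ u (up c : SL(2, F)) (RingEquiv.refl F)
  Lsl : ∀ g ∈ Lt Δ V, ∃ B : SL(2, F), Act e Δ g B (RingEquiv.refl F)
  slL : ∀ B : SL(2, F), ∃ g ∈ Lt Δ V, Act e Δ g B (RingEquiv.refl F)
  Ngl : ∀ g ∈ N, ∃ (A : GL (Fin 2) F) (σ : F ≃+* F), Act e Δ g A σ

/-- the covering map `π : SL₂(q) → ⟨V c⟩` and the conjugation formula -/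
structure L2Q (N : Subgroup G) (Δ : Set Ω) (V : Ω → Subgroup G) (a b : Ω) (F : Type) [Field F]
    [Fintype F] (e : Ω → OnePoint F) (π : SL(2, F) →* G) : Prop extends L2P N Δ V a b F e where
  range : π.range = Lt Δ V
  act : ∀ B : SL(2, F), Act e Δ (π B) B (RingEquiv.refl F)
  upV : ∀ c : F, π (up c) ∈ V a
  Vup : ∀ u ∈ V a, ∃ c : F, u = π (up c)
  conj : ∀ g ∈ N, ∀ (A : GL (Fin 2) F) (σ : F ≃+* F), Act e Δ g A σ → ∀ B B' : SL(2, F),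
    (B' : Matrix (Fin 2) (Fin 2) F) * A = A * (B : Matrix (Fin 2) (Fin 2) F).map σ →
      g * π B * g⁻¹ = π B'

def L2A (N : Subgroup G) (Δ : Set Ω) (V : Ω → Subgroup G) : Prop :=
  ∀ a ∈ Δ, ∀ b ∈ Δ, a ≠ b →
    ∃ (F : Type) (_ : Field F) (_ : Fintype F) (e : Ω → OnePoint F), L2P N Δ V a b F e

def L2G (N : Subgroup G) (Δ : Set Ω) (V : Ω → Subgroup G) : Prop :=
  ∀ a ∈ Δ, ∀ b ∈ Δ, a ≠ b →
    ∃ (F : Type) (_ : Field F) (_ : Fintype F) (e : Ω → OnePoint F) (π : SL(2, F) →* G),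
      L2Q N Δ V a b F e π

/-! ### affine type `AGL₁(2^k)`, `k ≥ 3` -/

structure AfP (N : Subgroup G) (Δ : Set Ω) (V : Ω → Subgroup G) (a b : Ω) (F : Type) [Field F]
    [Fintype F] (e : Ω → F) : Prop where
  two : CharP F 2
  big : 8 ≤ Fintype.card F
  bij : Set.BijOn e Δ Set.univ
  ea : e a = 0
  eb : e b = 1
  Vm : ∀ u ∈ V a, ∃ c : F, ∀ x ∈ Δ, e (u • x) = c * e x
  Laf : ∀ g ∈ Lt Δ V, ∃ c d : F, c ≠ 0 ∧ ∀ x ∈ Δ, e (g • x) = c * e x + d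
  trL : ∀ d : F, ∃ g ∈ Lt Δ V, ∀ x ∈ Δ, e (g • x) = e x + d
  Naf : ∀ g ∈ N, ∃ (c d : F) (σ : F ≃+* F), c ≠ 0 ∧ ∀ x ∈ Δ, e (g • x) = c * σ (e x) + d

def AfA (N : Subgroup G) (Δ : Set Ω) (V : Ω → Subgroup G) : Prop :=
  ∀ a ∈ Δ, ∀ b ∈ Δ, a ≠ b →
    ∃ (F : Type) (_ : Field F) (_ : Fintype F) (e : Ω → F), AfP N Δ V a b F e

/-! ### types `U₃(q)` and `²G₂(q)` -/

/-- `j` is an element of `⟨V c⟩` fixing `a, b` that acts on `Δ` as an involution -/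
def InI (Δ : Set Ω) (V : Ω → Subgroup G) (a b : Ω) (j : G) : Prop :=
  j ∈ Lt Δ V ∧ j • a = a ∧ j • b = b ∧ Tr Δ (j * j) ∧ ¬ Tr Δ j

/-- the elements of `V c` that are central in `V c` modulo the kernel -/
def ZV (Δ : Set Ω) (V : Ω → Subgroup G) (c : Ω) : Set G :=
  {z | z ∈ V c ∧ ∀ u ∈ V c, Tr Δ ⁅z, u⁆}

/-- the block through `a, b` of the unital -/
def Blk (Δ : Set Ω) (V : Ω → Subgroup G) (a b : Ω) : Set Ω :=
  {x | x = a ∨ ∃ z ∈ ZV Δ V a, z • b = x}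

/-- the `SL₂(q)` of the block through `a, b` -/
def LZ (Δ : Set Ω) (V : Ω → Subgroup G) (a b : Ω) : Subgroup G :=
  closure {z | ∃ c ∈ Blk Δ V a b, z ∈ ZV Δ V c}

structure U3P (Δ : Set Ω) (V : Ω → Subgroup G) (p q : ℕ) : Prop where
  pr : p.Prime
  pw : ∃ k, 0 < k ∧ q = p ^ k
  odd : Odd q
  card : Δ.ncard = q ^ 3 + 1
  pg : ∀ c ∈ Δ, ∀ u ∈ V c, ∃ k, Tr Δ (u ^ p ^ k)
  blk : ∀ a ∈ Δ, ∀ b ∈ Δ, a ≠ b → (Blk Δ V a b).ncard = q + 1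
  ex : ∀ a ∈ Δ, ∀ b ∈ Δ, a ≠ b → ∃ j, InI Δ V a b j
  fx : ∀ a ∈ Δ, ∀ b ∈ Δ, a ≠ b → ∀ j, InI Δ V a b j → ∀ x ∈ Δ, j • x = x ↔ x ∈ Blk Δ V a b
  inLZ : ∀ a ∈ Δ, ∀ b ∈ Δ, a ≠ b → ∀ j, InI Δ V a b j → ∃ l ∈ LZ Δ V a b, Tr Δ (l⁻¹ * j)
  ell : ∀ a ∈ Δ, ∀ b ∈ Δ, a ≠ b → ∀ j, InI Δ V a b j → ∃ l ∈ Lt Δ V,
    Tr Δ ⁅l * j * l⁻¹, j⁆ ∧ ∀ x ∈ Blk Δ V a b, (l * j * l⁻¹) • x ≠ x
  semi : ∀ a ∈ Δ, ∀ b ∈ Δ, a ≠ b → ∀ l ∈ LZ Δ V a b, ∀ x ∈ Δ, x ∉ Blk Δ V a b →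
    l • x = x → Tr Δ l

def U3A (Δ : Set Ω) (V : Ω → Subgroup G) : Prop := ∃ p q, U3P Δ V p q

/-- the `L₂(q)` centralising `j` -/
def LS (Δ : Set Ω) (V : Ω → Subgroup G) (j : G) : Subgroup G :=
  closure {v | ∃ c ∈ Δ, j • c = c ∧ v ∈ V c ∧ Tr Δ ⁅v, j⁆}

structure ReP (N : Subgroup G) (Δ : Set Ω) (V : Ω → Subgroup G) (q : ℕ) : Prop where
  pw : ∃ m, q = 3 ^ (2 * m + 1)
  card : Δ.ncard = q ^ 3 + 1
  pg : ∀ c ∈ Δ, ∀ u ∈ V c, ∃ k, Tr Δ (u ^ 3 ^ k)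
  ex : ∀ a ∈ Δ, ∀ b ∈ Δ, a ≠ b → ∃ j, InI Δ V a b j
  fx : ∀ a ∈ Δ, ∀ b ∈ Δ, a ≠ b → ∀ j, InI Δ V a b j → {x | x ∈ Δ ∧ j • x = x}.ncard = q + 1
  two : ∀ a ∈ Δ, ∀ b ∈ Δ, a ≠ b → ∀ j, InI Δ V a b j → ∀ g ∈ N, g • a = a → g • b = b →
    ∀ i : ℕ, Tr Δ (g ^ 2 ^ i) → Tr Δ g ∨ Tr Δ (j⁻¹ * g)
  cjI : ∀ g ∈ Lt Δ V, ∀ g' ∈ Lt Δ V, Tr Δ (g * g) → Tr Δ (g' * g') → ¬ Tr Δ g → ¬ Tr Δ g' →
    ∃ l ∈ Lt Δ V, Tr Δ (g'⁻¹ * (l * g * l⁻¹))
  sq : ∀ g ∈ Lt Δ V, ∀ i : ℕ, Tr Δ (g ^ 2 ^ i) → Tr Δ (g * g)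
  sub : ∀ a ∈ Δ, ∀ b ∈ Δ, a ≠ b → ∀ j, InI Δ V a b j → ∀ g ∈ LS Δ V j,
    (∀ x ∈ Δ, j • x = x → g • x = x) → Tr Δ g

def ReA (N : Subgroup G) (Δ : Set Ω) (V : Ω → Subgroup G) : Prop := ∃ q, ReP N Δ V q

/-- the conclusion of the theorem on the level of the action -/
def Con (N : Subgroup G) (Δ : Set Ω) (V : Ω → Subgroup G) : Prop :=
  RegOn Δ V ∧ (L2A N Δ V ∨ U3A Δ V ∨ ReA N Δ V ∨ AfA N Δ V)

/-- the kernel of `⟨V c⟩` on `Δ` has odd order -/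
def OddK (Δ : Set Ω) (V : Ω → Subgroup G) : Prop := ∀ g ∈ Lt Δ V, Tr Δ g → Odd (orderOf g)

/-- `⟨V c⟩` is faithful on `Δ` -/
def TrivK (Δ : Set Ω) (V : Ω → Subgroup G) : Prop := ∀ g ∈ Lt Δ V, Tr Δ g → g = 1

/-! ### the types of the subsets `Y` of `G` in the regular case -/

def TL (U : Ω → Subgroup G) (Y : Set G) : Prop := L2G (normalizer Y) (Fx Ω Y) (UY U Y)
def TU (U : Ω → Subgroup G) (Y : Set G) : Prop :=
  U3A (Fx Ω Y) (UY U Y) ∧ OddK (Fx Ω Y) (UY U Y)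
def TR (U : Ω → Subgroup G) (Y : Set G) : Prop :=
  ReA (normalizer Y) (Fx Ω Y) (UY U Y) ∧ OddK (Fx Ω Y) (UY U Y)
def TA (U : Ω → Subgroup G) (Y : Set G) : Prop :=
  AfA (normalizer Y) (Fx Ω Y) (UY U Y) ∧ TrivK (Fx Ω Y) (UY U Y)

/-! ### the goal -/

/-- the root groups `P c` are regular and Sylow in `L = ⟨P c⟩`, a group of Lie rank one -/
def Kn (P : Ω → Subgroup G) : Prop :=
  (∀ a b : Ω, b ≠ a → ∀ u ∈ P a, u • b = b → u = 1) ∧ ∃ p : ℕ, p.Prime ∧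
    (∀ c, IsPGroup p (P c) ∧ ¬ p ∣ (P c).relIndex (Lt Set.univ P)) ∧
    ((∃ (F : Type) (_ : Field F) (_ : Fintype F), CharP F p ∧
        Nonempty (Lt Set.univ P ≃* PSL(2, F))) ∨
      (∃ (F : Type) (_ : Field F) (_ : Fintype F) (q : ℕ), CharP F p ∧ Fintype.card F = q ^ 2 ∧
        Nonempty (Lt Set.univ P ≃* Cfsg.PSU 3 F q)) ∨
      (p = 3 ∧ ∃ (K : Type) (_ : Field K) (_ : Fintype K) (m : ℕ),
        Fintype.card K = 3 ^ (2 * m + 1) ∧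
          Nonempty (Lt Set.univ P ≃* Cfsg.Lie.twistedG2 K (3 ^ m))))

/-- `G` acts on `Ω` with a family of root groups of a known group -/
def Gl (G Ω : Type*) [Group G] [MulAction G Ω] : Prop :=
  ∃ P : Ω → Subgroup G, LD ⊤ Set.univ P ∧ Kn P

/-- the two properties that show that the root groups of a known group are unique -/
def O12 (P : Ω → Subgroup G) (p : ℕ) : Prop := ∀ a b : Ω, a ≠ b → ∀ g ∈ Hb G a b,
  (∃ k : ℕ, g ^ p ^ k = 1) →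
    (g ∈ Lt Set.univ P ∨ ∀ d ∈ Lt Set.univ P, d ∈ Hb G a b → g * d = d * g) → g = 1

/-! ### contexts -/

/-- faithful, at least three points -/
structure Cb (U : Ω → Subgroup G) : Prop where
  ld : LD ⊤ Set.univ U
  faith : ∀ g : G, (∀ x : Ω, g • x = x) → g = 1
  three : 3 ≤ Nat.card Ω

/-- generated by the root groups, no solvable normal subgroup -/
structure C0 (U : Ω → Subgroup G) : Prop extends Cb U where
  gen : Lt Set.univ U = ⊤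
  nosolv : ∀ M : Subgroup G, M.Normal → IsSolvable M → M = ⊥

/-- the regular case, with the consequences of the induction hypothesis -/
structure Cx (U : Ω → Subgroup G) : Prop extends C0 U where
  reg : ∀ a b : Ω, b ≠ a → ∀ u ∈ U a, u • b = b → u = 1
  ih : ∀ Y : Set G, (∃ y ∈ Y, y ≠ 1) → 3 ≤ (Fx Ω Y).ncard → TL U Y ∨ TU U Y ∨ TR U Y ∨ TA U Y

/-- the non-regular case, with the induction hypotheses -/
structure Cy (U : Ω → Subgroup G) : Prop extends C0 U where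
  nreg : ∀ a b : Ω, b ≠ a → ∃ u ∈ U a, u • b = b ∧ u ≠ 1
  ih : ∀ (N : Subgroup G) (Δ : Set Ω) (V : Ω → Subgroup G), LD N Δ V → Δ ≠ Set.univ →
    3 ≤ Δ.ncard → Con N Δ V
  ih2 : ∀ V : Ω → Subgroup G, LD ⊤ Set.univ V → (∀ c, V c ≤ U c) → (∃ c, V c ≠ U c) → Gl G Ω

/-- the socle: simple, of odd index, primitive -/
structure Soc (U : Ω → Subgroup G) (M : Subgroup G) : Prop where
  normal : M.Normal
  simple : IsSimpleGroup M
  nab : ¬ IsMulCommutative M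
  cent : centralizer (M : Set G) = ⊥
  sup : ∀ c, M ⊔ U c = ⊤
  odd : Odd M.index
  prim : IsPreprimitive M Ω
  meet : ∀ c, U c ⊓ M ≠ ⊥
  min : ∀ K : Subgroup G, K.Normal → K ≠ ⊥ → M ≤ K

/-! ### hypotheses of the case division -/

/-- no involution has type `U₃` -/
def Ty3 (U : Ω → Subgroup G) : Prop :=
  ∀ t : G, Inv t → 3 ≤ (Fx Ω {t}).ncard → TL U {t} ∨ TR U {t} ∨ TA U {t}

/-- every involution with a fixed point has type `L₂` -/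
def AllL (U : Ω → Subgroup G) : Prop := ∀ t : G, Inv t → (∃ c : Ω, t • c = c) → TL U {t}

/-- two point stabilisers have 2-rank at most two -/
def Rk2 (G Ω : Type*) [Group G] [MulAction G Ω] : Prop :=
  ∀ a b : Ω, a ≠ b → ∀ s ∈ Hb G a b, ∀ t ∈ Hb G a b, ∀ r ∈ Hb G a b, Inv s → Inv t → s ≠ t →
    r * r = 1 → s * t = t * s → s * r = r * s → t * r = r * t →
      r = 1 ∨ r = s ∨ r = t ∨ r = s * t

/-- two point stabilisers have 2-rank at most one -/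
def Rk1 (G Ω : Type*) [Group G] [MulAction G Ω] : Prop :=
  ∀ a b : Ω, a ≠ b → ∀ s ∈ Hb G a b, ∀ t ∈ Hb G a b, Inv s → Inv t → s * t = t * s → s = t

/-- four-groups fix at most two points -/
def NV (G Ω : Type*) [Group G] [MulAction G Ω] : Prop :=
  ∀ s t : G, Inv s → Inv t → s ≠ t → s * t = t * s → (Fx Ω ({s, t} : Set G)).ncard ≤ 2

/-- `x` is the central involution of `L_x ≅ SL₂(q)` -/
def SLt (U : Ω → Subgroup G) (x : G) : Prop := Inv x ∧ x ∈ LY U {x} ∧ TL U {x}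

/-- no conjugate of `x` other than `x` commutes with `x` and fixes a fixed point of `x` -/
def NoHyp (Ω : Type*) [MulAction G Ω] (x : G) : Prop :=
  ∀ y : G, IsConj x y → x * y = y * x → (∃ c : Ω, x • c = c ∧ y • c = c) → y = x

/-- the configuration of type `G₂(q)`: `K` is the kernel of `C(x)` on the fixed points of `x` -/
structure GTc (U : Ω → Subgroup G) (a b : Ω) (x t : G) : Prop where
  ne : a ≠ b
  sl : SLt U x
  xH : x ∈ Hb G a b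
  tH : t ∈ Hb G a b
  ti : Inv t
  tx : t ≠ x
  cm : x * t = t * x
  all : ∀ y : G, Inv y → IsConj x y
  c4 : ∃ c ∈ KY Ω ({x} : Set G), c * c = x ∧ c * t * c⁻¹ = t * x
  /-- 2-elements of `C_H(x)` commute with `D_x` (no field automorphism of even order) -/
  sc : ∀ g ∈ Hb G a b, g * x = x * g → (∃ i : ℕ, g ^ 2 ^ i = 1) →
    ∀ d ∈ LY U {x}, d ∈ Hb G a b → g * d = d * g
  /-- an outer diagonal 2-element that does not act on a Sylow `Q₈` of `K` as an inner automorphism -/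
  out : ∃ γ ∈ Hb G a b, γ * x = x * γ ∧ γ * t = t * γ ∧ (∃ i : ℕ, γ ^ 2 ^ i = 1) ∧
    ¬ Inn (Fx Ω {x}) (UY U {x}) γ ∧
    ∀ T : Subgroup G, IsPGroup 2 T → T ≤ KY Ω {x} → (∀ k ∈ T, γ * k * γ⁻¹ ∈ T) →
      Nat.card T = 8 → ¬ 16 ∣ Nat.card (KY Ω ({x} : Set G)) → ∃ k ∈ T, ⁅γ, k⁆ * ⁅γ, k⁆ ≠ 1

/-! ### the top level -/

/-- the induction hypothesis on the degree -/
def IHn (n : ℕ) : Prop := ∀ (X Λ : Type) [Group X] [Finite X] [MulAction X Λ] [Finite Λ]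
  (V : Λ → Subgroup X), Cb V → Nat.card Λ < n → Con ⊤ Set.univ V

/-- a faithful doubly transitive group with a nilpotent normal subgroup `U` of `G_a` that is
transitive on the remaining points -/
structure Top (U : Subgroup G) (a : Ω) : Prop where
  two : IsMultiplyPretransitive G Ω 2
  faith : ∀ g : G, (∀ x : Ω, g • x = x) → g = 1
  three : 3 ≤ Nat.card Ω
  fix : ∀ u ∈ U, u • a = a
  nrm : ∀ g : G, g • a = a → ∀ u ∈ U, g * u * g⁻¹ ∈ U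
  tr : ∀ x y : Ω, x ≠ a → y ≠ a → ∃ u ∈ U, u • x = y
  nil : Group.IsNilpotent U

end H51.HK
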