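import Cfsg.Agent.Lib.HK.Defs
import Cfsg.Agent.Lib.LocStruct.SylowIn
import Cfsg.Prelude.Def_KGroupFacts
import Cfsg.Prelude.Def_CaseTheorems
import Cfsg.Prelude.Def_Spor_J1
import Cfsg.Prelude.Def_Transfer

/-! Split rank one groups with nilpotent root groups: more definitions (blueprint/HKS2.md). -/

set_option autoImplicit false

namespace H51.HK

open MulAction Subgroup H69
open scoped commutatorElement

variable {G Ω : Type*} [Group G] [MulAction G Ω]

/-- the kernels of the finite stem extensions have odd order -/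
def OddM (X : Type*) [Group X] : Prop :=
  ∀ (E : Type) [Group E] [Finite E] (f : E →* X), Cfsg.IsStemExtension f → Odd (Nat.card f.ker)

/-- the conclusion of the theorem for a faithful group -/
def Cn (V : Ω → Subgroup G) : Prop :=
  RegOn Set.univ V ∧ (L2A ⊤ Set.univ V ∨ (U3A Set.univ V ∧ OddM (Lt Set.univ V)) ∨
    (ReA ⊤ Set.univ V ∧ OddM (Lt Set.univ V)) ∨ AfA ⊤ Set.univ V)

/-- the induction hypothesis on the degree -/
def IH2 (n : ℕ) : Prop := ∀ (X Λ : Type) [Group X] [Finite X] [MulAction X Λ] [Finite Λ]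
  (V : Λ → Subgroup X), Cb V → Nat.card Λ < n → Cn V

/-- the root groups are faithful on `Δ` -/
def FaithV (Δ : Set Ω) (V : Ω → Subgroup G) : Prop := ∀ c ∈ Δ, ∀ u ∈ V c, Tr Δ u → u = 1

/-- `G` has no non-trivial solvable normal subgroup -/
def NoSolv (G : Type*) [Group G] : Prop := ∀ M : Subgroup G, M.Normal → IsSolvable M → M = ⊥

/-- the root groups are regular -/
def Reg (P : Ω → Subgroup G) : Prop := ∀ a b : Ω, b ≠ a → ∀ u ∈ P a, u • b = b → u = 1

/-- the root groups are Sylow `p`-subgroups of the group that they generate -/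
def SylF (P : Ω → Subgroup G) (p : ℕ) : Prop :=
  ∀ c, IsPGroup p (P c) ∧ ¬ p ∣ (P c).relIndex (Lt Set.univ P)

/-- a two point stabiliser has an abelian Sylow 2-subgroup -/
def AbT (G Ω : Type*) [Group G] [MulAction G Ω] : Prop :=
  ∃ a b : Ω, a ≠ b ∧ ∃ T : Subgroup G, IsSylowIn 2 T (Hb G a b) ∧ IsMulCommutative T

/-- the product of two distinct commuting conjugates of `z` is conjugate to `z` -/
def PrJ (z : G) : Prop := ∀ y : G, IsConj z y → z * y = y * z → y ≠ z → IsConj z (z * y)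

/-- an involution of affine type is centralised by no involution that fixes three of its fixed
points but not all of them -/
def NoAf (U : Ω → Subgroup G) : Prop := ∀ s t : G, Inv s → Inv t → s * t = t * s → TA U {t} →
  3 ≤ (Fx Ω ({s, t} : Set G)).ncard → Tr (Fx Ω {t}) s

/-- the stabiliser of `b` in the root group at `a` -/
def PP (U : Ω → Subgroup G) (a b : Ω) : Subgroup G := U a ⊓ stabilizer G b

/-- the line through `a` and `b` -/
def Ln (U : Ω → Subgroup G) (a b : Ω) : Set Ω := Fx Ω (PP U a b : Set G)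

/-- the root groups of the line through `a` and `b` -/
def YY (U : Ω → Subgroup G) (a b c : Ω) : Subgroup G := U c ⊓ normalizer (PP U a b : Set G)

/-- the configuration of the non-regular case at the pair `a, b` -/
structure NRc (U : Ω → Subgroup G) (a b : Ω) (p : ℕ) (R N : Subgroup G) : Prop where
  ne : a ≠ b
  pr : p.Prime
  /-- elements of a root group with a second fixed point lie in the root groups of all their
  fixed points -/
  sym : ∀ c d d' : Ω, d ≠ c → ∀ x ∈ U c, x • d = d → x • d' = d' → x ∈ U d'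
  ld : LD (normalizer (PP U a b : Set G)) (Ln U a b) (YY U a b)
  ha : a ∈ Ln U a b
  hb : b ∈ Ln U a b
  three : 3 ≤ (Ln U a b).ncard
  nu : Ln U a b ≠ Set.univ
  /-- the setwise stabiliser of `{a, b}` normalises `P` and `R` -/
  nP : ∀ g : G, (g • a = a ∧ g • b = b ∨ g • a = b ∧ g • b = a) →
    g ∈ normalizer (PP U a b : Set G) ∧ ∀ x ∈ R, g * x * g⁻¹ ∈ R
  ker : ∀ c ∈ Ln U a b, ∀ u ∈ U c, Tr (Ln U a b) u ↔ u ∈ PP U a b
  Rne : R ≠ ⊥
  RP : R ≤ PP U a b
  Rp : ∀ x ∈ R, x ^ p = 1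
  RZ : ∀ x ∈ R, ∀ y ∈ PP U a b, x * y = y * x
  fx : ∀ x ∈ R, x ≠ 1 → Fx Ω {x} = Ln U a b
  cY : ∀ x ∈ R, x ≠ 1 → ∀ c ∈ Ln U a b, UY U {x} c = YY U a b c
  NU : N ≤ U a
  Np : IsPGroup p N
  Nn : ∀ g : G, g • a = a → ∀ v ∈ N, g * v * g⁻¹ ∈ N
  Nsr : ∀ v ∈ N, ∀ c : Ω, c ≠ a → v • c = c → v = 1
  Nc : ∀ x ∈ R, ∀ u ∈ U a, ⁅u, x⁆ ∈ N
  /-- central elements of the root group: they are semiregular and lie in `Y` -/
  Zsr : ∀ z ∈ U a, (∀ u ∈ U a, z * u = u * z) → ∀ c : Ω, c ≠ a → z • c = c → z = 1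
  /-- Fisher's inequality -/
  fisher : (Ln U a b).ncard ≤ (YY U a b a).relIndex (U a)
  /-- there is an element of the normaliser of `Y` outside `Y` -/
  exY : ∃ y ∈ U a, y ∉ YY U a b a ∧ y ∈ normalizer (YY U a b a : Set G)
  /-- coprime action -/
  cop : ∀ g : G, (orderOf g).Coprime (Nat.card (U a)) →
    LD (normalizer ({g} : Set G)) (Fx Ω {g}) (UY U {g})
  cfx : ∀ g ∈ Hb G a b, g ≠ 1 → (orderOf g).Coprime (Nat.card (U a)) → ∀ x ∈ R, x ≠ 1 →
    g * x = x * g → Fx Ω {g} ⊆ Ln U a b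
  /-- an involution centralising an element of `R` moves a central element of `Y` in `N` -/
  mv : ∀ j ∈ Hb G a b, Inv j → ∀ x ∈ R, x ≠ 1 → j * x = x * j →
    ∃ v ∈ N ⊓ YY U a b a, (∀ y ∈ YY U a b a, v * y = y * v) ∧ j * v ≠ v * j
  /-- an involution inverting an element of `R` -/
  iv : ∀ w ∈ Hb G a b, Inv w → ∀ x ∈ R, x ≠ 1 → w * x * w = x⁻¹ → (Fx Ω {w}).ncard % p = 1
  /-- the layer lemma -/
  lay : ∀ t ∈ Hb G a b, Inv t → ∀ x ∈ R, x ≠ 1 → t * x * t = x⁻¹ → Fx Ω {t} ≠ Ln U a b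

end H51.HK
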