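import Cfsg.Agent.Lib.SL2Elt.Sylow
import Cfsg.Agent.Lib.SL2.Borel
import Cfsg.Agent.Lib.Ree.LieModel
import Cfsg.Agent.Lib.Char.BurnsidePQ
import Cfsg.Agent.S0813
import Cfsg.Agent.S1075
import Cfsg.Agent.S0252
import Cfsg.Agent.S0253

/-! Facts on `PSL₂(q)` for the package EL of blueprint/HKS2.md. -/

set_option autoImplicit false
set_option linter.unusedSectionVars false

namespace H65.EL

open Subgroup Matrix H64.SL2
open scoped MatrixGroups

section psl
variable {F : Type*} [Field F] [Fintype F] {X : Type*} [Group X]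

/-- the covering map -/
noncomputable def cov (e : X ≃* PSL(2, F)) : SL(2, F) →* X := e.symm.toMonoidHom.comp proj

theorem eqns_cov : True := by
  have := @cov.eq_1.{0, 0}
  trivial

theorem cov_surj (e : X ≃* PSL(2, F)) : Function.Surjective (cov e) :=
  e.symm.surjective.comp proj_surjective

theorem cov_eq_iff (e : X ≃* PSL(2, F)) {g h : SL(2, F)} : cov e g = cov e h ↔ g = h ∨ g = -h := by
  rw [← proj_eq_iff]
  exact e.symm.injective.eq_iff

theorem cov_neg (e : X ≃* PSL(2, F)) (g : SL(2, F)) : cov e (-g) = cov e g :=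
  (cov_eq_iff e).2 (Or.inr rfl)

/-- elements of odd order are determined by their images -/
theorem eq_of_cov (e : X ≃* PSL(2, F)) {g h : SL(2, F)} {n : ℕ} (hn : Odd n) (hg : g ^ n = 1)
    (hh : h ^ n = 1) (H : cov e g = cov e h) : g = h := by
  rcases (cov_eq_iff e).1 H with H | H
  · exact H
  · rw [H, hn.neg_pow, hh] at hg
    rw [H, ← neg_one_mul, hg, one_mul]

theorem exists_lift (e : X ≃* PSL(2, F)) {u : X} {n : ℕ} (hn : Odd n) (hu : u ^ n = 1) :
    ∃ g, cov e g = u ∧ g ^ n = 1 := by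
  obtain ⟨g, rfl⟩ := cov_surj e u
  rw [← map_pow, ← map_one (cov e)] at hu
  rcases (cov_eq_iff e).1 hu with H | H
  · exact ⟨g, rfl, H⟩
  · exact ⟨-g, cov_neg e g, by rw [hn.neg_pow, H, neg_neg]⟩

theorem comm_of_cov (e : X ≃* PSL(2, F)) {g x : SL(2, F)} {n : ℕ} (hn : Odd n) (hg : g ^ n = 1)
    (H : cov e x * cov e g = cov e g * cov e x) : x * g = g * x := by
  have : x * g * x⁻¹ = g := eq_of_cov e hn (by rw [conj_pow, hg]; group) hg (by
    rw [map_mul, map_mul, H, map_inv, mul_inv_cancel_right])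
  rwa [mul_inv_eq_iff_eq_mul] at this

/-- the torus of an element of odd prime order prime to `q` -/
theorem torus (e : X ≃* PSL(2, F)) {u : X} {r : ℕ} (hr : r.Prime) (hr2 : r ≠ 2)
    (hq : ¬ r ∣ Fintype.card F) (hu : u ^ r = 1) (h1 : u ≠ 1) :
    ∃ (T N : Subgroup X) (t : ℕ), (t + 1 = Nat.card F ∨ t = Nat.card F + 1) ∧ Nat.card T ∣ t ∧
      N.index * (2 * t) = Nat.card F * (Nat.card F - 1) * (Nat.card F + 1) ∧
      (∀ x, x * u = u * x → x ∈ T) ∧ ∀ x, x * u * x⁻¹ * u = u * (x * u * x⁻¹) → x ∈ N := by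
  have ho := hr.odd_of_ne_two hr2
  obtain ⟨g, rfl, hg⟩ := exists_lift e ho hu
  have : Fact r.Prime := ⟨hr⟩
  have hg1 : g ≠ 1 := fun h => h1 (by rw [h, map_one])
  have ht := tr_sq_ne_four_of_orderOf_prime hr hr2 hq (orderOf_eq_prime hg hg1)
  have hT : ∀ x, cov e x * cov e g = cov e g * cov e x → x ∈ centralizer ({g} : Set SL(2, F)) :=
    fun x hx => mem_centralizer_singleton_iff.2 (comm_of_cov e ho hg hx)
  refine ⟨(centralizer {g}).map (cov e),
    (normalizer (centralizer ({g} : Set SL(2, F)) : Set SL(2, F))).map (cov e),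
    Nat.card (centralizer ({g} : Set SL(2, F))), ?_, card_map_dvd _ _, ?_, ?_, ?_⟩
  · by_cases hs : Split g
    · left
      rw [card_centralizer_of_split ht hs]
      have := Nat.card_pos (α := F)
      omega
    · exact Or.inr (card_centralizer_of_not_split hs)
  · rw [index_map_eq _ (cov_surj e), ← card_normalizer_centralizer ht, index_mul_card,
      H10.card_SL_two]
    intro x hx
    refine le_normalizer (hT x ?_)
    rw [MonoidHom.mem_ker.1 hx, one_mul, mul_one]
  · intro x hx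
    obtain ⟨x, rfl⟩ := cov_surj e x
    exact mem_map_of_mem _ (hT x hx)
  · intro x hx
    obtain ⟨x, rfl⟩ := cov_surj e x
    refine mem_map_of_mem _ (mem_normalizer_of_conj_mem ht (hT _ ?_))
    simpa only [map_mul, map_inv] using hx

variable {p : ℕ} [Fact p.Prime] [CharP F p]

theorem sylow_ti [Finite X] (e : X ≃* PSL(2, F)) (hp : Odd p) (P Q : Sylow p X) {x : X}
    (h1 : x ∈ P) (h2 : x ∈ Q) (hx : x ≠ 1) : P = Q := by
  obtain ⟨P', rfl⟩ := Sylow.mapSurjective_surjective (cov_surj e) p P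
  obtain ⟨Q', rfl⟩ := Sylow.mapSurjective_surjective (cov_surj e) p Q
  obtain ⟨a, ha, rfl⟩ := mem_map.1 (show x ∈ (P' : Subgroup SL(2, F)).map (cov e) from h1)
  obtain ⟨b, hb, hab⟩ := mem_map.1 (show cov e a ∈ (Q' : Subgroup SL(2, F)).map (cov e) from h2)
  obtain ⟨i, hi⟩ := P'.isPGroup' ⟨a, ha⟩
  obtain ⟨j, hj⟩ := Q'.isPGroup' ⟨b, hb⟩
  have hi' : a ^ p ^ i = 1 := congrArg Subtype.val hi
  have hj' : b ^ p ^ j = 1 := congrArg Subtype.val hj
  have : b = a := eq_of_cov e (n := p ^ (i + j)) hp.pow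
    (by rw [add_comm, pow_add, pow_mul, hj', one_pow]) (by rw [pow_add, pow_mul, hi', one_pow]) hab
  subst this
  by_contra hne
  have := H10.sylow_char_SL_two_inf p P' Q' fun h => hne (by rw [h])
  have hb1 : b ∈ (⊥ : Subgroup SL(2, F)) := this ▸ mem_inf.2 ⟨ha, hb⟩
  exact hx (by rw [mem_bot.1 hb1, map_one])

theorem sylow_card [Finite X] (e : X ≃* PSL(2, F)) (hp : Odd p) (P : Sylow p X) :
    Nat.card P = Nat.card F := by
  obtain ⟨P', rfl⟩ := Sylow.mapSurjective_surjective (cov_surj e) p P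
  have h1 : Nat.card P' = Nat.card F := by
    rw [← H10.card_unitriSL_two (F := F)]
    exact Nat.card_congr (Sylow.equiv P' (H10.unitriSylowSL (Fin 2) F p)).toEquiv
  rw [← h1]
  symm
  refine Nat.card_eq_of_bijective ((cov e).subgroupMap P')
    ⟨(injective_iff_map_eq_one _).2 fun a ha => ?_, (cov e).subgroupMap_surjective P'⟩
  obtain ⟨i, hi⟩ := P'.isPGroup' a
  exact Subtype.ext (eq_of_cov e (n := p ^ i) hp.pow (congrArg Subtype.val hi) (one_pow _)
    ((congrArg Subtype.val ha).trans (map_one (cov e)).symm))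

theorem sylow_num [Finite X] (e : X ≃* PSL(2, F)) : Nat.card (Sylow p X) = Nat.card F + 1 := by
  rw [← H29.card_sylow_char_PSL (F := F) p]
  refine Nat.card_eq_of_bijective (Sylow.mapSurjective (f := e.toMonoidHom) e.surjective)
    ⟨fun P Q h => Sylow.ext (map_injective (f := e.toMonoidHom) e.injective ?_),
      Sylow.mapSurjective_surjective _ p⟩
  exact congrArg (fun R : Sylow p PSL(2, F) => (R : Subgroup PSL(2, F))) h

omit [Fact p.Prime] [CharP F p] in
theorem card_eq (e : X ≃* PSL(2, F)) : Nat.gcd 2 (Nat.card F - 1) * Nat.card X =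
    Nat.card F * (Nat.card F - 1) * (Nat.card F + 1) := by
  rw [Nat.card_congr e.toEquiv, H10.card_PSL_two]

omit [Fact p.Prime] [CharP F p] in
theorem four_le [Finite X] [IsSimpleGroup X] (hX : ¬ IsMulCommutative X) (e : X ≃* PSL(2, F)) :
    4 ≤ Nat.card F := by
  by_contra h
  have h2 : 1 < Nat.card F := Finite.one_lt_card
  have h3 : Nat.card X ∣ 2 ^ 3 * 3 ^ 1 := by
    refine (Dvd.intro_left _ (card_eq e)).trans ?_
    obtain h | h : Nat.card F = 2 ∨ Nat.card F = 3 := by omega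
    all_goals rw [h]; norm_num
  exact hX ⟨⟨IsSimpleGroup.comm_iff_isSolvable.2
    (H8.isSolvable_of_card_dvd Nat.prime_two Nat.prime_three h3)⟩⟩

omit [CharP F p] in
theorem card_aut (e : X ≃* PSL(2, F)) {f : ℕ} (hF : Nat.card F = p ^ f) (h4 : 4 ≤ Nat.card F) :
    Nat.card (MulAut X) = f * (Nat.gcd 2 (Nat.card F - 1) * Nat.card X) := by
  have hf : 1 ≤ f := by
    rcases f with _ | f
    · rw [hF] at h4; simp at h4
    · omega
  rw [Nat.card_congr (MulAut.congr e).toEquiv, Cfsg.Agent.S0813.result p f hf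
    (by rw [← Nat.card_eq_fintype_card, hF]) 2 le_rfl (fun _ => hF ▸ h4), card_eq e, H10.card_PGL_two]
  simp

omit [Fact p.Prime] [CharP F p] in
theorem iso_five (e : X ≃* PSL(2, F)) (hF : Nat.card F = 4) [Fact (Nat.Prime 5)] :
    Nonempty (X ≃* PSL(2, ZMod 5)) := by
  obtain ⟨a⟩ := Cfsg.Agent.S0252.result (F := F) (by rw [← Nat.card_eq_fintype_card, hF])
  obtain ⟨b⟩ := Cfsg.Agent.S0253.result (F := ZMod 5) (ZMod.card 5)
  exact ⟨(e.trans a).trans b.symm⟩

end psl

section aut
variable {G : Type*} [Group G] [Finite G] {M : Subgroup G} [M.Normal]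

theorem conjNormal_inj (hC : centralizer (M : Set G) = ⊥) :
    Function.Injective (MulAut.conjNormal : G →* MulAut M) := by
  refine (injective_iff_map_eq_one _).2 fun g hg => ?_
  rw [← mem_bot, ← hC]
  intro m hm
  have := congrArg (fun α : MulAut M => ((α ⟨m, hm⟩ : M) : G)) hg
  simp only [MulAut.conjNormal_apply, MulAut.one_apply] at this
  exact (mul_inv_eq_iff_eq_mul.1 this).symm

theorem iso_aut (hC : centralizer (M : Set G) = ⊥) (h : Nat.card G = Nat.card (MulAut M)) :
    Nonempty (G ≃* MulAut M) :=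
  ⟨MulEquiv.ofBijective MulAut.conjNormal
    ((Nat.bijective_iff_injective_and_card _).2 ⟨conjNormal_inj hC, h⟩)⟩

end aut

section ree
open H40.Ree

theorem ree_center {G K : Type*} [Group G] [Field K] [CharP K 3] (S : Model G K) {z : G}
    (hz : ∀ g, g * z = z * g) : z = 1 := by
  have h1 : z • S.inf = S.inf := S.fix_of_mem_U (S.u_mem_U 1 0 0) (by simp [S.u_eq_one])
    (by rw [smul_smul, hz, mul_smul, S.u_smul_inf])
  refine S.eq_one_of_fix_all fun p => ?_
  obtain ⟨g, rfl⟩ := S.exists_smul_inf p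
  rw [smul_smul, ← hz, mul_smul, h1]

theorem cent_eq_bot {R : Type*} [Group R] [Finite R] {J : Subgroup R} (hs : IsSimpleGroup J)
    (hJ : ¬ (Nat.card J).Prime) (hi : J.index.Prime) (hz : ∀ z : R, (∀ g, g * z = z * g) → z = 1) :
    centralizer (J : Set R) = ⊥ := by
  refine eq_bot_iff.2 fun x hx => mem_bot.2 ?_
  have hle : J ≤ centralizer {x} := fun y hy => mem_centralizer_singleton_iff.2 (hx y hy)
  rcases (Nat.dvd_prime hi).1 (index_dvd_of_le hle) with h | h
  · exact hz x fun g => mem_centralizer_singleton_iff.1 (index_eq_one.1 h ▸ mem_top g)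
  · have hJx : centralizer {x} = J := by
      refine (eq_of_le_of_card_ge hle (le_of_eq ?_)).symm
      have h1 := (centralizer {x}).card_mul_index
      rw [h, ← J.card_mul_index] at h1
      exact Nat.eq_of_mul_eq_mul_right hi.pos h1
    have hxJ : x ∈ J := hJx ▸ mem_centralizer_singleton_iff.2 rfl
    rcases hs.eq_bot_or_eq_top_of_normal (center J) inferInstance with h' | h'
    · have : (⟨x, hxJ⟩ : J) ∈ center J := mem_center_iff.2 fun y => Subtype.ext (hx y y.2)
      rw [h'] at this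
      exact congrArg Subtype.val (mem_bot.1 this)
    · have : IsMulCommutative J := ⟨⟨fun a b => mem_center_iff.1 (h' ▸ mem_top b) a⟩⟩
      exact (hJ (Group.is_simple_iff_prime_card.1 hs)).elim

theorem card_aut8 {F : Type*} [Field F] [Fintype F] {X : Type*} [Group X] (e : X ≃* PSL(2, F))
    (hF : Nat.card F = 8) : Nat.card (MulAut X) = 1512 := by
  have : Fact (Nat.Prime 2) := ⟨Nat.prime_two⟩
  rw [card_aut (p := 2) (f := 3) e hF (by omega), card_eq e, hF]

theorem iso_aut8 {F : Type*} [Field F] [Fintype F] {R K : Type*} [Group R] [Field K] [CharP K 3]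
    [Finite K] (S : Model R K) (hK : Nat.card K = 3) {J : Subgroup R} [J.Normal]
    (hJ : Nat.card J = 504) (e : J ≃* PSL(2, F)) (hF : Nat.card F = 8) :
    Nonempty (R ≃* MulAut J) := by
  have := S.finite
  have hR : Nat.card R = 1512 := by rw [S.card_G, hK]; norm_num
  have hi : J.index = 3 := by
    have := J.card_mul_index
    rw [hJ, hR] at this
    omega
  have := H10.isSimpleGroup_PSL_fin (F := F) 2 le_rfl fun _ => by omega
  exact iso_aut (cent_eq_bot e.isSimpleGroup (by rw [hJ]; norm_num) (hi ▸ Nat.prime_three)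
    fun z => ree_center S) (by rw [hR, card_aut8 e hF])

theorem iso_ree {F : Type*} [Field F] [Fintype F] {G : Type*} [Group G] [Finite G] {M : Subgroup G}
    [M.Normal] (hC : centralizer (M : Set G) = ⊥) (e : M ≃* PSL(2, F)) (hF : Nat.card F = 8)
    (hG : Nat.card G = 1512) [Fact (Nat.Prime 3)] :
    Nonempty (G ≃* Cfsg.Lie.twistedG2 (ZMod 3) (3 ^ 0)) := by
  obtain ⟨hJ, ⟨e'⟩⟩ := Cfsg.Agent.S1075.result (L := F) (by rw [← Nat.card_eq_fintype_card, hF])
  obtain ⟨a⟩ := iso_aut hC (by rw [hG, card_aut8 e hF])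
  obtain ⟨b⟩ := iso_aut8 (lieModel (K := ZMod 3) (m := 0) (ZMod.card 3)) (Nat.card_zmod 3) hJ e' hF
  exact ⟨(a.trans (MulAut.congr (e.trans e'.symm))).trans b.symm⟩

end ree

end H65.EL
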