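import Cfsg.Agent.Lib.HK.Bas
import Cfsg.Agent.Lib.HK.ELa

/-! Split rank one groups with socle `PSL₂(q)` (package EL of blueprint/HKS2.md). -/

set_option autoImplicit false
set_option linter.unusedSectionVars false

namespace H65.EL

open MulAction Subgroup Matrix H69 H51.HK
open scoped MatrixGroups Classical commutatorElement Pointwise

variable {G Ω : Type*} [Group G] [MulAction G Ω] [Finite G] [Finite Ω]

variable {U : Ω → Subgroup G}

theorem exists_ne' (h : Cb U) (c : Ω) : ∃ d, d ≠ c := by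
  have : Nontrivial Ω := Finite.one_lt_card_iff_nontrivial.1 (by have := h.three; omega)
  exact exists_ne c

theorem card_U (h : Cb U) {a b : Ω} (hab : b ≠ a) :
    Nat.card (U a) = (Nat.card Ω - 1) * Nat.card ↥(U a ⊓ stabilizer G b) := by
  rw [h.ld.card_V (Set.mem_univ a) (Set.mem_univ b) hab.symm, Set.ncard_univ]

theorem le_card_U (h : Cb U) (a : Ω) : Nat.card Ω ≤ Nat.card (U a) + 1 := by
  obtain ⟨b, hb⟩ := exists_ne' h a
  have h1 := card_U h hb
  have h2 : Nat.card Ω - 1 ≤ Nat.card (U a) := h1 ▸ Nat.le_mul_of_pos_right _ Nat.card_pos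
  omega

/-- regular root groups that are Sylow subgroups of a known group -/
theorem gl_of (h : Cb U) {c : Ω} {p : ℕ} (hp : p.Prime) (h1 : Nat.card (U c) + 1 = Nat.card Ω)
    (h2 : IsPGroup p (U c)) (h3 : ¬ p ∣ (U c).relIndex (Lt Set.univ U))
    (h4 : (∃ (F : Type) (_ : Field F) (_ : Fintype F), CharP F p ∧
        Nonempty (Lt Set.univ U ≃* PSL(2, F))) ∨
      (∃ (F : Type) (_ : Field F) (_ : Fintype F) (q : ℕ), CharP F p ∧ Fintype.card F = q ^ 2 ∧
        Nonempty (Lt Set.univ U ≃* Cfsg.PSU 3 F q)) ∨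
      (p = 3 ∧ ∃ (K : Type) (_ : Field K) (_ : Fintype K) (m : ℕ),
        Fintype.card K = 3 ^ (2 * m + 1) ∧
          Nonempty (Lt Set.univ U ≃* Cfsg.Lie.twistedG2 K (3 ^ m)))) : Gl G Ω := by
  have : Fact p.Prime := ⟨hp⟩
  refine ⟨U, h.ld, fun a b hab u hu hb => ?_, p, hp, fun d => ⟨?_, ?_⟩, h4⟩
  · have h5 := card_U h hab
    have h6 := h.three
    rw [h.card_U a c, show Nat.card (U c) = (Nat.card Ω - 1) * 1 by omega] at h5
    have h7 := eq_bot_of_card_eq _ (Nat.eq_of_mul_eq_mul_left (by omega) h5).symm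
    exact mem_bot.1 (h7 ▸ mem_inf.2 ⟨hu, hb⟩)
  · obtain ⟨k, hk⟩ := IsPGroup.iff_card.1 h2
    exact IsPGroup.of_card ((h.card_U d c).trans hk)
  · have e : ∀ x, Nat.card (U x) * (U x).relIndex (Lt Set.univ U) = Nat.card (Lt Set.univ U) :=
      fun x => by
        rw [relIndex, ← card_mul_index ((U x).subgroupOf (Lt Set.univ U)),
          Nat.card_congr (subgroupOfEquivOfLe (le_Lt (Set.mem_univ x))).toEquiv]
    have h5 := (e d).trans (e c).symm
    rw [h.card_U d c] at h5
    rwa [Nat.eq_of_mul_eq_mul_left Nat.card_pos h5]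

variable {M : Subgroup G}

theorem exists_central (h : Cb U) (hM : Soc U M) (c : Ω) : ∃ (u : M) (r : ℕ), r.Prime ∧ r ≠ 2 ∧
    u ≠ 1 ∧ u ^ r = 1 ∧ (u : G) ∈ U c ∧ ∀ v ∈ U c, v * u = u * v := by
  have := h.nil c
  have := hM.normal
  have h1 : M.subgroupOf (U c) ≠ ⊥ := fun e => hM.meet c (by
    rwa [subgroupOf_eq_bot, disjoint_comm, disjoint_iff] at e)
  obtain ⟨⟨z, hz1, hz2⟩, hz⟩ := ne_bot_iff_exists_ne_one.1
    (H5.inf_center_ne_bot_of_nilpotent (M.subgroupOf (U c)) h1)
  have hz' : z ≠ 1 := fun e => hz (Subtype.ext e)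
  have ho : orderOf z ≠ 1 := fun e => hz' (orderOf_eq_one_iff.1 e)
  obtain ⟨r, hr, k, hk⟩ := Nat.exists_prime_and_dvd ho
  have hk0 : 0 < k := Nat.pos_of_mul_pos_left (hk ▸ orderOf_pos z)
  have hodd : Odd (orderOf z) := (h.odd c).of_dvd_nat (orderOf_dvd_natCard z)
  refine ⟨⟨(z ^ k : U c), pow_mem hz1 k⟩, r, hr, ?_, fun e => ?_, ?_, (z ^ k).2, fun v hv => ?_⟩
  · rintro rfl
    exact (Nat.not_even_iff_odd.2 hodd) (hk ▸ even_two_mul k)
  · have h2 : z ^ k = 1 := Subtype.ext (congrArg (fun x : M => (x : G)) e)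
    have h3 := Nat.le_of_dvd hk0 (orderOf_dvd_of_pow_eq_one h2)
    have := hr.two_le
    nlinarith
  · refine Subtype.ext ?_
    have : (z ^ k) ^ r = 1 := by rw [← pow_mul, mul_comm, ← hk, pow_orderOf_eq_one]
    exact congrArg (fun x : U c => (x : G)) this
  · exact congrArg Subtype.val (mem_center_iff.1 (pow_mem hz2 k) ⟨v, hv⟩)

/-- a proper subgroup containing a point stabiliser is the point stabiliser -/
theorem stab_eq (h : Cb U) (hM : Soc U M) {c : Ω} {N : Subgroup M} (h1 : stabilizer M c ≤ N)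
    (h2 : N.index ≠ 1) : N = stabilizer M c ∧ N.index = Nat.card Ω := by
  have := hM.prim
  have : Nontrivial Ω := Finite.one_lt_card_iff_nontrivial.1 (by have := h.three; omega)
  have h3 := (isCoatom_stabilizer_iff_preprimitive M c).2 hM.prim
  have h4 : N = stabilizer M c := by
    rcases h1.lt_or_eq with h | h
    · exact (h2 (index_eq_one.2 (h3.2 _ h))).elim
    · exact h.symm
  exact ⟨h4, by rw [h4, index_stabilizer_of_transitive]⟩

/-- the case of the natural action -/
theorem natural (h : Cb U) (hM : Soc U M) {F : Type} [Field F] [Fintype F] (e : M ≃* PSL(2, F))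
    {p : ℕ} [hp : Fact p.Prime] [CharP F p] (hp2 : p ≠ 2) {c : Ω} {u : M} (h1 : u ≠ 1)
    (hu : u ^ p = 1) (hc : (u : G) ∈ U c) (hz : ∀ v ∈ U c, v * u = u * v) : Gl G Ω := by
  have := hM.normal
  have := hM.prim
  have ho := hp.out.odd_of_ne_two hp2
  have pz : ∀ {x : M} {k : ℕ}, x ^ p ^ k = 1 → IsPGroup p (zpowers x) :=
    fun hx => H64.SL2.isPGroup_zpowers_of_pow hx
  have inS : ∀ {x : M} {k : ℕ} (S : Sylow p M), x ^ p ^ k = 1 → x • S = S → x ∈ S := fun {x k} S hx hS => by
    have h2 := (pz hx).inf_normalizer_sylow S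
    have h3 : x ∈ zpowers x ⊓ normalizer (S : Set M) :=
      ⟨mem_zpowers x, Sylow.smul_eq_iff_mem_normalizer.1 hS⟩
    exact (h2 ▸ h3).2
  obtain ⟨S, hS⟩ := (pz (k := 1) (by rwa [pow_one])).exists_le_sylow
  have huS : u ∈ S := hS (mem_zpowers u)
  -- the stabiliser of `c` normalises `S`
  have key : ∀ g : G, g • c = c → (MulAut.conjNormal g : MulAut M) • S = S := fun g hg => by
    have h2 : (MulAut.conjNormal g u : G) ∈ U c := by
      have := (h.cj g u c).2 hc
      rwa [hg] at this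
    have h3 : MulAut.conjNormal g u * u * (MulAut.conjNormal g u)⁻¹ = u :=
      mul_inv_eq_iff_eq_mul.2 (Subtype.ext (hz _ h2))
    have h4 : MulAut.conjNormal g u ∈ S := inS (k := 1) S (by rw [pow_one, ← map_pow, hu, map_one])
      (sylow_ti e ho _ _ (x := u) (by
        have := smul_mem_pointwise_smul u (MulAut.conj (MulAut.conjNormal g u)) (S : Subgroup M) huS
        rwa [MulAut.smul_def, MulAut.conj_apply, h3] at this) huS h1)
    have h5 : MulAut.conjNormal g u ∈ (MulAut.conjNormal g : MulAut M) • S :=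
      smul_mem_pointwise_smul u (MulAut.conjNormal g : MulAut M) (S : Subgroup M) huS
    exact sylow_ti e ho _ _ h5 h4 fun e => h1 ((MulEquiv.map_eq_one_iff _).1 e)
  have hq : 1 < Nat.card F := Finite.one_lt_card
  have hi : (normalizer ((S : Subgroup M) : Set M)).index = Nat.card F + 1 := by
    rw [← sylow_num e (p := p), S.card_eq_index_normalizer]
    rfl
  obtain ⟨hN, hn⟩ := stab_eq h hM (c := c) (N := normalizer ((S : Subgroup M) : Set M))
    (fun g hg => Sylow.smul_eq_iff_mem_normalizer.1 (by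
      have := key g hg
      rwa [MulAut.conjNormal_val] at this)) (by omega)
  rw [hi] at hn
  have hfix : ∀ g : M, g • c = c ↔ g • S = S := fun g => by
    rw [Sylow.smul_eq_iff_mem_normalizer, ← mem_stabilizer_iff, ← hN]
    rfl
  have hSc : ∀ s ∈ S, s • c = c := fun s hs =>
    (hfix s).2 (Sylow.smul_eq_iff_mem_normalizer.2 (le_normalizer hs))
  have hreg : ∀ s ∈ S, ∀ d, d ≠ c → s • d = d → s = 1 := fun s hs d hd hsd => by
    by_contra hs1
    obtain ⟨g, rfl⟩ := exists_smul_eq M c d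
    obtain ⟨k, hk⟩ := S.isPGroup' ⟨s, hs⟩
    have hk' : s ^ p ^ k = 1 := congrArg Subtype.val hk
    have h2 : (g⁻¹ * s * g) • S = S := (hfix _).1 (by rw [mul_smul, mul_smul, hsd, inv_smul_smul])
    have h3 : s ∈ g • S := inS _ hk' (by rw [mul_smul, mul_smul, inv_smul_eq_iff] at h2; exact h2)
    exact hd ((hfix g).2 (sylow_ti e ho _ _ h3 hs hs1))
  have hcard : Nat.card ((S : Subgroup M).map M.subtype) = Nat.card F := by
    rw [card_map_of_injective M.subtype_injective, sylow_card e ho]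
  have hpS : IsPGroup p ((S : Subgroup M).map M.subtype) := S.isPGroup'.map _
  have htop : Top ((S : Subgroup M).map M.subtype) c := by
    refine ⟨h.two, h.faith, h.three, ?_, ?_, fun x y hx hy => ?_, hpS.isNilpotent⟩
    · rintro _ ⟨s, hs, rfl⟩
      exact hSc s hs
    · rintro g hg _ ⟨s, hs, rfl⟩
      refine ⟨MulAut.conjNormal g s, ?_, rfl⟩
      have : MulAut.conjNormal g s ∈ (MulAut.conjNormal g : MulAut M) • S :=
        smul_mem_pointwise_smul _ _ _ hs
      rwa [key g hg] at this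
    · let f : S → {z : Ω // z ≠ c} := fun s => ⟨(s : M) • x, fun e => hx (by
        rw [← inv_smul_smul (s : M) x, e, hSc _ (inv_mem s.2)])⟩
      have hf : Function.Bijective f := by
        refine (Nat.bijective_iff_injective_and_card f).2 ⟨fun s t hst => ?_, ?_⟩
        · have h2 : (s : M) • x = (t : M) • x := congrArg Subtype.val hst
          have h3 := hreg ((t : M)⁻¹ * s) (mul_mem (inv_mem t.2) s.2) x hx
            (by rw [mul_smul, h2, inv_smul_smul])
          exact Subtype.ext (inv_mul_eq_one.1 h3).symm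
        · have := Fintype.ofFinite Ω
          refine (sylow_card e ho S).trans ?_
          rw [Nat.card_eq_fintype_card (α := {z : Ω // z ≠ c}),
            Fintype.card_subtype_compl, Fintype.card_subtype_eq, ← Nat.card_eq_fintype_card, ← hn]
          rfl
      obtain ⟨s, hs⟩ := hf.2 ⟨y, hy⟩
      exact ⟨_, ⟨s, s.2, rfl⟩, congrArg Subtype.val hs⟩
  obtain ⟨V, hV, hVc⟩ := htop.fam (by
    obtain ⟨k, hk⟩ := IsPGroup.iff_card.1 hpS
    exact hk ▸ ho.pow)
  have hL : Lt Set.univ V = M := by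
    refine le_antisymm (Lt_le_iff.2 fun d _ v hv => ?_) (hM.min _ ⟨fun l hl g =>
      hV.ld.Lt_conj (mem_top g) hl⟩ fun e => h1 ?_)
    · obtain ⟨g, rfl⟩ := hV.trans c d
      have h2 : g⁻¹ * v * g ∈ V c := (hV.cj g _ c).1 (by simpa [mul_assoc] using hv)
      rw [hVc] at h2
      simpa [mul_assoc] using hM.normal.conj_mem _ (map_subtype_le _ h2) g
    · have h2 : (u : G) ∈ Lt Set.univ V := le_Lt (Set.mem_univ c) (hVc ▸ ⟨u, huS, rfl⟩)
      rw [e] at h2
      exact Subtype.ext (mem_bot.1 h2)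
  refine gl_of hV (c := c) hp.out (by rw [hVc, hcard, hn]) (hVc ▸ hpS) ?_
    (Or.inl ⟨F, inferInstance, inferInstance, inferInstance, hL ▸ ⟨e⟩⟩)
  rw [hL, hVc, relIndex, ← comap_subtype, comap_map_eq_self_of_injective M.subtype_injective]
  exact S.not_dvd_index

theorem two_mul_le (f : ℕ) : 2 * f ≤ 2 ^ f := by
  rcases f with _ | f
  · simp
  · have := Nat.lt_two_pow_self (n := f)
    rw [pow_succ]
    omega

theorem big2 {f : ℕ} (hf : 4 ≤ f) : 2 * f + 2 < 2 ^ f := by
  obtain ⟨k, rfl⟩ := Nat.exists_eq_add_of_le hf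
  have := Nat.lt_two_pow_self (n := k)
  rw [pow_add]
  omega

theorem big3 {f : ℕ} (hf : 2 ≤ f) : f + 2 < 3 ^ f := by
  obtain ⟨k, rfl⟩ := Nat.exists_eq_add_of_le hf
  have := Nat.lt_pow_self (n := k) (show 1 < 3 by norm_num)
  rw [pow_add]
  omega

/-- the arithmetic of the dihedral case -/
theorem arith {p f q t n w m : ℕ} (hp : p.Prime) (hq : q = p ^ f) (h4 : 4 ≤ q)
    (ht : t + 1 = q ∨ t = q + 1) (hn : n * (2 * t) = q * (q - 1) * (q + 1)) (hw : w ∣ t)
    (hwo : Odd w) (hm : m ∣ f) (hmo : Odd m) (h : n ≤ w * m + 1) :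
    (q = 4 ∧ n = 6 ∧ w = 5 ∧ m = 1) ∨ (q = 8 ∧ n = 28 ∧ w = 9 ∧ m = 3) := by
  have hf : 0 < f := by
    rcases f with _ | f
    · simp [hq] at h4
    · omega
  have hmf := Nat.le_of_dvd hf hm
  have h2f : 2 ^ f ≤ q := hq ▸ Nat.pow_le_pow_left hp.two_le f
  have h3 := two_mul_le f
  obtain ⟨s, rfl⟩ : ∃ s, q = s + 2 := ⟨q - 2, by omega⟩
  rw [show s + 2 - 1 = s + 1 by omega] at hn
  rcases ht with ht | ht
  · obtain rfl : t = s + 1 := by omega
    have hwt := Nat.le_of_dvd (by omega) hw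
    have h5 : 2 * n = (s + 2) * (s + 2 + 1) :=
      Nat.eq_of_mul_eq_mul_right (show 0 < s + 1 by omega) (by linarith)
    have h6 : w * m ≤ (s + 1) * f := Nat.mul_le_mul hwt hmf
    nlinarith
  · subst ht
    have h5 : 2 * n = (s + 2) * (s + 1) :=
      Nat.eq_of_mul_eq_mul_right (show 0 < s + 2 + 1 by omega) (by linarith)
    have h6 : s * (s + 3) ≤ 2 * (w * m) := by nlinarith
    rcases hp.eq_two_or_odd' with rfl | hpo
    · have hwt := Nat.le_of_dvd (by omega) hw
      have h7 : s ≤ 2 * m := by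
        by_contra h7
        have : w * m ≤ (s + 3) * m := Nat.mul_le_mul_right _ hwt
        nlinarith
      have h8 : f < 4 := by
        by_contra h8
        have := big2 (not_lt.1 h8)
        omega
      interval_cases f
      · omega
      · obtain rfl : s = 2 := by omega
        obtain rfl : m = 1 := by
          rcases (Nat.dvd_prime Nat.prime_two).1 hm with h | h
          · exact h
          · exact absurd (h ▸ hmo) (by decide)
        omega
      · obtain rfl : s = 6 := by omega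
        obtain rfl : m = 3 := by omega
        omega
    · exfalso
      have h7 : Odd (s + 2) := hq ▸ hpo.pow
      obtain ⟨k, hk⟩ := hw
      have h8 : 2 ≤ k := by
        rcases k with _ | _ | k
        · omega
        · obtain ⟨a, ha⟩ := h7
          obtain ⟨b, hb⟩ := hwo
          omega
        · omega
      have h9 : s ≤ m := by
        by_contra h9
        have h10 : 2 * w ≤ s + 3 := by nlinarith
        have : 2 * w * m ≤ (s + 3) * m := Nat.mul_le_mul_right _ h10
        nlinarith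
      have h10 : 3 ≤ p := by
        have := hp.two_le
        obtain ⟨a, ha⟩ := hpo
        omega
      have h11 : 3 ^ f ≤ s + 2 := hq ▸ Nat.pow_le_pow_left h10 f
      rcases (show f = 1 ∨ 2 ≤ f by omega) with rfl | h12
      · omega
      · have := big3 h12
        omega

theorem card_U_eq (hM : Soc U M) (c : Ω) : Nat.card (U c) = Nat.card ↥(U c ⊓ M) * M.index := by
  have := hM.normal
  rw [← relIndex_top_right, ← hM.sup c, relIndex_sup_left, relIndex,
    ← card_mul_index (M.subgroupOf (U c)), ← inf_subgroupOf_left,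
    Nat.card_congr (subgroupOfEquivOfLe inf_le_left).toEquiv]

/-- the case of a dihedral stabiliser -/
theorem dihedral (h : C0 U) (hM : Soc U M) {F : Type} [Field F] [Fintype F] (e : M ≃* PSL(2, F))
    {r : ℕ} (hr : r.Prime) (hr2 : r ≠ 2) (hq : ¬ r ∣ Fintype.card F) {c : Ω} {u : M} (h1 : u ≠ 1)
    (hu : u ^ r = 1) (hc : (u : G) ∈ U c) (hz : ∀ v ∈ U c, v * u = u * v) : Gl G Ω := by
  have := hM.normal
  have := hM.simple
  obtain ⟨p, hp⟩ := CharP.exists F
  obtain ⟨f, hp', hF⟩ := FiniteField.card F p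
  have : Fact p.Prime := ⟨hp'⟩
  rw [← Nat.card_eq_fintype_card] at hF
  have h4 := four_le hM.nab e
  obtain ⟨T, N, t, ht, hT, hN, cT, cN⟩ := torus e hr hr2 hq hu h1
  obtain ⟨-, hn⟩ := stab_eq h.toCb hM (c := c) (N := N) (fun g hg => cN g (Subtype.ext (hz _ (by
    have := (h.toCb.cj g u c).2 hc
    rwa [show (g : G) • c = c from hg] at this)))) (fun h2 => by
      rw [h2] at hN
      obtain ⟨s, hs⟩ : ∃ s, Nat.card F = s + 4 := ⟨Nat.card F - 4, by omega⟩
      rw [hs, show s + 4 - 1 = s + 3 by omega] at hN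
      have h5 : 2 * t ≤ 2 * (s + 4 + 1) := by omega
      have h6 : 4 * 3 * (s + 4 + 1) ≤ (s + 4) * (s + 3) * (s + 4 + 1) :=
        Nat.mul_le_mul_right _ (Nat.mul_le_mul (by omega) (by omega))
      omega)
  have hw : Nat.card ↥(U c ⊓ M) ∣ t := by
    refine Dvd.dvd.trans ?_ hT
    rw [← Nat.card_congr (subgroupOfEquivOfLe (inf_le_right : U c ⊓ M ≤ M)).toEquiv]
    exact card_dvd_of_le fun x hx => cT x (Subtype.ext (hz _ hx.1))
  have hU := card_U_eq hM c
  have hm : M.index ∣ f := by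
    have h2 := card_dvd_of_injective _ (conjNormal_inj hM.cent)
    rw [card_aut e hF h4, ← M.index_mul_card, ← mul_assoc] at h2
    have h3 := Nat.dvd_of_mul_dvd_mul_right Nat.card_pos h2
    exact Nat.Coprime.dvd_of_dvd_mul_right
      (Nat.Coprime.coprime_dvd_right (Nat.gcd_dvd_left _ _) (Nat.coprime_two_right.2 hM.odd)) h3
  have hG := M.index_mul_card
  have hc' := card_eq e
  have hi := (U c).card_mul_index
  rcases arith hp' hF h4 ht (hn ▸ hN) hw ((h.toCb.odd c).of_dvd_nat (hU ▸ dvd_mul_right _ _)) hm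
    hM.odd (hU ▸ le_card_U h.toCb c) with ⟨a1, a2, a3, a4⟩ | ⟨a1, a2, a3, a4⟩
  · have : Fact (Nat.Prime 5) := ⟨by norm_num⟩
    rw [a3, a4] at hU
    rw [a1] at hc'
    norm_num [-Nat.card_eq_fintype_card] at hc'
    rw [a4, hc'] at hG
    rw [hU, ← hG] at hi
    obtain ⟨e'⟩ := iso_five e a1
    refine gl_of h.toCb (c := c) this.out (by omega) (IsPGroup.of_card (n := 1) hU) ?_
      (Or.inl ⟨ZMod 5, inferInstance, inferInstance, inferInstance, ?_⟩)
    · rw [h.gen, relIndex_top_right]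
      omega
    · rw [h.gen, ← index_eq_one.1 a4]
      exact ⟨e'⟩
  · have : Fact (Nat.Prime 3) := ⟨Nat.prime_three⟩
    rw [a3, a4] at hU
    rw [a1] at hc'
    norm_num [-Nat.card_eq_fintype_card] at hc'
    rw [a4, hc'] at hG
    rw [hU, ← hG] at hi
    obtain ⟨e'⟩ := iso_ree hM.cent e a1 hG.symm
    refine gl_of h.toCb (c := c) this.out (by omega) (IsPGroup.of_card (n := 3) hU) ?_
      (Or.inr (Or.inr ⟨rfl, ZMod 3, inferInstance, inferInstance, 0, ZMod.card 3, ?_⟩))
    · rw [h.gen, relIndex_top_right]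
      omega
    · rw [h.gen]
      exact ⟨topEquiv.trans e'⟩

end H65.EL

namespace H51.HK

open MulAction Subgroup Matrix H69
open scoped MatrixGroups Classical commutatorElement

variable {G Ω : Type*} [Group G] [MulAction G Ω] [Finite G] [Finite Ω]

variable {U : Ω → Subgroup G}

theorem el (h : C0 U) {M : Subgroup G} (hM : Soc U M) {F : Type} [Field F] [Fintype F]
    (e : M ≃* PSL(2, F)) : Gl G Ω := by
  have : Nonempty Ω := (Nat.card_pos_iff.1 (by have := h.three; omega)).1
  obtain ⟨c⟩ := this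
  obtain ⟨u, r, hr, hr2, h1, hu, hc, hz⟩ := H65.EL.exists_central h.toCb hM c
  by_cases hq : r ∣ Fintype.card F
  · have : Fact r.Prime := ⟨hr⟩
    have : CharP F r := by
      obtain ⟨p, hp⟩ := CharP.exists F
      obtain ⟨f, hp', hF⟩ := FiniteField.card F p
      rw [hF] at hq
      rwa [(Nat.prime_dvd_prime_iff_eq hr hp').1 (hr.dvd_of_dvd_pow hq)]
    exact H65.EL.natural h.toCb hM e hr2 h1 hu hc hz
  · exact H65.EL.dihedral h hM e hr hr2 hq h1 hu hc hz

end H51.HK
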