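import Cfsg.Agent.Lib.HK.EPa
import Cfsg.Agent.Lib.MinDeg8.U3More
import Cfsg.Agent.Lib.Ree.LieModel

/-! Socles `U₃(q)`, `L₃(q)`, `²G₂(q)` that meet the root groups in a group of order divisible by
the characteristic. -/

set_option autoImplicit false
set_option linter.style.haveILetI false

namespace H51.HK

open MulAction Subgroup Matrix H69
open scoped MatrixGroups Classical commutatorElement

section Models

open H11.U H8.U3 in
theorem tis_su {F : Type} [Field F] [Fintype F] {p q : ℕ} [IsSq F q] [Fact p.Prime] [CharP F p]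
    {e : Fin 3 → F} (he : Iso q e) : TIS p (H8.U3.Fx q e) (St q e) where
  pg := isPGroup_Fx p he
  syl := not_dvd_index_Fx p he
  le := Fx_le_St e
  nrm := fun g hg u hu => by
    obtain ⟨a, ha⟩ := inv_mem hg
    have := (conj_mem_Fx (k := g⁻¹) (g := u) (v := e)).2
      (by rw [ha, Fx_smul (ne_zero_of_ac he.1 ha)]; exact hu)
    rwa [inv_inv] at this
  ti := fun g u hu h1 h => inv_mem_iff.1 (eq_smul_of_fix he (he.ac g⁻¹) hu h1
    (Fx_le_St _ (conj_mem_Fx.1 (by rwa [inv_inv]))))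
  idx := by rw [index_St he, card_Fx he]

theorem tis_ree {X K : Type*} [Group X] [Field K] [CharP K 3] [Finite K] (S : H40.Ree.Model X K)
    {n : ℕ} (hK : Nat.card K = 3 ^ (n + 1)) : TIS 3 S.U S.B where
  pg := IsPGroup.of_card (n := (n + 1) * 3) (by rw [S.card_U, hK, ← pow_mul])
  syl := fun h => by
    haveI := S.finite
    have h1 := S.U.card_mul_index
    rw [S.card_U, S.card_G, mul_assoc] at h1
    rw [Nat.eq_of_mul_eq_mul_left (pow_pos Nat.card_pos 3) h1, hK,
      Nat.Prime.dvd_mul Nat.prime_three, ← pow_mul, pow_succ, show (n + 1) * 3 = 3 * n + 2 + 1 by ring,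
      pow_succ] at h
    have := pow_pos (show 0 < 3 by norm_num) n
    omega
  le := S.U_le_B
  nrm := fun _ hg _ hu => S.conj_mem_U hg hu
  ti := fun g u hu h1 h => by
    refine inv_mem_iff.1 (S.mem_B.2 (S.fix_of_mem_U hu h1 ?_))
    have := S.mem_B.1 (S.U_le_B h)
    rwa [mul_smul, mul_smul, ← eq_inv_smul_iff] at this
  idx := by rw [S.index_B, S.card_U]

variable {F : Type} [Field F] [Fintype F]

theorem ep_odd_index {φ : SL(3, F) →* SL(3, F)} (hφ : Function.Surjective φ)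
    {X : Subgroup SL(3, F)} (hX : IsCoatom X) {v : Fin 3 → F} (hv : v ≠ 0)
    (h : ∀ g ∈ X, ∃ a : F, (φ g).1 *ᵥ v = a • v) : Odd X.index := by
  have e := (stabilizer SL(3, F) (Projectivization.mk F v hv)).index_comap_of_surjective hφ
  rw [index_stabilizer_of_transitive,
    Projectivization.card_of_finrank F _ (Module.finrank_fin_fun F)] at e
  simp only [Finset.sum_range_succ, Finset.sum_range_zero, zero_add, pow_zero, pow_one] at e
  have h1 := Finite.one_lt_card (α := F)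
  have hle : X ≤ (stabilizer SL(3, F) (Projectivization.mk F v hv)).comap φ := fun g hg => by
    obtain ⟨a, ha⟩ := h g hg
    exact (Projectivization.mk_eq_mk_iff' F _ _ _ _).2 ⟨a, ha.symm⟩
  rw [(hX.le_iff.1 hle).resolve_left fun k => by rw [k, index_top] at e; omega] at e
  rw [e, show 1 + Nat.card F + Nat.card F ^ 2 = Nat.card F * (Nat.card F + 1) + 1 by ring]
  exact (Nat.even_mul_succ_self _).add_one

theorem ep_odd_of_inv {X : Subgroup SL(3, F)} (hX : IsCoatom X) {W : Submodule F (Fin 3 → F)}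
    (h0 : W ≠ ⊥) (h1 : W ≠ ⊤) (hW : ∀ g ∈ X, ∀ v ∈ W, g.1 *ᵥ v ∈ W) : Odd X.index := by
  have e1 := Submodule.finrank_lt h1
  have e0 := mt Submodule.finrank_eq_zero.1 h0
  rw [Module.finrank_fin_fun] at e1
  have key : ∀ (Z : Submodule F (Fin 3 → F)) (f : SL(3, F) → Matrix (Fin 3) (Fin 3) F),
      Module.finrank F Z = 1 → (∀ g ∈ X, ∀ v ∈ Z, f g *ᵥ v ∈ Z) →
      ∃ v : Fin 3 → F, v ≠ 0 ∧ ∀ g ∈ X, ∃ c : F, f g *ᵥ v = c • v := fun Z f e hZ => by
    obtain ⟨v, hv, k⟩ := finrank_eq_one_iff'.1 e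
    refine ⟨v, fun e => hv (Subtype.ext e), fun g hg => ?_⟩
    obtain ⟨c, e⟩ := k ⟨_, hZ g hg v v.2⟩
    exact ⟨c, (congrArg Subtype.val e).symm⟩
  by_cases e : Module.finrank F W = 1
  · obtain ⟨v, hv, h⟩ := key W _ e hW
    exact ep_odd_index (φ := MonoidHom.id _) Function.surjective_id hX hv h
  · have e2 := Subspace.finrank_add_finrank_dualAnnihilator_eq W
    rw [Module.finrank_fin_fun, ← (dotProductEquiv F (Fin 3)).symm.finrank_map_eq] at e2
    obtain ⟨v, hv, h⟩ := key (W.dualAnnihilator.map (dotProductEquiv F (Fin 3)).symm.toLinearMap)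
      (fun g => g.1ᵀ) (by omega) fun g hg v hv => by
        rw [Submodule.mem_map_equiv, Submodule.mem_dualAnnihilator] at hv ⊢
        intro w hw
        exact (congrArg (· ⬝ᵥ w) (mulVec_transpose _ _)).trans
          ((dotProduct_mulVec _ _ _).symm.trans (hv _ (hW g hg w hw)))
    let τ : SL(3, F) →* SL(3, F) :=
      { toFun := fun g => g⁻¹.transpose
        map_one' := Subtype.ext (by simp [SpecialLinearGroup.coe_transpose])
        map_mul' := fun a b => Subtype.ext (by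
          simp only [_root_.mul_inv_rev, SpecialLinearGroup.coe_transpose,
            Matrix.SpecialLinearGroup.coe_mul, transpose_mul]) }
    refine ep_odd_index (φ := τ) (Finite.surjective_of_injective fun a b e => inv_injective
      (Subtype.ext (transpose_injective (congrArg Subtype.val e)))) hX hv fun g hg => h _ (inv_mem hg)

/-- a maximal subgroup of `SL₃(q)` that normalises a non-trivial `p`-subgroup has odd index -/
theorem ep_odd_sl {p : ℕ} (hp : p.Prime) [CharP F p] {X Q : Subgroup SL(3, F)} (hX : IsCoatom X)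
    (Q1 : Q ≠ ⊥) (Qp : IsPGroup p Q) (Qn : ∀ g ∈ X, ∀ u ∈ Q, g * u * g⁻¹ ∈ Q) : Odd X.index := by
  haveI := Fact.mk hp
  let W : Submodule F (Fin 3 → F) :=
    { carrier := {v | ∀ u ∈ Q, u.1 *ᵥ v = v}
      zero_mem' := fun _ _ => mulVec_zero _
      add_mem' := fun ha hb u hu => by rw [mulVec_add, ha u hu, hb u hu]
      smul_mem' := fun c _ ha u hu => by rw [mulVec_smul, ha u hu] }
  refine ep_odd_of_inv hX (W := W) (fun e => ?_) (fun e => Q1 ?_) fun g hg v hv u hu => ?_
  · obtain ⟨n, -, hn⟩ := FiniteField.card F p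
    obtain ⟨v, hv, h0⟩ := Qp.exists_fixed_point_of_prime_dvd_card_of_fixed_point (Fin 3 → F)
      (by
        rw [Nat.card_fun, Nat.card_eq_fintype_card, hn, ← pow_mul]
        exact dvd_pow_self p (by simp))
      (a := 0) fun u => mulVec_zero _
    have : v ∈ W := fun u hu => hv ⟨u, hu⟩
    rw [e] at this
    exact h0 ((Submodule.mem_bot F).1 this).symm
  · refine eq_bot_iff.2 fun u hu => mem_bot.2 (Subtype.ext (Matrix.ext_iff_mulVec.2 fun v => ?_))
    have : v ∈ W := e ▸ Submodule.mem_top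
    rw [this u hu, Matrix.SpecialLinearGroup.coe_one, one_mulVec]
  · have := hv _ (Qn _ (inv_mem hg) u hu)
    rw [inv_inv] at this
    conv_rhs => rw [← this]
    rw [mulVec_mulVec, mulVec_mulVec, ← Matrix.SpecialLinearGroup.coe_mul,
      ← Matrix.SpecialLinearGroup.coe_mul]
    rw [show g * (g⁻¹ * u * g) = u * g by group]

end Models

variable {G Ω : Type*} [Group G] [MulAction G Ω] [Finite G] [Finite Ω]

variable {U : Ω → Subgroup G}

theorem eu3 (h : C0 U) {M : Subgroup G} (hM : Soc U M) {F : Type} [Field F] [Fintype F] {p q : ℕ}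
    (hp : p.Prime) [CharP F p] (hF : Fintype.card F = q ^ 2) (e : M ≃* Cfsg.PSU 3 F q) {c : Ω}
    (hd : p ∣ Nat.card ↥(U c ⊓ M)) : Gl G Ω := by
  haveI := Fact.mk hp
  haveI : H11.U.IsSq F q := ⟨hF⟩
  obtain ⟨v, hv⟩ := H8.U3.exists_iso F q
  have t := ((tis_su (p := p) hv).map hp (QuotientGroup.mk' (center (Cfsg.SU 3 F q)))
    (QuotientGroup.mk'_surjective _)
    (fun z hz g => mem_center_iff.1 ((QuotientGroup.eq_one_iff z).1 hz) g)
    (fun z hz h1 => H8.U3.eq_one_of_mem_center ((QuotientGroup.eq_one_iff z).1 h1) hv.1 hz)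
    fun z hz => (H8.U3.mem_center_iff.1 ((QuotientGroup.eq_one_iff z).1 hz)).imp
      fun _ ha => ha v).equiv hp e.symm
  obtain ⟨P, h1, h2, h3, h4⟩ := gl_of_tis h.toCb hM hp t hd
  exact ⟨P, h1, h3, p, hp, h4, Or.inr (Or.inl ⟨F, _, _, q, inferInstance, hF, h2 ▸ ⟨e⟩⟩)⟩

theorem el3 (h : C0 U) {M : Subgroup G} (hM : Soc U M) {F : Type} [Field F] [Fintype F] {p : ℕ}
    (hp : p.Prime) [CharP F p] (e : M ≃* PSL(3, F)) {c : Ω}
    (hd : p ∣ Nat.card ↥(U c ⊓ M)) : False := by
  haveI := Fact.mk hp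
  obtain ⟨Q, Q1, Qp, Qn⟩ := h.toCb.ep_Q hM.normal hp hd
  let π : SL(3, F) →* M := e.symm.toMonoidHom.comp (QuotientGroup.mk' (center SL(3, F)))
  have hs : Function.Surjective π := e.symm.surjective.comp (QuotientGroup.mk'_surjective _)
  have hk : ∀ z, π z = 1 → z ∈ center SL(3, F) := fun z hz =>
    (QuotientGroup.eq_one_iff z).1 (e.symm.map_eq_one_iff.1 hz)
  haveI := Qp.isNilpotent
  haveI : Group.IsNilpotent (Q.comap π) :=
    Subgroup.isNilpotent_of_ker_le_center (π.subgroupComap Q) (fun z hz => mem_center_iff.2 fun g =>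
      Subtype.ext (mem_center_iff.1 (hk z (congrArg Subtype.val hz)) g))
  have hdv : p ∣ Nat.card (Q.comap π) := by
    obtain ⟨k, hk⟩ := Qp.exists_card_eq
    refine (?_ : p ∣ Nat.card Q).trans (card_dvd_of_surjective _
      (π.subgroupComap_surjective_of_surjective Q hs))
    rw [hk]
    refine dvd_pow_self p fun e => Q1 (card_eq_one.1 (by rw [hk, e, pow_zero]))
  obtain ⟨R, R1, Rp, hR⟩ := ep_part hp (Q.comap π) hdv
  have ho := ep_odd_sl hp (isCoatom_comap_of_surjective hs (hM.coatom h.toCb c)) R1 Rp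
    fun g hg u hu => by
      obtain ⟨a, k, hk⟩ := (hR u).1 hu
      refine (hR _).2 ⟨?_, k, ep_conj_pow g hk⟩
      rw [mem_comap, map_mul, map_mul, map_inv]
      exact Qn _ hg _ a
  rw [index_comap_of_surjective _ hs, hM.index_stab] at ho
  exact Nat.not_even_iff_odd.2 ho h.toCb.even

theorem ere (h : C0 U) {M : Subgroup G} (hM : Soc U M) (e : Cfsg.Lie.IsoRee M) {c : Ω}
    (hd : 3 ∣ Nat.card ↥(U c ⊓ M)) : Gl G Ω := by
  obtain ⟨K, _, _, m, -, hK, ⟨e⟩⟩ := e
  haveI := H40.Ree.charP_three hK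
  have t := tis_ree ((H40.Ree.lieModel hK).comap e) (H40.Ree.natCard_eq hK)
  obtain ⟨P, h1, h2, h3, h4⟩ := gl_of_tis h.toCb hM Nat.prime_three t hd
  exact ⟨P, h1, h3, 3, Nat.prime_three, h4, Or.inr (Or.inr ⟨rfl, K, _, _, m, hK, ⟨(MulEquiv.subgroupCongr h2).trans e⟩⟩)⟩

end H51.HK
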