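import Cfsg.Agent.Lib.HK.BasA

/-! Groups with a trivial intersection Sylow subgroup as socles of split rank one groups. -/

set_option autoImplicit false
set_option linter.style.haveILetI false

namespace H51.HK

open MulAction Subgroup

/-- `S` is a trivial intersection Sylow subgroup with normaliser `B` of index `|S| + 1` -/
structure TIS {X : Type*} [Group X] (p : ℕ) (S B : Subgroup X) : Prop where
  pg : IsPGroup p S
  syl : ¬ p ∣ S.index
  le : S ≤ B
  nrm : ∀ g ∈ B, ∀ u ∈ S, g * u * g⁻¹ ∈ S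
  ti : ∀ g u : X, u ∈ S → u ≠ 1 → g * u * g⁻¹ ∈ S → g ∈ B
  idx : B.index = Nat.card S + 1

section Gen

variable {X Y : Type*} [Group X] [Group Y] {p : ℕ}

theorem ep_pow {S : Subgroup X} (h : IsPGroup p S) {x : X} (hx : x ∈ S) : ∃ k, x ^ p ^ k = 1 := by
  obtain ⟨k, hk⟩ := h ⟨x, hx⟩
  exact ⟨k, congrArg Subtype.val hk⟩

theorem ep_zp {x : X} {k : ℕ} (h : x ^ p ^ k = 1) : IsPGroup p (zpowers x) := by
  rintro ⟨_, i, rfl⟩
  refine ⟨k, Subtype.ext ?_⟩
  change (x ^ i) ^ p ^ k = 1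
  rw [← zpow_natCast, ← zpow_mul, mul_comm, zpow_mul, zpow_natCast, h, one_zpow]

theorem ep_conj_pow {x : X} (g : X) {k : ℕ} (h : x ^ p ^ k = 1) : (g * x * g⁻¹) ^ p ^ k = 1 := by
  rw [conj_pow, h, mul_one, mul_inv_cancel]

/-- a `p`-element that normalises a Sylow subgroup lies in it -/
theorem ep_mem [Finite X] (hp : p.Prime) {S : Subgroup X} (h1 : IsPGroup p S) (h2 : ¬ p ∣ S.index)
    {x : X} (hx : ∀ u ∈ S, x * u * x⁻¹ ∈ S) {k : ℕ} (hk : x ^ p ^ k = 1) : x ∈ S := by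
  haveI := Fact.mk hp
  have hn : zpowers x ≤ normalizer (S : Set X) :=
    zpowers_le.2 (mem_normalizer_fintype (S := (S : Set X)) hx)
  have h3 := (h1.toSylow h2).is_maximal' ((ep_zp hk).to_sup_of_normal_right' h1 hn) le_sup_right
  have h4 : x ∈ zpowers x ⊔ S := mem_sup_left (mem_zpowers x)
  rw [h3] at h4
  exact h4

theorem TIS.mem [Finite X] (hp : p.Prime) {S B : Subgroup X} (t : TIS p S B) {x : X} (hx : x ∈ B)
    {k : ℕ} (hk : x ^ p ^ k = 1) : x ∈ S := ep_mem hp t.pg t.syl (t.nrm x hx) hk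

theorem TIS.map [Finite X] (hp : p.Prime) {S B : Subgroup X} (t : TIS p S B) (π : X →* Y)
    (hs : Function.Surjective π) (hc : ∀ z, π z = 1 → ∀ g, g * z = z * g)
    (hz : ∀ z ∈ S, π z = 1 → z = 1) (hB : ∀ z, π z = 1 → z ∈ B) : TIS p (S.map π) (B.map π) where
  pg := t.pg.map π
  syl := fun h => t.syl (h.trans (S.index_map_dvd hs))
  le := map_mono t.le
  nrm := by
    rintro _ ⟨g, hg, rfl⟩ _ ⟨u, hu, rfl⟩
    exact ⟨_, t.nrm g hg u hu, by simp⟩
  ti := by
    rintro g _ ⟨u, hu, rfl⟩ h1 ⟨v, hv, e⟩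
    obtain ⟨g, rfl⟩ := hs g
    refine ⟨g, t.ti g u hu (fun e => h1 (by rw [e, map_one])) ?_, rfl⟩
    have hz1 : π (v⁻¹ * (g * u * g⁻¹)) = 1 := by
      rw [map_mul, map_inv, e, map_mul, map_mul, map_inv, inv_mul_cancel]
    obtain ⟨k, hk⟩ := ep_pow t.pg hu
    refine ep_mem hp t.pg t.syl (fun w hw => ?_) (ep_conj_pow g hk)
    rw [← mul_inv_cancel_left v (g * u * g⁻¹)]
    generalize v⁻¹ * (g * u * g⁻¹) = z at hz1
    rw [mul_assoc v z w, ← hc z hz1 w, show v * (w * z) * (v * z)⁻¹ = v * w * v⁻¹ by group]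
    exact mul_mem (mul_mem hv hw) (inv_mem hv)
  idx := by
    rw [B.index_map_eq hs fun z hz' => hB z hz', t.idx]
    congr 1
    refine Nat.card_congr (Equiv.ofBijective (π.subgroupMap S) ⟨?_, π.subgroupMap_surjective S⟩)
    exact (injective_iff_map_eq_one _).2 fun z e => Subtype.ext (hz z z.2 (congrArg Subtype.val e))

theorem TIS.equiv [Finite X] (hp : p.Prime) {S B : Subgroup X} (t : TIS p S B) (e : X ≃* Y) :
    TIS p (S.map e.toMonoidHom) (B.map e.toMonoidHom) :=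
  t.map hp _ e.surjective
    (fun z hz g => by rw [e.map_eq_one_iff.1 hz, mul_one, one_mul])
    (fun _ _ hz => e.map_eq_one_iff.1 hz) (fun z hz => by rw [e.map_eq_one_iff.1 hz]; exact one_mem _)

/-- the `p`-elements of a nilpotent subgroup -/
theorem ep_part [Finite X] (hp : p.Prime) (N : Subgroup X) [Group.IsNilpotent N]
    (hd : p ∣ Nat.card N) : ∃ Q : Subgroup X, Q ≠ ⊥ ∧ IsPGroup p Q ∧
      ∀ x, x ∈ Q ↔ x ∈ N ∧ ∃ k, x ^ p ^ k = 1 := by
  haveI := Fact.mk hp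
  obtain ⟨P⟩ : Nonempty (Sylow p N) := inferInstance
  have hn : (P : Subgroup N).Normal :=
    Sylow.normal_of_normalizerCondition normalizerCondition_of_isNilpotent P
  have key : ∀ x, x ∈ (P : Subgroup N).map N.subtype ↔ x ∈ N ∧ ∃ k, x ^ p ^ k = 1 := fun x => by
    constructor
    · intro hx
      exact ⟨map_subtype_le _ hx, ep_pow (P.isPGroup'.map _) hx⟩
    · rintro ⟨hx, k, hk⟩
      exact ⟨⟨x, hx⟩, ep_mem hp P.isPGroup' P.not_dvd_index (fun u hu => hn.conj_mem u hu _)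
        (k := k) (Subtype.ext hk), rfl⟩
  refine ⟨_, fun e => ?_, P.isPGroup'.map _, key⟩
  obtain ⟨x, hx⟩ := exists_prime_orderOf_dvd_card' p hd
  have h1 : (x : X) ^ p ^ 1 = 1 := by
    rw [pow_one, ← hx, ← coe_pow, pow_orderOf_eq_one, coe_one]
  have h2 := (key x).2 ⟨x.2, 1, h1⟩
  rw [e, mem_bot, OneMemClass.coe_eq_one] at h2
  rw [h2, orderOf_one] at hx
  exact hp.one_lt.ne hx

end Gen

variable {G Ω : Type*} [Group G] [MulAction G Ω] [Finite G] [Finite Ω] {U : Ω → Subgroup G}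

theorem Cb.nontrivial (h : Cb U) : Nontrivial Ω :=
  Finite.one_lt_card_iff_nontrivial.1 (by have := h.three; omega)

/-- the normal `p`-subgroup of a point stabiliser in the socle -/
theorem Cb.ep_Q (h : Cb U) {M : Subgroup G} (hM : M.Normal) {p : ℕ} (hp : p.Prime) {c : Ω}
    (hd : p ∣ Nat.card ↥(U c ⊓ M)) : ∃ Q : Subgroup M, Q ≠ ⊥ ∧ IsPGroup p Q ∧
      ∀ g ∈ stabilizer M c, ∀ u ∈ Q, g * u * g⁻¹ ∈ Q := by
  haveI := h.nil c
  haveI : Group.IsNilpotent ↥(U c ⊓ M) :=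
    nilpotent_of_mulEquiv (subgroupOfEquivOfLe (inf_le_left : U c ⊓ M ≤ U c))
  obtain ⟨Q, h1, h2, h3⟩ := ep_part hp (U c ⊓ M) hd
  refine ⟨Q.subgroupOf M, fun e => ?_, h2.comap_of_injective _ M.subtype_injective, ?_⟩
  · obtain ⟨u, hu, hu1⟩ := Q.bot_or_exists_ne_one.resolve_left h1
    have : (⟨u, ((h3 u).1 hu).1.2⟩ : M) ∈ Q.subgroupOf M := hu
    rw [e, mem_bot] at this
    exact hu1 (congrArg Subtype.val this)
  · intro g hg u hu
    obtain ⟨⟨a, b⟩, k, hk⟩ := (h3 u).1 hu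
    have hg' : (g : G) • c = c := hg
    refine (h3 _).2 ⟨⟨?_, (g * u * g⁻¹).2⟩, k, ep_conj_pow _ hk⟩
    have := (h.cj g u c).2 a
    rwa [hg'] at this

theorem Soc.coatom (h : Cb U) {M : Subgroup G} (hM : Soc U M) (c : Ω) :
    IsCoatom (stabilizer M c) := by
  haveI := h.nontrivial
  haveI := hM.prim
  exact IsPreprimitive.isCoatom_stabilizer_of_isPreprimitive M c

theorem Soc.index_stab {M : Subgroup G} (hM : Soc U M) (c : Ω) :
    (stabilizer M c).index = Nat.card Ω := by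
  haveI := hM.prim
  exact index_stabilizer_of_transitive M c

theorem gl_of_tis (h : Cb U) {M : Subgroup G} (hM : Soc U M) {p : ℕ} (hp : p.Prime)
    {S B : Subgroup M} (t : TIS p S B) {c : Ω} (hd : p ∣ Nat.card ↥(U c ⊓ M)) :
    ∃ P : Ω → Subgroup G, LD ⊤ Set.univ P ∧ Lt Set.univ P = M ∧
      (∀ a b : Ω, b ≠ a → ∀ u ∈ P a, u • b = b → u = 1) ∧
      ∀ d, IsPGroup p (P d) ∧ ¬ p ∣ (P d).relIndex (Lt Set.univ P) := by
  haveI := Fact.mk hp
  haveI := hM.prim
  have hodd : Odd p := ((h.odd c).of_dvd_nat (card_dvd_of_le inf_le_left)).of_dvd_nat hd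
  obtain ⟨Q, Q1, Qp, Qn⟩ := h.ep_Q hM.normal hp hd
  obtain ⟨S, B, t, QS⟩ : ∃ S B : Subgroup M, TIS p S B ∧ Q ≤ S := by
    obtain ⟨T, hT⟩ := Qp.exists_le_sylow
    obtain ⟨g, rfl⟩ := exists_smul_eq M (t.pg.toSylow t.syl) T
    exact ⟨_, _, t.equiv hp (MulAut.conj g), hT⟩
  obtain ⟨u₀, hu₀, u₀1⟩ := Q.bot_or_exists_ne_one.resolve_left Q1
  have hB : B = stabilizer M c := by
    have hle : stabilizer M c ≤ B := fun g hg => t.ti g u₀ (QS hu₀) u₀1 (QS (Qn g hg u₀ hu₀))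
    refine ((hM.coatom h c).le_iff.1 hle).resolve_left fun e => ?_
    have := t.idx
    rw [e, index_top] at this
    have := Nat.card_pos (α := S)
    omega
  subst hB
  have hn : Nat.card Ω = Nat.card S + 1 := by rw [← t.idx, hM.index_stab]
  let A : Subgroup G := S.map M.subtype
  have hA : Nat.card A = Nat.card S := card_map_of_injective M.subtype_injective
  have Ap : IsPGroup p A := t.pg.map _
  have AM : A ≤ M := map_subtype_le _
  have Af : ∀ u ∈ A, u • c = c := by rintro _ ⟨u, hu, rfl⟩; exact t.le hu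
  have An : ∀ g : G, g • c = c → ∀ u ∈ A, g * u * g⁻¹ ∈ A := fun g hg u hu => by
    obtain ⟨k, hk⟩ := ep_pow Ap hu
    refine ⟨⟨_, hM.normal.conj_mem u (AM hu) g⟩, t.mem hp ?_ (k := k)
      (Subtype.ext (ep_conj_pow g hk)), rfl⟩
    change (g * u * g⁻¹) • c = c
    rw [mul_smul, mul_smul, inv_smul_eq_iff.2 hg.symm, Af u hu, hg]
  have Ar : ∀ b, b ≠ c → ∀ u ∈ A, u • b = b → u = 1 := by
    rintro b hb _ ⟨u, hu, rfl⟩ e
    obtain ⟨g, rfl⟩ := exists_smul_eq M c b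
    obtain ⟨k, hk⟩ := ep_pow t.pg hu
    have h1 : g⁻¹ * u * g⁻¹⁻¹ ∈ S := t.mem hp (by
      change (g⁻¹ * u * g⁻¹⁻¹) • c = c
      rw [mul_smul, mul_smul, inv_inv, inv_smul_eq_iff]
      exact e) (ep_conj_pow _ hk)
    by_contra h2
    refine hb (inv_mem_iff.1 (t.ti g⁻¹ u hu (fun e => h2 (by rw [e, map_one])) h1))
  have At : ∀ x y : Ω, x ≠ c → y ≠ c → ∃ u ∈ A, u • x = y := fun x y hx hy => by
    let f : A → {z : Ω // z ≠ c} := fun u => ⟨(u : G) • x, fun e => hx (by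
      rw [← Af _ u.2] at e; exact smul_left_cancel _ e)⟩
    have hf : Function.Injective f := fun u v e => by
      have e' : (u : G) • x = (v : G) • x := congrArg Subtype.val e
      have := Ar x hx _ (v⁻¹ * u).2 (by rw [coe_mul, mul_smul, e', coe_inv, inv_smul_smul])
      exact (inv_mul_eq_one.1 (OneMemClass.coe_eq_one.1 this)).symm
    have hc : Nat.card A = Nat.card {z : Ω // z ≠ c} := by
      have := Finite.card_subtype_lt (p := fun z : Ω => z ≠ c) (x := c) (by simp)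
      have := Nat.card_le_card_of_injective f hf
      omega
    obtain ⟨u, hu⟩ := ((Nat.bijective_iff_injective_and_card f).2 ⟨hf, hc⟩).2 ⟨y, hy⟩
    exact ⟨u, u.2, congrArg Subtype.val hu⟩
  have Ao : Odd (Nat.card A) := by
    obtain ⟨k, hk⟩ := Ap.exists_card_eq
    rw [hk]; exact hodd.pow
  obtain ⟨V, V1, V2, V3⟩ := fam_aux (h.trans c) Af An At Ap.isNilpotent Ao
  have V4 : ∀ g u : G, u ∈ V (g • c) ↔ g⁻¹ * u * g ∈ A := fun g u => by
    rw [← V3 g]; simp [mul_assoc]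
  have VM : ∀ d, V d ≤ M := fun d u hu => by
    obtain ⟨g, rfl⟩ := h.trans c d
    simpa [mul_assoc] using hM.normal.conj_mem _ (AM ((V4 g u).1 hu)) g
  have hL : Lt Set.univ V = M := by
    refine le_antisymm (Lt_le_iff.2 fun d _ => VM d) (hM.min _
      ⟨fun l hl g => V1.Lt_conj (mem_top g) hl⟩ fun e => u₀1 ?_)
    have : (u₀ : G) ∈ Lt Set.univ V := le_Lt (Set.mem_univ c) (V2 ▸ ⟨u₀, QS hu₀, rfl⟩)
    rw [e, mem_bot] at this
    exact Subtype.ext this
  refine ⟨V, V1, hL, fun a b hb u hu e => ?_, fun d => ?_⟩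
  · obtain ⟨g, rfl⟩ := h.trans c a
    have := Ar (g⁻¹ • b) (fun e => hb (by rw [← e, smul_inv_smul])) _ ((V4 g u).1 hu)
      (by rw [mul_smul, smul_inv_smul, mul_smul, e])
    simpa [mul_assoc] using congrArg (fun x => g * x * g⁻¹) this
  · obtain ⟨g, rfl⟩ := h.trans c d
    have e : V (g • c) = A.map (MulAut.conj g).toMonoidHom := by
      ext u
      rw [V4, mem_map_equiv]
      simp
    have hc : Nat.card (V (g • c)) = Nat.card S := by
      rw [e, card_map_of_injective (MulAut.conj g).injective, hA]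
    refine ⟨e ▸ Ap.map _, ?_⟩
    have h1 := ((V (g • c)).subgroupOf M).card_mul_index
    rw [Nat.card_congr (subgroupOfEquivOfLe (VM _)).toEquiv, hc, ← S.card_mul_index] at h1
    rw [hL, relIndex, Nat.eq_of_mul_eq_mul_left Nat.card_pos h1]
    exact t.syl

end H51.HK
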