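import Cfsg.Agent.Lib.LocStruct.SylowIn
import Cfsg.Prelude.Def_Transfer

/-! HKS2, package GAM, pure part: a 2-group with a unique involution and an automorphism that
permutes the three cyclic subgroups of a quaternion subgroup has order eight. -/

set_option autoImplicit false

namespace H51.HK.GAM92

open Subgroup H69
open scoped commutatorElement

section P8

universe u

variable {X : Type u} [Group X] [Finite X]

/-- the hypotheses on the 2-group `P` -/
structure QD (P : Subgroup X) (z k1 k2 g : X) : Prop where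
  nrm : P.Normal
  two : IsPGroup 2 P
  zP : z ∈ P
  z1 : z ≠ 1
  z2 : z * z = 1
  zc : ∀ y, y * z = z * y
  uq : ∀ s ∈ P, s * s = 1 → s = 1 ∨ s = z
  h1 : k1 ∈ P
  h2 : k2 ∈ P
  s1 : k1 * k1 = z
  s2 : k2 * k2 = z
  hc : k2 * k1 = k1 * k2 * z
  g1 : g * k1 * g⁻¹ = k2
  g2 : g * k2 * g⁻¹ = k1 * k2 ∨ g * k2 * g⁻¹ = k1 * k2 * z

variable {P : Subgroup X} {z k1 k2 g : X}

omit [Finite X] in
theorem QD.s3 (h : QD P z k1 k2 g) : k1 * k2 * (k1 * k2) = z := by
  calc k1 * k2 * (k1 * k2) = k1 * (k2 * k1) * k2 := by group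
    _ = k1 * k1 * k2 * (z * k2) := by rw [h.hc]; group
    _ = k1 * k1 * (k2 * k2) * z := by rw [← h.zc k2]; group
    _ = z := by rw [h.s1, h.s2, h.z2, one_mul]

/-- a homomorphism with kernel `{1, z}` -/
theorem QD.exf (h : QD P z k1 k2 g) : ∃ (Y : Type u) (_ : Group Y) (_ : Finite Y) (f : X →* Y),
    ∀ y, f y = 1 ↔ y = 1 ∨ y = z := by
  have hn : (zpowers z).Normal := ⟨fun n hn g => by
    obtain ⟨k, rfl⟩ := mem_zpowers_iff.1 hn
    have : Commute g (z ^ k) := Commute.zpow_right (h.zc g) k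
    rw [this.eq, mul_inv_cancel_right]; exact zpow_mem_zpowers z k⟩
  refine ⟨X ⧸ zpowers z, inferInstance, inferInstance, QuotientGroup.mk' _, fun y => ?_⟩
  rw [QuotientGroup.mk'_apply, QuotientGroup.eq_one_iff]
  constructor
  · intro hy
    obtain ⟨k, rfl⟩ := mem_zpowers_iff.1 hy
    have h2 : z ^ (2 : ℤ) = 1 := by rw [zpow_two, h.z2]
    rcases Int.even_or_odd' k with ⟨m, rfl | rfl⟩
    · left; rw [zpow_mul, h2, one_zpow]
    · right; rw [zpow_add, zpow_mul, h2, one_zpow, one_mul, zpow_one]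
  · rintro (rfl | rfl)
    · exact one_mem _
    · exact mem_zpowers _

variable {Y : Type*} [Group Y] [Finite Y] {f : X →* Y}

omit [Finite X] in
theorem QD.fix (h : QD P z k1 k2 g) (hf : ∀ y, f y = 1 ↔ y = 1 ∨ y = z) {T : Subgroup X}
    (hT : IsPGroup 2 T) : ∃ c ∈ P, c * c = z ∧ ∀ y ∈ T, f y * f c = f c * f y := by
  have : Fact (Nat.Prime 2) := ⟨Nat.prime_two⟩
  have hne : P.map f ≠ ⊥ := by
    intro hb
    have : f k1 ∈ P.map f := mem_map_of_mem f h.h1
    rw [hb, mem_bot, hf] at this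
    rcases this with e | e
    · exact h.z1 (by rw [← h.s1, e, one_mul])
    · exact h.z1 (by rw [← h.s1, e, h.z2])
  have hn : T.map f ≤ normalizer ((P.map f : Subgroup Y) : Set Y) := by
    rintro _ ⟨t, -, rfl⟩
    refine Subgroup.mem_normalizer_fintype ?_
    rintro _ ⟨k, hk, rfl⟩
    exact ⟨t * k * t⁻¹, h.nrm.conj_mem k hk t, by simp⟩
  have h1 := inf_centralizer_ne_bot (h.two.map f) (hT.map f) hn hne
  obtain ⟨_, ⟨⟨c, cP, rfl⟩, cC⟩, co⟩ := exists_orderOf_eq_prime (h.two.map f).to_inf_left h1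
  have c2 : f (c * c) = 1 := by
    rw [map_mul, ← sq, ← co, pow_orderOf_eq_one]
  have c1 : f c ≠ 1 := fun e => by rw [e, orderOf_one] at co; omega
  refine ⟨c, cP, ?_, fun y hy => cC _ (mem_map_of_mem f hy)⟩
  rcases (hf _).1 c2 with e | e
  · exact absurd ((hf _).2 (h.uq c cP e)) c1
  · exact e

omit [Finite X] [Finite Y] in
theorem QD.rot (h : QD P z k1 k2 g) (hf : ∀ y, f y = 1 ↔ y = 1 ∨ y = z) (F : Y → Prop)
    (hF : ∀ k ∈ P, F (f k) → F (f (g * k * g⁻¹)))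
    (h0 : F (f k1) ∨ F (f k2) ∨ F (f (k1 * k2))) : F (f k1) ∧ F (f k2) := by
  have fz : f z = 1 := (hf z).2 (Or.inr rfl)
  have e2 : f (g * k2 * g⁻¹) = f (k1 * k2) := by
    rcases h.g2 with e | e <;> rw [e]
    rw [map_mul _ _ z, fz, mul_one]
  have e3 : f (g * (k1 * k2) * g⁻¹) = f k1 := by
    have : g * (k1 * k2) * g⁻¹ = (g * k1 * g⁻¹) * (g * k2 * g⁻¹) := by group
    rw [this, map_mul, e2, h.g1, ← map_mul, ← mul_assoc, h.hc, mul_assoc (k1 * k2), ← h.zc k2,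
      ← mul_assoc, mul_assoc k1, h.s2, mul_assoc, h.z2, mul_one]
  have a1 : F (f k1) → F (f k2) := fun a => by have := hF k1 h.h1 a; rwa [h.g1] at this
  have a2 : F (f k2) → F (f (k1 * k2)) := fun a => by have := hF k2 h.h2 a; rwa [e2] at this
  have a3 : F (f (k1 * k2)) → F (f k1) := fun a => by
    have := hF _ (mul_mem h.h1 h.h2) a; rwa [e3] at this
  tauto

omit [Finite X] [Finite Y] in
theorem QD.cj (_h : QD P z k1 k2 g) (hf : ∀ y, f y = 1 ↔ y = 1 ∨ y = z) {y k : X}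
    (e : f y * f k = f k * f y) : y * k = k * y ∨ y * k = k * y * z := by
  have : f ((k * y)⁻¹ * (y * k)) = 1 := by
    rw [map_mul, map_inv, map_mul, map_mul, e, inv_mul_cancel]
  rcases (hf _).1 this with e | e
  · left; exact (inv_mul_eq_one.1 e).symm
  · right; rw [← e]; group

omit [Finite X] [Finite Y] in
theorem QD.eq4 (h : QD P z k1 k2 g) (hf : ∀ y, f y = 1 ↔ y = 1 ∨ y = z) {c k : X} (cP : c ∈ P)
    (kP : k ∈ P) (c2 : c * c = z) (k2' : k * k = z) (e : c * k = k * c) : f k = f c := by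
  have fz : f z = 1 := (hf z).2 (Or.inr rfl)
  have h1 : c * k * (c * k) = 1 := by
    calc c * k * (c * k) = c * (k * c) * k := by group
      _ = c * c * (k * k) := by rw [← e]; group
      _ = 1 := by rw [c2, k2', h.z2]
  have h2 : f (c * k) = 1 := (hf _).2 (h.uq _ (mul_mem cP kP) h1)
  have h3 : f (c * c) = 1 := by rw [c2, fz]
  rw [← h3, map_mul, map_mul] at h2
  exact mul_left_cancel h2

omit [Finite X] in
theorem QD.cen (h : QD P z k1 k2 g) (hf : ∀ y, f y = 1 ↔ y = 1 ∨ y = z) :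
    (∀ y ∈ P, f y * f k1 = f k1 * f y) ∧ ∀ y ∈ P, f y * f k2 = f k2 * f y := by
  obtain ⟨c, cP, c2, hc⟩ := h.fix hf h.two
  refine h.rot hf (fun w => ∀ y ∈ P, f y * w = w * f y) (fun k _ a y hy => ?_) ?_
  · have := a _ (h.nrm.conj_mem y hy g⁻¹)
    simp only [map_mul, map_inv, inv_inv] at this ⊢
    calc f y * (f g * f k * (f g)⁻¹) = f g * ((f g)⁻¹ * f y * f g * f k) * (f g)⁻¹ := by group
      _ = f g * f k * (f g)⁻¹ * f y := by rw [this]; group
  · rcases h.cj hf (hc k1 h.h1).symm with e1 | e1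
    · left; rw [h.eq4 hf cP h.h1 c2 h.s1 e1]; exact hc
    rcases h.cj hf (hc k2 h.h2).symm with e2 | e2
    · right; left; rw [h.eq4 hf cP h.h2 c2 h.s2 e2]; exact hc
    right; right
    have e3 : c * (k1 * k2) = k1 * k2 * c := by
      calc c * (k1 * k2) = c * k1 * k2 := by group
        _ = k1 * c * (z * k2) := by rw [e1]; group
        _ = k1 * (c * k2) * z := by rw [← h.zc k2]; group
        _ = k1 * k2 * c * (z * z) := by rw [e2]; group
        _ = k1 * k2 * c := by rw [h.z2, mul_one]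
    rw [h.eq4 hf cP (mul_mem h.h1 h.h2) c2 h.s3 e3]; exact hc

omit [Finite X] [Finite Y] in
theorem QD.cq (h : QD P z k1 k2 g) (hf : ∀ y, f y = 1 ↔ y = 1 ∨ y = z) {y : X} (yP : y ∈ P)
    (e1 : y * k1 = k1 * y) (e2 : y * k2 = k2 * y) : f y = 1 := by
  obtain ⟨n, hn⟩ := h.two ⟨y, yP⟩
  have hn' : y ^ 2 ^ n = 1 := by simpa using congrArg Subtype.val hn
  clear hn
  induction n generalizing y with
  | zero => rw [pow_zero, pow_one] at hn'; rw [hn', map_one]
  | succ n ih =>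
    have c1 : Commute y k1 := e1
    have c2 : Commute y k2 := e2
    have := ih (mul_mem yP yP) (c1.mul_left c1).eq (c2.mul_left c2).eq
      (by rw [← sq, ← pow_mul, ← pow_succ', hn'])
    rcases (hf _).1 this with e | e
    · exact (hf _).2 (h.uq y yP e)
    · exfalso
      have a := h.eq4 hf yP h.h1 e h.s1 e1
      have b : f (y⁻¹ * k1) = 1 := by rw [map_mul, map_inv, a, inv_mul_cancel]
      have c3 : Commute (y⁻¹ * k1) k2 := by
        rcases (hf _).1 b with e | e <;> rw [e]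
        · exact Commute.one_left _
        · exact (h.zc k2).symm
      have c4 : Commute k1 k2 := by
        have := c2.mul_left c3
        rwa [mul_inv_cancel_left] at this
      have hc := h.hc
      rw [← c4.eq] at hc
      exact h.z1 (by simpa using hc.symm)

omit [Finite X] in
theorem QD.list (h : QD P z k1 k2 g) (hf : ∀ y, f y = 1 ↔ y = 1 ∨ y = z) {y : X} (yP : y ∈ P) :
    f y = 1 ∨ f y = f k1 ∨ f y = f k2 ∨ f y = f (k1 * k2) := by
  have fz : f z = 1 := (hf z).2 (Or.inr rfl)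
  obtain ⟨a1, a2⟩ := h.cen hf
  have key : ∀ k ∈ P, k * k = z → y * k * k1 = k1 * (y * k) → y * k * k2 = k2 * (y * k) →
      f y = f k := by
    intro k kP kk b1 b2
    have := h.cq hf (mul_mem yP kP) b1 b2
    rw [← fz, ← kk, map_mul, map_mul] at this
    exact mul_right_cancel this
  have hc' : k1 * k2 = k2 * k1 * z := by rw [h.hc, mul_assoc, h.z2, mul_one]
  have zl : ∀ u v : X, z * (u * v) = u * (z * v) := fun u v => by
    rw [← mul_assoc, ← h.zc u, mul_assoc]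
  have zz : ∀ v : X, z * (z * v) = v := fun v => by rw [← mul_assoc, h.z2, one_mul]
  rcases h.cj hf (a1 y yP) with e1 | e1 <;> rcases h.cj hf (a2 y yP) with e2 | e2
  · exact Or.inl (h.cq hf yP e1 e2)
  · refine Or.inr (Or.inl (key k1 h.h1 h.s1 (by rw [← mul_assoc, ← e1]) ?_))
    calc y * k1 * k2 = y * (k1 * k2) := by group
      _ = y * k2 * k1 * z := by rw [hc']; group
      _ = k2 * (y * k1) * (z * z) := by
        rw [e2, mul_assoc (k2 * y) z, ← h.zc k1]; group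
      _ = k2 * (y * k1) := by rw [h.z2, mul_one]
  · refine Or.inr (Or.inr (Or.inl (key k2 h.h2 h.s2 ?_ (by rw [← mul_assoc, ← e2]))))
    calc y * k2 * k1 = y * (k2 * k1) := by group
      _ = y * k1 * k2 * z := by rw [h.hc]; group
      _ = k1 * (y * k2) * (z * z) := by
        rw [e1, mul_assoc (k1 * y) z, ← h.zc k2]; group
      _ = k1 * (y * k2) := by rw [h.z2, mul_one]
  · refine Or.inr (Or.inr (Or.inr (key _ (mul_mem h.h1 h.h2) h.s3 ?_ ?_)))
    · calc y * (k1 * k2) * k1 = y * k1 * (k2 * k1) := by group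
        _ = k1 * y * (z * (k1 * k2 * z)) := by rw [e1, h.hc]; group
        _ = k1 * (y * (k1 * k2)) := by rw [h.zc (k1 * k2), zz]; group
    · calc y * (k1 * k2) * k2 = y * (k1 * k2) * k2 := rfl
        _ = y * k2 * (k1 * z * k2) := by
          conv_lhs => rw [hc']
          group
        _ = k2 * y * (z * (z * (k1 * k2))) := by rw [e2, h.zc k1]; group
        _ = k2 * (y * (k1 * k2)) := by rw [zz]; group

theorem QD.card (h : QD P z k1 k2 g) : Nat.card P = 8 := by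
  obtain ⟨Y, _, _, f, hf⟩ := h.exf
  have two : ∀ y k, f y = f k → y = k ∨ y = k * z := fun y k e => by
    have : f (k⁻¹ * y) = 1 := by rw [map_mul, map_inv, e, inv_mul_cancel]
    rcases (hf _).1 this with e | e
    · left; exact (inv_mul_eq_one.1 e).symm
    · right; rw [← e]; group
  have hsub : (P : Set X) ⊆ {1, z, k1, k1 * z, k2, k2 * z, k1 * k2, k1 * k2 * z} := by
    intro y hy
    simp only [Set.mem_insert_iff, Set.mem_singleton_iff]
    rcases h.list hf hy with e | e | e | e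
    · rcases (hf _).1 e with e | e <;> tauto
    all_goals rcases two _ _ e with e | e <;> tauto
  have h8 : Nat.card P ≤ 8 := by
    have := Set.ncard_le_ncard hsub
    rw [← Nat.card_coe_set_eq] at this
    refine le_trans this ?_
    iterate 7 refine le_trans (Set.ncard_insert_le _ _) (Nat.succ_le_succ ?_)
    rw [Set.ncard_singleton]
  have o4 : orderOf k1 = 2 ^ 2 := by
    have : Fact (Nat.Prime 2) := ⟨Nat.prime_two⟩
    refine orderOf_eq_prime_pow (n := 1) ?_ ?_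
    · rw [pow_one, sq, h.s1]; exact h.z1
    · rw [show 2 ^ (1 + 1) = 2 * 2 by norm_num, pow_mul, sq, sq, h.s1, h.z2]
  have hle : zpowers k1 ≤ P := (zpowers_le (H := P)).2 h.h1
  have d4 : 4 ∣ Nat.card P := by
    have := card_dvd_of_le hle
    rwa [Nat.card_zpowers, o4] at this
  have n4 : Nat.card P ≠ 4 := by
    intro e
    have : zpowers k1 = P := eq_of_le_of_card_ge hle (by rw [Nat.card_zpowers, o4, e]; norm_num)
    have h2 := h.h2
    rw [← this] at h2
    obtain ⟨m, hm⟩ := mem_zpowers_iff.1 h2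
    have c4 : Commute k1 k2 := hm ▸ Commute.self_zpow k1 m
    have hc := h.hc
    rw [← c4.eq] at hc
    exact h.z1 (by simpa using hc.symm)
  have : 0 < Nat.card P := Nat.card_pos
  omega

theorem QD.gam (h : QD P z k1 k2 g) {γ : X} {i : ℕ} (hγ : γ ^ 2 ^ i = 1) {k0 : X} (h0 : k0 ∈ P)
    (hk : ∀ k ∈ P, ⁅γ, g⁆ * k * ⁅γ, g⁆⁻¹ = k0 * k * k0⁻¹) {k : X} (kP : k ∈ P) :
    ⁅γ, k⁆ * ⁅γ, k⁆ = 1 := by
  have : Fact (Nat.Prime 2) := ⟨Nat.prime_two⟩
  obtain ⟨Y, _, _, f, hf⟩ := h.exf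
  obtain ⟨a1, a2⟩ := h.cen hf
  have hT : IsPGroup 2 (zpowers γ) := by
    obtain ⟨j, -, hj⟩ := (Nat.dvd_prime_pow Nat.prime_two).1 (orderOf_dvd_of_pow_eq_one hγ)
    exact IsPGroup.of_card (by rw [Nat.card_zpowers, hj])
  obtain ⟨c, cP, c2, hc⟩ := h.fix hf hT
  have hc := hc γ (mem_zpowers γ)
  have all : ∀ w : Y, w * f k1 = f k1 * w → w * f k2 = f k2 * w → ∀ y ∈ P, w * f y = f y * w := by
    intro w b1 b2 y hy
    rcases h.list hf hy with e | e | e | e <;> rw [e]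
    · simp
    · exact b1
    · exact b2
    · rw [map_mul]; exact Commute.mul_right b1 b2
  have ⟨b1, b2⟩ := h.rot hf (fun w => f γ * w = w * f γ) (fun k kP a => ?_) ?_
  · have : f ⁅γ, k⁆ = 1 := by
      rw [map_commutatorElement, commutatorElement_eq_one_iff_mul_comm]
      exact all _ b1 b2 k kP
    rcases (hf _).1 this with e | e <;> rw [e]
    · exact one_mul 1
    · exact h.z2
  · have m := h.nrm.conj_mem k kP g
    have e1 := congrArg f (hk _ m)
    have e2 := all _ (a1 k0 h0) (a2 k0 h0) _ m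
    rw [map_mul f (k0 * _), map_mul f k0, e2, map_inv f k0, mul_inv_cancel_right] at e1
    simp only [commutatorElement_def, map_mul, map_inv] at e1 ⊢
    calc f γ * (f g * f k * (f g)⁻¹)
        = f γ * f g * ((f γ)⁻¹ * (f γ * f k)) * (f g)⁻¹ := by group
      _ = f γ * f g * (f γ)⁻¹ * (f g)⁻¹ * (f g * f k * (f g)⁻¹) *
          (f γ * f g * (f γ)⁻¹ * (f g)⁻¹)⁻¹ * f γ := by rw [a]; group
      _ = f g * f k * (f g)⁻¹ * f γ := by rw [e1]
  · rcases h.list hf cP with e | e | e | e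
    · exfalso
      rcases (hf _).1 e with e | e
      · exact h.z1 (by rw [← c2, e, one_mul])
      · exact h.z1 (by rw [← c2, e, h.z2])
    all_goals rw [e] at hc; tauto

end P8

section Mid

variable {G : Type*} [Group G] [Finite G]

theorem odd_mul {K : Subgroup G} (hK : Cfsg.HasNormalPComplement 2 K) {u v : G} (hu : u ∈ K)
    (hv : v ∈ K) (ou : Odd (orderOf u)) (ov : Odd (orderOf v)) : Odd (orderOf (u * v)) := by
  have : Fact (Nat.Prime 2) := ⟨Nat.prime_two⟩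
  obtain ⟨S, N, hN, hc⟩ := hK
  have c1 : ¬ 2 ∣ Nat.card N := by rw [← hc.index_eq_card]; exact S.not_dvd_index
  obtain ⟨n, hn⟩ := IsPGroup.iff_card.1 S.isPGroup'
  have c2 : N.index = 2 ^ n := by rw [hc.symm.index_eq_card, hn]
  have mem : ∀ w : K, Odd (orderOf (w : G)) → w ∈ N := fun w ow => by
    rw [← QuotientGroup.eq_one_iff, ← orderOf_eq_one_iff]
    have a1 : orderOf (w : K ⧸ N) ∣ 2 ^ n := by
      rw [← c2]; exact orderOf_dvd_natCard _
    have a2 : orderOf (w : K ⧸ N) ∣ orderOf (w : G) := by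
      rw [orderOf_coe]; exact orderOf_map_dvd (QuotientGroup.mk' N) w
    exact Nat.eq_one_of_dvd_coprimes ((Nat.coprime_two_left.2 ow).pow_left n) a1 a2
  have m := mul_mem (mem ⟨u, hu⟩ ou) (mem ⟨v, hv⟩ ov)
  have d := N.orderOf_dvd_natCard m
  rw [← orderOf_coe] at d
  exact Odd.of_dvd_nat (Nat.odd_iff.2 (by omega)) d

theorem mid0 {K : Subgroup G} [hn : K.Normal]
    (hK : ∀ u ∈ K, ∀ v ∈ K, Odd (orderOf u) → Odd (orderOf v) → Odd (orderOf (u * v)))
    {x k1 k2 g γ k0 : G} (xK : x ∈ K) (x1 : x ≠ 1) (x2 : x * x = 1) (xc : ∀ y, y * x = x * y)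
    (uq : ∀ s ∈ K, s * s = 1 → s = 1 ∨ s = x) (h1 : k1 ∈ K) (h2 : k2 ∈ K) (s1 : k1 * k1 = x)
    (s2 : k2 * k2 = x) (hc : k2 * k1 = k1 * k2 * x) (g1 : g * k1 * g⁻¹ = k2)
    (g2 : g * k2 * g⁻¹ = k1 * k2 ∨ g * k2 * g⁻¹ = k1 * k2 * x) {i : ℕ} (hγ : γ ^ 2 ^ i = 1)
    (h0 : k0 ∈ K) (hk : ∀ k ∈ K, ⁅γ, g⁆ * k * ⁅γ, g⁆⁻¹ = k0 * k * k0⁻¹) :
    ∃ T : Subgroup G, IsPGroup 2 T ∧ T ≤ K ∧ (∀ k ∈ T, γ * k * γ⁻¹ ∈ T) ∧ Nat.card T = 8 ∧
      ¬ 16 ∣ Nat.card K ∧ ∀ k ∈ T, ⁅γ, k⁆ * ⁅γ, k⁆ = 1 := by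
  have : Fact (Nat.Prime 2) := ⟨Nat.prime_two⟩
  let O : Subgroup G :=
    { carrier := {k | k ∈ K ∧ Odd (orderOf k)}
      mul_mem' := fun {a b} ha hb => ⟨mul_mem ha.1 hb.1, hK a ha.1 b hb.1 ha.2 hb.2⟩
      one_mem' := ⟨one_mem _, by simp⟩
      inv_mem' := fun {a} ha => ⟨inv_mem ha.1, by rw [orderOf_inv]; exact ha.2⟩ }
  have hO : O.Normal := ⟨fun k hk g => ⟨hn.conj_mem k hk.1 g, by
    have := (MulAut.conj g).orderOf_eq k
    rw [MulAut.conj_apply] at this
    rw [this]; exact hk.2⟩⟩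
  let f := QuotientGroup.mk' O
  have hf : ∀ y, f y = 1 ↔ y ∈ K ∧ Odd (orderOf y) := fun y => QuotientGroup.eq_one_iff y
  have fs : Function.Surjective f := QuotientGroup.mk'_surjective O
  have q : QD (K.map f) (f x) (f k1) (f k2) (f g) :=
    { nrm := hn.map f fs
      two := by
        rintro ⟨_, k, hk, rfl⟩
        obtain ⟨j, m, hm, e⟩ := Nat.exists_eq_two_pow_mul_odd (orderOf_pos k).ne'
        refine ⟨j, Subtype.ext ?_⟩
        change f k ^ 2 ^ j = 1
        rw [← map_pow, hf]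
        refine ⟨pow_mem hk _, Odd.of_dvd_nat hm (orderOf_dvd_of_pow_eq_one ?_)⟩
        rw [← pow_mul, ← e, pow_orderOf_eq_one]
      zP := mem_map_of_mem f xK
      z1 := fun e => by
        have := ((hf x).1 e).2
        rw [orderOf_eq_prime (p := 2) (by rw [sq, x2]) x1] at this
        exact absurd this (by decide)
      z2 := by rw [← map_mul, x2, map_one]
      zc := fun y => by obtain ⟨y, rfl⟩ := fs y; rw [← map_mul, xc, map_mul]
      uq := by
        rintro _ ⟨s, hs, rfl⟩ e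
        obtain ⟨m, hm⟩ := ((hf (s * s)).1 (by rw [map_mul, e])).2
        have a : f (s ^ (2 * m + 1)) = f s := by
          rw [map_pow, pow_succ, pow_mul, sq, e, one_pow, one_mul]
        have b : s ^ (2 * m + 1) * s ^ (2 * m + 1) = 1 := by
          rw [← (Commute.refl s).mul_pow, ← hm, pow_orderOf_eq_one]
        rcases uq _ (pow_mem hs _) b with c | c
        · left; rw [← a, c, map_one]
        · right; rw [← a, c]
      h1 := mem_map_of_mem f h1
      h2 := mem_map_of_mem f h2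
      s1 := by rw [← map_mul, s1]
      s2 := by rw [← map_mul, s2]
      hc := by rw [← map_mul, hc, map_mul, map_mul]
      g1 := by rw [← g1, map_mul, map_mul, map_inv]
      g2 := by
        rcases g2 with e | e
        · left; simpa using congrArg f e
        · right; simpa using congrArg f e }
  have hT : IsPGroup 2 (zpowers γ) := by
    obtain ⟨j, -, hj⟩ := (Nat.dvd_prime_pow Nat.prime_two).1 (orderOf_dvd_of_pow_eq_one hγ)
    exact IsPGroup.of_card (by rw [Nat.card_zpowers, hj])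
  obtain ⟨S, hS, γS⟩ := exists_isSylowIn_le hT (le_top (a := zpowers γ))
  have γS : γ ∈ S := γS (mem_zpowers γ)
  have hT : IsSylowIn 2 (S ⊓ K) K := hS.inf_normal le_top (by rw [normalizer_eq_top])
  have inj : ∀ y ∈ S ⊓ K, f y = 1 → y = 1 := fun y hy e => by
    obtain ⟨n, hn⟩ := hT.isP ⟨y, hy⟩
    have hn' : y ^ 2 ^ n = 1 := by simpa using congrArg Subtype.val hn
    rw [← orderOf_eq_one_iff]
    exact Nat.eq_one_of_dvd_coprimes ((Nat.coprime_two_left.2 ((hf y).1 e).2).pow_left n)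
      (orderOf_dvd_of_pow_eq_one hn') dvd_rfl
  have c8 : Nat.card (S ⊓ K : Subgroup G) = 8 := by
    rw [← q.card, (hT.map f).max _ (hT.map f).le le_rfl q.two]
    refine Nat.card_congr (Equiv.ofBijective (f.subgroupMap _) ⟨?_, f.subgroupMap_surjective _⟩)
    rw [injective_iff_map_eq_one]
    intro y e
    exact Subtype.ext (inj y y.2 (congrArg Subtype.val e))
  refine ⟨S ⊓ K, hT.isP, inf_le_right, fun k hk => ⟨S.mul_mem (S.mul_mem γS hk.1) (S.inv_mem γS),
    hn.conj_mem k hk.2 γ⟩, c8, fun d => ?_, fun k hk' => ?_⟩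
  · have a := hT.card_eq_pow_factorization
    rw [c8] at a
    have b := (Nat.prime_two.pow_dvd_iff_le_factorization (k := 4) Nat.card_pos.ne').1 d
    have c := Nat.pow_le_pow_right (n := 2) (by norm_num) b
    omega
  · have m : ⁅γ, k⁆ ∈ S ⊓ K := by
      rw [commutatorElement_def]
      exact ⟨S.mul_mem (S.mul_mem (S.mul_mem γS hk'.1) (S.inv_mem γS)) (S.inv_mem hk'.1),
        K.mul_mem (hn.conj_mem k hk'.2 γ) (K.inv_mem hk'.2)⟩
    refine inj _ (mul_mem m m) ?_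
    rw [map_mul, map_commutatorElement]
    refine q.gam (i := i) (by rw [← map_pow, hγ, map_one]) (mem_map_of_mem f h0) ?_
      (mem_map_of_mem f hk'.2)
    rintro _ ⟨y, hy, rfl⟩
    rw [← map_commutatorElement]
    simpa using congrArg f (hk y hy)

theorem mid {C K : Subgroup G} (hKC : K ≤ C) (hn : ∀ g ∈ C, ∀ k ∈ K, g * k * g⁻¹ ∈ K)
    (hK : Cfsg.HasNormalPComplement 2 K)
    {x k1 k2 g γ k0 : G} (xK : x ∈ K) (x1 : x ≠ 1) (x2 : x * x = 1) (xc : ∀ y ∈ C, y * x = x * y)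
    (uq : ∀ s ∈ K, s * s = 1 → s = 1 ∨ s = x) (h1 : k1 ∈ K) (h2 : k2 ∈ K) (s1 : k1 * k1 = x)
    (s2 : k2 * k2 = x) (hc : k2 * k1 = k1 * k2 * x) (gC : g ∈ C) (g1 : g * k1 * g⁻¹ = k2)
    (g2 : g * k2 * g⁻¹ = k1 * k2 ∨ g * k2 * g⁻¹ = k1 * k2 * x) (γC : γ ∈ C) {i : ℕ}
    (hγ : γ ^ 2 ^ i = 1) (h0 : k0 ∈ K)
    (hk : ∀ k ∈ K, ⁅γ, g⁆ * k * ⁅γ, g⁆⁻¹ = k0 * k * k0⁻¹) :
    ∃ T : Subgroup G, IsPGroup 2 T ∧ T ≤ K ∧ (∀ k ∈ T, γ * k * γ⁻¹ ∈ T) ∧ Nat.card T = 8 ∧
      ¬ 16 ∣ Nat.card K ∧ ∀ k ∈ T, ⁅γ, k⁆ * ⁅γ, k⁆ = 1 := by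
  have hN : (K.subgroupOf C).Normal := ⟨fun k hk g => hn g g.2 k hk⟩
  obtain ⟨T, t1, t2, t3, t4, t5, t6⟩ := mid0 (K := K.subgroupOf C) (x := ⟨x, hKC xK⟩)
    (k1 := ⟨k1, hKC h1⟩) (k2 := ⟨k2, hKC h2⟩) (g := ⟨g, gC⟩) (γ := ⟨γ, γC⟩) (k0 := ⟨k0, hKC h0⟩)
    (fun u hu v hv ou ov => by
      rw [← orderOf_coe] at ou ov ⊢; exact odd_mul hK hu hv ou ov)
    xK (fun e => x1 (congrArg Subtype.val e)) (Subtype.ext x2) (fun y => Subtype.ext (xc y y.2))
    (fun s hs e => (uq s hs (congrArg Subtype.val e)).imp Subtype.ext Subtype.ext) h1 h2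
    (Subtype.ext s1) (Subtype.ext s2) (Subtype.ext hc) (Subtype.ext g1)
    (g2.imp Subtype.ext Subtype.ext) (i := i) (Subtype.ext (by simpa using hγ)) h0
    (fun k hk' => Subtype.ext (hk k hk'))
  refine ⟨T.map C.subtype, t1.map _, ?_, ?_, ?_, ?_, ?_⟩
  · rintro _ ⟨k, hk, rfl⟩; exact t2 hk
  · rintro _ ⟨k, hk, rfl⟩; exact ⟨_, t3 k hk, rfl⟩
  · rw [card_map_of_injective C.subtype_injective, t4]
  · rwa [Nat.card_congr (subgroupOfEquivOfLe hKC).toEquiv] at t5
  · rintro _ ⟨k, hk, rfl⟩; exact congrArg Subtype.val (t6 k hk)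

end Mid

end H51.HK.GAM92
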