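import Cfsg.Agent.Lib.HK.SLB
import Cfsg.Agent.Lib.HK.GAMa

/-! HKS2, package GAM: in the configuration of type `G₂(q)` the kernel `K` has no normal
2-complement. -/

set_option autoImplicit false

namespace H51.HK

open MulAction Subgroup Matrix H69
open scoped MatrixGroups Classical commutatorElement

namespace GAM92

section Pure

variable {G : Type*} [Group G]

/-- a basis of an elementary abelian group of order eight -/
structure E8 (v a b : G) : Prop where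
  v2 : v * v = 1
  a2 : a * a = 1
  b2 : b * b = 1
  av : a * v = v * a
  bv : b * v = v * b
  ab : a * b = b * a
  v1 : v ≠ 1
  a1 : a ≠ 1
  b1 : b ≠ 1
  nav : a ≠ v
  nbv : b ≠ v
  nab : a ≠ b
  nabv : a * b ≠ v

variable {v a b l : G}

theorem E8.sw1 (h : E8 v a b) : E8 a v b :=
  ⟨h.a2, h.v2, h.b2, h.av.symm, h.ab.symm, h.bv.symm, h.a1, h.v1, h.b1, h.nav.symm, h.nab.symm,
    h.nbv.symm, fun e => h.nabv (by rw [← e, mul_assoc, h.b2, mul_one])⟩

theorem E8.sw2 (h : E8 v a b) : E8 v b a :=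
  ⟨h.v2, h.b2, h.a2, h.bv, h.av, h.ab.symm, h.v1, h.b1, h.a1, h.nbv, h.nav, h.nab.symm,
    h.ab ▸ h.nabv⟩

theorem E8.ab2 (h : E8 v a b) : a * b * (a * b) = 1 := by
  rw [mul_assoc, ← mul_assoc b, ← h.ab, mul_assoc, h.b2, mul_one, h.a2]

theorem E8.mul (h : E8 v a b) : E8 v a (a * b) :=
  ⟨h.v2, h.a2, h.ab2, h.av, Commute.mul_left h.av h.bv, by rw [mul_assoc, h.ab], h.v1, h.a1,
    fun e => h.nab (mul_right_cancel (e.trans h.b2.symm)), h.nav, h.nabv,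
    fun e => h.b1 (by simpa using e.symm), by rw [← mul_assoc, h.a2, one_mul]; exact h.nbv⟩

theorem E8.map (h : E8 v a b) (φ : G ≃* G) : E8 (φ v) (φ a) (φ b) :=
  ⟨by rw [← map_mul, h.v2, map_one], by rw [← map_mul, h.a2, map_one],
    by rw [← map_mul, h.b2, map_one], by rw [← map_mul, h.av, map_mul],
    by rw [← map_mul, h.bv, map_mul], by rw [← map_mul, h.ab, map_mul], by simpa using h.v1,
    by simpa using h.a1, by simpa using h.b1, φ.injective.ne h.nav, φ.injective.ne h.nbv,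
    φ.injective.ne h.nab, by rw [← map_mul]; exact φ.injective.ne h.nabv⟩

theorem E8.clo (h : E8 v a b) {g : G} (hg : g ∈ closure ({a, b} : Set G)) :
    g = 1 ∨ g = a ∨ g = b ∨ g = a * b := by
  have e1 : a * (a * b) = b := by rw [← mul_assoc, h.a2, one_mul]
  have e2 : b * (a * b) = a := by rw [h.ab, ← mul_assoc, h.b2, one_mul]
  have ia : a⁻¹ = a := inv_eq_of_mul_eq_one_right h.a2
  have ib : b⁻¹ = b := inv_eq_of_mul_eq_one_right h.b2
  have key : ∀ s ∈ ({a, b} : Set G), ∀ y : G, (y = 1 ∨ y = a ∨ y = b ∨ y = a * b) →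
      (s * y = 1 ∨ s * y = a ∨ s * y = b ∨ s * y = a * b) := by
    rintro s hs y hy
    rcases hs with hs | hs <;> rcases hy with hy | hy | hy | hy <;> rw [hs, hy] <;>
      simp [h.a2, h.b2, e1, e2, h.ab.symm]
  induction hg using closure_induction_left with
  | one => exact Or.inl rfl
  | mul_left s hs y _ ih => exact key s hs y ih
  | inv_mul_cancel s hs y _ ih =>
    have : s⁻¹ = s := by rcases hs with hs | hs <;> rw [hs] <;> assumption
    rw [this]; exact key s hs y ih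

/-- `l` induces the transvection with centre `v` and axis `⟨v, a⟩` -/
structure Tv (v a b l : G) : Prop where
  cv : l * v = v * l
  ca : l * a = a * l
  cb : l * b * l⁻¹ = b * v

theorem Tv.m1 (h : Tv v a b l) : Tv v (v * a) b l := ⟨h.cv, Commute.mul_right h.cv h.ca, h.cb⟩

theorem Tv.m2 (h : Tv v a b l) : Tv v a (a * b) l :=
  ⟨h.cv, h.ca, by rw [← mul_assoc, h.ca, mul_assoc, mul_assoc, ← mul_assoc l, h.cb, mul_assoc]⟩

theorem Tv.m3 (h : Tv v a b l) : Tv v a (v * b) l :=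
  ⟨h.cv, h.ca, by rw [← mul_assoc, h.cv, mul_assoc, mul_assoc, ← mul_assoc l, h.cb, mul_assoc]⟩

/-- `g` centralises `v` and permutes `a, b, ab` -/
structure Cf (v a b g : G) : Prop extends E8 v a b where
  gv : g * v = v * g
  ga : g * a * g⁻¹ = b
  gb : g * b * g⁻¹ = a * b

theorem Cf.rot {g : G} (h : Cf v a b g) : Cf v b (a * b) g where
  toE8 := h.ab ▸ h.toE8.sw2.mul
  gv := h.gv
  ga := h.gb
  gb := by
    have : g * (a * b) * g⁻¹ = (g * a * g⁻¹) * (g * b * g⁻¹) := by group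
    rw [this, h.ga, h.gb]

theorem Cf.map {g : G} (h : Cf v a b g) (φ : G ≃* G) : Cf (φ v) (φ a) (φ b) (φ g) where
  toE8 := h.toE8.map φ
  gv := by rw [← map_mul, h.gv, map_mul]
  ga := by simpa using congrArg φ h.ga
  gb := by simpa using congrArg φ h.gb

theorem E8.pair (h : E8 v a b) {l m : G} (h1 : Tv a v b l) (h2 : Tv b v a m) :
    Cf v a b (l * m) where
  toE8 := h
  gv := Commute.mul_left h1.ca h2.ca
  ga := by
    calc l * m * a * (l * m)⁻¹ = l * (m * a * m⁻¹) * l⁻¹ := by group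
      _ = l * a * l⁻¹ * (l * b * l⁻¹) := by rw [h2.cb]; group
      _ = b := by
        rw [h1.cb, h1.cv, mul_inv_cancel_right, ← h.ab, ← mul_assoc, h.a2, one_mul]
  gb := by
    calc l * m * b * (l * m)⁻¹ = l * (m * b * m⁻¹) * l⁻¹ := by group
      _ = a * b := by rw [h2.cv, mul_inv_cancel_right, h1.cb, h.ab]

/-- transvections with all centres generate an element of order three -/
theorem E8.three {x t y c : G} (h : E8 x t y) (h0 : Tv x y t c)
    (hT : ∀ v a b : G, E8 v a b → ∃ l, Tv v a b l ∨ Tv v b a l ∨ Tv v (a * b) a l) :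
    ∃ v a b g : G, Cf v a b g := by
  have step : ∀ s : G, E8 x y s → Tv x y s c → (∃ v a b g : G, Cf v a b g) ∨ ∃ l, Tv s x y l := by
    intro s hs ts
    obtain ⟨l, hl | hl | hl⟩ := hT s x y hs.sw2.sw1
    · exact Or.inr ⟨l, hl⟩
    · exact Or.inl ⟨_, _, _, _, hs.sw1.pair ts hl⟩
    · exact Or.inl ⟨_, _, _, _, hs.sw2.sw1.mul.sw1.sw2.sw1.pair ts.m1 hl⟩
  rcases step t h.sw2 h0 with r | ⟨l, hl⟩
  · exact r
  rcases step (y * t) h.sw2.mul h0.m2 with r | ⟨m, hm⟩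
  · exact r
  have e : y * t * y = t := by rw [← h.ab, mul_assoc, h.b2, mul_one]
  refine ⟨x, t, y * t, l * m, E8.pair (h.ab ▸ h.mul) (h.ab ▸ hl.m3) ?_⟩
  have := hm.m3
  rwa [e] at this

theorem zmod_two {m : ℕ} (hm : m ≠ 0) {u w : Multiplicative (ZMod m)} (u2 : u * u = 1)
    (w2 : w * w = 1) (u1 : u ≠ 1) (w1 : w ≠ 1) : u = w := by
  have : NeZero m := ⟨hm⟩
  have key : ∀ u : Multiplicative (ZMod m), u * u = 1 → u ≠ 1 → 2 * u.toAdd.val = m := by
    intro u u2 u1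
    have : -u.toAdd = u.toAdd := neg_eq_of_add_eq_zero_right (congrArg Multiplicative.toAdd u2)
    exact ((ZMod.neg_eq_self_iff _).1 this).resolve_left u1
  have a := key u u2 u1
  have b := key w w2 w1
  exact Multiplicative.toAdd.injective (ZMod.val_injective m (by omega))

theorem aut_comm {F : Type} [Field F] [Fintype F] (σ τ : F ≃+* F) : σ.trans τ = τ.trans σ := by
  obtain ⟨ζ, hζ⟩ := IsCyclic.exists_monoid_generator (α := Fˣ)
  obtain ⟨j, hj⟩ := hζ (Units.map (τ : F →* F) ζ)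
  have hj' : τ ζ = (ζ : F) ^ j := by simpa using (congrArg Units.val hj).symm
  have pw : ∀ y : F, y ≠ 0 → τ y = y ^ j := fun y hy => by
    obtain ⟨n, hn⟩ := hζ (Units.mk0 y hy)
    have : y = (ζ : F) ^ n := by simpa using (congrArg Units.val hn).symm
    rw [this, map_pow, hj', ← pow_mul, ← pow_mul, mul_comm]
  ext y
  by_cases hy : y = 0
  · simp [hy]
  · rw [RingEquiv.trans_apply, RingEquiv.trans_apply, pw y hy, map_pow,
      pw _ ((map_ne_zero σ).2 hy)]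

theorem sq_mul_aut {F : Type} [Field F] [Fintype F] (σ : F ≃+* F) {c : F} (hc : c ≠ 0) :
    IsSquare (c * σ c) := by
  have e : IsSquare (σ c) ↔ IsSquare c :=
    ⟨fun a => by simpa using a.map σ.symm, fun a => a.map σ⟩
  have h1 : σ c ≠ 0 := (map_ne_zero σ).2 hc
  have : quadraticChar F (σ c) = quadraticChar F c := by
    by_cases a : IsSquare c
    · rw [(quadraticChar_one_iff_isSquare hc).2 a, (quadraticChar_one_iff_isSquare h1).2 (e.2 a)]
    · rw [quadraticChar_neg_one_iff_not_isSquare.2 a,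
        quadraticChar_neg_one_iff_not_isSquare.2 (fun b => a (e.1 b))]
  rw [← quadraticChar_one_iff_isSquare (mul_ne_zero hc h1), map_mul, this, ← sq,
    quadraticChar_sq_one hc]

end Pure

variable {G Ω : Type*} [Group G] [MulAction G Ω] [Finite G] [Finite Ω]

variable {U : Ω → Subgroup G} {v a b : G}

theorem coord (h : Cx U) (hv : SLt U v) : ∃ (p q : Ω) (F : Type) (_ : Field F) (_ : Fintype F)
    (e : Ω → OnePoint F) (π : SL(2, F) →* G),
      L2Q (normalizer ({v} : Set G)) (Fx Ω {v}) (UY U {v}) p q F e π := by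
  have h4 := hv.three h
  obtain ⟨p, q, hp, hq, pq⟩ := (Set.one_lt_ncard_iff (s := Fx Ω {v})).1 (by omega)
  exact ⟨p, q, hv.2.2 p hp q hq pq⟩

theorem lk (h : Cx U) (hv : SLt U v) {g : G} (hl : g ∈ LY U {v}) (hk : g ∈ KY Ω ({v} : Set G)) :
    g = 1 ∨ g = v := by
  obtain ⟨p, q, F, _, _, e, π, hq⟩ := coord h hv
  rw [← hv.neg hq]
  exact hq.ker hl (mem_KY1.1 hk).2

theorem kl (h : Cx U) (hv : SLt U v) {k l : G} (hk : k ∈ KY Ω ({v} : Set G)) (hl : l ∈ LY U {v}) :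
    k * l = l * k :=
  (h.ldY {v}).commK (h.faithY (by have := hv.three h; omega)) hk.1 (mem_KY1.1 hk).2 hl

theorem kconj (h : Cx U) {g k : G} (hg : g * v = v * g) (hk : k ∈ KY Ω ({v} : Set G)) :
    g * k * g⁻¹ ∈ KY Ω ({v} : Set G) := by
  have hN : g ∈ normalizer ({v} : Set G) := mem_norm1.2 hg
  refine mem_KY1.2 ⟨mem_norm1.1 (mul_mem (mul_mem hN hk.1) (inv_mem hN)), fun p hp => ?_⟩
  rw [mul_smul, mul_smul, (mem_KY1.1 hk).2 _ ((h.ldY {v}).inv _ (inv_mem hN) p hp), smul_inv_smul]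

theorem lconj (h : Cx U) {g l : G} (hg : g * v = v * g) (hl : l ∈ LY U {v}) :
    g * l * g⁻¹ ∈ LY U {v} := (h.ldY {v}).Lt_conj (mem_norm1.2 hg) hl

theorem inner3 (h : Cx U) (hV : NV G Ω) (hv : SLt U v) (E : E8 v a b) :
    Inn (Fx Ω {v}) (UY U {v}) a ∨ Inn (Fx Ω {v}) (UY U {v}) b ∨
      Inn (Fx Ω {v}) (UY U {v}) (a * b) := by
  obtain ⟨p, q, F, _, _, e, π, hq⟩ := coord h hv
  obtain ⟨A, hA⟩ := hV.lin h hv.1 hq.toL2P E.a2 E.av
  obtain ⟨B, hB⟩ := hV.lin h hv.1 hq.toL2P E.b2 E.bv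
  by_cases h1 : Inn (Fx Ω {v}) (UY U {v}) a
  · exact Or.inl h1
  by_cases h2 : Inn (Fx Ω {v}) (UY U {v}) b
  · exact Or.inr (Or.inl h2)
  exact Or.inr (Or.inr (hq.toL2P.out_mul (h.ldY _) (mem_norm1.2 E.av) (mem_norm1.2 E.bv) hA hB
    h1 h2))

theorem axis (h : Cx U) (hV : NV G Ω) (hv : SLt U v) (E : E8 v a b)
    (hi : Inn (Fx Ω {v}) (UY U {v}) a) : ∃ l ∈ LY U {v}, ∃ k ∈ KY Ω ({v} : Set G),
      a = l * k ∧ l * l = v ∧ k * k = v ∧ Tv v a b l := by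
  obtain ⟨l, hl, k, hk, e1, e2, e3, e4⟩ := hv.inn h hV ⟨E.a2, E.a1⟩ E.nav E.av hi
  have lv : l * v = v * l := by rw [← e3, mul_assoc]
  have la : l * a = a * l := by rw [e1, mul_assoc, e2]
  refine ⟨l, hl, k, hk, e1, e3, e4, lv, la, ?_⟩
  have m1 := mul_mem (inv_mem hl) (lconj h E.bv hl)
  have m2 := mul_mem hk (inv_mem (kconj h E.bv hk))
  have e5 : l⁻¹ * (b * l * b⁻¹) = k * (b * k * b⁻¹)⁻¹ := by
    have : b * l * b⁻¹ * (b * k * b⁻¹) = l * k := by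
      rw [← e1]
      calc _ = b * (l * k) * b⁻¹ := by group
        _ = a := by rw [← e1, ← E.ab, mul_inv_cancel_right]
    rw [← mul_inv_cancel_right (b * l * b⁻¹) (b * k * b⁻¹), this]; group
  rcases lk h hv m1 (e5 ▸ m2) with e6 | e6
  · exfalso
    have lb : b * l = l * b := by
      rw [inv_mul_eq_one] at e6
      rw [← mul_inv_eq_iff_eq_mul, ← e6]
    obtain ⟨p, q, F, _, _, e, π, hq⟩ := coord h hv
    have n1 : π (-1) ≠ 1 := by rw [hv.neg hq]; exact hv.1.2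
    obtain ⟨B, rfl⟩ : l ∈ π.range := by rw [hq.range]; exact hl
    have hB : B * B = -1 := hq.inj n1 (by rw [map_mul, e3, hv.neg hq])
    have all : ∀ g ∈ closure ({a, b} : Set G), g * g = 1 ∧ g * v = v * g ∧ g * π B = π B * g := by
      intro g hg
      rcases E.clo hg with r | r | r | r <;> rw [r]
      · simp
      · exact ⟨E.a2, E.av, la.symm⟩
      · exact ⟨E.b2, E.bv, lb⟩
      · exact ⟨E.ab2, E.mul.bv, Commute.mul_left la.symm lb⟩
    obtain ⟨m, χ, hm, h1, -⟩ := hq.torus (h.ldY _) n1 hB (C := closure ({a, b} : Set G))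
      (fun g hg => mem_norm1.2 (all g hg).2.1)
      (fun g hg => hV.lin h hv.1 hq.toL2P (all g hg).1 (all g hg).2.1) (fun g hg => (all g hg).2.2)
    have m0 : m ≠ 0 := by
      have := Fintype.one_lt_card (α := F)
      rw [hm]; split_ifs <;> omega
    have ker : ∀ g : closure ({a, b} : Set G), χ g = 1 → (g : G) = 1 ∨ (g : G) = v := fun g e =>
      hV.uniq hv.1 (by have := hv.three h; omega)
        (mem_KY1.2 ⟨(all g g.2).2.1, (h1 g).1 e⟩) (all g g.2).1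
    have sq : ∀ g : closure ({a, b} : Set G), χ g * χ g = 1 := fun g => by
      rw [← map_mul, show g * g = 1 from Subtype.ext (all g g.2).1, map_one]
    let a' : closure ({a, b} : Set G) := ⟨a, subset_closure (by simp)⟩
    let b' : closure ({a, b} : Set G) := ⟨b, subset_closure (by simp)⟩
    have eq := zmod_two m0 (sq a') (sq b') (fun e => (ker a' e).elim E.a1 E.nav)
      (fun e => (ker b' e).elim E.b1 E.nbv)
    exact (ker (a' * b') (by rw [map_mul, eq, sq])).elim E.mul.b1 E.nabv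
  · have e7 : b * l = l * v * b := by rw [← e6]; group
    have e8 : l * b = v * (b * l) := by
      rw [e7, lv, ← mul_assoc, ← mul_assoc, E.v2, one_mul]
    rw [e8, E.bv]; group

theorem transv (h : Cx U) (hV : NV G Ω) (hv : SLt U v) (E : E8 v a b) :
    ∃ l, Tv v a b l ∨ Tv v b a l ∨ Tv v (a * b) a l := by
  rcases inner3 h hV hv E with r | r | r
  · obtain ⟨l, -, -, -, -, -, -, t⟩ := axis h hV hv E r
    exact ⟨l, Or.inl t⟩
  · obtain ⟨l, -, -, -, -, -, -, t⟩ := axis h hV hv E.sw2 r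
    exact ⟨l, Or.inr (Or.inl t)⟩
  · obtain ⟨l, -, -, -, -, -, -, t⟩ := axis h hV hv E.mul.sw2 r
    exact ⟨l, Or.inr (Or.inr t)⟩

/-- the quaternion group in `K` -/
theorem quat (h : Cx U) (hV : NV G Ω) (hv : SLt U v) {g : G} (c : Cf v a b g)
    (hi : Inn (Fx Ω {v}) (UY U {v}) a) : ∃ k1 ∈ KY Ω ({v} : Set G), ∃ k2 ∈ KY Ω ({v} : Set G),
      k1 * k1 = v ∧ k2 * k2 = v ∧ k2 * k1 = k1 * k2 * v ∧ g * k1 * g⁻¹ = k2 ∧
        (g * k2 * g⁻¹ = k1 * k2 ∨ g * k2 * g⁻¹ = k1 * k2 * v) := by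
  obtain ⟨l1, hl1, k1, hk1, e1, -, s1, t⟩ := axis h hV hv c.toE8 hi
  obtain ⟨l2, d2⟩ : ∃ l2, l2 = g * l1 * g⁻¹ := ⟨_, rfl⟩
  obtain ⟨k2, f2⟩ : ∃ k2, k2 = g * k1 * g⁻¹ := ⟨_, rfl⟩
  obtain ⟨l3, d3⟩ : ∃ l3, l3 = g * l2 * g⁻¹ := ⟨_, rfl⟩
  obtain ⟨k3, f3⟩ : ∃ k3, k3 = g * k2 * g⁻¹ := ⟨_, rfl⟩
  have hl2 : l2 ∈ LY U {v} := d2 ▸ lconj h c.gv hl1
  have hk2 : k2 ∈ KY Ω ({v} : Set G) := f2 ▸ kconj h c.gv hk1
  have hl3 : l3 ∈ LY U {v} := d3 ▸ lconj h c.gv hl2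
  have hk3 : k3 ∈ KY Ω ({v} : Set G) := f3 ▸ kconj h c.gv hk2
  have e2 : b = l2 * k2 := by rw [← c.ga, e1, d2, f2]; group
  have e3 : a * b = l3 * k3 := by rw [← c.gb, e2, d3, f3]; group
  have kv : ∀ k ∈ KY Ω ({v} : Set G), k * v = v * k := fun k hk => (mem_KY1.1 hk).1
  refine ⟨k1, hk1, k2, hk2, s1, ?_, ?_, f2.symm, ?_⟩
  · calc k2 * k2 = g * (k1 * k1) * g⁻¹ := by rw [f2]; group
      _ = v := by rw [s1, c.gv, mul_inv_cancel_right]
  · have r1 : l1 * b = b * v * l1 := by rw [← t.cb]; group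
    have r2 : l2 * (k2 * k1) * l1 = l2 * (k1 * k2 * v) * l1 := by
      calc l2 * (k2 * k1) * l1 = b * (k1 * l1) := by rw [e2]; group
        _ = k1 * (l1 * b) := by rw [kl h hv hk1 hl1, ← e1, ← c.ab, e1, ← kl h hv hk1 hl1, mul_assoc]
        _ = k1 * l2 * (k2 * v * l1) := by rw [r1, e2]; group
        _ = _ := by rw [kl h hv hk1 hl2]; group
    exact mul_left_cancel (mul_right_cancel r2)
  · rw [← f3]
    have r : (l1 * l2)⁻¹ * l3 = k1 * k2 * k3⁻¹ := by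
      rw [← mul_inv_cancel_right l3 k3, ← e3, e1, e2, mul_assoc l1, ← mul_assoc k1, kl h hv hk1 hl2]
      group
    rcases lk h hv (mul_mem (inv_mem (mul_mem hl1 hl2)) hl3)
      (r ▸ mul_mem (mul_mem hk1 hk2) (inv_mem hk3)) with s | s
    · left; rw [r, mul_inv_eq_one] at s; exact s.symm
    · right
      rw [r, mul_inv_eq_iff_eq_mul] at s
      rw [s, ← kv k3 hk3, mul_assoc, c.v2, mul_one]

/-- the stabiliser of two fixed points of `x` is abelian modulo `K D` -/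
theorem comm_inn (h : Cx U) {x : G} (hx : SLt U x) {a b : Ω} (hab : a ≠ b) (xH : x ∈ Hb G a b)
    {γ g : G} (γH : γ ∈ Hb G a b) (gH : g ∈ Hb G a b) (γx : γ * x = x * γ) (gx : g * x = x * g) :
    Inn (Fx Ω {x}) (UY U {x}) ⁅γ, g⁆ := by
  have ha : a ∈ Fx Ω {x} := mem_Fx1.2 (mem_Hb.1 xH).1
  have hb : b ∈ Fx Ω {x} := mem_Fx1.2 (mem_Hb.1 xH).2
  obtain ⟨F, _, _, e, π, hq⟩ := hx.2.2 a ha b hb hab
  have γN : γ ∈ normalizer ({x} : Set G) := mem_norm1.2 γx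
  have gN : g ∈ normalizer ({x} : Set G) := mem_norm1.2 gx
  have dN : ⁅γ, g⁆ ∈ normalizer ({x} : Set G) := by
    rw [commutatorElement_def]
    exact mul_mem (mul_mem (mul_mem γN gN) (inv_mem γN)) (inv_mem gN)
  have dH : ⁅γ, g⁆ ∈ Hb G a b := by
    rw [commutatorElement_def]
    exact mul_mem (mul_mem (mul_mem γH gH) (inv_mem γH)) (inv_mem gH)
  obtain ⟨c, σ, h1⟩ := hq.toL2P.sc ha hb γN γH
  obtain ⟨c', σ', h2⟩ := hq.toL2P.sc ha hb gN gH
  obtain ⟨d, τ, h3⟩ := hq.toL2P.sc ha hb dN dH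
  have h4 := h1.mul (h.ldY _) gN h2
  have h5 := h3.mul (h.ldY _) (mul_mem gN γN) (h2.mul (h.ldY _) γN h1)
  rw [show ⁅γ, g⁆ * (g * γ) = γ * g by rw [commutatorElement_def]; group] at h5
  obtain ⟨e1, e2⟩ := hq.toL2P.sc_uniq (mul_ne_zero c.ne_zero ((map_ne_zero σ).2 c'.ne_zero)) h4 h5
  have e3 : τ = RingEquiv.refl F := by
    ext y
    have := congrArg (fun φ : F ≃+* F => φ ((σ.trans σ').symm y)) e2
    rw [aut_comm σ' σ] at this
    simpa using this.symm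
  subst e3
  refine (hq.toL2P.sc_inn (h.ldY _) dN h3).2 ?_
  obtain ⟨r, hr⟩ := sq_mul_aut σ' c.ne_zero
  obtain ⟨s, hs⟩ := sq_mul_aut σ c'.ne_zero
  have n0 : (c' : F) * σ' c ≠ 0 := mul_ne_zero c'.ne_zero ((map_ne_zero σ').2 c.ne_zero)
  rw [RingEquiv.refl_apply] at e1
  refine ⟨r * s / (c' * σ' c), ?_⟩
  field_simp
  linear_combination (-(c' * σ' c)) * e1 + (c' * σ c') * hr + r * r * hs

end GAM92

open GAM92

variable {G Ω : Type*} [Group G] [MulAction G Ω] [Finite G] [Finite Ω]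

variable {U : Ω → Subgroup G}

theorem gam (h : Cx U) (hV : NV G Ω) {x t : G} {a b : Ω} (c : GTc U a b x t) :
    ¬ Cfsg.HasNormalPComplement 2 (KY Ω ({x} : Set G)) := by
  intro hK
  have hx := c.sl
  have ha : a ∈ Fx Ω {x} := mem_Fx1.2 (mem_Hb.1 c.xH).1
  have hb : b ∈ Fx Ω {x} := mem_Fx1.2 (mem_Hb.1 c.xH).2
  have h4 := hx.three h
  obtain ⟨F, _, _, e, π, hq⟩ := hx.2.2 a ha b hb c.ne
  obtain ⟨k, hk, k2, kt⟩ := c.c4
  obtain ⟨μ, hμ⟩ : ∃ μ, μ = π (ad 1) := ⟨_, rfl⟩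
  have μL : μ ∈ LY U {x} := hμ ▸ hq.mem _
  have μ2 : μ * μ = x := by
    rw [hμ, ← map_mul, ad_mul_ad, inv_one, mul_one, dg_neg_one, hx.neg hq]
  have μa : μ • a = b := ((hq.mem_swap (h.ldY _) ha hb).2 ⟨1, hμ⟩).2.1
  have kμ := kl h hx hk μL
  have kx : k * x = x * k := (mem_KY1.1 hk).1
  have μx : μ * x = x * μ := by rw [← μ2, mul_assoc]
  have tμ : t * μ * t⁻¹ = x * μ := by
    have s := hV.neg h hx.1 c.xH hq.toL2P c.ti c.tx c.cm.symm c.tH
    have := hq.conj_ad (mem_norm1.2 c.cm.symm) (c := -1) (σ := RingEquiv.refl F)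
      (by simpa using s) 1
    rw [hμ, this, map_one, ← dg_mul_ad, map_mul, dg_neg_one, hx.neg hq]
  have ya : (μ * k) • a = b := by rw [mul_smul, (mem_KY1.1 hk).2 a ha, μa]
  have ne : ∀ g ∈ Hb G a b, μ * k ≠ g := fun g hg e' => by
    rw [e', (mem_Hb.1 hg).1] at ya; exact c.ne ya
  have E : E8 x t (μ * k) :=
    { v2 := hx.1.1
      a2 := c.ti.1
      b2 := by
        calc μ * k * (μ * k) = μ * (k * μ) * k := by group
          _ = μ * μ * (k * k) := by rw [kμ]; group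
          _ = 1 := by rw [μ2, k2, hx.1.1]
      av := c.cm.symm
      bv := Commute.mul_left μx kx
      ab := by
        calc t * (μ * k) = t * μ * t⁻¹ * t * k := by group
          _ = μ * (t * x) * k := by rw [tμ, ← μx, ← c.cm]; group
          _ = μ * k * t := by rw [← kt]; group
      v1 := hx.1.2
      a1 := c.ti.2
      b1 := ne 1 (one_mem _)
      nav := c.tx
      nbv := ne x c.xH
      nab := (ne t c.tH).symm
      nabv := fun e' => ne (t⁻¹ * x) (mul_mem (inv_mem c.tH) c.xH) (by rw [← e']; group) }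
  have T0 : Tv x (μ * k) t k := ⟨kx, by rw [← mul_assoc, kμ], kt⟩
  obtain ⟨v, a', b', g0, cf0⟩ := E.three T0 fun v _ _ E' =>
    transv h hV (h.toC0.toCb.SLt_conj (c.all v ⟨E'.v2, E'.v1⟩) hx) E'
  obtain ⟨m, hm⟩ := isConj_iff.1 (c.all v ⟨cf0.v2, cf0.v1⟩).symm
  have cf1 := cf0.map (MulAut.conj m)
  rw [MulAut.conj_apply m v, hm] at cf1
  obtain ⟨a1, b1, g, cf, hi⟩ : ∃ a1 b1 g : G, Cf x a1 b1 g ∧ Inn (Fx Ω {x}) (UY U {x}) a1 := by
    rcases inner3 h hV hx cf1.toE8 with r | r | r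
    · exact ⟨_, _, _, cf1, r⟩
    · exact ⟨_, _, _, cf1.rot, r⟩
    · exact ⟨_, _, _, cf1.rot.rot, r⟩
  obtain ⟨k1, h1, k2, h2, s1, s2, hc, g1, g2⟩ := quat h hV hx cf hi
  have gN : g ∈ normalizer ({x} : Set G) := mem_norm1.2 cf.gv
  obtain ⟨l, hl, la, lb⟩ := (h.ldY {x}).two (by omega) ha hb ((h.ldY {x}).inv g gN a ha)
    ((h.ldY {x}).inv g gN b hb) c.ne (fun e' => c.ne (MulAction.injective g e'))
  have g'N : l⁻¹ * g ∈ normalizer ({x} : Set G) := mul_mem (inv_mem ((h.ldY {x}).Lt_le hl)) gN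
  have g'H : l⁻¹ * g ∈ Hb G a b :=
    mem_Hb.2 ⟨by rw [mul_smul, ← la, inv_smul_smul], by rw [mul_smul, ← lb, inv_smul_smul]⟩
  have g'k : ∀ k ∈ KY Ω ({x} : Set G), l⁻¹ * g * k * (l⁻¹ * g)⁻¹ = g * k * g⁻¹ := fun k hk => by
    calc _ = l⁻¹ * (g * k * g⁻¹ * l) := by group
      _ = _ := by rw [kl h hx (kconj h cf.gv hk) hl, inv_mul_cancel_left]
  obtain ⟨γ, γH, γx, -, ⟨i, hγ⟩, -, ho⟩ := c.out
  have γN : γ ∈ normalizer ({x} : Set G) := mem_norm1.2 γx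
  obtain ⟨l0, hl0, t0⟩ := comm_inn h hx c.ne c.xH γH g'H γx (mem_norm1.1 g'N)
  have dN : ⁅γ, l⁻¹ * g⁆ ∈ normalizer ({x} : Set G) := by
    rw [commutatorElement_def]
    exact mul_mem (mul_mem (mul_mem γN g'N) (inv_mem γN)) (inv_mem g'N)
  have k0K : l0⁻¹ * ⁅γ, l⁻¹ * g⁆ ∈ KY Ω ({x} : Set G) :=
    mem_KY1.2 ⟨mem_norm1.1 (mul_mem (inv_mem ((h.ldY {x}).Lt_le hl0)) dN), t0⟩
  obtain ⟨T, t1, t2, t3, t4, t5, t6⟩ := mid (C := normalizer ({x} : Set G)) inf_le_left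
    (fun g hg k hk => kconj h (mem_norm1.1 hg) hk) hK
    (mem_KY1.2 ⟨rfl, fun p hp => mem_Fx1.1 hp⟩) hx.1.2 hx.1.1 (fun y hy => mem_norm1.1 hy)
    (fun s hs e' => hV.uniq hx.1 (by omega) hs e') h1 h2 s1 s2 hc g'N (by rw [g'k _ h1, g1])
    (by rw [g'k _ h2]; exact g2) γN hγ k0K (fun k hk => by
      have r := kl h hx (kconj h (mem_norm1.1 dN) hk) hl0
      calc _ = l0⁻¹ * (⁅γ, l⁻¹ * g⁆ * k * ⁅γ, l⁻¹ * g⁆⁻¹ * l0) := by
            rw [r, inv_mul_cancel_left]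
        _ = _ := by simp only [mul_assoc, _root_.mul_inv_rev, inv_inv])
  obtain ⟨k', hk', hne⟩ := ho T t1 t2 t3 t4 t5
  exact hne (t6 k' hk')

end H51.HK
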