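import Cfsg.Agent.Lib.SL2.Dickson
import Cfsg.Agent.Lib.FrobC.SL23
import Cfsg.Agent.Lib.Transfer.NormalComplement

/-! Package GTP of blueprint/HKS2.md: the parts without root groups. -/

set_option autoImplicit false

namespace H51.HK.GTP

open Subgroup Matrix
open scoped MatrixGroups

/-- a group acting on a plane by conjugation -/
theorem rep {G : Type*} [Group G] {F : Type} [Field F] (p : ℕ) [Fact p.Prime] [CharP F p]
    {C : Subgroup G} (ψ : (Fin 2 → F) → G)
    (add : ∀ v w, ψ (v + w) = ψ v * ψ w) (inj : Function.Injective ψ)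
    (inv : ∀ g ∈ C, ∀ v, ∃ w, g * ψ v * g⁻¹ = ψ w)
    (sc : ∀ s : F, s ≠ 0 → ∃ d : G, (∀ g ∈ C, g * d = d * g) ∧ ∀ v, d * ψ v * d⁻¹ = ψ (s • v)) :
    ∃ φ : C →* PGL(2, AlgebraicClosure F),
      (∀ g : C, φ g = 1 ↔ ∃ s : F, s ≠ 0 ∧ ∀ v, g * ψ v * (g : G)⁻¹ = ψ (s • v)) ∧
      ∀ g ∈ C, g ^ p = 1 → ∃ v ≠ 0, g * ψ v = ψ v * g := by
  choose! T hT using inv
  have p0 : ψ 0 = 1 := by simpa using add 0 0
  let L : C → (Fin 2 → F) →ₗ[F] (Fin 2 → F) := fun g =>
    { toFun := T g
      map_add' := fun v w => inj (by rw [← hT g g.2, add, add, ← hT g g.2, ← hT g g.2, conj_mul])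
      map_smul' := fun s v => inj (by
        by_cases s0 : s = 0
        · simp [s0, ← hT g g.2, p0]
        obtain ⟨d, hd, e⟩ := sc s s0
        rw [RingHom.id_apply, ← hT g g.2, ← e, ← e, ← hT g g.2]
        calc _ = g * d * ψ v * (g * d)⁻¹ := by group
          _ = _ := by rw [hd g g.2]; group) }
  have hL : ∀ (g : C) v, g * ψ v * (g : G)⁻¹ = ψ (L g v) := fun g v => hT g g.2 v
  let ρ : C →* Matrix (Fin 2) (Fin 2) F :=
    { toFun := fun g => LinearMap.toMatrix' (L g)
      map_one' := by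
        rw [← LinearMap.toMatrix'_id]
        exact congrArg _ (LinearMap.ext fun v => inj (by rw [← hL]; simp))
      map_mul' := fun g g' => by
        rw [← LinearMap.toMatrix'_comp]
        exact congrArg _ (LinearMap.ext fun v => inj (by
          rw [LinearMap.comp_apply, ← hL, ← hL, ← hL, coe_mul]; group)) }
  have hρ : ∀ (g : C) v, g * ψ v * (g : G)⁻¹ = ψ (ρ g *ᵥ v) := fun g v => by
    rw [hL]; exact congrArg ψ (LinearMap.toMatrix'_mulVec _ _).symm
  refine ⟨(ProjGenLinGroup.map (algebraMap F _)).comp (ProjGenLinGroup.mk.comp ρ.toHomUnits),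
    fun g => ?_, fun g hg gp => ?_⟩
  · rw [MonoidHom.comp_apply, map_eq_one_iff _ (H29.pgl_map_injective _), MonoidHom.comp_apply,
      ProjGenLinGroup.mk_eq_one, GeneralLinearGroup.mem_center_iff_val_mem_range_scalar]
    constructor
    · rintro ⟨s, hs⟩
      have hs' : ρ g = scalar (Fin 2) s := hs.symm
      refine ⟨s, fun s0 => ?_, fun v => by rw [hρ, hs']; simp⟩
      have := (ρ.toHomUnits g).isUnit
      rw [← hs, s0, map_zero] at this
      exact not_isUnit_zero this
    · rintro ⟨s, -, hs⟩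
      refine ⟨s, toLin'.injective (LinearMap.ext fun v => ?_)⟩
      have := inj ((hρ g v).symm.trans (hs v))
      simpa using this.symm
  · have e : (ρ ⟨g, hg⟩ - 1) ^ p = 0 := by
      rw [sub_pow_char_of_commute p (Commute.one_right _), ← map_pow,
        show (⟨g, hg⟩ : C) ^ p = 1 from Subtype.ext gp, map_one, one_pow, sub_self]
    have d := congrArg det e
    rw [det_pow, det_zero] at d
    obtain ⟨v, v0, hv⟩ := exists_mulVec_eq_zero_iff.2 (eq_zero_of_pow_eq_zero d)
    rw [sub_mulVec, one_mulVec, sub_eq_zero] at hv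
    have := hρ ⟨g, hg⟩ v
    rw [hv] at this
    exact ⟨v, v0, mul_inv_eq_iff_eq_mul.1 this⟩

theorem dih (k : ℕ) [NeZero k] : Cfsg.HasNormalPComplement 2 (DihedralGroup k) := by
  rw [H4.hasNormalPComplement_iff_mul_closed]
  have s : ∀ i : ZMod k, ¬ (orderOf (DihedralGroup.sr i)).Coprime 2 := fun i => by
    rw [DihedralGroup.orderOf_sr]; decide
  rintro (i | i) (j | j) hx hy
  · have c : Commute (DihedralGroup.r i) (DihedralGroup.r j) := by simp [Commute, SemiconjBy, add_comm]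
    exact Nat.Coprime.coprime_dvd_left c.orderOf_mul_dvd_mul_orderOf (Nat.Coprime.mul_left hx hy)
  exacts [absurd hy (s _), absurd hx (s _), absurd hx (s _)]

/-- the double cover of `A₄` with a unique involution -/
theorem sl23 {K : Type*} [Group K] [Finite K] (f : K →* Equiv.Perm (Fin 4))
    (hr : f.range = alternatingGroup (Fin 4)) {x : K} (x1 : x ≠ 1) (x2 : x * x = 1)
    (xc : ∀ k, k * x = x * k) (uq : ∀ k, k * k = 1 → k = 1 ∨ k = x)
    (ker : ∀ k, f k = 1 ↔ k = 1 ∨ k = x) : Nonempty (K ≃* SL(2, ZMod 3)) := by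
  have fx : f x = 1 := (ker x).2 (Or.inr rfl)
  have eq : ∀ {k k'}, f k = f k' → k = k' ∨ k = k' * x := fun {k k'} e =>
    ((ker (k'⁻¹ * k)).1 (by simp [e])).imp (fun e => (inv_mul_eq_one.1 e).symm) inv_mul_eq_iff_eq_mul.1
  have sq : ∀ {k}, f k ≠ 1 → f k * f k = 1 → k * k = x := fun {k} h1 h2 =>
    ((ker (k * k)).1 (by rw [map_mul, h2])).resolve_left fun e => h1 ((ker k).2 (uq k e))
  obtain ⟨i, hi⟩ : Equiv.swap 0 1 * Equiv.swap 2 3 ∈ f.range := by
    rw [hr, Equiv.Perm.mem_alternatingGroup]; decide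
  obtain ⟨y0, hy0⟩ : Equiv.swap 0 1 * Equiv.swap 1 2 ∈ f.range := by
    rw [hr, Equiv.Perm.mem_alternatingGroup]; decide
  obtain ⟨y, hy, y3⟩ : ∃ y, f y = Equiv.swap 0 1 * Equiv.swap 1 2 ∧ y ^ 3 = 1 := by
    refine ⟨y0 ^ 4, by rw [map_pow, hy0]; decide, ?_⟩
    rw [← pow_mul, mul_comm, pow_mul]
    rcases (ker (y0 ^ 3)).1 (by rw [map_pow, hy0]; decide) with e | e <;> rw [e]
    · simp
    · rw [show 4 = 2 * 2 from rfl, pow_mul, pow_two x, x2, one_pow]
  have main : ∀ i, f i = Equiv.swap 0 1 * Equiv.swap 2 3 →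
      y * (y * i * y⁻¹) * y⁻¹ = i * (y * i * y⁻¹) → Nonempty (K ≃* SL(2, ZMod 3)) := fun i hi h5 => by
    have i2 : i * i = x := sq (by rw [hi]; decide) (by rw [hi]; decide)
    have j2 : y * i * y⁻¹ * (y * i * y⁻¹) = x := by rw [conj_mul, i2, xc]; simp
    have h2 : y * i * y⁻¹ * i * (y * i * y⁻¹)⁻¹ = i⁻¹ := by
      have k2 : i * (y * i * y⁻¹) * (i * (y * i * y⁻¹)) = x := by rw [← h5, conj_mul, j2, xc]; simp
      generalize y * i * y⁻¹ = j at j2 k2
      have : j * i * j = i := by rw [← mul_right_inj i, i2, ← k2]; group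
      calc j * i * j⁻¹ = j * i * j * (j * j)⁻¹ := by group
        _ = i⁻¹ := by rw [this, j2, ← i2]; group
    obtain ⟨g, g1, -, -⟩ := H82.exists_hom_SL23 (i := i) (j := y * i * y⁻¹) (x := y)
      (by rw [pow_two, pow_two, i2, j2]) h2 y3 rfl h5
    have gi : Function.Injective g := H82.injective_SL23 (by
      rwa [show (-1 : H82.SL23) = H82.ti * H82.ti by decide +kernel, map_mul, g1, i2])
    have c1 : Nat.card f.ker = 2 := by
      rw [show f.ker = zpowers x from le_antisymm (fun k hk => by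
        rcases (ker k).1 hk with rfl | rfl
        exacts [one_mem _, mem_zpowers _]) (zpowers_le.2 fx), Nat.card_zpowers]
      exact orderOf_eq_prime (by rwa [pow_two]) x1
    have c2 : Nat.card K = 24 := by
      rw [← f.ker.card_mul_index, c1, index_ker, hr, Nat.card_eq_fintype_card, two_mul_card_alternatingGroup]
      decide
    exact ⟨(MulEquiv.ofBijective g (gi.bijective_of_nat_card_le (by rw [c2, H82.card_SL23]))).symm⟩
  rcases eq (k := y * (y * i * y⁻¹) * y⁻¹) (k' := i * (y * i * y⁻¹)) (by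
    simp only [map_mul, map_inv, hi, hy]; decide) with e | e
  · exact main i hi e
  · refine main (i * x) (by rw [map_mul, fx, mul_one, hi]) ?_
    have k : ∀ a, y * (a * x) * y⁻¹ = y * a * y⁻¹ * x := fun a => by
      rw [mul_assoc (y * a), xc y⁻¹]; group
    rw [k, k, e, mul_assoc i x, ← xc]
    simp only [mul_assoc]

/-- the end game: Dickson's theorem -/
theorem pure {C : Type*} [Group C] [Finite C] {E : Type} [Field E] [IsAlgClosed E] (p : ℕ)
    [Fact p.Prime] [CharP E p] (p2 : p ≠ 2) (φ : C →* PGL(2, E)) {K : Subgroup C} {x : K} (x1 : x ≠ 1)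
    (x2 : x * x = 1) (xc : ∀ k, k * x = x * k) (uq : ∀ k, k * k = 1 → k = 1 ∨ k = x)
    (ker : ∀ k : K, φ k = 1 ↔ k = 1 ∨ k = x) {γ : C}
    (hγ : ∀ g, Xor (φ (g * γ) ∈ K.map φ) (φ g ∈ K.map φ)) (hp : ¬ p ∣ Nat.card K)
    (hK : ¬ Cfsg.HasNormalPComplement 2 K) : Nonempty (K ≃* SL(2, ZMod 3)) := by
  have : Finite φ.range := Finite.of_surjective _ φ.rangeRestrict_surjective
  let f : K →* φ.range := φ.rangeRestrict.comp K.subtype
  have fk : ∀ k : K, f k = 1 ↔ k = 1 ∨ k = x := fun k => Subtype.ext_iff.trans (ker k)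
  have m : ∀ g, φ.rangeRestrict g ∈ f.range ↔ φ g ∈ K.map φ := fun g =>
    ⟨fun ⟨k, e⟩ => ⟨k, k.2, congrArg Subtype.val e⟩, fun ⟨k, hk, e⟩ => ⟨⟨k, hk⟩, Subtype.ext e⟩⟩
  have i2 : f.range.index = 2 := index_eq_two_iff.2 ⟨φ.rangeRestrict γ, fun r => by
    obtain ⟨g, rfl⟩ := φ.rangeRestrict_surjective r
    rw [← map_mul, m, m]; exact hγ g⟩
  have n : ¬ Cfsg.HasNormalPComplement 2 φ.range := fun h => hK
    (H4.hasNormalPComplement_of_ker_le_center f (fun k hk => mem_center_iff.2 fun g => by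
      rcases (fk k).1 hk with rfl | rfl
      exacts [by simp, xc g]) h)
  have hp' : ¬ p ∣ Nat.card φ.range := by
    rw [← f.range.card_mul_index, i2, (Fact.out : p.Prime).dvd_mul, not_or]
    exact ⟨fun d => hp (d.trans (card_range_dvd f)),
      fun d => p2 ((Nat.prime_dvd_prime_iff_eq Fact.out Nat.prime_two).1 d)⟩
  have tr : ∀ {X : Type} [Group X] (e : φ.range ≃* X), (e.toMonoidHom.comp f).range.index = 2 :=
    fun e => by rw [MonoidHom.range_comp]; exact (index_map_equiv _ e).trans i2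
  rcases H29.dickson_tame p φ.range hp' with h | ⟨k, k2, -, ⟨e⟩⟩ | ⟨⟨e⟩⟩ | ⟨⟨e⟩⟩ | ⟨⟨e⟩⟩
  · refine absurd (H4.hasNormalPComplement_iff_mul_closed.2 fun a b ha hb => ?_) n
    exact Nat.Coprime.coprime_dvd_left (Commute.orderOf_mul_dvd_mul_orderOf (mul_comm' a b))
      (Nat.Coprime.mul_left ha hb)
  · have : NeZero k := ⟨by omega⟩
    exact absurd (H4.hasNormalPComplement_of_equiv (dih k) e.symm) n
  · have i := tr e
    have : (e.toMonoidHom.comp f).range = ⊤ := eq_top_iff.2 fun g _ => by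
      obtain ⟨a, b, rfl⟩ := (by decide +kernel : ∀ g : alternatingGroup (Fin 4), ∃ a b, g = a * a * (b * b)) g
      exact mul_mem (mul_self_mem_of_index_two i a) (mul_self_mem_of_index_two i b)
    rw [this, index_top] at i
    exact absurd i (by decide)
  · exact sl23 (e.toMonoidHom.comp f) (Equiv.Perm.eq_alternatingGroup_of_index_eq_two (tr e)) x1 x2 xc uq
      fun k => (map_eq_one_iff e e.injective).trans (fk k)
  · have i := tr e
    rcases (normal_of_index_eq_two i).eq_bot_or_eq_top with h | h <;> rw [h] at i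
    · rw [index_bot, Nat.card_eq_fintype_card] at i
      have := two_mul_card_alternatingGroup (α := Fin 5)
      rw [i, Fintype.card_perm] at this
      exact absurd this (by decide)
    · exact absurd (index_top.symm.trans i) (by decide)

end H51.HK.GTP
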