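import Cfsg.Agent.Lib.HK.SLB
import Cfsg.Agent.Lib.HK.GTPa

set_option autoImplicit false

namespace H51.HK

open MulAction Subgroup Matrix H69
open scoped MatrixGroups Classical commutatorElement

variable {G Ω : Type*} [Group G] [MulAction G Ω] [Finite G] [Finite Ω]

variable {U : Ω → Subgroup G}

namespace GTP

theorem sq_one (h : Cx U) {a : Ω} {m : G} (hm : m ∈ U a) (e : m⁻¹ = m) : m = 1 := by
  have o := (h.ld.odd a trivial).of_dvd_nat (orderOf_dvd_natCard (⟨m, hm⟩ : U a))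
  rw [orderOf_mk] at o
  have d : orderOf m ∣ 2 := orderOf_dvd_of_pow_eq_one (by rw [pow_two]; exact mul_eq_one_iff_inv_eq.2 e)
  rcases (Nat.dvd_prime Nat.prime_two).1 d with e | e
  exacts [orderOf_eq_one_iff.1 e, absurd (e ▸ o) (by decide)]

theorem cmK (h : Cx U) {x k l : G} (hx : SLt U x) (hk : k ∈ KY Ω ({x} : Set G)) (hl : l ∈ LY U {x}) :
    k * l = l * k :=
  (h.ldY {x}).commK (h.faithY (by have := hx.three h; omega)) hk.1 (mem_KY1.1 hk).2 hl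

theorem KH {x k : G} {a b : Ω} (xH : x ∈ Hb G a b) (hk : k ∈ KY Ω ({x} : Set G)) : k ∈ Hb G a b :=
  mem_Hb.2 ⟨(mem_KY1.1 hk).2 a (mem_Fx1.2 xH.1), (mem_KY1.1 hk).2 b (mem_Fx1.2 xH.2)⟩

/-- `K_x` is semiregular on the elements inverted by `x` -/
theorem semi (h : Cx U) {x k m : G} {a b : Ω} (hx : SLt U x) (hab : a ≠ b) (xH : x ∈ Hb G a b)
    (hc : Nat.card (U a) = Nat.card (UY U {x} a) ^ 3) (hk : k ∈ KY Ω ({x} : Set G)) (hm : m ∈ U a)
    (xm : x * m * x⁻¹ = m⁻¹) (m1 : m ≠ 1) (km : k * m = m * k) : k = 1 := by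
  by_contra k1
  have kH := KH xH hk
  obtain ⟨kx, kT⟩ := mem_KY1.1 hk
  have sub : Fx Ω {x} ⊆ Fx Ω {k} := fun y hy => mem_Fx1.2 (kT y hy)
  have h4 := hx.three h
  have h3 : 3 ≤ (Fx Ω {k}).ncard := by have := Set.ncard_le_ncard sub; omega
  have xL : x ∈ LY U {k} := (iSup₂_le fun c hc u hu => le_Lt (sub hc)
    (mem_UY1.2 ⟨hu.1, (cmK h hx hk (le_Lt hc hu)).symm⟩) : LY U {x} ≤ LY U {k}) hx.2.1
  have ha : a ∈ Fx Ω {k} := mem_Fx1.2 kH.1
  have hb : b ∈ Fx Ω {k} := mem_Fx1.2 kH.2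
  have xN : x ∈ normalizer ({k} : Set G) := mem_norm1.2 kx.symm
  have nT : ¬ Tr (Fx Ω {k}) x := fun t => m1 (sq_one h hm (by
    rw [← xm, (h.fix_iff hab xH hm).1 (t _ (mem_Fx1.2 ((h.fix_iff hab kH hm).2 km))), mul_inv_cancel_right]))
  have fx : {y | y ∈ Fx Ω {k} ∧ x • y = y} = Fx Ω {x} :=
    Set.ext fun y => ⟨fun e => mem_Fx1.2 e.2, fun e => ⟨sub e, mem_Fx1.1 e⟩⟩
  have I : InI (Fx Ω {k}) (UY U {k}) a b x := ⟨xL, xH.1, xH.2, fun y _ => by rw [hx.1.1, one_smul], nT⟩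
  have fin : ∀ q, (Fx Ω {k}).ncard = q ^ 3 + 1 → (Fx Ω {x}).ncard ≠ q + 1 := fun q e1 e2 => by
    have c1 := h.cardY ha (by omega)
    have c2 := h.card1 hx.1.1 xH.1
    have e : UY U {k} a = U a := eq_of_le_of_card_ge inf_le_left (by
      rw [hc, show Nat.card (UY U {x} a) = q by omega]; omega)
    exact k1 (h.toCb.eq_one hab kH fun u hu => (mem_UY1.1 (e.ge hu)).2.symm)
  rcases h.ih {k} ⟨k, rfl, k1⟩ h3 with l | ⟨⟨p, q, l⟩, -⟩ | ⟨⟨q, l⟩, -⟩ | ⟨l, -⟩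
  · obtain ⟨F, _, _, e, π, l⟩ := l a ha b hb hab
    exact nT (l.toL2P.inn_three (h.ldY _) xN ⟨x, xL, fun y _ => by simp⟩ (by rw [fx]; omega))
  · refine fin q l.card ?_
    rw [← l.blk a ha b hb hab, ← fx]
    refine congrArg _ (Set.ext fun y => ⟨fun e => (l.fx a ha b hb hab x I y e.1).1 e.2, fun e => ?_⟩)
    have : y ∈ Fx Ω {k} := by
      rcases e with rfl | ⟨z, hz, rfl⟩
      exacts [ha, (h.ldY _).inv z ((h.ldY _).le a ha hz.1) b hb]
    exact ⟨this, (l.fx a ha b hb hab x I y this).2 e⟩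
  · exact fin q l.card (fx ▸ l.fx a ha b hb hab x I)
  · obtain ⟨F, _, _, e, l⟩ := l a ha b hb hab
    obtain ⟨c, d, -, hx⟩ := l.Laf x xL
    have e1 := hx a ha
    have e2 := hx b hb
    rw [show x • a = a from xH.1, l.ea, mul_zero, zero_add] at e1
    rw [show x • b = b from xH.2, l.eb, mul_one, ← e1, add_zero] at e2
    exact nT fun y hy => l.bij.injOn ((h.ldY _).inv x xN y hy) hy (by rw [hx y hy, ← e1, ← e2]; simp)

theorem up_add {F : Type} [Field F] (c d : F) : up (c + d) = up c * up d := by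
  refine Subtype.ext ?_
  change !![1, c + d; 0, 1] = !![1, c; 0, 1] * !![1, d; 0, 1]
  simp [add_comm]

theorem up_zero {F : Type} [Field F] : up (0 : F) = 1 := by simpa using up_add (0 : F) 0

theorem up_neg {F : Type} [Field F] (c : F) : up (-c) = (up c)⁻¹ :=
  eq_inv_of_mul_eq_one_left (by rw [← up_add, neg_add_cancel, up_zero])

theorem up_inj {F : Type} [Field F] {c : F} (e : up c = 1) : c = 0 := by
  simpa [up] using congrArg (fun A : SL(2, F) => A.1 0 1) e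

/-- an involution inverts the root group of another one -/
theorem invU (h : Cx U) (hV : NV G Ω) {x t u : G} {a b : Ω} (ht : SLt U t) (hab : a ≠ b)
    (tH : t ∈ Hb G a b) (hx : Inv x) (xt : x ≠ t) (cm : x * t = t * x) (xH : x ∈ Hb G a b)
    (hu : u ∈ UY U {t} a) : x * u * x⁻¹ = u⁻¹ := by
  obtain ⟨F, _, _, e, π, l⟩ := ht.2.2 a (mem_Fx1.2 tH.1) b (mem_Fx1.2 tH.2) hab
  obtain ⟨d, rfl⟩ := l.Vup u hu
  have := hV.neg h ht.1 tH l.toL2P hx xt cm xH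
  rw [l.conj_up (c := -1) (mem_norm1.2 cm) (by simpa using this), ← map_inv, ← up_neg]
  simp

end GTP

open GTP

theorem gtp (h : Cx U) (hV : NV G Ω) {x t : G} {a b : Ω} (c : GTc U a b x t)
    (hK : ¬ Cfsg.HasNormalPComplement 2 (KY Ω ({x} : Set G))) :
    Nonempty (KY Ω ({x} : Set G) ≃* SL(2, ZMod 3)) ∧ ¬ 3 ∣ Nat.card (U a) := by
  have hab := c.ne
  have hx := c.sl
  have xt := c.all t c.ti
  have ht := h.toCb.SLt_conj xt hx
  obtain ⟨xtx, cU, hab', ⟨p, pp, hp⟩, -⟩ := hx.axes h hV hab c.xH c.tH xt c.tx c.cm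
  have htx := h.toCb.SLt_conj xtx hx
  have txH := mul_mem c.tH c.xH
  have cmU : ∀ {u v}, u ∈ U a → v ∈ U a → u * v = v * u := fun hu hv =>
    congrArg Subtype.val (mul_comm' (⟨_, hu⟩ : U a) ⟨_, hv⟩)
  have xa : a ∈ Fx Ω {x} := mem_Fx1.2 c.xH.1
  have xb : b ∈ Fx Ω {x} := mem_Fx1.2 c.xH.2
  have ta : a ∈ Fx Ω {t} := mem_Fx1.2 c.tH.1
  have tb : b ∈ Fx Ω {t} := mem_Fx1.2 c.tH.2
  obtain ⟨F, _, _, e, π, l⟩ := hx.2.2 a xa b xb hab
  obtain ⟨E, _, _, e', π', l'⟩ := ht.2.2 a ta b tb hab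
  have πi := l.inj (hx.neg l ▸ hx.1.2)
  have πi' := l'.inj (ht.neg l' ▸ ht.1.2)
  obtain ⟨k0, hk0, k2, kt⟩ := c.c4
  have k0H := KH c.xH hk0
  have cjU : ∀ {g u}, g ∈ Hb G a b → u ∈ U a → g * u * g⁻¹ ∈ U a := fun {g u} hg hu => by
    have := h.ld.cj g trivial a trivial u hu
    rwa [show g • a = a from hg.1] at this
  have cjY : ∀ {g u s}, g ∈ Hb G a b → u ∈ UY U {s} a → g * u * g⁻¹ ∈ UY U {g * s * g⁻¹} a :=
    fun {g u s} hg hu => by
      have := (h.toCb.mem_UY_conj g s u a).2 hu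
      rwa [show g • a = a from hg.1] at this
  have m2 : ∀ d, k0 * π' (up d) * k0⁻¹ ∈ UY U {t * x} a := fun d => kt ▸ cjY k0H (l'.upV d)
  have i1 : ∀ {u}, u ∈ UY U {t} a → x * u * x⁻¹ = u⁻¹ :=
    invU h hV ht hab c.tH hx.1 c.tx.symm c.cm c.xH
  have i2 : ∀ {u}, u ∈ UY U {t * x} a → x * u * x⁻¹ = u⁻¹ :=
    invU h hV htx hab txH hx.1 (fun e => c.ti.2 (by simpa using e.symm)) (by
      rw [← mul_assoc, c.cm]) c.xH
  have i3 : ∀ {u}, u ∈ UY U {x} a → t * u * t⁻¹ = u⁻¹ :=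
    invU h hV hx hab c.xH c.ti c.tx c.cm.symm c.tH
  obtain ⟨ψ, hψ⟩ : ∃ ψ : (Fin 2 → E) → G, ∀ v, ψ v = π' (up (v 0)) * (k0 * π' (up (v 1)) * k0⁻¹) :=
    ⟨_, fun _ => rfl⟩
  have ψU : ∀ v, ψ v ∈ U a := fun v => hψ v ▸ mul_mem (l'.upV _).1 (m2 _).1
  have add : ∀ v w, ψ (v + w) = ψ v * ψ w := fun v w => by
    simp only [hψ, Pi.add_apply, up_add, map_mul, ← conj_mul]
    rw [mul_assoc (π' (up (v 0))), mul_assoc (π' (up (v 0))), ← mul_assoc (π' (up (w 0))),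
      cmU (l'.upV (w 0)).1 (m2 (v 1)).1, mul_assoc _ (π' (up (w 0)))]
  have ψx : ∀ v, x * ψ v * x⁻¹ = (ψ v)⁻¹ := fun v => by
    rw [hψ, ← conj_mul, i1 (l'.upV _), i2 (m2 _), cmU (l'.upV _).1 (m2 _).1,
      _root_.mul_inv_rev _ (π' (up (v 0)))]
  have ψ0 : ψ 0 = 1 := by simpa using add 0 0
  have ψn : ∀ v, ψ (-v) = (ψ v)⁻¹ := fun v =>
    eq_inv_of_mul_eq_one_left (by rw [← add, neg_add_cancel, ψ0])
  have ψ1 : ∀ v, ψ v = 1 → v = 0 := fun v hv => by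
    have e1 : π' (up (v 0)) = (k0 * π' (up (v 1)) * k0⁻¹)⁻¹ := eq_inv_of_mul_eq_one_left (hψ v ▸ hv)
    have c1 := (mem_UY1.1 (l'.upV (v 0))).2
    have c2 := (mem_UY1.1 (e1 ▸ inv_mem (m2 (v 1)))).2
    rw [← mul_assoc, c1, mul_assoc, mul_assoc, mul_right_inj] at c2
    have e2 : π' (up (v 0)) = 1 := sq_one h (l'.upV _).1 (by
      rw [← i1 (l'.upV _), ← c2, mul_inv_cancel_right])
    rw [e2, eq_comm, inv_eq_one, conj_eq_one_iff] at e1
    funext i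
    fin_cases i
    exacts [up_inj (πi' (e2.trans π'.map_one.symm)), up_inj (πi' (e1.trans π'.map_one.symm))]
  have inj : Function.Injective ψ := fun v w e =>
    sub_eq_zero.1 (ψ1 _ (by rw [sub_eq_add_neg, add, ψn, e, mul_inv_cancel]))
  have dec : ∀ u ∈ U a, ∃ u1 ∈ UY U {x} a, ∃ v, u = u1 * ψ v := by
    let S : Subgroup G :=
      { carrier := {u | ∃ u1 ∈ UY U {x} a, ∃ v, u = u1 * ψ v}
        one_mem' := ⟨1, one_mem _, 0, by simp [ψ0]⟩
        mul_mem' := by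
          rintro _ _ ⟨u, hu, v, rfl⟩ ⟨u', hu', v', rfl⟩
          refine ⟨u * u', mul_mem hu hu', v + v', ?_⟩
          rw [add, mul_assoc, mul_assoc, ← mul_assoc (ψ v), cmU (ψU v) hu'.1, mul_assoc]
        inv_mem' := by
          rintro _ ⟨u, hu, v, rfl⟩
          exact ⟨u⁻¹, inv_mem hu, -v, by rw [ψn, cmU hu.1 (ψU v), _root_.mul_inv_rev]⟩ }
    have : U a ≤ S := by
      rw [← h.toCb.gen4 hx.1.1 c.ti.1 c.cm c.xH.1 c.tH.1]
      refine sup_le (sup_le (fun u hu => ⟨u, hu, 0, by simp [ψ0]⟩) fun u hu => ?_) fun u hu => ?_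
      · obtain ⟨d, rfl⟩ := l'.Vup u hu
        exact ⟨1, one_mem _, ![d, 0], by simp [hψ, up_zero]⟩
      · have := cjY (inv_mem k0H) hu
        rw [c.cm, ← kt, show k0⁻¹ * (k0 * t * k0⁻¹) * k0⁻¹⁻¹ = t by group] at this
        obtain ⟨d, hd⟩ := l'.Vup _ this
        refine ⟨1, one_mem _, ![0, d], ?_⟩
        simp [hψ, ← hd, up_zero, mul_assoc]
    exact this
  have sur : ∀ m ∈ U a, x * m * x⁻¹ = m⁻¹ → ∃ v, m = ψ v := fun m hm xm => by
    obtain ⟨u, hu, v, rfl⟩ := dec m hm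
    rw [← conj_mul, ψx, cmU hu.1 (ψU v), _root_.mul_inv_rev, mul_left_inj, ← (mem_UY1.1 hu).2,
      mul_inv_cancel_right] at xm
    exact ⟨v, by rw [sq_one h hu.1 xm.symm, one_mul]⟩
  have inv : ∀ g ∈ Hb G a b, g * x = x * g → ∀ v, ∃ w, g * ψ v * g⁻¹ = ψ w := fun g hg gx v =>
    sur _ (cjU hg (ψU v)) (by
      calc _ = x * g * ψ v * (x * g)⁻¹ := by group
        _ = g * (x * ψ v * x⁻¹) * g⁻¹ := by rw [← gx]; group
        _ = _ := by rw [ψx]; group)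
  have cUt : Nat.card (U a) = Nat.card (UY U {t} a) ^ 3 := by
    have := h.card1 hx.1.1 c.xH.1
    have := h.card1 c.ti.1 c.tH.1
    have := Fx_ncard_conj (Ω := Ω) xt
    rw [cU]; congr 1; omega
  -- `C_H(x)` is faithful on `M`
  have cM : ∀ δ ∈ Hb G a b, δ * x = x * δ → (∀ v, δ * ψ v * δ⁻¹ = ψ v) → δ = 1 := fun δ hδ δx hv => by
    have δt : t⁻¹ * (δ * t * δ⁻¹) = 1 := h.toCb.eq_one hab (mul_mem (inv_mem c.tH)
      (mul_mem (mul_mem hδ c.tH) (inv_mem hδ))) fun u hu => by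
        obtain ⟨u, hu', v, rfl⟩ := dec u hu
        have e1 : δ * t * δ⁻¹ * u * (δ * t * δ⁻¹)⁻¹ = t * u * t⁻¹ := by
          have := cjY (inv_mem hδ) hu'
          rw [show δ⁻¹ * x * δ⁻¹⁻¹ = x by rw [mul_assoc, inv_inv, ← δx]; group] at this
          rw [i3 hu', show δ * t * δ⁻¹ * u * (δ * t * δ⁻¹)⁻¹ = δ * (t * (δ⁻¹ * u * δ⁻¹⁻¹) * t⁻¹) * δ⁻¹ by
            group, i3 this]
          group
        have e2 : δ * t * δ⁻¹ * ψ v * (δ * t * δ⁻¹)⁻¹ = t * ψ v * t⁻¹ := by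
          obtain ⟨w, hw⟩ := inv t c.tH c.cm.symm v
          rw [hw, ← hv w, ← hw]
          conv_lhs => rw [← hv v]
          group
        rw [← mul_inv_eq_iff_eq_mul]
        calc _ = t⁻¹ * (δ * t * δ⁻¹ * u * (δ * t * δ⁻¹)⁻¹ * (δ * t * δ⁻¹ * ψ v * (δ * t * δ⁻¹)⁻¹)) * t := by
              group
          _ = _ := by rw [e1, e2]; group
    have δt' : δ * t = t * δ := by rw [inv_mul_eq_one, eq_mul_inv_iff_mul_eq] at δt; exact δt.symm
    refine semi h ht hab c.tH cUt (mem_KY1.2 ⟨δt', fun y hy => ?_⟩) (m2 1).1 ?_ (fun e => ?_) ?_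
    · by_cases ya : y = a
      · rw [ya]; exact hδ.1
      obtain ⟨u, hu, rfl⟩ := (h.ldY {t}).tr a ta b tb y hy hab.symm ya
      obtain ⟨d, rfl⟩ := l'.Vup u hu
      refine (h.fix_iff hab hδ hu.1).2 (mul_inv_eq_iff_eq_mul.1 ?_)
      simpa [hψ, up_zero] using hv ![d, 0]
    · have c1 := (mem_UY1.1 (inv_mem (m2 1))).2
      have := i2 (m2 1)
      generalize k0 * π' (up 1) * k0⁻¹ = m at c1 this
      calc t * m * t⁻¹ = t * (x * x) * m * (t * (x * x))⁻¹ := by rw [hx.1.1, mul_one]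
        _ = t * x * (x * m * x⁻¹) * (t * x)⁻¹ := by group
        _ = m⁻¹ := by rw [this, ← c1]; group
    · exact _root_.one_ne_zero (up_inj (πi' ((conj_eq_one_iff.1 e).trans π'.map_one.symm)))
    · refine mul_inv_eq_iff_eq_mul.1 ?_
      simpa [hψ, up_zero] using hv ![0, 1]
  -- the diagonal group acts as the group of scalars
  have DH : ∀ d, π (dg d) ∈ Hb G a b := fun d => ((l.mem_D (h.ldY _) xa xb).2 ⟨d, rfl⟩).2
  have Lx : ∀ B, π B * x = x * π B := fun B => (LY_le U {x} (l.mem B) x rfl).symm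
  have Dt : ∀ d, t * π (ad d) * t⁻¹ = π (ad d) * x := fun d => by
    have := hV.neg h hx.1 c.xH l.toL2P c.ti c.tx c.cm.symm c.tH
    rw [l.conj_ad (c := -1) (mem_norm1.2 c.cm.symm) (by simpa using this), ← hx.neg l, ← map_mul,
      ← dg_mul_ad, dg_neg_one, mul_neg_one, neg_one_mul]
    rfl
  have lin : ∀ d, π (ad d) * k0 * t = t * (π (ad d) * k0) ∧
      ∃ A : GL (Fin 2) E, Act e' (Fx Ω {t}) (π (ad d) * k0) A (RingEquiv.refl E) := fun d => by
    have c1 : π (ad d) * k0 * t = t * (π (ad d) * k0) := by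
      rw [mul_assoc, mul_inv_eq_iff_eq_mul.1 kt, ← mul_assoc t, mul_inv_eq_iff_eq_mul.1 (Dt d), ← c.cm]
      simp only [mul_assoc]
    refine ⟨c1, hV.lin h ht.1 l'.toL2P ?_ c1⟩
    rw [mul_assoc, ← mul_assoc k0, cmK h hx hk0 (l.mem _), mul_assoc, k2, ← mul_assoc, ← map_mul,
      ad_mul_ad, mul_inv_cancel, dg_neg_one, hx.neg l, hx.1.1]
  have scD : ∀ d, ∃ s : Eˣ, ∀ v, π (dg d) * ψ v * (π (dg d))⁻¹ = ψ ((s : E) • v) := fun d => by
    obtain ⟨c1, A, hA⟩ := lin d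
    obtain ⟨c2, A', hA'⟩ := lin 1
    have e1 : π (ad d) * k0 * (π (ad 1) * k0) = π (dg d) := by
      rw [mul_assoc, ← mul_assoc k0, cmK h hx hk0 (l.mem _), mul_assoc, k2, ← mul_assoc, ← map_mul,
        ad_mul_ad, ← hx.neg l, ← map_mul, ← dg_neg_one, ← dg_mul]
      simp
    have n : π (dg d) ∈ normalizer ({t} : Set G) := e1 ▸ mul_mem (mem_norm1.2 c1) (mem_norm1.2 c2)
    have a1 := hA.mul (h.ldY {t}) (mem_norm1.2 c2) hA'
    obtain ⟨s, σ, hs⟩ := l'.toL2P.sc ta tb n (DH d)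
    obtain ⟨A'', -, a2⟩ := hs.act
    rw [e1] at a1
    obtain rfl : RingEquiv.refl E = σ := (l'.toL2P.uniq a1 a2).1
    refine ⟨s, fun v => ?_⟩
    have := l'.conj_up n hs
    simp only [hψ, Pi.smul_apply, smul_eq_mul]
    rw [← conj_mul, this, show π (dg d) * (k0 * π' (up (v 1)) * k0⁻¹) * (π (dg d))⁻¹ =
      π (dg d) * k0 * π' (up (v 1)) * (π (dg d) * k0)⁻¹ by group, ← cmK h hx hk0 (l.mem _),
      show k0 * π (dg d) * π' (up (v 1)) * (k0 * π (dg d))⁻¹ =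
      k0 * (π (dg d) * π' (up (v 1)) * (π (dg d))⁻¹) * k0⁻¹ by group, this]
    rfl
  choose χ hχ using scD
  have same : ∀ g ∈ Hb G a b, g * x = x * g → ∀ d, (∀ v, g * ψ v * g⁻¹ = ψ ((χ d : E) • v)) →
      g = π (dg d) := fun g hg gx d hv => (inv_mul_eq_one.1 (cM ((π (dg d))⁻¹ * g)
    (mul_mem (inv_mem (DH d)) hg) (by rw [mul_assoc, gx, ← mul_assoc, ← map_inv, Lx, mul_assoc])
    fun v => by
      calc _ = (π (dg d))⁻¹ * (g * ψ v * g⁻¹) * π (dg d) := by group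
        _ = _ := by rw [hv, ← hχ]; group)).symm
  have χs : Function.Surjective χ := (Function.Injective.bijective_of_nat_card_le
    (fun d d' (e : χ d = χ d') => dg_inj (πi (same _ (DH d) (Lx _) d' (e ▸ hχ d)))) (by
      have := l.toL2P.card
      have := l'.toL2P.card
      have := Fx_ncard_conj (Ω := Ω) xt
      rw [Nat.card_units, Nat.card_units, Nat.card_eq_fintype_card, Nat.card_eq_fintype_card]
      omega)).2
  let C : Subgroup G := Hb G a b ⊓ centralizer (Set.range fun d => π (dg d))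
  have Cx' : ∀ g ∈ C, g * x = x * g := fun g hg => by
    rw [← hx.neg l, ← dg_neg_one]; exact (hg.2 _ ⟨-1, rfl⟩).symm
  have KC : KY Ω ({x} : Set G) ≤ C := fun k hk =>
    ⟨KH c.xH hk, by rintro _ ⟨d, rfl⟩; exact (cmK h hx hk (l.mem _)).symm⟩
  have DC : ∀ d, π (dg d) ∈ C := fun d => ⟨DH d, by
    rintro _ ⟨d', rfl⟩
    simp only [← map_mul, ← dg_mul, mul_comm]⟩
  have := Fact.mk pp
  have cE : CharP E p := by
    have e1 := hp _ (l'.upV 1).1
    have e2 : ∀ n : ℕ, up (1 : E) ^ n = up (n : E) := fun n => by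
      induction n with
      | zero => simp [up_zero]
      | succ n ih => rw [pow_succ, ih, ← up_add, Nat.cast_succ]
    rw [← map_pow, e2] at e1
    exact (CharP.charP_iff_prime_eq_zero pp).2 (up_inj (πi' (e1.trans π'.map_one.symm)))
  have cA : CharP (AlgebraicClosure E) p := (Algebra.charP_iff E _ p).1 cE
  obtain ⟨φ, hφ, fp⟩ := rep p (C := C) ψ add inj (fun g hg => inv g hg.1 (Cx' g hg)) fun s s0 => by
    obtain ⟨d, hd⟩ := χs (Units.mk0 s s0)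
    exact ⟨π (dg d), fun g hg => (hg.2 _ ⟨d, rfl⟩).symm, fun v => by rw [hχ, hd]; rfl⟩
  have φ1 : ∀ g : C, φ g = 1 ↔ ∃ d, (g : G) = π (dg d) := fun g => (hφ g).trans
    ⟨fun ⟨s, s0, hs⟩ => by
      obtain ⟨d, hd⟩ := χs (Units.mk0 s s0)
      exact ⟨d, same g g.2.1 (Cx' g g.2) d (by rw [hd]; exact hs)⟩,
    fun ⟨d, hd⟩ => ⟨χ d, (χ d).ne_zero, hd ▸ hχ d⟩⟩
  have xK : x ∈ KY Ω ({x} : Set G) := mem_KY1.2 ⟨rfl, fun y hy => mem_Fx1.1 hy⟩
  have inn : ∀ g : C, φ g ∈ ((KY Ω ({x} : Set G)).subgroupOf C).map φ ↔ Inn (Fx Ω {x}) (UY U {x}) (g : G) :=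
    fun g => by
      constructor
      · rintro ⟨k, hk, e⟩
        obtain ⟨d, hd⟩ := (φ1 (g * k⁻¹)).1 (by simp [e])
        refine ⟨π (dg d), l.mem _, ?_⟩
        rw [← hd]
        simpa using (mem_KY1.1 hk).2
      · rintro ⟨m, hm, hT⟩
        have mH : m ∈ Hb G a b := by
          have h1 := hT a xa
          have h2 := hT b xb
          rw [mul_smul, show (g : G) • a = a from g.2.1.1, inv_smul_eq_iff] at h1
          rw [mul_smul, show (g : G) • b = b from g.2.1.2, inv_smul_eq_iff] at h2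
          exact ⟨h1.symm, h2.symm⟩
        obtain ⟨d, rfl⟩ := (l.mem_D (h.ldY _) xa xb).1 ⟨hm, mH⟩
        refine ⟨(⟨_, DC d⟩ : C)⁻¹ * g, mem_KY1.2 ⟨Cx' _ (mul_mem (inv_mem (DC d)) g.2), hT⟩, ?_⟩
        rw [map_mul, map_inv, (φ1 _).2 ⟨d, rfl⟩]
        simp
  have linC : ∀ g ∈ C, ∃ A : GL (Fin 2) F, Act e (Fx Ω {x}) g A (RingEquiv.refl F) := fun g hg => by
    have n := mem_norm1.2 (Cx' g hg)
    obtain ⟨s, σ, hs⟩ := l.toL2P.sc xa xb n hg.1
    obtain rfl : σ = RingEquiv.refl F := RingEquiv.ext fun y => by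
      by_cases y0 : y = 0
      · simp [y0]
      have := l.conj_dg n hs (Units.mk0 y y0)
      rw [← hg.2 _ ⟨_, rfl⟩, mul_inv_cancel_right] at this
      exact (congrArg Units.val (dg_inj (πi this))).symm
    exact hs.act.imp fun A hA => hA.2
  obtain ⟨γ, γH, γx, -, γ2, γo, -⟩ := c.out
  have γC : γ ∈ C := ⟨γH, by
    rintro _ ⟨d, rfl⟩
    exact (c.sc γ γH γx γ2 _ (l.mem _) (DH d)).symm⟩
  have pK : ¬ p ∣ Nat.card (KY Ω ({x} : Set G)) := fun d => by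
    obtain ⟨k, hk⟩ := exists_prime_orderOf_dvd_card' p d
    obtain ⟨v, v0, hv⟩ := fp k (KC k.2) (by rw [← hk, ← coe_pow, pow_orderOf_eq_one, coe_one])
    have := semi h hx hab c.xH cU k.2 (ψU v) (ψx v) (fun e => v0 (ψ1 v e)) hv
    rw [show k = 1 from Subtype.ext this, orderOf_one] at hk
    exact pp.one_lt.ne hk
  have p2 : p ≠ 2 := by
    rintro rfl
    have := l'.odd
    obtain ⟨n, -, hn⟩ := FiniteField.card E 2
    rw [hn] at this
    exact absurd (Odd.of_dvd_nat this (dvd_pow_self 2 n.ne_zero)) (by decide)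
  have ε := subgroupOfEquivOfLe KC
  obtain ⟨iso⟩ := pure p p2 φ (K := (KY Ω ({x} : Set G)).subgroupOf C) (x := ⟨⟨x, KC xK⟩, xK⟩)
    (fun e => hx.1.2 (congrArg (fun y => y.1.1) e)) (Subtype.ext (Subtype.ext hx.1.1))
    (fun k => Subtype.ext (Subtype.ext (mem_KY1.1 k.2).1))
    (fun k e => (hV.uniq hx.1 (by have := hx.three h; omega) k.2 (congrArg (fun y => y.1.1) e)).imp
      (fun e => Subtype.ext (Subtype.ext e)) fun e => Subtype.ext (Subtype.ext e))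
    (fun k => by
      rw [φ1]
      constructor
      · rintro ⟨d, hd⟩
        exact (l.ker (g := k.1.1) (hd ▸ l.mem _) (mem_KY1.1 k.2).2).imp
          (fun e => Subtype.ext (Subtype.ext e)) fun e => Subtype.ext (Subtype.ext (e.trans (hx.neg l)))
      · rintro (rfl | rfl)
        · exact ⟨1 * 1, by rw [← mul_right_inj (π (dg 1)), ← map_mul, ← dg_mul]; simp⟩
        · exact ⟨-1, by rw [dg_neg_one, hx.neg l]⟩)
    (γ := ⟨γ, γC⟩) (fun g => by
      rw [inn, inn]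
      by_cases hg : Inn (Fx Ω {x}) (UY U {x}) (g : G)
      · refine Or.inr ⟨hg, fun hg' => γo ?_⟩
        have := mul_mem (inv_mem ((inn g).2 hg)) ((inn (g * ⟨γ, γC⟩)).2 hg')
        rw [← map_inv, ← map_mul, inv_mul_cancel_left] at this
        exact (inn _).1 this
      · obtain ⟨A, hA⟩ := linC g g.2
        obtain ⟨A', hA'⟩ := linC γ γC
        exact Or.inl ⟨l.toL2P.out_mul (h.ldY _) (mem_norm1.2 (Cx' _ g.2)) (mem_norm1.2 γx) hA hA' hg γo, hg⟩)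
    (by rwa [Nat.card_congr ε.toEquiv]) fun n => hK (H4.hasNormalPComplement_of_equiv n ε)
  refine ⟨⟨ε.symm.trans iso⟩, fun d => pK ?_⟩
  obtain ⟨u, hu⟩ := exists_prime_orderOf_dvd_card' 3 d
  have := orderOf_dvd_of_pow_eq_one (show u ^ p = 1 from Subtype.ext (hp u u.2))
  rw [hu, Nat.prime_dvd_prime_iff_eq Nat.prime_three pp] at this
  rw [← this, Nat.card_congr (ε.symm.trans iso).toEquiv, H82.card_SL23]
  decide

end H51.HK
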