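import Cfsg.Agent.Lib.HK.Bas
import Cfsg.Agent.Lib.MinDeg8.U3More

/-! The model of a split rank one group of type `U₃(q)`: isotropic points. -/

set_option autoImplicit false
set_option linter.unusedSectionVars false

namespace H71.KU

open MulAction Subgroup H51.HK Cfsg H11.U H8.U3
open scoped commutatorElement

variable {G Ω : Type*} [Group G] [MulAction G Ω] [Finite G] [Finite Ω] {U : Ω → Subgroup G}
  {F : Type} [Field F] [Fintype F] {q : ℕ} [IsSq F q]

set_option hygiene false in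
local notation "⟪" u "," v "⟫" => hermForm 3 F q u v

/-- the points are the isotropic points, the root groups are the vector stabilisers -/
structure UM (U : Ω → Subgroup G) (φ : SU 3 F q →* G) (vec : Ω → Fin 3 → F) : Prop where
  range : φ.range = Lt Set.univ U
  ker : ∀ g, φ g = 1 ↔ g ∈ center (SU 3 F q)
  iso : ∀ c, Iso q (vec c)
  Uc : ∀ c, U c = (H8.U3.Fx q (vec c)).map φ
  act : ∀ g c d, φ g • c = d ↔ ∃ a : F, ac g (vec c) = a • vec d
  surj : ∀ v, Iso q v → ∃ c, ∃ a : F, v = a • vec c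

theorem Fx_ac (g : SU 3 F q) (v : Fin 3 → F) :
    H8.U3.Fx q (ac g v) = (H8.U3.Fx q v).map (MulAut.conj g).toMonoidHom := by
  ext u
  rw [← conj_mem_Fx, mem_map]
  constructor
  · intro h
    exact ⟨_, h, by simp [mul_assoc]⟩
  · rintro ⟨x, hx, rfl⟩
    simpa [mul_assoc] using hx

theorem one_lt_card_Fx {v : Fin 3 → F} (hv : Iso q v) : ∃ u ∈ H8.U3.Fx q v, u ≠ 1 := by
  by_contra hc
  push Not at hc
  have h1 : H8.U3.Fx q v = ⊥ := (eq_bot_iff_forall _).2 hc
  have h2 := card_Fx hv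
  rw [h1, card_bot] at h2
  have h3 := two_le_q F q
  have : 2 ^ 3 ≤ q ^ 3 := Nat.pow_le_pow_left h3 3
  omega

theorem smul_of_map_le {φ : SU 3 F q →* G} (hk : ∀ g, φ g = 1 ↔ g ∈ center (SU 3 F q))
    {u v : Fin 3 → F} (hu : Iso q u) (hv : Iso q v)
    (h : (H8.U3.Fx q u).map φ ≤ (H8.U3.Fx q v).map φ) : ∃ a : F, u = a • v := by
  obtain ⟨x, hx, x1⟩ := one_lt_card_Fx hu
  obtain ⟨y, hy, e⟩ := h (mem_map_of_mem φ hx)
  have hz : y⁻¹ * x ∈ center (SU 3 F q) := (hk _).1 (by rw [map_mul, map_inv, e]; simp)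
  have hS : x ∈ St q v := by
    have := mul_mem (Fx_le_St v hy) (center_le_St v hz)
    simpa using this
  obtain ⟨a, ha⟩ := eq_smul_of_fix hu hv hx x1 hS
  have a0 : a ≠ 0 := by
    rintro rfl
    exact hv.1 (by rw [ha, zero_smul])
  exact ⟨a⁻¹, by rw [ha, smul_smul, inv_mul_cancel₀ a0, one_smul]⟩

theorem exists_two (h : Cb U) (a : Ω) : ∃ b : Ω, b ≠ a := by
  have := h.three
  have : Nontrivial Ω := Finite.one_lt_card_iff_nontrivial.1 (by omega)
  exact exists_ne a

theorem U_conj (h : Cb U) (g : G) (c : Ω) :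
    U (g • c) = (U c).map (MulAut.conj g).toMonoidHom := by
  ext u
  rw [mem_map]
  constructor
  · intro hu
    have := h.ld.cj g⁻¹ (mem_top _) _ (Set.mem_univ _) u hu
    rw [inv_smul_smul] at this
    exact ⟨_, this, by simp [mul_assoc]⟩
  · rintro ⟨x, hx, rfl⟩
    exact h.ld.cj g (mem_top _) _ (Set.mem_univ _) x hx

theorem U_inj (h : Cb U) (hr : Reg U) {c d : Ω} (e : U c = U d) : c = d := by
  by_contra hne
  have h3 := h.three
  have : Fintype Ω := Fintype.ofFinite Ω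
  classical
  obtain ⟨x, hx⟩ : ∃ x, x ∉ ({c, d} : Finset Ω) := by
    by_contra hc
    push Not at hc
    have : (Finset.univ : Finset Ω).card ≤ ({c, d} : Finset Ω).card :=
      Finset.card_le_card fun x _ => hc x
    rw [Finset.card_univ, ← Nat.card_eq_fintype_card] at this
    have := Finset.card_le_two (a := c) (b := d)
    omega
  simp only [Finset.mem_insert, Finset.mem_singleton, not_or] at hx
  obtain ⟨u, hu, hux⟩ := h.ld.tr c (Set.mem_univ _) d (Set.mem_univ _) x (Set.mem_univ _)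
    (Ne.symm hne) hx.1
  have := h.ld.fix d (Set.mem_univ _) u (e ▸ hu)
  exact hx.2 (by rw [← hux, this])

theorem exists_UM (h : Cb U) (hr : Reg U) {p : ℕ} (hp : p.Prime) (hS : SylF U p) [CharP F p]
    (e : Lt Set.univ U ≃* PSU 3 F q) : ∃ (φ : SU 3 F q →* G) (vec : Ω → Fin 3 → F),
      UM U φ vec ∧ ∀ g, φ g = (e.symm (g : PSU 3 F q) : G) := by
  have := Fact.mk hp
  let L : Subgroup G := Lt Set.univ U
  let ψ : SU 3 F q →* L := e.symm.toMonoidHom.comp (QuotientGroup.mk' (center (SU 3 F q)))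
  have hψ : Function.Surjective ψ := e.symm.surjective.comp (QuotientGroup.mk'_surjective _)
  let φ : SU 3 F q →* G := L.subtype.comp ψ
  have hker : ∀ g, φ g = 1 ↔ g ∈ center (SU 3 F q) := by
    intro g
    change ((e.symm (g : PSU 3 F q) : L) : G) = 1 ↔ _
    rw [OneMemClass.coe_eq_one, map_eq_one_iff _ e.symm.injective, QuotientGroup.eq_one_iff]
  have hrange : φ.range = L := by
    rw [MonoidHom.range_comp, MonoidHom.range_eq_top.2 hψ, ← MonoidHom.range_eq_map,
      range_subtype]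
  have hvec : ∀ c, ∃ v, Iso q v ∧ U c = (H8.U3.Fx q v).map φ := by
    intro c
    have hle : U c ≤ L := le_Lt (Set.mem_univ c)
    obtain ⟨e0, he0⟩ := exists_iso (F := F) (q := q)
    have hp1 : IsPGroup p ((U c).subgroupOf L) := (hS c).1.comap_subtype
    let P : Sylow p L := hp1.toSylow (hS c).2
    let Q : Sylow p L := (sylFx p he0).mapSurjective hψ
    obtain ⟨l, hl⟩ := exists_smul_eq L Q P
    obtain ⟨g, rfl⟩ := hψ l
    refine ⟨ac g e0, he0.ac g, ?_⟩
    have h1 : (U c).subgroupOf L = (H8.U3.Fx q (ac g e0)).map ψ := by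
      have h2 : ((ψ g • Q : Sylow p L) : Subgroup L) = (U c).subgroupOf L := by rw [hl]; rfl
      rw [← h2, Sylow.coe_subgroup_smul, Fx_ac, map_map]
      change ((H8.U3.Fx q e0).map ψ).map (MulAut.conj (ψ g)).toMonoidHom = _
      rw [map_map]
      congr 1
      ext x
      simp
    rw [← map_subgroupOf_eq_of_le hle, h1, map_map]
  choose vec hv1 hv2 using hvec
  have hC : ∀ g c, U (φ g • c) = (H8.U3.Fx q (ac g (vec c))).map φ := by
    intro g c
    rw [U_conj h, hv2 c, Fx_ac, map_map, map_map]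
    congr 1
    ext x
    simp
  have hact : ∀ g c d, φ g • c = d ↔ ∃ a : F, ac g (vec c) = a • vec d := by
    intro g c d
    constructor
    · rintro rfl
      exact smul_of_map_le hker ((hv1 c).ac g) (hv1 _) (by rw [← hC, ← hv2])
    · rintro ⟨a, ha⟩
      have a0 : a ≠ 0 := by
        rintro rfl
        exact ((hv1 c).ac g).1 (by rw [ha, zero_smul])
      apply U_inj h hr
      rw [hC, ha, Fx_smul a0, ← hv2]
  refine ⟨φ, vec, ⟨hrange, hker, hv1, hv2, hact, fun v hv => ?_⟩, fun g => rfl⟩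
  have : Nonempty Ω := by
    have := h.three
    exact (Nat.card_pos_iff.1 (by omega)).1
  obtain ⟨c⟩ := this
  obtain ⟨g, hg⟩ := (hv1 c).exists_ac hv
  obtain ⟨a, ha⟩ := (hact g c _).1 rfl
  exact ⟨_, a, by rw [← hg, ha]⟩

namespace UM

variable {φ : SU 3 F q →* G} {vec : Ω → Fin 3 → F} (m : UM U φ vec)
include m

theorem eq_of_smul {c d : Ω} {a : F} (h : vec c = a • vec d) : c = d := by
  have := (m.act 1 c d).2 ⟨a, by rw [ac_one, h]⟩
  simpa using this

theorem fix_iff {g : SU 3 F q} {c : Ω} : φ g • c = c ↔ g ∈ St q (vec c) := m.act g c c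

theorem inj {v : Fin 3 → F} (hv : v ≠ 0) {u : SU 3 F q} (hu : u ∈ H8.U3.Fx q v) (h : φ u = 1) :
    u = 1 := eq_one_of_mem_center ((m.ker u).1 h) hv hu

theorem card_U (c : Ω) : Nat.card (U c) = q ^ 3 := by
  rw [m.Uc c, ← card_Fx (m.iso c)]
  symm
  refine Nat.card_congr (Equiv.ofBijective
    (fun x => ⟨φ x.1, mem_map_of_mem φ x.2⟩) ⟨fun x y e => ?_, ?_⟩)
  · have e' : φ x.1 = φ y.1 := congrArg Subtype.val e
    have := m.inj (m.iso c).1 (mul_mem (inv_mem x.2) y.2) (by rw [map_mul, map_inv, e']; simp)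
    exact Subtype.ext (inv_mul_eq_one.1 this)
  · rintro ⟨_, x, hx, rfl⟩
    exact ⟨⟨x, hx⟩, rfl⟩

/-- a frame adapted to a pair of points -/
theorem frame {a b : Ω} (hab : a ≠ b) :
    ∃ (w : Fin 3 → F) (s : F), s ≠ 0 ∧ Fr q (vec a) w (s • vec b) := by
  have h1 : ⟪vec a, vec b⟫ ≠ 0 :=
    (m.iso b).form_ne_zero (m.iso a) fun s hs => hab (m.eq_of_smul hs)
  have h2 : cj q ⟪vec a, vec b⟫ ≠ 0 := cj_ne_zero.2 h1
  obtain ⟨w, hw⟩ := exists_fr_of_pair (f := (cj q ⟪vec a, vec b⟫)⁻¹ • vec b) (m.iso a).2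
    ((m.iso b).smul (inv_ne_zero h2)).2
    (by rw [form_smul_right, map_inv₀, cj_cj, inv_mul_cancel₀ h1])
  exact ⟨w, _, inv_ne_zero h2, hw⟩

theorem exists_of_mem {g : G} (hg : g ∈ Lt Set.univ U) : ∃ x, φ x = g := by
  rw [← m.range] at hg
  exact hg

theorem mem_Lt (x : SU 3 F q) : φ x ∈ Lt Set.univ U := by
  rw [← m.range]
  exact ⟨x, rfl⟩

end UM

theorem odd_q (h : Cb U) {φ : SU 3 F q →* G} {vec : Ω → Fin 3 → F} (m : UM U φ vec) : Odd q := by
  have : Nonempty Ω := by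
    have := h.three
    exact (Nat.card_pos_iff.1 (by omega)).1
  obtain ⟨c⟩ := this
  have := h.ld.odd c (Set.mem_univ _)
  rw [m.card_U] at this
  exact (Nat.odd_pow_iff (by norm_num)).1 this

theorem tr_iff (h : Cb U) {g : G} : H51.HK.Tr (Set.univ : Set Ω) g ↔ g = 1 :=
  ⟨fun t => h.faith g fun x => t x (Set.mem_univ _), fun e x _ => by rw [e, one_smul]⟩

end H71.KU
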