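import Cfsg.Agent.Lib.HK.Bas
import Cfsg.Agent.Lib.HK.LLa
import Cfsg.Agent.Lib.ZStar.UniqueInvol

/-! The type `L₂(q)` on the level of the action (helper14). -/

set_option autoImplicit false
set_option linter.unusedSectionVars false
set_option linter.unusedVariables false

namespace H51.HK

open MulAction Subgroup Matrix H69 LL
open scoped MatrixGroups Classical commutatorElement

variable {G Ω : Type*} [Group G] [MulAction G Ω] [Finite G] [Finite Ω]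

variable {N : Subgroup G} {Δ : Set Ω} {V : Ω → Subgroup G} {a b : Ω} {F : Type} [Field F]
  [Fintype F] {e : Ω → OnePoint F}

theorem Act.mul (hd : LD N Δ V) {g g' : G} (hg' : g' ∈ N) {A A' : GL (Fin 2) F} {σ σ' : F ≃+* F}
    (h : Act e Δ g A σ) (h' : Act e Δ g' A' σ') :
    Act e Δ (g * g') (A * A'.map (σ : F →+* F)) (σ'.trans σ) := fun x hx => by
  rw [mul_smul, h _ (hd.inv _ hg' x hx), h' x hx, mul_smul, map_trans]
  exact congrArg _ (OnePoint.map_smul (σ : F →+* F) A' _)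

theorem Act.lin {g : G} {A : GL (Fin 2) F} :
    Act e Δ g A (RingEquiv.refl F) ↔ ∀ x ∈ Δ, e (g • x) = A • e x := by
  simp only [Act, map_refl]

theorem Act.mul_lin (hd : LD N Δ V) {g g' : G} (hg' : g' ∈ N) {A A' : GL (Fin 2) F} {σ' : F ≃+* F}
    (h : Act e Δ g A (RingEquiv.refl F)) (h' : Act e Δ g' A' σ') : Act e Δ (g * g') (A * A') σ' :=
  fun x hx => by rw [mul_smul, Act.lin.1 h _ (hd.inv _ hg' x hx), h' x hx, mul_smul]

theorem Act.congr {g g' : G} {A : GL (Fin 2) F} {σ : F ≃+* F} (h : Act e Δ g A σ)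
    (k : ∀ x ∈ Δ, g' • x = g • x) : Act e Δ g' A σ := fun x hx => by rw [k x hx, h x hx]

theorem Act.pow (hd : LD N Δ V) {g : G} (hg : g ∈ N) {A : GL (Fin 2) F} {σ : RingAut F}
    (h : Act e Δ g A σ) (n : ℕ) : ∃ B, Act e Δ (g ^ n) B (σ ^ n) := by
  induction n with
  | zero => exact ⟨1, fun x _ => by rw [pow_zero, one_smul, one_smul]; exact (map_refl _).symm⟩
  | succ n ih => obtain ⟨B, hB⟩ := ih; exact ⟨_, by rw [pow_succ, pow_succ]; exact hB.mul hd hg h⟩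

theorem Tr.act {g : G} (h : Tr Δ g) : Act e Δ g 1 (RingEquiv.refl F) :=
  Act.lin.2 fun x hx => by rw [h x hx, one_smul]

theorem Tr.sc {g : G} (h : Tr Δ g) : Sc e Δ g 1 (RingEquiv.refl F) := fun x hx => by
  rw [h x hx]; cases e x <;> simp

theorem Tr.comm (hd : LD N Δ V) {s t : G} (hs : s ∈ N) (ht : t ∈ N) (h : Tr Δ ⁅s, t⁆) :
    ∀ x ∈ Δ, (s * t) • x = (t * s) • x := fun x hx => by
  rw [← h _ (hd.inv _ (mul_mem ht hs) x hx), ← mul_smul, commutatorElement_def]; congr 1; group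

theorem L2P.all (h : L2P N Δ V a b F e) {P : OnePoint F → Prop} (k : ∀ x ∈ Δ, P (e x)) (p : OnePoint F) :
    P p := by
  obtain ⟨x, hx, rfl⟩ := h.bij.surjOn (Set.mem_univ p)
  exact k x hx

/-- the field part is unique, the matrix is unique up to a scalar -/
theorem L2P.uniq (h : L2P N Δ V a b F e) {g : G} {A A' : GL (Fin 2) F} {σ σ' : F ≃+* F}
    (h1 : Act e Δ g A σ) (h2 : Act e Δ g A' σ') :
    σ = σ' ∧ ∃ c : F, (A' : Matrix (Fin 2) (Fin 2) F) = c • (A : Matrix (Fin 2) (Fin 2) F) :=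
  key (h.all fun x hx => (h1 x hx).symm.trans (h2 x hx))

theorem L2P.tr_of (h : L2P N Δ V a b F e) (hd : LD N Δ V) {g : G} (hN : g ∈ N)
    (k : ∀ x ∈ Δ, e (g • x) = e x) : Tr Δ g := fun x hx => h.bij.injOn (hd.inv g hN x hx) hx (k x hx)

theorem L2P.tr_iff (h : L2P N Δ V a b F e) (hd : LD N Δ V) {g : G} (hN : g ∈ N) :
    Tr Δ g ↔ Act e Δ g 1 (RingEquiv.refl F) :=
  ⟨Tr.act, fun k => h.tr_of hd hN fun x hx => by rw [Act.lin.1 k x hx, one_smul]⟩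

theorem L2P.tr_iff_scal (h : L2P N Δ V a b F e) (hd : LD N Δ V) {g : G} (hN : g ∈ N)
    {A : GL (Fin 2) F} (hg : Act e Δ g A (RingEquiv.refl F)) : Tr Δ g ↔ Scal A :=
  ⟨fun k => scal_iff.2 (h.uniq k.act hg).2,
    fun k => h.tr_of hd hN fun x hx => by rw [Act.lin.1 hg x hx, k.smul]⟩

theorem L2P.ncard (h : L2P N Δ V a b F e) {P : Ω → Prop} {Q : OnePoint F → Prop}
    (k : ∀ x ∈ Δ, P x ↔ Q (e x)) : {x | x ∈ Δ ∧ P x}.ncard = {p | Q p}.ncard :=
  Set.ncard_congr (fun x _ => e x) (fun x hx => (k x hx.1).1 hx.2)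
    (fun _ _ hx hy => h.bij.injOn hx.1 hy.1) fun p hp => by
      obtain ⟨x, hx, rfl⟩ := h.bij.surjOn (Set.mem_univ p)
      exact ⟨x, ⟨hx, (k x hx).2 hp⟩, rfl⟩

theorem L2P.fix_ncard (h : L2P N Δ V a b F e) (hd : LD N Δ V) {g : G} (hN : g ∈ N)
    {f : OnePoint F → OnePoint F} (k : ∀ x ∈ Δ, e (g • x) = f (e x)) :
    {x | x ∈ Δ ∧ g • x = x}.ncard = {p | f p = p}.ncard :=
  h.ncard fun x hx => by rw [← k x hx, h.bij.injOn.eq_iff (hd.inv g hN x hx) hx]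

theorem L2P.card (h : L2P N Δ V a b F e) : Δ.ncard = Fintype.card F + 1 := by
  have := h.ncard (P := fun _ => True) (Q := fun _ => True) fun _ _ => Iff.rfl
  simp only [and_true, Set.ofPred_mem_eq, Set.ofPred_true, Set.ncard_univ] at this
  rw [this, ← Nat.card_eq_fintype_card]
  exact Finite.card_option

/-- a projective linear map with three fixed points is trivial -/
theorem L2P.three (h : L2P N Δ V a b F e) (hd : LD N Δ V) {g : G} (hN : g ∈ N) {A : GL (Fin 2) F}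
    (hg : Act e Δ g A (RingEquiv.refl F)) (h3 : 3 ≤ {x | x ∈ Δ ∧ g • x = x}.ncard) : Tr Δ g :=
  (h.tr_iff_scal hd hN hg).2 (scal_of_three (h.fix_ncard hd hN (Act.lin.1 hg) ▸ h3))

theorem L2P.inn_act (h : L2P N Δ V a b F e) {g : G} (hg : Inn Δ V g) :
    ∃ B : SL(2, F), Act e Δ g B (RingEquiv.refl F) := by
  obtain ⟨l, hl, k⟩ := hg
  obtain ⟨B, hB⟩ := h.Lsl l hl
  exact ⟨B, hB.congr fun x hx => by rw [← inv_smul_eq_iff, ← mul_smul, k x hx]⟩

theorem L2P.inn_three (h : L2P N Δ V a b F e) (hd : LD N Δ V) {g : G} (hN : g ∈ N)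
    (hg : Inn Δ V g) (h3 : 3 ≤ {x | x ∈ Δ ∧ g • x = x}.ncard) : Tr Δ g :=
  let ⟨_, hB⟩ := h.inn_act hg
  h.three hd hN hB h3

/-- elements fixing `a` and `b` -/
theorem L2P.sc (h : L2P N Δ V a b F e) (ha : a ∈ Δ) (hb : b ∈ Δ) {g : G} (hN : g ∈ N)
    (hg : g ∈ Hb G a b) : ∃ (c : Fˣ) (σ : F ≃+* F), Sc e Δ g c σ := by
  obtain ⟨A, σ, hA⟩ := h.Ngl g hN
  have h1 := hA a ha
  have h2 := hA b hb
  rw [(mem_Hb.1 hg).1, h.ea, ← pt_inf, map_pt, map_one, map_zero, eq_comm, fix_iff _ (by simp)] at h1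
  rw [(mem_Hb.1 hg).2, h.eb, ← pt_one, map_pt, map_one, map_zero, eq_comm, fix_iff _ (by simp)] at h2
  obtain ⟨c, hc⟩ := diag_smul (A := A) (by linear_combination -h2) (by linear_combination h1)
  exact ⟨c, σ, fun x hx => by rw [hA x hx, hc]; cases e x <;> rfl⟩

theorem Sc.act {g : G} {c : Fˣ} {σ : F ≃+* F} (h : Sc e Δ g c σ) :
    ∃ A : GL (Fin 2) F, (A : Matrix (Fin 2) (Fin 2) F) = !![(c : F), 0; 0, 1] ∧ Act e Δ g A σ :=
  ⟨GeneralLinearGroup.mkOfDetNeZero !![(c : F), 0; 0, 1] (by simp), rfl, fun x hx => by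
    rw [h x hx]
    cases e x <;> simp [OnePoint.smul_infty_eq_ite, OnePoint.smul_some_eq_ite]⟩

theorem Sc.mul (hd : LD N Δ V) {g g' : G} (hg' : g' ∈ N) {c c' : F} {σ σ' : F ≃+* F}
    (h : Sc e Δ g c σ) (h' : Sc e Δ g' c' σ') : Sc e Δ (g * g') (c * σ c') (σ'.trans σ) :=
  fun x hx => by
    rw [mul_smul, h _ (hd.inv _ hg' x hx), h' x hx]
    cases e x <;> simp [mul_assoc]

theorem Sc.pow (hd : LD N Δ V) {g : G} (hg : g ∈ N) {c : F} (h : Sc e Δ g c (RingEquiv.refl F))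
    (n : ℕ) : Sc e Δ (g ^ n) (c ^ n) (RingEquiv.refl F) := by
  induction n with
  | zero => rw [pow_zero, pow_zero]; exact Tr.sc fun x _ => one_smul _ x
  | succ n ih => rw [pow_succ, pow_succ]; exact ih.mul hd hg h

theorem L2P.sc_uniq (h : L2P N Δ V a b F e) {g : G} {c c' : F} {σ σ' : F ≃+* F} (hc : c ≠ 0)
    (h1 : Sc e Δ g c σ) (h2 : Sc e Δ g c' σ') : c = c' ∧ σ = σ' := by
  have k := h.all (P := fun p => OnePoint.map (fun y : F => c * σ y) p =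
    OnePoint.map (fun y : F => c' * σ' y) p) fun x hx => (h1 x hx).symm.trans (h2 x hx)
  obtain rfl : c = c' := by simpa using k (1 : F)
  exact ⟨rfl, RingEquiv.ext fun y => mul_left_cancel₀ hc (OnePoint.coe_eq_coe.1 (k y))⟩

theorem L2P.sc_tr (h : L2P N Δ V a b F e) (hd : LD N Δ V) {g : G} (hN : g ∈ N) :
    Tr Δ g ↔ Sc e Δ g 1 (RingEquiv.refl F) :=
  ⟨Tr.sc, fun k => h.tr_of hd hN fun x hx => by rw [k x hx]; cases e x <;> simp⟩

/-- inner iff the determinant is a square -/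
theorem L2P.inn_iff (h : L2P N Δ V a b F e) (hd : LD N Δ V) {g : G} (hN : g ∈ N)
    {A : GL (Fin 2) F} {σ : F ≃+* F} (hg : Act e Δ g A σ) :
    Inn Δ V g ↔ σ = RingEquiv.refl F ∧ IsSquare (A : Matrix (Fin 2) (Fin 2) F).det := by
  constructor
  · intro k
    obtain ⟨B, hB⟩ := h.inn_act k
    obtain ⟨e1, c, e2⟩ := h.uniq hB hg
    exact ⟨e1.symm, c, by rw [e2, det_smul]; simp [sq]⟩
  · rintro ⟨rfl, d, hA⟩
    have d0 : d ≠ 0 := fun k => A.det_ne_zero (by rw [hA, k, mul_zero])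
    obtain ⟨l, hl, k⟩ := h.slL ⟨d⁻¹ • (A : Matrix (Fin 2) (Fin 2) F), by
      rw [det_smul, hA, Fintype.card_fin]; field_simp⟩
    refine ⟨l, hl, fun x hx => ?_⟩
    rw [mul_smul, inv_smul_eq_iff]
    refine h.bij.injOn (hd.inv g hN x hx) (hd.inv l (hd.Lt_le hl) x hx) ?_
    rw [Act.lin.1 hg x hx, Act.lin.1 k x hx]
    exact (smul_congr (c := d⁻¹) rfl _).symm

/-- a scalar is inner iff it is a square -/
theorem L2P.sc_inn (h : L2P N Δ V a b F e) (hd : LD N Δ V) {g : G} (hN : g ∈ N) {c : Fˣ}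
    (hg : Sc e Δ g c (RingEquiv.refl F)) : Inn Δ V g ↔ IsSquare (c : F) := by
  obtain ⟨A, hA, k⟩ := hg.act
  rw [h.inn_iff hd hN k, hA]
  simp

theorem L2P.pm (h : L2P N Δ V a b F e) (hd : LD N Δ V) {s : G} (hN : s ∈ N) {c : F}
    (hc : Sc e Δ s c (RingEquiv.refl F)) (k : c = 1 ∨ c = -1) :
    Tr Δ s ∨ Sc e Δ s (-1) (RingEquiv.refl F) := by
  rcases k with rfl | rfl
  exacts [.inl ((h.sc_tr hd hN).2 hc), .inr hc]

theorem L2P.sc_sq (h : L2P N Δ V a b F e) (hd : LD N Δ V) {s : G} (hN : s ∈ N) {c : F} {σ : F ≃+* F}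
    (hc : Sc e Δ s c σ) (h2 : Tr Δ (s * s)) : c * σ c = 1 ∧ ∀ y, σ (σ y) = y :=
  have k := h.sc_uniq _root_.one_ne_zero h2.sc (hc.mul hd hN hc)
  ⟨k.1.symm, fun y => (DFunLike.congr_fun k.2 y).symm⟩

/-- involutions fixing `a` and `b`: trivial, `-1`, or of field type -/
theorem L2P.tri (h : L2P N Δ V a b F e) (hd : LD N Δ V) (ha : a ∈ Δ) (hb : b ∈ Δ) {s : G}
    (hN : s ∈ N) (hs : s ∈ Hb G a b) (h2 : Tr Δ (s * s)) :
    Tr Δ s ∨ (Sc e Δ s (-1) (RingEquiv.refl F) ∧ {x | x ∈ Δ ∧ s • x = x} = {a, b}) ∨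
      ∃ r : ℕ, 3 ≤ r ∧ Fintype.card F = r ^ 2 ∧ {x | x ∈ Δ ∧ s • x = x}.ncard = r + 1 ∧
        ∃ (c : Fˣ) (σ : F ≃+* F), σ ≠ RingEquiv.refl F ∧ (∀ y, σ y = y ^ r) ∧ Sc e Δ s c σ := by
  obtain ⟨c, σ, hc⟩ := h.sc ha hb hN hs
  obtain ⟨k1, k2⟩ := h.sc_sq hd hN hc h2
  by_cases h1 : σ = RingEquiv.refl F
  · subst h1
    refine (h.pm hd hN hc (mul_self_eq_one_iff.1 k1)).imp_right fun k => .inl ⟨k, ?_⟩
    ext x
    refine ⟨fun ⟨hx, f⟩ => ?_, by
      rintro (rfl | rfl); exacts [⟨ha, (mem_Hb.1 hs).1⟩, ⟨hb, (mem_Hb.1 hs).2⟩]⟩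
    have := k x hx
    rw [f] at this
    cases hp : e x with
    | infty => exact .inl (h.bij.injOn hx ha (hp.trans h.ea.symm))
    | coe y =>
      rw [hp] at this
      have y0 : y = 0 := mul_left_cancel₀ (two_ne h.odd) (by
        have : y = -1 * y := OnePoint.coe_eq_coe.1 this
        linear_combination this)
      exact .inr (h.bij.injOn hx hb (by rw [hp, y0, h.eb]))
  obtain ⟨r, e1, e2, e3⟩ := inv_aut h1 k2
  obtain ⟨d, d0, hd'⟩ := h90 h1 k2 k1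
  refine .inr (.inr ⟨r, ?_, e1, by rw [h.fix_ncard hd hN hc, card_fix d0 hd', e3], c, σ, h1, e2, hc⟩)
  obtain ⟨m, rfl⟩ := (Nat.odd_pow_iff two_ne_zero).1 (e1 ▸ h.odd)
  have := Fintype.one_lt_card (α := F)
  rcases m with _ | m
  · simp [e1] at this
  · omega

theorem L2P.act_sq (h : L2P N Δ V a b F e) (hd : LD N Δ V) {s : G} (hN : s ∈ N) {A : GL (Fin 2) F}
    {σ : F ≃+* F} (hA : Act e Δ s A σ) (h2 : Tr Δ (s * s)) : (∀ y, σ (σ y) = y) ∧ ∃ c : F, c ≠ 0 ∧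
      (A : Matrix (Fin 2) (Fin 2) F) * (A : Matrix (Fin 2) (Fin 2) F).map σ = c • 1 := by
  obtain ⟨k, c, hc⟩ := h.uniq h2.act (hA.mul hd hN hA)
  refine ⟨fun y => (DFunLike.congr_fun k y).symm, c, fun c0 => ?_, hc⟩
  exact (A * A.map (σ : F →+* F)).det_ne_zero (by rw [hc, c0, zero_smul, det_zero])

/-- an involution with at most two fixed points is projective linear -/
theorem L2P.lin (h : L2P N Δ V a b F e) (hd : LD N Δ V) {y : G} (hN : y ∈ N) (h2 : Tr Δ (y * y))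
    (hf : {x | x ∈ Δ ∧ y • x = x}.ncard ≤ 2) :
    ∃ A : GL (Fin 2) F, Act e Δ y A (RingEquiv.refl F) := by
  obtain ⟨A, σ, hA⟩ := h.Ngl y hN
  refine ⟨A, by_contra fun k => ?_⟩
  have h1 : σ ≠ RingEquiv.refl F := fun e => k (e ▸ hA)
  obtain ⟨k2, c, c0, hc⟩ := h.act_sq hd hN hA h2
  have fx : σ c = c := by
    have e0 := congrFun (congrFun hc 0) 0
    have e1 := congrFun (congrFun hc 0) 1
    have e2 := congrFun (congrFun hc 1) 0
    have e3 := congrFun (congrFun hc 1) 1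
    simp only [mul_apply, Fin.sum_univ_two, Matrix.smul_apply, smul_eq_mul, map_apply, one_apply_eq,
      one_apply_ne (zero_ne_one' (Fin 2)), one_apply_ne (one_ne_zero' (Fin 2)), mul_one, mul_zero]
      at e0 e1 e2 e3
    have f0 := congrArg σ e0
    have d := A.det_ne_zero
    rw [det_fin_two] at d
    rw [map_add, map_mul, map_mul, k2, k2] at f0
    exact mul_left_cancel₀ d (by
      linear_combination (-(A 0 0 * A 1 1 - A 0 1 * A 1 0)) * f0 + A 0 0 * (A 1 1 * e0 - A 0 1 * e2) +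
        A 1 0 * (A 1 1 * e1 - A 0 1 * e3))
  obtain ⟨μ, rfl⟩ := norm_onto h1 k2 fx
  have := semi_three h1 k2 hc (left_ne_zero_of_mul c0)
  rw [← h.fix_ncard hd hN (f := fun p => A • OnePoint.map σ p) hA] at this
  omega

/-- for `q ≡ 3 (4)` all 2-elements are projective linear -/
theorem L2P.lin3 (h : L2P N Δ V a b F e) (hd : LD N Δ V) (hq : Fintype.card F % 4 = 3) {y : G}
    (hN : y ∈ N) {i : ℕ} (h2 : Tr Δ (y ^ 2 ^ i)) :
    ∃ A : GL (Fin 2) F, Act e Δ y A (RingEquiv.refl F) := by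
  obtain ⟨A, σ, hA⟩ := h.Ngl y hN
  obtain ⟨B, hB⟩ := hA.pow hd hN (2 ^ i)
  obtain rfl : σ = RingEquiv.refl F := aut3 hq (h.uniq hB h2.act).1
  exact ⟨A, hA⟩

theorem L2P.pm3 (h : L2P N Δ V a b F e) (hd : LD N Δ V) (ha : a ∈ Δ) (hb : b ∈ Δ)
    (hq : Fintype.card F % 4 = 3) {y : G} (hN : y ∈ N) (hy : y ∈ Hb G a b) {i : ℕ}
    (h2 : Tr Δ (y ^ 2 ^ i)) : Tr Δ y ∨ Sc e Δ y (-1) (RingEquiv.refl F) := by
  obtain ⟨c, σ, hc⟩ := h.sc ha hb hN hy
  obtain ⟨A, hA⟩ := h.lin3 hd hq hN h2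
  obtain ⟨B, -, hB⟩ := hc.act
  obtain rfl := (h.uniq hB hA).1
  exact h.pm hd hN hc (LL.pm hq (h.sc_uniq _root_.one_ne_zero h2.sc (hc.pow hd hN _)).1.symm)

theorem L2P.tr_zero (h : L2P N Δ V a b F e) (hd : LD N Δ V) {y : G} (hN : y ∈ N)
    (h2 : Tr Δ (y * y)) (h1 : ¬ Tr Δ y) {A : GL (Fin 2) F} (hA : Act e Δ y A (RingEquiv.refl F)) :
    A 0 0 + A 1 1 = 0 :=
  (tr_of_sq ((h.tr_iff_scal hd (mul_mem hN hN) (hA.mul_lin hd hN hA)).1 h2)).resolve_left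
    fun k => h1 ((h.tr_iff_scal hd hN hA).2 k)

/-- a projective linear involution is hyperbolic (two fixed points) or elliptic (none); it is
inner iff it is hyperbolic and `q ≡ 1 (4)` or elliptic and `q ≡ 3 (4)` -/
theorem L2P.hyp_ell (h : L2P N Δ V a b F e) (hd : LD N Δ V) {y : G} (hN : y ∈ N)
    (h2 : Tr Δ (y * y)) (h1 : ¬ Tr Δ y) {A : GL (Fin 2) F} (hA : Act e Δ y A (RingEquiv.refl F)) :
    ({x | x ∈ Δ ∧ y • x = x}.ncard = 2 ∧ (Inn Δ V y ↔ Fintype.card F % 4 = 1)) ∨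
      ((∀ x ∈ Δ, y • x ≠ x) ∧ (Inn Δ V y ↔ Fintype.card F % 4 = 3)) := by
  have t := h.tr_zero hd hN h2 h1 hA
  have o := Nat.odd_iff.1 h.odd
  rw [h.inn_iff hd hN hA, eq_self, true_and]
  by_cases s : IsSquare (-(A : Matrix (Fin 2) (Fin 2) F).det)
  · refine .inl ⟨le_antisymm (not_lt.1 fun k => h1 (h.three hd hN hA k)) ?_, ?_⟩
    · rw [h.fix_ncard hd hN (Act.lin.1 hA)]; exact hyp (two_ne h.odd) t s
    · rw [sq_neg A.det_ne_zero s, FiniteField.isSquare_neg_one_iff]; omega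
  · refine .inr ⟨fun x hx k => ell t s (e x) (by rw [← Act.lin.1 hA x hx, k]), fun k => by_contra
      fun k' => s (by simpa using (FiniteField.isSquare_neg_one_iff.2 k').mul k), fun k => ?_⟩
    simpa using sq_mul (fun k' => FiniteField.isSquare_neg_one_iff.1 k' k) s

/-- the product of two outer projective linear elements is inner -/
theorem L2P.out_mul (h : L2P N Δ V a b F e) (hd : LD N Δ V) {y y' : G} (hN : y ∈ N)
    (hN' : y' ∈ N) {A A' : GL (Fin 2) F} (hA : Act e Δ y A (RingEquiv.refl F))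
    (hA' : Act e Δ y' A' (RingEquiv.refl F)) (h1 : ¬ Inn Δ V y) (h2 : ¬ Inn Δ V y') :
    Inn Δ V (y * y') := by
  rw [h.inn_iff hd hN hA, eq_self, true_and] at h1
  rw [h.inn_iff hd hN' hA', eq_self, true_and] at h2
  rw [h.inn_iff hd (mul_mem hN hN') (hA.mul_lin hd hN' hA'), Units.val_mul, det_mul]
  exact ⟨rfl, sq_mul h1 h2⟩

theorem det_map_GL (A : GL (Fin 2) F) (σ : F ≃+* F) :
    ((A.map (σ : F →+* F) : GL (Fin 2) F) : Matrix (Fin 2) (Fin 2) F).det =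
      σ (A : Matrix (Fin 2) (Fin 2) F).det := ((σ : F →+* F).map_det _).symm

/-- a projective linear square is inner -/
theorem L2P.sq_inn (h : L2P N Δ V a b F e) (hd : LD N Δ V) {k : G} (hN : k ∈ N)
    {A : GL (Fin 2) F} (hA : Act e Δ (k * k) A (RingEquiv.refl F)) : Inn Δ V (k * k) := by
  obtain ⟨B, σ, hB⟩ := h.Ngl k hN
  have k1 := (h.uniq (hB.mul hd hN hB) hA).1
  rw [h.inn_iff hd (mul_mem hN hN) (hB.mul hd hN hB), Units.val_mul, det_mul, det_map_GL]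
  exact ⟨k1, norm_sq h.odd (fun y => DFunLike.congr_fun k1 y) _⟩

/-- LL1: an elliptic involution does not commute with an involution of field type -/
theorem L2P.ll1 (h : L2P N Δ V a b F e) (hd : LD N Δ V) {y s : G} (hy : y ∈ N) (hs : s ∈ N)
    (y2 : Tr Δ (y * y)) (s2 : Tr Δ (s * s)) (yf : ∀ x ∈ Δ, y • x ≠ x) (s1 : ¬ Tr Δ s)
    (s3 : 3 ≤ {x | x ∈ Δ ∧ s • x = x}.ncard) (hc : Tr Δ ⁅y, s⁆) : False := by
  have y0 : {x | x ∈ Δ ∧ y • x = x}.ncard = 0 := by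
    rw [show {x | x ∈ Δ ∧ y • x = x} = ∅ from
      Set.eq_empty_of_forall_notMem fun x hx => yf x hx.1 hx.2, Set.ncard_empty]
  obtain ⟨A, hA⟩ := h.lin hd hy y2 (by omega)
  obtain ⟨B, σ, hB⟩ := h.Ngl s hs
  have h1 : σ ≠ RingEquiv.refl F := fun k => s1 (h.three hd hs (k ▸ hB) s3)
  obtain ⟨k2, ν, ν0, hν⟩ := h.act_sq hd hs hB s2
  obtain ⟨x0, hx0, -⟩ := h.bij.surjOn (Set.mem_univ OnePoint.infty)
  have t := h.tr_zero hd hy y2 (fun k => yf x0 hx0 (k x0 hx0)) hA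
  obtain ⟨-, κ, hκ⟩ := h.uniq ((hB.mul hd hy hA).congr (hc.comm hd hy hs)) (hA.mul_lin hd hs hB)
  have d := congrArg det hκ
  rw [det_smul, Units.val_mul, Units.val_mul, det_mul, det_mul, det_map_GL, Fintype.card_fin] at d
  change (A : Matrix (Fin 2) (Fin 2) F) * B = κ • ((B : Matrix (Fin 2) (Fin 2) F) *
    (A : Matrix (Fin 2) (Fin 2) F).map σ) at hκ
  have k3 : κ * σ κ = 1 := by
    have e1 : (A : Matrix (Fin 2) (Fin 2) F).map σ * (B : Matrix (Fin 2) (Fin 2) F).map σ =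
        σ κ • ((B : Matrix (Fin 2) (Fin 2) F).map σ * A) := by
      ext i j
      have := congrArg σ (congrFun (congrFun hκ i) j)
      simpa [mul_apply, Fin.sum_univ_two, k2] using this
    have e2 : ν • (A : Matrix (Fin 2) (Fin 2) F) = (κ * σ κ * ν) • (A : Matrix (Fin 2) (Fin 2) F) := by
      calc _ = (A : Matrix (Fin 2) (Fin 2) F) * B * (B : Matrix (Fin 2) (Fin 2) F).map σ := by
            rw [Matrix.mul_assoc, hν, Matrix.mul_smul, Matrix.mul_one]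
        _ = _ := by
            rw [hκ, Matrix.smul_mul, Matrix.mul_assoc, e1, Matrix.mul_smul, ← Matrix.mul_assoc, hν,
              Matrix.smul_mul, Matrix.one_mul, smul_smul, smul_smul]
    have := smul_left_injective F (fun k => A.det_ne_zero (by rw [k, det_zero])) e2
    exact mul_right_cancel₀ ν0 (by rw [← this, one_mul])
  obtain ⟨u, u0, hu⟩ := h90 h1 k2 k3
  have s0 : σ u ≠ 0 := (map_ne_zero σ).2 u0
  obtain ⟨μ, hμ⟩ := norm_onto h1 k2 (c := -(A : Matrix (Fin 2) (Fin 2) F).det / u ^ 2) (by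
    rw [map_div₀, map_neg, map_pow, div_eq_div_iff (pow_ne_zero 2 s0) (pow_ne_zero 2 u0)]
    refine mul_left_cancel₀ B.det_ne_zero ?_
    linear_combination σ u ^ 2 * d + (B : Matrix (Fin 2) (Fin 2) F).det *
      σ (A : Matrix (Fin 2) (Fin 2) F).det * (κ * σ u + u) * hu)
  have := hyp (two_ne h.odd) t (by
    rw [(div_eq_iff (pow_ne_zero 2 u0)).1 hμ]; exact (norm_sq h.odd k2 μ).mul (IsSquare.sq u))
  rw [← h.fix_ncard hd hy (Act.lin.1 hA)] at this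
  omega

/-- LL2: of two commuting involutions fixing `a, b` and their product one acts as `± 1` -/
theorem L2P.ll2 (h : L2P N Δ V a b F e) (hd : LD N Δ V) (ha : a ∈ Δ) (hb : b ∈ Δ) {s t : G}
    (hs : s ∈ N) (ht : t ∈ N) (sH : s ∈ Hb G a b) (tH : t ∈ Hb G a b) (s2 : Tr Δ (s * s))
    (t2 : Tr Δ (t * t)) (hc : Tr Δ ⁅s, t⁆) :
    ∃ r, (r = s ∨ r = t ∨ r = s * t) ∧ (Tr Δ r ∨ Sc e Δ r (-1) (RingEquiv.refl F)) := by
  rcases h.tri hd ha hb hs sH s2 with k | k | ⟨r, -, e1, -, c, σ, -, e2, k⟩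
  · exact ⟨s, .inl rfl, .inl k⟩
  · exact ⟨s, .inl rfl, .inr k.1⟩
  rcases h.tri hd ha hb ht tH t2 with k' | k' | ⟨r', -, e1', -, c', σ', -, e2', k'⟩
  · exact ⟨t, .inr (.inl rfl), .inl k'⟩
  · exact ⟨t, .inr (.inl rfl), .inr k'.1⟩
  obtain rfl : r = r' := Nat.pow_left_injective two_ne_zero (e1.symm.trans e1')
  have m := k.mul hd ht k'
  rw [show σ'.trans σ = RingEquiv.refl F from RingEquiv.ext fun y => by
    rw [RingEquiv.trans_apply, e2', ← e2, (h.sc_sq hd hs k s2).2]; rfl] at m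
  refine ⟨s * t, .inr (.inr rfl), h.pm hd (mul_mem hs ht) m (mul_self_eq_one_iff.1
    (h.sc_sq hd (mul_mem hs ht) m fun x hx => ?_).1)⟩
  rw [show s * t * (s * t) = s * (t * s * t) by group, mul_smul, mul_smul,
    ← hc.comm hd hs ht _ (hd.inv t ht x hx), mul_smul, ← mul_smul t, t2 x hx, ← mul_smul, s2 x hx]

theorem Act.up {g : G} {c : F} : Act e Δ g (up c : SL(2, F)) (RingEquiv.refl F) ↔
    ∀ x ∈ Δ, e (g • x) = OnePoint.map (· + c) (e x) := by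
  simp only [Act.lin, up_smul]

/-- LL3: the diagonal group is irreducible on the root group -/
theorem L2P.ll3 (h : L2P N Δ V a b F e) (hd : LD N Δ V) (ha : a ∈ Δ) (hb : b ∈ Δ)
    {A : Subgroup G} (hA : A ≤ V a)
    (hn : ∀ d ∈ Lt Δ V, d ∈ Hb G a b → ∀ u ∈ A, d * u * d⁻¹ ∈ A) (h1 : ∃ u ∈ A, ¬ Tr Δ u) :
    ∀ x ∈ Δ, x ≠ a → ∃ u ∈ A, u • b = x := by
  have AN : A ≤ N := hA.trans (hd.le a ha)
  obtain ⟨u, hu, nu⟩ := h1
  obtain ⟨c, hc⟩ := h.Vt u (hA hu)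
  rw [Act.up] at hc
  have c0 : c ≠ 0 := fun k => nu (h.tr_of hd (AN hu) fun x hx => by
    rw [hc x hx, k]; cases e x <;> simp)
  have sq : ∀ t : F, ∃ v ∈ A, ∀ x ∈ Δ, e (v • x) = OnePoint.map (· + t * t * c) (e x) := fun t => by
    rcases eq_or_ne t 0 with rfl | t0
    · exact ⟨1, one_mem _, fun x _ => by rw [one_smul]; cases e x <;> simp⟩
    obtain ⟨d, hl, k⟩ := h.slL (dg (Units.mk0 t t0))
    simp only [Act.lin, dg_smul, Units.val_mk0] at k
    have dN := hd.Lt_le hl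
    refine ⟨_, hn d hl (mem_Hb.2 ⟨h.bij.injOn (hd.inv d dN a ha) ha (by rw [k a ha, h.ea]; rfl),
      h.bij.injOn (hd.inv d dN b hb) hb (by rw [k b hb, h.eb]; simp)⟩) u hu, fun x hx => ?_⟩
    have hx' := hd.inv _ (inv_mem dN) x hx
    have := k _ hx'
    rw [smul_inv_smul] at this
    rw [mul_smul, mul_smul, k _ (hd.inv u (AN hu) _ hx'), hc _ hx', this]
    cases e (d⁻¹ • x) <;> simp [mul_add]
  intro x hx xa
  cases hp : e x with
  | infty => exact absurd (h.bij.injOn hx ha (hp.trans h.ea.symm)) xa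
  | coe z =>
    obtain ⟨v, hv, k⟩ := sq ((z / c + 1) / 2)
    obtain ⟨w, hw, k'⟩ := sq ((z / c - 1) / 2)
    refine ⟨w⁻¹ * v, mul_mem (inv_mem hw) hv, ?_⟩
    rw [mul_smul, inv_smul_eq_iff]
    refine h.bij.injOn (hd.inv v (AN hv) b hb) (hd.inv w (AN hw) x hx) ?_
    rw [k b hb, k' x hx, hp, h.eb, OnePoint.map_some, OnePoint.map_some, OnePoint.coe_eq_coe]
    have := two_ne h.odd
    field_simp
    ring

/-- the root groups are elementary abelian modulo the kernel -/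
theorem L2P.V_comm (h : L2P N Δ V a b F e) (hd : LD N Δ V) (ha : a ∈ Δ) {u v : G} (hu : u ∈ V a)
    (hv : v ∈ V a) : Tr Δ ⁅u, v⁆ ∧ Tr Δ (u ^ ringChar F) := by
  obtain ⟨c, hc⟩ := h.Vt u hu
  obtain ⟨c', hc'⟩ := h.Vt v hv
  rw [Act.up] at hc hc'
  have uN := hd.le a ha hu
  have vN := hd.le a ha hv
  constructor
  · intro x hx
    have hx' := hd.inv _ (inv_mem (mul_mem vN uN)) x hx
    rw [show ⁅u, v⁆ = u * v * (v * u)⁻¹ by rw [commutatorElement_def]; group, mul_smul]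
    conv_rhs => rw [← smul_inv_smul (v * u) x]
    generalize (v * u)⁻¹ • x = y at hx'
    refine h.bij.injOn (hd.inv _ (mul_mem uN vN) y hx') (hd.inv _ (mul_mem vN uN) y hx') ?_
    rw [mul_smul, mul_smul, hc _ (hd.inv v vN y hx'), hc' _ (hd.inv u uN y hx'), hc y hx', hc' y hx']
    cases e y <;> simp [add_right_comm]
  · have : ∀ n : ℕ, ∀ x ∈ Δ, e (u ^ n • x) = OnePoint.map (· + n * c) (e x) := fun n => by
      induction n with
      | zero => intro x _; rw [pow_zero, one_smul]; cases e x <;> simp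
      | succ n ih =>
        intro x hx
        rw [pow_succ', mul_smul, hc _ (hd.inv _ (pow_mem uN n) x hx), ih x hx]
        cases e x <;> simp [add_mul, add_assoc]
    exact h.tr_of hd (pow_mem uN _) fun x hx => by rw [this _ x hx]; cases e x <;> simp

theorem L2P.swap_mat (h : L2P N Δ V a b F e) (ha : a ∈ Δ) (hb : b ∈ Δ) {y : G} {A : GL (Fin 2) F}
    (hA : Act e Δ y A (RingEquiv.refl F)) (h1 : y • a = b) (h2 : y • b = a) :
    A 0 0 = 0 ∧ A 1 1 = 0 := by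
  have k1 := Act.lin.1 hA a ha
  have k2 := Act.lin.1 hA b hb
  have n1 : (1 : F) ≠ 0 ∨ (0 : F) ≠ 0 := .inl _root_.one_ne_zero
  rw [h1, h.ea, h.eb, ← pt_inf, ← pt_one, smul_pt _ n1, pt_eq n1.symm (ne_smul _ n1)] at k1
  rw [h2, h.ea, h.eb, ← pt_inf, ← pt_one, smul_pt _ n1.symm, pt_eq n1 (ne_smul _ n1.symm)] at k2
  exact ⟨by linear_combination -k1, by linear_combination k2⟩

/-- an element swapping `a` and `b` that is projective linear acts as `x ↦ c / x` -/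
theorem L2P.swap (h : L2P N Δ V a b F e) (ha : a ∈ Δ) (hb : b ∈ Δ) {y : G} {A : GL (Fin 2) F}
    (hA : Act e Δ y A (RingEquiv.refl F)) (h1 : y • a = b) (h2 : y • b = a) :
    ∃ c : Fˣ, ∀ x ∈ Δ, ∀ z : F, z ≠ 0 → e x = z → e (y • x) = ((c / z : F) : OnePoint F) := by
  obtain ⟨k1, k2⟩ := h.swap_mat ha hb hA h1 h2
  have d := A.det_ne_zero
  rw [det_fin_two, k1, zero_mul, zero_sub, neg_ne_zero, mul_ne_zero_iff] at d
  refine ⟨Units.mk0 _ (div_ne_zero d.1 d.2), fun x hx z z0 k => ?_⟩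
  rw [Act.lin.1 hA x hx, k]
  simp [OnePoint.smul_some_eq_ite, k1, k2, d.2, z0, div_div]

/-- such an element inverts the scalars -/
theorem L2P.swap_sc (h : L2P N Δ V a b F e) (hd : LD N Δ V) (ha : a ∈ Δ) (hb : b ∈ Δ) {y g : G}
    (hy : y ∈ N) (hg : g ∈ N) {A : GL (Fin 2) F} (hA : Act e Δ y A (RingEquiv.refl F))
    (h1 : y • a = b) (h2 : y • b = a) {c : Fˣ} (hc : Sc e Δ g c (RingEquiv.refl F)) :
    Sc e Δ (y * g * y⁻¹) ((c⁻¹ : Fˣ) : F) (RingEquiv.refl F) := fun x hx => by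
  obtain ⟨k1, k2⟩ := h.swap_mat ha hb hA h1 h2
  have hx' := hd.inv _ (inv_mem hy) x hx
  have := Act.lin.1 hA _ hx'
  rw [smul_inv_smul] at this
  rw [mul_smul, mul_smul, Act.lin.1 hA _ (hd.inv g hg _ hx'), hc _ hx', this]
  exact swap_smul k1 k2 c _

/-- 2-subgroups of `PGL₂(q)` with a unique involution are cyclic -/
theorem L2P.cyc (h : L2P N Δ V a b F e) (hd : LD N Δ V) {T : Subgroup G} (hT : IsPGroup 2 T)
    (hN : T ≤ N) (hl : ∀ g ∈ T, ∃ A : GL (Fin 2) F, Act e Δ g A (RingEquiv.refl F))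
    (hf : ∀ g ∈ T, Tr Δ g → g = 1) (hu : ∀ s ∈ T, ∀ t ∈ T, Inv s → Inv t → s = t) :
    IsCyclic T := by
  refine (H41.UniqInv.cyclic_or_quaternion (fun u v u2 v2 u1 v1 => Subtype.ext (hu u u.2 v v.2
    ⟨congrArg Subtype.val u2, fun k => u1 (Subtype.ext k)⟩
    ⟨congrArg Subtype.val v2, fun k => v1 (Subtype.ext k)⟩)) hT).resolve_right fun ⟨n, ⟨f⟩⟩ => ?_
  obtain ⟨g, hg⟩ := f.surjective (QuaternionGroup.a 1)
  obtain ⟨j, hj⟩ := f.surjective (QuaternionGroup.xa 0)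
  obtain ⟨M, hM⟩ := hl g g.2
  obtain ⟨J, hJ⟩ := hl j j.2
  have e1 : g * j * g = j := f.injective (by simp [hg, hj])
  have k := (hM.mul_lin hd (hN j.2) hJ).mul_lin hd (hN g.2) hM
  rw [show (g : G) * j * g = j from congrArg Subtype.val e1] at k
  obtain ⟨-, c, hc⟩ := h.uniq hJ k
  have sq : ∀ (x : T) (X : GL (Fin 2) F), Act e Δ (x : G) X (RingEquiv.refl F) → Scal (X * X) →
      orderOf (f x) ∣ 2 := fun x X a s => orderOf_dvd_of_pow_eq_one (by
    rw [← map_pow, pow_two, show x * x = 1 from Subtype.ext (hf _ (x * x).2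
      ((h.tr_iff_scal hd (hN (x * x).2) (a.mul_lin hd (hN x.2) a)).2 s)), map_one])
  have : NeZero (2 ^ (n + 1)) := ⟨by positivity⟩
  rcases inv_tr hc with s | s
  · have := Nat.le_of_dvd two_pos (sq g M hM s)
    rw [hg, QuaternionGroup.orderOf_a_one, pow_succ] at this
    have := Nat.one_le_two_pow (n := n)
    omega
  · have := sq j J hJ s
    rw [hj, QuaternionGroup.orderOf_xa] at this
    omega

end H51.HK
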