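import Cfsg.Agent.Lib.HK.Defs
import Cfsg.Agent.Lib.GL.Basic

/-! Two by two matrices of trace zero over a finite field of odd order. -/

set_option autoImplicit false
set_option linter.unusedSectionVars false

namespace H51.HK.Lq

open Matrix Subgroup
open scoped MatrixGroups Classical

variable {F : Type} [Field F] {A A' B : Matrix (Fin 2) (Fin 2) F} {l : F}

theorem two_ne [Fintype F] (ho : Odd (Fintype.card F)) : (2 : F) ≠ 0 :=
  Ring.two_ne_zero fun h => by
    have := FiniteField.even_card_iff_char_two.1 h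
    rw [Nat.odd_iff] at ho; omega

theorem rep [Finite F] (h2 : (2 : F) ≠ 0) {u v : F} (hu : u ≠ 0) (hv : v ≠ 0) (w : F) :
    ∃ x y, u * x ^ 2 + v * y ^ 2 = w := by
  have := Fintype.ofFinite F
  obtain ⟨x, y, e⟩ := FiniteField.exists_root_sum_quadratic (f := Polynomial.C u * Polynomial.X ^ 2)
    (g := Polynomial.C v * Polynomial.X ^ 2 - Polynomial.C w) (by compute_degree!) (by compute_degree!)
    (FiniteField.odd_card_of_char_ne_two fun h => h2 (by
      have := ringChar.Nat.cast_ringChar (R := F)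
      rwa [h] at this))
  exact ⟨x, y, by simp at e; linear_combination e⟩

theorem ext2 (h0 : A 0 0 = A' 0 0) (h1 : A 0 1 = A' 0 1) (h2 : A 1 0 = A' 1 0) (h3 : A 1 1 = A' 1 1) : A = A' := by
  ext i j
  fin_cases i <;> fin_cases j <;> assumption

theorem ent (h : A = A') : A 0 0 = A' 0 0 ∧ A 0 1 = A' 0 1 ∧ A 1 0 = A' 1 0 ∧ A 1 1 = A' 1 1 :=
  h ▸ ⟨rfl, rfl, rfl, rfl⟩

/-- trace zero, square `l` -/
structure Tz (A : Matrix (Fin 2) (Fin 2) F) (l : F) : Prop where
  ne : l ≠ 0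
  tr : A 1 1 = -A 0 0
  eq : A 0 0 ^ 2 + A 0 1 * A 1 0 = l

theorem Tz.det (h : Tz A l) : A.det = -l := by rw [det_fin_two, h.tr, ← h.eq]; ring

theorem Tz.sq (h : Tz A l) : A * A = l • (1 : Matrix (Fin 2) (Fin 2) F) := by
  refine ext2 ?_ ?_ ?_ ?_ <;> simp [mul_apply, Fin.sum_univ_two, h.tr, ← h.eq] <;> ring

theorem Tz.smul (h : Tz A l) {c : F} (hc : c ≠ 0) : Tz (c • A) (c ^ 2 * l) :=
  ⟨mul_ne_zero (pow_ne_zero _ hc) h.ne, by simp [h.tr], by simp [← h.eq]; ring⟩

theorem sq_cases (hl : l ≠ 0) (h : A * A = l • (1 : Matrix (Fin 2) (Fin 2) F)) :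
    (∃ c : F, A = c • (1 : Matrix (Fin 2) (Fin 2) F)) ∨ Tz A l := by
  obtain ⟨h0, h1, h2, h3⟩ := ent h
  simp [mul_apply, Fin.sum_univ_two] at h0 h1 h2 h3
  by_cases t : A 0 0 + A 1 1 = 0
  · exact .inr ⟨hl, by linear_combination t, by linear_combination h0⟩
  · refine .inl ⟨A 0 0, ext2 (by simp) ?_ ?_ ?_⟩ <;> simp <;> refine mul_left_cancel₀ t ?_
    exacts [by linear_combination h1, by linear_combination h2, by linear_combination h3 - h0]

theorem tz_of (h2 : (2 : F) ≠ 0) (hl : l ≠ 0) (h : A * A = l • (1 : Matrix (Fin 2) (Fin 2) F))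
    (hd : A.det = -l) : Tz A l := (sq_cases hl h).resolve_left fun ⟨c, e⟩ => by
  have := (ent h).1
  rw [e] at this hd
  simp at this hd
  exact mul_ne_zero h2 hl (by linear_combination hd - this)

theorem sc_of (h2 : (2 : F) ≠ 0) (hl : l ≠ 0) (h : A * A = l • (1 : Matrix (Fin 2) (Fin 2) F))
    (hd : A.det = l) : ∃ c : F, A = c • (1 : Matrix (Fin 2) (Fin 2) F) :=
  (sq_cases hl h).resolve_right fun t => mul_ne_zero h2 hl (by linear_combination t.det - hd)

theorem tz4 (h2 : (2 : F) ≠ 0) {B : SL(2, F)} (h : B * B = -1) : Tz B.1 (-1) :=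
  tz_of h2 (by simp) (by simpa using congrArg Subtype.val h) (by simp)

theorem im (C : SL(2, F)) : (C⁻¹).1 * C.1 = 1 := congrArg Subtype.val (inv_mul_cancel C)
theorem mi (C : SL(2, F)) : C.1 * (C⁻¹).1 = 1 := congrArg Subtype.val (mul_inv_cancel C)

theorem Tz.nf [Finite F] (h : Tz A l) (h2 : (2 : F) ≠ 0) : ∃ C : SL(2, F), A * C.1 = C.1 * !![0, l; 1, 0] := by
  obtain ⟨x, y, e⟩ : ∃ x y, A 1 0 * x ^ 2 - 2 * A 0 0 * x * y - A 0 1 * y ^ 2 = 1 := by
    by_cases c : A 1 0 = 0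
    · have a : A 0 0 ≠ 0 := fun a => h.ne (by rw [← h.eq, a, c]; ring)
      exact ⟨-(1 + A 0 1) / (2 * A 0 0), 1, by rw [c]; field⟩
    · obtain ⟨x, y, e⟩ := rep h2 one_ne_zero (neg_ne_zero.2 h.ne) (A 1 0)
      refine ⟨(x + A 0 0 * y) / A 1 0, y, ?_⟩
      rw [← h.eq] at e
      field_simp
      linear_combination e
  refine ⟨⟨!![x, A 0 0 * x + A 0 1 * y; y, A 1 0 * x - A 0 0 * y], by rw [det_fin_two_of]; linear_combination e⟩,
    ext2 ?_ ?_ ?_ ?_⟩ <;> simp [mul_apply, Fin.sum_univ_two, h.tr, ← h.eq] <;> ring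

theorem Tz.cj [Finite F] (h : Tz A l) (h' : Tz A' l) (h2 : (2 : F) ≠ 0) : ∃ C : SL(2, F), C.1 * A = A' * C.1 := by
  obtain ⟨C, e⟩ := h.nf h2
  obtain ⟨D, e'⟩ := h'.nf h2
  refine ⟨D * C⁻¹, ?_⟩
  calc (D.1 * (C⁻¹).1) * A = D.1 * (C⁻¹).1 * (A * C.1) * (C⁻¹).1 := by
        rw [Matrix.mul_assoc _ (A * _), Matrix.mul_assoc A, mi, Matrix.mul_one]
    _ = A' * (D.1 * (C⁻¹).1) := by
        rw [e, Matrix.mul_assoc D.1, ← Matrix.mul_assoc (C⁻¹).1, im, Matrix.one_mul, ← e', Matrix.mul_assoc]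

theorem Tz.anti [Finite F] (h : Tz A l) (h2 : (2 : F) ≠ 0) :
    ∃ B : SL(2, F), B * B = -1 ∧ A * B.1 = -(B.1 * A) := by
  obtain ⟨C, e⟩ := h.nf h2
  obtain ⟨x, w, e'⟩ := rep h2 (neg_ne_zero.2 one_ne_zero) h.ne 1
  let B : SL(2, F) := ⟨!![x, -(l * w); w, -x], by rw [det_fin_two_of]; linear_combination e'⟩
  have b1 : B * B = -1 := Subtype.ext (show B.1 * B.1 = -1 from ext2 (by simp [B]; linear_combination -e')
    (by simp [B]; ring) (by simp [B]; ring) (by simp [B]; linear_combination -e'))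
  have b2 : !![0, l; 1, 0] * B.1 = -(B.1 * !![0, l; 1, 0]) := by
    refine ext2 ?_ ?_ ?_ ?_ <;> simp [B] <;> ring
  refine ⟨C * B * C⁻¹, by rw [conj_mul, b1]; simp, ?_⟩
  have e2 : (C⁻¹).1 * A = !![0, l; 1, 0] * (C⁻¹).1 := by
    calc _ = (C⁻¹).1 * (A * C.1) * (C⁻¹).1 := by
          rw [Matrix.mul_assoc _ (A * _), Matrix.mul_assoc A, mi, Matrix.mul_one]
      _ = _ := by rw [e, ← Matrix.mul_assoc, im, Matrix.one_mul]
  show A * (C.1 * B.1 * (C⁻¹).1) = -(C.1 * B.1 * (C⁻¹).1 * A)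
  rw [← Matrix.mul_assoc, ← Matrix.mul_assoc, e, Matrix.mul_assoc C.1, b2, Matrix.mul_assoc _ _ A, e2]
  simp only [Matrix.mul_neg, Matrix.neg_mul, Matrix.mul_assoc]

/-- the algebra generated by `B` -/
def co (B : Matrix (Fin 2) (Fin 2) F) (x y : F) : Matrix (Fin 2) (Fin 2) F := x • 1 + y • B

theorem eqns_co : True := (fun _ => trivial) @co.eq_1

theorem Tz.cent (h : Tz B l) (h2 : (2 : F) ≠ 0) (e : A * B = B * A) : ∃ x y, A = co B x y := by
  obtain ⟨h0, h1, h3, -⟩ := ent e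
  simp only [mul_apply, Fin.sum_univ_two, h.tr] at h0 h1 h3
  have := h.ne
  refine ⟨(A 0 0 + A 1 1) / 2, (B 0 0 * (A 0 0 - A 1 1) + A 0 1 * B 1 0 + A 1 0 * B 0 1) / (2 * l),
    ext2 ?_ ?_ ?_ ?_⟩ <;> simp [co, h.tr] <;> field_simp <;> rw [← h.eq]
  · linear_combination B 0 0 * h0 + B 1 0 * h1
  · linear_combination B 0 1 * h0 - B 0 0 * h1
  · linear_combination -B 1 0 * h0 + B 0 0 * h3
  · linear_combination -B 0 0 * h0 - B 1 0 * h1

theorem Tz.co_mul (h : Tz B l) (x y x' y' : F) :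
    co B x y * co B x' y' = co B (x * x' + l * (y * y')) (x * y' + y * x') := by
  simp only [co, Matrix.add_mul, Matrix.mul_add, Matrix.smul_mul, Matrix.mul_smul, Matrix.one_mul, Matrix.mul_one,
    h.sq]
  module

theorem Tz.co_det (h : Tz B l) (x y : F) : (co B x y).det = x ^ 2 - l * y ^ 2 := by
  simp [co, det_fin_two, h.tr, ← h.eq]; ring

theorem Tz.co_inj (h : Tz B l) (h2 : (2 : F) ≠ 0) {x y x' y' : F} (e : co B x y = co B x' y') :
    x = x' ∧ y = y' := by
  obtain ⟨h0, h1, h3, h4⟩ := ent e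
  simp only [co, Matrix.add_apply, Matrix.smul_apply, one_apply_eq, smul_eq_mul, mul_one, h.tr, one_apply_ne zero_ne_one,
    one_apply_ne one_ne_zero] at h0 h1 h3 h4
  obtain rfl : x = x' := mul_left_cancel₀ h2 (by linear_combination h0 + h4)
  refine ⟨rfl, mul_left_cancel₀ h.ne ?_⟩
  rw [← h.eq]
  linear_combination B 0 0 * h0 + B 1 0 * h1

theorem co_comm (x y : F) : co B x y * B = B * co B x y := by simp [co, Matrix.add_mul, Matrix.mul_add]

theorem Tz.comm (h : Tz B l) (h2 : (2 : F) ≠ 0) (e : A * B = B * A) (e' : A' * B = B * A') : A * A' = A' * A := by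
  obtain ⟨x, y, rfl⟩ := h.cent h2 e
  obtain ⟨x', y', rfl⟩ := h.cent h2 e'
  rw [h.co_mul, h.co_mul, mul_comm x, mul_comm y, add_comm (x * _), mul_comm x, mul_comm y]

theorem card_circle [Fintype F] (ho : Odd (Fintype.card F)) : Nat.card {p : F × F // p.1 ^ 2 + p.2 ^ 2 = 1} =
    if Fintype.card F % 4 = 1 then Fintype.card F - 1 else Fintype.card F + 1 := by
  have h2 := two_ne ho
  rw [Nat.odd_iff] at ho
  split_ifs with q
  · obtain ⟨i, hi⟩ := FiniteField.isSquare_neg_one_iff.2 (show Fintype.card F % 4 ≠ 3 by omega)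
    have i0 : i ≠ 0 := fun e => by simp [e] at hi
    rw [← Fintype.card_units, ← Nat.card_eq_fintype_card]
    refine Nat.card_eq_of_bijective (fun p => ⟨p.1.1 + p.1.2 * i, p.1.1 - p.1.2 * i,
      by linear_combination p.2 + p.1.2 ^ 2 * hi, by linear_combination p.2 + p.1.2 ^ 2 * hi⟩)
      ⟨fun p p' e => ?_, fun z => ⟨⟨((z.1 + z.2) / 2, (z.1 - z.2) / (2 * i)), ?_⟩, Units.ext ?_⟩⟩
    · have e1 := congrArg Units.val e
      have e2 := congrArg Units.inv e
      simp only at e1 e2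
      exact Subtype.ext (Prod.ext (mul_left_cancel₀ h2 (by linear_combination e1 + e2))
        (mul_left_cancel₀ (mul_ne_zero h2 i0) (by linear_combination e1 - e2)))
    · field_simp
      linear_combination 4 * i ^ 2 * z.3 + (z.1 - z.2) ^ 2 * -hi
    · show (z.1 + z.2) / 2 + (z.1 - z.2) / (2 * i) * i = z.1
      field
  · have hk : ∀ x : F, 1 + x ^ 2 ≠ 0 := fun x e => FiniteField.isSquare_neg_one_iff.1
      (show IsSquare (-1 : F) from ⟨x, by linear_combination -e⟩) (by omega)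
    rw [← Nat.card_eq_fintype_card (α := F), Nat.card_congr (circleEquivGen hk), Nat.card_eq_fintype_card,
      Nat.card_eq_fintype_card, Fintype.card_subtype, Fintype.card_subtype,
      ← Finset.card_insert_of_notMem (a := ((0 : F), (-1 : F))) (by simp)]
    congr 1
    ext ⟨x, y⟩
    simp only [Finset.mem_filter, Finset.mem_univ, true_and, Finset.mem_insert, Prod.mk.injEq]
    refine ⟨fun e => (em (y = -1)).imp (fun t => ⟨?_, t⟩) fun t => ⟨e, t⟩, ?_⟩
    · rw [t] at e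
      exact pow_eq_zero_iff two_ne_zero |>.1 (by linear_combination e)
    · rintro (⟨rfl, rfl⟩ | t)
      exacts [by simp, t.1]

theorem cent4 [Fintype F] (ho : Odd (Fintype.card F)) {B : SL(2, F)} (hB : B * B = -1) :
    IsCyclic (centralizer ({B} : Set SL(2, F))) ∧ Nat.card (centralizer ({B} : Set SL(2, F))) =
      (if Fintype.card F % 4 = 1 then Fintype.card F - 1 else Fintype.card F + 1) := by
  have h2 := two_ne ho
  have t := tz4 h2 hB
  choose x y e using fun S : centralizer ({B} : Set SL(2, F)) =>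
    t.cent (A := S.1.1) h2 (congrArg Subtype.val (show S.1 * B = B * S.1 from mem_centralizer_singleton_iff.1 S.2))
  have d : ∀ S, x S ^ 2 + y S ^ 2 = 1 := fun S => by
    have := t.co_det (x S) (y S)
    rw [← e] at this
    linear_combination S.1.2 - this
  have o := t.co_inj h2 ((e 1).symm.trans (show _ = co B.1 1 0 by simp [co]))
  have m := fun S S' => t.co_inj h2 ((e (S * S')).symm.trans
    ((congrArg₂ (· * ·) (e S) (e S')).trans (t.co_mul ..)))
  constructor
  · obtain ⟨i, hi⟩ := IsAlgClosed.exists_eq_mul_self (-1 : AlgebraicClosure F)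
    let ι := algebraMap F (AlgebraicClosure F)
    refine isCyclic_of_injective_ringHom (R := AlgebraicClosure F)
      ⟨⟨fun S => ι (x S) + ι (y S) * i, by simp [o.1, o.2]⟩, fun S S' => ?_⟩
      ((injective_iff_map_eq_one _).2 fun S (h : ι (x S) + ι (y S) * i = 1) => ?_)
    · simp only [(m S S').1, (m S S').2, map_add, map_mul, map_neg, map_one]
      linear_combination ι (y S) * ι (y S') * hi
    · have := congrArg ι (d S)
      simp only [map_add, map_pow, map_one] at this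
      have x1 : x S = 1 := mul_left_cancel₀ h2 (ι.injective (by
        simp only [map_mul, map_ofNat, map_one]
        linear_combination (1 - ι (x S) + ι (y S) * i) * h + this + ι (y S) ^ 2 * hi))
      have y0 : y S = 0 := pow_eq_zero_iff two_ne_zero |>.1 (by linear_combination d S - (x S + 1) * x1)
      exact Subtype.ext (Subtype.ext (by rw [e, x1, y0]; simp [co]))
  · rw [← card_circle ho]
    refine Nat.card_eq_of_bijective (fun S => ⟨(x S, y S), d S⟩) ⟨fun S S' h => ?_, fun p => ?_⟩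
    · obtain ⟨h1, h3⟩ := Prod.mk.inj (Subtype.mk.inj h)
      exact Subtype.ext (Subtype.ext (by rw [e, e, h1, h3]))
    · let S : centralizer ({B} : Set SL(2, F)) := ⟨⟨co B.1 p.1.1 p.1.2, by rw [t.co_det]; linear_combination p.2⟩,
        mem_centralizer_singleton_iff.2 (Subtype.ext (co_comm ..))⟩
      have := t.co_inj h2 (e S).symm
      exact ⟨S, Subtype.ext (Prod.ext this.1 this.2)⟩

/-- `-1` is a norm -/
theorem norm_neg [Finite F] (h2 : (2 : F) ≠ 0) {σ : F ≃+* F} (h1 : σ ≠ RingEquiv.refl F) (hs : ∀ x, σ (σ x) = x) :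
    ∃ u m : F, u * σ u = -1 ∧ m ≠ 0 ∧ σ m = -m := by
  obtain ⟨z, hz⟩ : ∃ z, σ z ≠ z := by
    by_contra! c
    exact h1 (RingEquiv.ext c)
  have m0 : z - σ z ≠ 0 := sub_ne_zero.2 hz.symm
  have m1 : σ (z - σ z) = -(z - σ z) := by rw [map_sub, hs, neg_sub]
  generalize z - σ z = m at m0 m1
  let K := RingHom.eqLocusField (σ : F →+* F) (RingHom.id F)
  obtain ⟨x, y, e⟩ := rep (F := K) (fun e => h2 (congrArg Subtype.val e)) one_ne_zero
    (v := ⟨-(m * m), show σ _ = _ by simp [m1]⟩)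
    (fun e => neg_ne_zero.2 (mul_ne_zero m0 m0) (congrArg Subtype.val e)) (-1)
  have hx : σ x = x := x.2
  have hy : σ y = y := y.2
  replace e := congrArg Subtype.val e
  refine ⟨x + y * m, m, ?_, m0, m1⟩
  push_cast at e
  rw [map_add, map_mul, hx, hy, m1]
  linear_combination e

end H51.HK.Lq
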