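import Cfsg.Agent.Lib.HK.LL
import Cfsg.Agent.Lib.HK.LQa

/-! The covering map `SL₂(q) → ⟨V c⟩`. -/

set_option autoImplicit false
set_option linter.unusedSectionVars false
set_option linter.unusedVariables false

namespace H51.HK

open MulAction Subgroup Matrix H69
open scoped MatrixGroups Classical commutatorElement

variable {G Ω : Type*} [Group G] [MulAction G Ω] [Finite G] [Finite Ω]

variable {N : Subgroup G} {Δ : Set Ω} {V : Ω → Subgroup G} {a b : Ω} {F : Type} [Field F]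
  [Fintype F] {e : Ω → OnePoint F} {π : SL(2, F) →* G}

namespace Lq

theorem map_refl (p : OnePoint F) : OnePoint.map (RingEquiv.refl F) p = p := by cases p <;> rfl

theorem act_lin {g : G} {A : GL (Fin 2) F} :
    Act e Δ g A (RingEquiv.refl F) ↔ ∀ x ∈ Δ, e (g • x) = A • e x := by simp only [Act, map_refl]

theorem sc_ne {A A' : GL (Fin 2) F} {c : F} (h : A'.1 = c • A.1) : c ≠ 0 := fun c0 =>
  A'.det_ne_zero (by rw [h, c0, zero_smul]; exact det_zero)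

theorem smul_sc {A A' : GL (Fin 2) F} {c : F} (h : A'.1 = c • A.1) (p : OnePoint F) : A' • p = A • p := by
  have c0 := sc_ne h
  have k : ∀ i j, A' i j = c * A i j := fun i j => congrFun (congrFun h i) j
  cases p with
  | infty => simp only [OnePoint.smul_infty_eq_ite, k, mul_eq_zero, c0, false_or, mul_div_mul_left _ _ c0]
  | coe x => simp only [OnePoint.smul_some_eq_ite, k, mul_assoc, ← mul_add, mul_eq_zero, c0, false_or,
      mul_div_mul_left _ _ c0]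

theorem act_sc {g : G} {A A' : GL (Fin 2) F} {σ : F ≃+* F} {c : F} (h : Act e Δ g A σ) (k : A'.1 = c • A.1) :
    Act e Δ g A' σ := fun x hx => (h x hx).trans (smul_sc k _).symm

theorem mul_lin (hd : LD N Δ V) {g g' : G} (hg' : g' ∈ N) {A A' : GL (Fin 2) F} {σ : F ≃+* F}
    (h : Act e Δ g A (RingEquiv.refl F)) (h' : Act e Δ g' A' σ) : Act e Δ (g * g') (A * A') σ := fun x hx => by
  rw [mul_smul, act_lin.1 h _ (hd.inv _ hg' x hx), h' x hx, mul_smul]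

theorem tr_sc1 (h : L2P N Δ V a b F e) {g : G} {A : GL (Fin 2) F} (hA : Act e Δ g A (RingEquiv.refl F))
    (t : Tr Δ g) : ∃ c : F, A.1 = c • (1 : Matrix (Fin 2) (Fin 2) F) :=
  (h.uniq (A := 1) (σ := RingEquiv.refl F)
    (fun x hx => by rw [t x hx, one_smul]; exact (congrFun OnePoint.map_id (e x)).symm) hA).2

theorem tr_sc (h : L2P N Δ V a b F e) (hd : LD N Δ V) {g : G} (hN : g ∈ N) {A : GL (Fin 2) F}
    (hA : Act e Δ g A (RingEquiv.refl F)) :
    Tr Δ g ↔ ∃ c : F, A.1 = c • (1 : Matrix (Fin 2) (Fin 2) F) :=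
  ⟨tr_sc1 h hA, fun ⟨c, k⟩ x hx => h.bij.injOn (hd.inv g hN x hx) hx <| by
    rw [hA x hx, smul_sc (A := 1) k, one_smul]; exact congrFun OnePoint.map_id (e x)⟩

theorem tz (h : L2P N Δ V a b F e) (hd : LD N Δ V) {y : G} (hN : y ∈ N) (y2 : Tr Δ (y * y)) (y1 : ¬ Tr Δ y)
    {A : GL (Fin 2) F} (hA : Act e Δ y A (RingEquiv.refl F)) : ∃ l, Tz A.1 l :=
  let ⟨l, k⟩ := tr_sc1 h (mul_lin hd hN hA hA) y2
  ⟨l, (sq_cases (sc_ne (A := 1) k) k).resolve_left (mt (tr_sc h hd hN hA).2 y1)⟩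

theorem exists_conj (A : GL (Fin 2) F) (B : SL(2, F)) : ∃ B' : SL(2, F), B'.1 * A.1 = A.1 * B.1 :=
  ⟨⟨A.1 * B.1 * (A⁻¹).1, by rw [det_mul, det_mul, B.2, mul_one, ← det_mul, A.mul_inv, det_one]⟩,
    by rw [Matrix.mul_assoc, A.inv_mul, Matrix.mul_one]⟩

theorem conj_lin (h : L2Q N Δ V a b F e π) {g : G} (hN : g ∈ N) {A : GL (Fin 2) F}
    (hA : Act e Δ g A (RingEquiv.refl F)) {B B' : SL(2, F)} (k : B'.1 * A.1 = A.1 * B.1) :
    g * π B * g⁻¹ = π B' := h.conj g hN A _ hA B B' k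

theorem up_mul (c d : F) : up c * up d = up (c + d) :=
  Subtype.ext (show (up c).1 * (up d).1 = _ from ext2 (by simp [up]) (by simp [up, add_comm]) (by simp [up]) (by simp [up]))

theorem up_zero : up (0 : F) = 1 := Subtype.ext (ext2 rfl rfl rfl rfl)

theorem up_pow (c : F) (n : ℕ) : up c ^ n = up (n * c) := by
  induction n with
  | zero => simp [up_zero]
  | succ n ih => rw [pow_succ, ih, up_mul]; congr 1; push_cast; ring

theorem sl_infty (B : SL(2, F)) : (B : GL (Fin 2) F) • (OnePoint.infty : OnePoint F) =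
    if B.1 1 0 = 0 then OnePoint.infty else ((B.1 0 0 / B.1 1 0 : F) : OnePoint F) := OnePoint.smul_infty_eq_ite _

theorem sl_some (B : SL(2, F)) (k : F) : (B : GL (Fin 2) F) • (k : OnePoint F) =
    if B.1 1 0 * k + B.1 1 1 = 0 then OnePoint.infty
    else (((B.1 0 0 * k + B.1 0 1) / (B.1 1 0 * k + B.1 1 1) : F) : OnePoint F) := OnePoint.smul_some_eq_ite

theorem neg_eq_inv {B : SL(2, F)} (h : B * B = -1) : B⁻¹ = -B :=
  inv_eq_of_mul_eq_one_right (by rw [mul_neg, h, neg_neg])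

end Lq
open Lq

theorem L2Q.mem (h : L2Q N Δ V a b F e π) (B : SL(2, F)) : π B ∈ Lt Δ V := h.range ▸ ⟨B, rfl⟩

theorem L2Q.tr_imp (h : L2Q N Δ V a b F e π) {B : SL(2, F)} (ht : Tr Δ (π B)) : B = 1 ∨ B = -1 := by
  obtain ⟨c, (k : B.1 = _)⟩ := tr_sc1 h.toL2P (h.act B) ht
  have := B.2
  rw [k, det_smul, det_one, mul_one, Fintype.card_fin, sq_eq_one_iff] at this
  exact this.imp (fun t => Subtype.ext (by rw [k, t, one_smul]; rfl)) fun t =>
    Subtype.ext (by rw [k, t, neg_smul, one_smul]; rfl)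

theorem L2Q.tr_iff (h : L2Q N Δ V a b F e π) (hd : LD N Δ V) {B : SL(2, F)} :
    Tr Δ (π B) ↔ B = 1 ∨ B = -1 := by
  refine ⟨h.tr_imp, ?_⟩
  rw [tr_sc h.toL2P hd (hd.Lt_le (h.mem B)) (h.act B)]
  rintro (rfl | rfl)
  exacts [⟨1, (one_smul ..).symm⟩, ⟨-1, (neg_one_smul ..).symm⟩]

theorem L2Q.ker (h : L2Q N Δ V a b F e π) {g : G} (hg : g ∈ Lt Δ V) (ht : Tr Δ g) :
    g = 1 ∨ g = π (-1) := by
  obtain ⟨B, rfl⟩ := h.range.ge hg
  exact (h.tr_imp ht).imp (fun t => by rw [t, map_one]) (congrArg π)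

theorem Lq.one (h : L2Q N Δ V a b F e π) {B : SL(2, F)} (k : π B = 1) : B = 1 ∨ B = -1 :=
  h.tr_imp fun x _ => by rw [k, one_smul]

theorem L2Q.inj (h : L2Q N Δ V a b F e π) (h1 : π (-1) ≠ 1) : Function.Injective π :=
  (injective_iff_map_eq_one _).2 fun _ k => (Lq.one h k).resolve_right fun t => h1 (t ▸ k)

theorem L2Q.eq_iff (h : L2Q N Δ V a b F e π) (h1 : π (-1) = 1) {B B' : SL(2, F)} :
    π B = π B' ↔ B = B' ∨ B = -B' := by
  refine ⟨fun k => (Lq.one h (B := B * B'⁻¹) (by rw [map_mul, map_inv, k, mul_inv_cancel])).imp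
    mul_inv_eq_one.1 fun t => by rw [mul_inv_eq_iff_eq_mul.1 t, neg_one_mul], ?_⟩
  rintro (rfl | rfl)
  exacts [rfl, by rw [← neg_one_mul, map_mul, h1, one_mul]]

theorem L2Q.card_V (h : L2Q N Δ V a b F e π) : Nat.card (V a) = Fintype.card F := by
  rw [← Nat.card_eq_fintype_card]
  refine (Nat.card_eq_of_bijective (fun c => (⟨_, h.upV c⟩ : V a)) ⟨fun c d k => ?_, fun u => ?_⟩).symm
  · have : π (up (c - d)) = 1 := by
      rw [sub_eq_add_neg, ← up_mul, map_mul, Subtype.mk.inj k, ← map_mul, up_mul, add_neg_cancel, up_zero, map_one]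
    rcases Lq.one h this with t | t <;>
      simpa [up, sub_eq_zero] using congrArg (fun B : SL(2, F) => B.1 0 1) t
  · obtain ⟨c, k⟩ := h.Vup u.1 u.2
    exact ⟨c, Subtype.ext k.symm⟩

theorem L2Q.V_ab (h : L2Q N Δ V a b F e π) {u v : G} (hu : u ∈ V a) (hv : v ∈ V a) :
    u * v = v * u ∧ u ^ ringChar F = 1 := by
  obtain ⟨c, rfl⟩ := h.Vup u hu
  obtain ⟨d, rfl⟩ := h.Vup v hv
  exact ⟨by rw [← map_mul, ← map_mul, up_mul, up_mul, add_comm],
    by rw [← map_pow, up_pow, ringChar.Nat.cast_ringChar, zero_mul, up_zero, map_one]⟩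

theorem Lq.smul_iff (h : L2Q N Δ V a b F e π) (hd : LD N Δ V) {x y : Ω} (hx : x ∈ Δ) (hy : y ∈ Δ) (B : SL(2, F)) :
    π B • x = y ↔ (B : GL (Fin 2) F) • e x = e y := by
  rw [← act_lin.1 (h.act B) x hx]
  exact ⟨congrArg e, h.bij.injOn (hd.inv _ (hd.Lt_le (h.mem B)) x hx) hy⟩

/-- the diagonal group `D` -/
theorem L2Q.mem_D (h : L2Q N Δ V a b F e π) (hd : LD N Δ V) (ha : a ∈ Δ) (hb : b ∈ Δ) {g : G} :
    g ∈ Lt Δ V ∧ g ∈ Hb G a b ↔ ∃ c : Fˣ, g = π (dg c) := by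
  rw [mem_Hb]
  refine ⟨fun ⟨hg, h1, h2⟩ => ?_, ?_⟩
  · obtain ⟨B, rfl⟩ := h.range.ge hg
    rw [Lq.smul_iff h hd ha ha, h.ea, OnePoint.smul_infty_eq_self_iff] at h1
    rw [Lq.smul_iff h hd hb hb, h.eb, sl_some] at h2
    have d := B.2
    replace h1 : B.1 1 0 = 0 := h1
    rw [det_fin_two, h1, mul_zero, sub_zero] at d
    have h3 : B.1 1 1 ≠ 0 := right_ne_zero_of_mul_eq_one d
    refine ⟨⟨_, _, d, (mul_comm ..).trans d⟩, congrArg π (Subtype.ext (ext2 rfl ?_ h1 rfl))⟩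
    simpa [h3, dg] using h2
  · rintro ⟨c, rfl⟩
    refine ⟨h.mem _, ?_, ?_⟩
    · rw [Lq.smul_iff h hd ha ha, h.ea, OnePoint.smul_infty_eq_self_iff]; rfl
    · rw [Lq.smul_iff h hd hb hb, h.eb, sl_some]; simp [dg]

theorem L2Q.mem_swap (h : L2Q N Δ V a b F e π) (hd : LD N Δ V) (ha : a ∈ Δ) (hb : b ∈ Δ) {g : G} :
    g ∈ Lt Δ V ∧ g • a = b ∧ g • b = a ↔ ∃ c : Fˣ, g = π (ad c) := by
  refine ⟨fun ⟨hg, h1, h2⟩ => ?_, ?_⟩
  · obtain ⟨B, rfl⟩ := h.range.ge hg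
    rw [Lq.smul_iff h hd ha hb, h.ea, h.eb, sl_infty] at h1
    rw [Lq.smul_iff h hd hb ha, h.ea, h.eb, sl_some] at h2
    have d := B.2
    replace h2 : B.1 1 1 = 0 := by simpa using h2
    rw [det_fin_two, h2, mul_zero, zero_sub, ← mul_neg] at d
    have h3 : B.1 1 0 ≠ 0 := neg_ne_zero.1 (right_ne_zero_of_mul_eq_one d)
    refine ⟨⟨_, _, d, (mul_comm ..).trans d⟩, congrArg π (Subtype.ext (ext2 ?_ rfl (neg_neg _).symm h2))⟩
    simpa [h3, ad] using h1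
  · rintro ⟨c, rfl⟩
    refine ⟨h.mem _, ?_, ?_⟩
    · rw [Lq.smul_iff h hd ha hb, h.ea, h.eb, sl_infty]; simp [ad]
    · rw [Lq.smul_iff h hd hb ha, h.ea, h.eb, sl_some]; simp [ad]

theorem L2Q.sc_dg (h : L2Q N Δ V a b F e π) (c : Fˣ) :
    Sc e Δ (π (dg c)) ((c : F) ^ 2) (RingEquiv.refl F) := fun x hx => by
  rw [act_lin.1 (h.act _) x hx]
  cases e x with
  | infty => exact OnePoint.smul_infty_eq_self_iff.2 rfl
  | coe y => rw [sl_some]; simp [dg, sq, mul_comm, mul_left_comm]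

theorem dg_mul (c d : Fˣ) : dg (c * d) = dg c * dg d :=
  Subtype.ext (show _ = (dg c).1 * (dg d).1 from ext2 (by simp [dg]) (by simp [dg]) (by simp [dg])
    (by simp [dg, mul_comm]))
theorem dg_neg_one : dg (-1 : Fˣ) = -1 :=
  Subtype.ext (show _ = -1 from ext2 (by simp [dg]) (by simp [dg]) (by simp [dg]) (by simp [dg]))
theorem dg_inj {c d : Fˣ} (h : dg c = dg d) : c = d := Units.ext (congrArg (fun B : SL(2, F) => B.1 0 0) h)
theorem ad_mul_ad (c d : Fˣ) : ad c * ad d = dg (-(c * d⁻¹)) :=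
  Subtype.ext (show (ad c).1 * (ad d).1 = _ from ext2 (by simp [dg, ad]) (by simp [dg, ad]) (by simp [dg, ad])
    (by simp [dg, ad, mul_comm]))
theorem ad_conj_dg (c d : Fˣ) : ad c * dg d * (ad c)⁻¹ = dg d⁻¹ :=
  mul_inv_eq_iff_eq_mul.2 (Subtype.ext (show (ad c).1 * (dg d).1 = (dg d⁻¹).1 * (ad c).1 from
    ext2 (by simp [dg, ad]) (by simp [dg, ad, mul_comm]) (by simp [dg, ad, mul_comm]) (by simp [dg, ad])))
theorem dg_mul_ad (c d : Fˣ) : dg c * ad d = ad (c * d) :=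
  Subtype.ext (show (dg c).1 * (ad d).1 = _ from ext2 (by simp [dg, ad]) (by simp [dg, ad])
    (by simp [dg, ad, mul_comm]) (by simp [dg, ad]))

theorem Lq.conj_sc (h : L2Q N Δ V a b F e π) {g : G} (hN : g ∈ N) {c : Fˣ} {σ : F ≃+* F}
    (hg : Sc e Δ g c σ) {B B' : SL(2, F)} (h0 : B'.1 0 0 = σ (B.1 0 0)) (h1 : B'.1 0 1 = c * σ (B.1 0 1))
    (h2 : B'.1 1 0 * c = σ (B.1 1 0)) (h3 : B'.1 1 1 = σ (B.1 1 1)) : g * π B * g⁻¹ = π B' := by
  obtain ⟨A, k, hA⟩ := hg.act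
  refine h.conj g hN A σ hA B B' ?_
  rw [k]
  refine ext2 ?_ ?_ ?_ ?_ <;> simp [mul_apply, Fin.sum_univ_two, h0, h1, h2, h3, mul_comm]

theorem L2Q.conj_up (h : L2Q N Δ V a b F e π) {g : G} (hN : g ∈ N) {c : Fˣ} {σ : F ≃+* F}
    (hg : Sc e Δ g c σ) (d : F) : g * π (up d) * g⁻¹ = π (up (c * σ d)) :=
  Lq.conj_sc h hN hg (by simp [up]) (by simp [up]) (by simp [up]) (by simp [up])

theorem L2Q.conj_dg (h : L2Q N Δ V a b F e π) {g : G} (hN : g ∈ N) {c : Fˣ} {σ : F ≃+* F}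
    (hg : Sc e Δ g c σ) (d : Fˣ) :
    g * π (dg d) * g⁻¹ = π (dg (Units.map (σ : F →* F) d)) :=
  Lq.conj_sc h hN hg (by simp [dg]) (by simp [dg]) (by simp [dg]) (by simp [dg])

theorem L2Q.conj_ad (h : L2Q N Δ V a b F e π) {g : G} (hN : g ∈ N) {c : Fˣ} {σ : F ≃+* F}
    (hg : Sc e Δ g c σ) (d : Fˣ) :
    g * π (ad d) * g⁻¹ = π (ad (c * Units.map (σ : F →* F) d)) :=
  Lq.conj_sc h hN hg (by simp [ad]) (by simp [ad]) (by simp [ad]) (by simp [ad])

/-- `π (-1)` is central in `N` -/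
theorem L2Q.neg_comm (h : L2Q N Δ V a b F e π) {g : G} (hN : g ∈ N) :
    g * π (-1) = π (-1) * g := by
  obtain ⟨A, σ, hA⟩ := h.Ngl g hN
  refine mul_inv_eq_iff_eq_mul.1 (h.conj g hN A σ hA _ _ ?_)
  refine ext2 ?_ ?_ ?_ ?_ <;> simp [mul_apply, Fin.sum_univ_two]

/-- elements of order four of `SL₂(q)` are conjugate -/
theorem sl2_conj4 (ho : Odd (Fintype.card F)) {B B' : SL(2, F)} (h : B * B = -1)
    (h' : B' * B' = -1) : IsConj B B' :=
  let ⟨C, k⟩ := (tz4 (two_ne ho) h).cj (tz4 (two_ne ho) h') (two_ne ho)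
  isConj_iff.2 ⟨C, mul_inv_eq_iff_eq_mul.2 (Subtype.ext k)⟩

theorem sl2_sq (ho : Odd (Fintype.card F)) {B : SL(2, F)} (h : B * B = 1) : B = 1 ∨ B = -1 := by
  obtain ⟨c, k⟩ := sc_of (A := B.1) (two_ne ho) _root_.one_ne_zero ((congrArg Subtype.val h).trans (one_smul ..).symm) B.2
  have := B.2
  rw [k, det_smul, det_one, mul_one, Fintype.card_fin, sq_eq_one_iff] at this
  exact this.imp (fun t => Subtype.ext (by rw [k, t, one_smul]; rfl)) fun t =>
    Subtype.ext (by rw [k, t, neg_smul, one_smul]; rfl)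

/-- elements of order four are inverted by elements of order four -/
theorem sl2_inv4 (ho : Odd (Fintype.card F)) {B : SL(2, F)} (h : B * B = -1) :
    ∃ C : SL(2, F), C * C = -1 ∧ C * B * C⁻¹ = B⁻¹ :=
  let ⟨C, k, k'⟩ := (tz4 (two_ne ho) h).anti (two_ne ho)
  ⟨C, k, mul_inv_eq_iff_eq_mul.2 (by
    rw [neg_eq_inv h, neg_mul, show B * C = -(C * B) from Subtype.ext k', neg_neg])⟩

/-- LL4: the involutions in a coset `y L`, `L ≅ SL₂(q)`, are conjugate under `L` -/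
theorem L2Q.ll4 (h : L2Q N Δ V a b F e π) (hd : LD N Δ V) (h1 : π (-1) ≠ 1) {y : G} (hN : y ∈ N)
    (y2 : y * y = 1) (y1 : ¬ Tr Δ y) {A : GL (Fin 2) F} (hA : Act e Δ y A (RingEquiv.refl F))
    {l : G} (hl : l ∈ Lt Δ V) (h2 : y * l * (y * l) = 1) :
    ∃ m ∈ Lt Δ V, m * y * m⁻¹ = y * l := by
  obtain ⟨B, rfl⟩ := h.range.ge hl
  obtain ⟨c, t⟩ := tz h.toL2P hd hN (fun x _ => by rw [y2, one_smul]) y1 hA
  obtain ⟨B', k⟩ := exists_conj A B
  have e1 : B' * B = 1 := h.inj h1 (by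
    rw [map_mul, ← Lq.conj_lin h hN hA k, inv_eq_of_mul_eq_one_right y2, mul_assoc, h2, map_one])
  have t' : Tz (A.1 * B.1) c := tz_of (two_ne h.odd) t.ne (by
    rw [← t.sq]
    nth_rewrite 2 [← k]
    rw [← Matrix.mul_assoc, Matrix.mul_assoc A.1,
      show B.1 * B'.1 = 1 from congrArg Subtype.val (show B * B' = 1 from mul_eq_one_comm.1 e1), Matrix.mul_one]) (by rw [det_mul, B.2, mul_one, t.det])
  obtain ⟨C, k'⟩ := t.cj t' (two_ne h.odd)
  refine ⟨π C, h.mem C, ?_⟩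
  have := Lq.conj_lin h hN hA (B := B * C) (B' := C) (k'.trans (Matrix.mul_assoc ..))
  nth_rewrite 1 [← this]
  rw [map_mul]; group

/-- a projective linear involution inverts an element of order four of `SL₂(q)` -/
theorem L2Q.inv4 (h : L2Q N Δ V a b F e π) (hd : LD N Δ V) {y : G} (hN : y ∈ N)
    (y2 : Tr Δ (y * y)) (y1 : ¬ Tr Δ y) {A : GL (Fin 2) F} (hA : Act e Δ y A (RingEquiv.refl F)) :
    ∃ B : SL(2, F), B * B = -1 ∧ y * π B * y⁻¹ = π B⁻¹ := by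
  obtain ⟨c, t⟩ := tz h.toL2P hd hN y2 y1 hA
  obtain ⟨B, k, k'⟩ := t.anti (two_ne h.odd)
  exact ⟨B, k, Lq.conj_lin h hN hA (by rw [neg_eq_inv k, k']; exact Matrix.neg_mul ..)⟩

/-- the involutions of `L ≅ PSL₂(q)` are conjugate -/
theorem L2Q.psl_conj (h : L2Q N Δ V a b F e π) (h1 : π (-1) = 1) {s t : G} (hs : s ∈ Lt Δ V)
    (ht : t ∈ Lt Δ V) (si : Inv s) (ti : Inv t) : ∃ m ∈ Lt Δ V, m * s * m⁻¹ = t := by
  have k : ∀ B, Inv (π B) → B * B = -1 := fun B i => (Lq.one h ((map_mul ..).trans i.1)).resolve_left fun t =>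
    i.2 ((sl2_sq h.odd t).elim (fun t => by rw [t, map_one]) fun t => by rw [t, h1])
  obtain ⟨B, rfl⟩ := h.range.ge hs
  obtain ⟨B', rfl⟩ := h.range.ge ht
  obtain ⟨C, rfl⟩ := isConj_iff.1 (sl2_conj4 h.odd (k B si) (k B' ti))
  exact ⟨π C, h.mem C, by rw [map_mul, map_mul, map_inv]⟩

/-- the outer projective linear involutions are conjugate under `L` on the level of the action -/
theorem L2P.out_conj (h : L2P N Δ V a b F e) (hd : LD N Δ V) {y y' : G} (hN : y ∈ N)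
    (hN' : y' ∈ N) (y2 : Tr Δ (y * y)) (y2' : Tr Δ (y' * y')) {A A' : GL (Fin 2) F}
    (hA : Act e Δ y A (RingEquiv.refl F)) (hA' : Act e Δ y' A' (RingEquiv.refl F))
    (h1 : ¬ Inn Δ V y) (h2 : ¬ Inn Δ V y') : ∃ m ∈ Lt Δ V, Tr Δ (y'⁻¹ * (m * y * m⁻¹)) := by
  obtain ⟨l, t⟩ := tz h hd hN y2 (fun t => h1 ⟨1, one_mem _, by simpa using t⟩) hA
  obtain ⟨l', t'⟩ := tz h hd hN' y2' (fun t => h2 ⟨1, one_mem _, by simpa using t⟩) hA'
  obtain ⟨k, hk⟩ := ((h.inn_iff hd (mul_mem hN hN') (mul_lin hd hN' hA hA')).1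
    (h.out_mul hd hN hN' hA hA' h1 h2)).2
  rw [Units.val_mul, det_mul, t.det, t'.det] at hk
  have k0 : k / l' ≠ 0 := div_ne_zero (fun k0 => mul_ne_zero t.ne t'.ne (by rw [k0] at hk; linear_combination hk)) t'.ne
  have t2 := t'.smul k0
  rw [show (k / l') ^ 2 * l' = l by have := t'.ne; field_simp; linear_combination -hk] at t2
  obtain ⟨C, c⟩ := t.cj t2 (two_ne h.odd)
  obtain ⟨m, hm, hC⟩ := h.slL C
  have mN := hd.Lt_le hm
  refine ⟨m, hm, fun x hx => ?_⟩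
  have hx' := hd.inv _ (inv_mem mN) x hx
  rw [mul_smul, inv_smul_eq_iff, mul_smul]
  refine h.bij.injOn (hd.inv _ (mul_mem mN hN) _ hx') (hd.inv _ hN' x hx) ?_
  rw [act_lin.1 (mul_lin hd hN hC hA) _ hx', smul_sc (A := A' * (C : GL (Fin 2) F)) (c := k / l') (c.trans (Matrix.smul_mul ..)),
    ← act_lin.1 (mul_lin hd mN hA' hC) _ hx', mul_smul, smul_inv_smul]

theorem Lq.three (h : L2P N Δ V a b F e) (hd : LD N Δ V) {g : G} (hN : g ∈ N) {c m : F} {σ : F ≃+* F}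
    (hg : Sc e Δ g c σ) (m0 : m ≠ 0) (hm : c * σ m = m) : 3 ≤ {x | x ∈ Δ ∧ g • x = x}.ncard := by
  obtain ⟨x, hx, ex⟩ := h.bij.surjOn (Set.mem_univ OnePoint.infty)
  obtain ⟨y, hy, ey⟩ := h.bij.surjOn (Set.mem_univ ((0 : F) : OnePoint F))
  obtain ⟨z, hz, ez⟩ := h.bij.surjOn (Set.mem_univ (m : OnePoint F))
  refine (Set.two_lt_ncard_iff (Set.toFinite _)).2 ⟨x, y, z,
    ⟨hx, h.bij.injOn (hd.inv g hN x hx) hx (by rw [hg x hx, ex]; rfl)⟩,
    ⟨hy, h.bij.injOn (hd.inv g hN y hy) hy (by rw [hg y hy, ey]; simp)⟩,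
    ⟨hz, h.bij.injOn (hd.inv g hN z hz) hz (by rw [hg z hz, ez]; simp [hm])⟩, ?_, ?_, ?_⟩ <;> rintro rfl
  exacts [by simp [ex] at ey, by simp [ex] at ez, m0 (by simpa [ey, eq_comm] using ez)]

/-- LL5: a coset `f L` with a field automorphism of order two contains an involution -/
theorem L2Q.ll5 (h : L2Q N Δ V a b F e π) (hd : LD N Δ V) {f : G} (hN : f ∈ N)
    {A : GL (Fin 2) F} {σ : F ≃+* F} (hA : Act e Δ f A σ) (h1 : σ ≠ RingEquiv.refl F)
    (hs : IsSquare (A : Matrix (Fin 2) (Fin 2) F).det) (h2 : f * f ∈ Lt Δ V) :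
    ∃ l ∈ Lt Δ V, f * l * (f * l) = 1 ∧ ¬ Tr Δ (f * l) ∧
      3 ≤ {x | x ∈ Δ ∧ (f * l) • x = x}.ncard := by
  obtain ⟨δ, hδ⟩ := hs
  have δ0 : δ ≠ 0 := fun t => A.det_ne_zero (by rw [hδ, t, mul_zero])
  let B : SL(2, F) := ⟨δ⁻¹ • A.1, by rw [det_smul, hδ, Fintype.card_fin]; field⟩
  have fin : ∀ (C : SL(2, F)) (c m : F), c ≠ 0 → Sc e Δ (π C * f) c σ → m ≠ 0 → c * σ m = m →
      π C * f * (π C * f) = 1 → ∃ l ∈ Lt Δ V, f * l * (f * l) = 1 ∧ ¬ Tr Δ (f * l) ∧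
      3 ≤ {x | x ∈ Δ ∧ (f * l) • x = x}.ncard := fun C c m c0 s m0 hm i => by
    refine ⟨f⁻¹ * π C * f⁻¹⁻¹, hd.Lt_conj (inv_mem hN) (h.mem C), ?_⟩
    rw [show f * (f⁻¹ * π C * f⁻¹⁻¹) = π C * f by group]
    exact ⟨i, fun t => h1 (h.sc_uniq c0 s ((h.sc_tr hd (mul_mem (hd.Lt_le (h.mem C)) hN)).1 t)).2,
      Lq.three h.toL2P hd (mul_mem (hd.Lt_le (h.mem C)) hN) s m0 hm⟩
  have fN := mul_mem (hd.Lt_le (h.mem B⁻¹)) hN
  have s0 : Sc e Δ (π B⁻¹ * f) (1 : Fˣ) σ := fun x hx => by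
    rw [mul_lin hd hN (h.act B⁻¹) hA x hx, smul_sc (A := 1) (c := δ), one_smul]
    · simp
    · show (B⁻¹).1 * A.1 = δ • (1 : Matrix (Fin 2) (Fin 2) F)
      rw [← im B, ← Matrix.mul_smul, smul_smul, mul_inv_cancel₀ δ0, one_smul]
  have fL : π B⁻¹ * f * (π B⁻¹ * f) ∈ Lt Δ V := by
    have := mul_mem (mul_mem (h.mem B⁻¹) (hd.Lt_conj hN (h.mem B⁻¹))) h2
    convert this using 1; group
  have s2 := s0.mul hd fN s0
  have ss : σ.trans σ = RingEquiv.refl F := by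
    obtain ⟨D, hD⟩ := h.Lsl _ h2
    exact (h.uniq (Act.mul hd hN hA hA) hD).1
  rw [ss, Units.val_one, map_one, mul_one] at s2
  rcases h.ker fL ((h.sc_tr hd (mul_mem fN fN)).2 s2) with t | t
  · exact fin _ _ 1 _root_.one_ne_zero s0 _root_.one_ne_zero (by simp) t
  · obtain ⟨u, m, hu, m0, hm⟩ := norm_neg (two_ne h.odd) h1 (RingEquiv.congr_fun ss)
    have u0 : u ≠ 0 := fun t => by simp [t] at hu
    have s3 := (h.sc_dg (Units.mk0 u u0)).mul hd fN s0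
    rw [← mul_assoc, ← map_mul] at s3
    refine fin _ _ (u * m) (by simpa using u0) s3 (mul_ne_zero u0 m0) ?_ ?_
    · simp only [Units.val_mk0, Units.val_one, map_one, map_mul, hm]
      linear_combination -u * m * hu
    · have := h.conj_dg fN s0 (Units.mk0 u u0)
      rw [map_mul, mul_assoc (π _), show ∀ x y : G, x * y * (x * y) = x * (y * x * y⁻¹) * (y * y) from
        fun _ _ => by group, this, t, ← map_mul, ← map_mul, ← dg_mul,
        show Units.mk0 u u0 * Units.map (σ : F →* F) (Units.mk0 u u0) = -1 from Units.ext hu, dg_neg_one]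
      simp

/-- LL6: `-1` lies in the `SL₂` of a subline: it is a word in unipotent elements that commute
with any element `s` that fixes `a`, `b` and a third point -/
theorem L2Q.ll6 (h : L2Q N Δ V a b F e π) (hd : LD N Δ V) (hf : FaithV Δ V) (ha : a ∈ Δ)
    (hb : b ∈ Δ) {x : Ω} (hx : x ∈ Δ) (xa : x ≠ a) (xb : x ≠ b) :
    ∃ u ∈ V a, ∃ v ∈ V b, (u * v * u) ^ 2 = π (-1) ∧ ∀ s ∈ N, s • a = a → s • b = b →
      s • x = x → Tr Δ (s * s) → s * u = u * s ∧ s * v = v * s := by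
  obtain ⟨c, ec⟩ := OnePoint.ne_infty_iff_exists.1 fun t => xa (h.bij.injOn hx ha (t.trans h.ea.symm))
  have c0 : c ≠ 0 := fun t => xb (h.bij.injOn hx hb (by rw [← ec, t, h.eb]))
  let W : SL(2, F) := ⟨!![1, 0; -c⁻¹, 1], by simp [det_fin_two]⟩
  have w := (h.mem_swap hd ha hb).2 ⟨1, rfl⟩
  refine ⟨_, h.upV c, π W, ?_, ?_, fun s hs sa sb sx _ => ?_⟩
  · have := hd.cj _ (hd.Lt_le w.1) a ha _ (h.upV c⁻¹)
    rwa [w.2.1, ← map_inv, ← map_mul, ← map_mul, show ad 1 * up c⁻¹ * (ad 1)⁻¹ = W from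
      mul_inv_eq_iff_eq_mul.2 (Subtype.ext (show (ad 1).1 * (up c⁻¹).1 = W.1 * (ad 1).1 from ext2 (by simp [ad, up, W])
        (by simp [ad, up, W]) (by simp [ad, up, W]) (by simp [ad, up, W])))] at this
  · rw [← map_mul, ← map_mul, ← map_pow, show up c * W * up c = ad (Units.mk0 c c0) from
      Subtype.ext (show (up c).1 * W.1 * (up c).1 = _ from ext2 (by simp [ad, up, W, c0]) (by simp [ad, up, W, c0])
        (by simp [ad, up, W, c0]) (by simp [ad, up, W, c0])), sq, ad_mul_ad, mul_inv_cancel, dg_neg_one]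
  · obtain ⟨k, σ, hk⟩ := h.sc ha hb hs (mem_Hb.2 ⟨sa, sb⟩)
    have := hk x hx
    rw [sx, ← ec] at this
    replace this : c = k * σ c := OnePoint.coe_injective this
    refine ⟨mul_inv_eq_iff_eq_mul.1 (by rw [h.conj_up hs hk, ← this]), mul_inv_eq_iff_eq_mul.1
      (Lq.conj_sc h hs hk (by simp [W]) (by simp [W]) ?_ (by simp [W]))⟩
    have s0 : σ c ≠ 0 := by simpa using c0
    simp only [W, of_apply, cons_val', cons_val_zero, cons_val_one, cons_val_fin_one, map_neg, map_inv₀]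
    field_simp
    linear_combination this

theorem Lq.cm (h : L2Q N Δ V a b F e π) (h1 : π (-1) ≠ 1) {g : G} (hN : g ∈ N) {A : GL (Fin 2) F}
    (hA : Act e Δ g A (RingEquiv.refl F)) {B B' : SL(2, F)} (k : g * π B * g⁻¹ = π B') :
    A.1 * B.1 = B'.1 * A.1 := by
  obtain ⟨D, t⟩ := exists_conj A B
  rw [← t, h.inj h1 ((Lq.conj_lin h hN hA t).symm.trans k)]

/-- a projective linear element that centralises a quaternion group in `SL₂(q)` is trivial -/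
theorem L2Q.q8 (h : L2Q N Δ V a b F e π) (hd : LD N Δ V) (h1 : π (-1) ≠ 1) {g : G} (hN : g ∈ N)
    {A : GL (Fin 2) F} (hA : Act e Δ g A (RingEquiv.refl F)) {B C : SL(2, F)} (hB : B * B = -1)
    (hC : C * C = -1) (hBC : C * B * C⁻¹ = B⁻¹) (gB : g * π B = π B * g) (gC : g * π C = π C * g) :
    Tr Δ g := by
  have h2 := two_ne h.odd
  obtain ⟨x, y, k⟩ := (tz4 h2 hB).cent h2 (Lq.cm h h1 hN hA (mul_inv_eq_iff_eq_mul.2 gB))
  have c := Lq.cm h h1 hN hA (mul_inv_eq_iff_eq_mul.2 gC)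
  have n : C.1 * B.1 = -(B.1 * C.1) := by
    rw [neg_eq_inv hB, mul_inv_eq_iff_eq_mul, neg_mul] at hBC
    exact congrArg Subtype.val hBC
  simp only [k, co, Matrix.add_mul, Matrix.mul_add, Matrix.smul_mul, Matrix.mul_smul, Matrix.one_mul,
    Matrix.mul_one, n, add_right_inj, smul_neg] at c
  have := congrArg det (show (2 * y) • (B * C).1 = 0 by
    rw [mul_smul, two_smul]; exact add_eq_zero_iff_eq_neg.2 c)
  rw [det_smul, (B * C).2, mul_one, det_zero, pow_eq_zero_iff (by simp), mul_eq_zero, or_iff_right h2] at this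
  exact (tr_sc h.toL2P hd hN hA).2 ⟨x, by simp [k, co, this]⟩

/-- the centraliser in `SL₂(q)` of an element of order four is cyclic of order `q ∓ 1` -/
theorem sl2_cent4 (ho : Odd (Fintype.card F)) {B : SL(2, F)} (hB : B * B = -1) :
    IsCyclic (centralizer ({B} : Set SL(2, F))) ∧ Nat.card (centralizer ({B} : Set SL(2, F))) =
      (if Fintype.card F % 4 = 1 then Fintype.card F - 1 else Fintype.card F + 1) := cent4 ho hB

/-- the torus of an element `B` of order four: the projective linear elements commuting with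
`π B` act as a cyclic group of order `q ∓ 1`, through a character `χ` whose squares are the
inner elements; the elements inverting `π B` invert `χ` -/
theorem L2Q.torus (h : L2Q N Δ V a b F e π) (hd : LD N Δ V) (h1 : π (-1) ≠ 1) {B : SL(2, F)}
    (hB : B * B = -1) {C : Subgroup G} (hN : C ≤ N)
    (hl : ∀ g ∈ C, ∃ A : GL (Fin 2) F, Act e Δ g A (RingEquiv.refl F))
    (hc : ∀ g ∈ C, g * π B = π B * g) :
    ∃ (m : ℕ) (χ : C →* Multiplicative (ZMod m)),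
      m = (if Fintype.card F % 4 = 1 then Fintype.card F - 1 else Fintype.card F + 1) ∧
      (∀ g : C, χ g = 1 ↔ Tr Δ (g : G)) ∧ (∀ g : C, Inn Δ V (g : G) ↔ IsSquare (χ g)) ∧
      ∀ y ∈ N, (∃ A : GL (Fin 2) F, Act e Δ y A (RingEquiv.refl F)) →
        y * π B * y⁻¹ = π B⁻¹ → ∀ g g' : C, (g' : G) = y * g * y⁻¹ → χ g' = (χ g)⁻¹ := by
  have h2 := two_ne h.odd
  have t := tz4 h2 hB
  obtain ⟨cy, cd⟩ := cent4 h.odd hB
  choose A hA using fun g : C => hl g g.2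
  have cA : ∀ g, (A g).1 * B.1 = B.1 * (A g).1 := fun g =>
    Lq.cm h h1 (hN g.2) (hA g) (mul_inv_eq_iff_eq_mul.2 (hc g g.2))
  have d0 : ∀ g, (A g).1.det ≠ 0 := fun g => (A g).det_ne_zero
  obtain ⟨S, hS⟩ : ∃ S : C → centralizer ({B} : Set SL(2, F)), ∀ g, (S g).1.1 = (A g).1.det⁻¹ • ((A g).1 * (A g).1) :=
    ⟨fun g => ⟨⟨_, by have := d0 g; rw [det_smul, det_mul, Fintype.card_fin]; field⟩,
      mem_centralizer_singleton_iff.2 (Subtype.ext (show (_ • _) * B.1 = B.1 * (_ • _) by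
        rw [Matrix.smul_mul, Matrix.mul_smul, Matrix.mul_assoc, cA, ← Matrix.mul_assoc, cA, Matrix.mul_assoc]))⟩,
      fun _ => rfl⟩
  have SS : ∀ g g', (S g * S g').1.1 = ((A g).1 * (A g').1).det⁻¹ • ((A g).1 * (A g').1 * ((A g).1 * (A g').1)) :=
    fun g g' => by
      show (S g).1.1 * (S g').1.1 = _
      rw [hS, hS, Matrix.smul_mul, Matrix.mul_smul, smul_smul, det_mul, mul_inv, Matrix.mul_assoc, Matrix.mul_assoc,
        ← Matrix.mul_assoc (A g').1 (A g).1, t.comm h2 (cA g') (cA g), Matrix.mul_assoc (A g).1 (A g').1]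
  have sc : ∀ (M : Matrix (Fin 2) (Fin 2) F) (c : F), c ≠ 0 → (c • M).det⁻¹ • (c • M * c • M) = M.det⁻¹ • (M * M) :=
    fun M c c0 => by
      rw [Matrix.smul_mul, Matrix.mul_smul, smul_smul, smul_smul, det_smul, Fintype.card_fin]
      congr 1; field
  let φ : C →* centralizer ({B} : Set SL(2, F)) := MonoidHom.mk' S fun g g' => Subtype.ext (Subtype.ext (by
    obtain ⟨c, k⟩ := (h.uniq (mul_lin hd (hN g'.2) (hA g) (hA g')) (hA (g * g'))).2
    rw [hS, SS, k, sc _ _ (sc_ne k)]; rfl))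
  let ι := (zmodCyclicMulEquiv cy).symm
  have cS : ∀ S : centralizer ({B} : Set SL(2, F)), S.1.1 * B.1 = B.1 * S.1.1 := fun S =>
    congrArg Subtype.val (show S.1 * B = B * S.1 from mem_centralizer_singleton_iff.1 S.2)
  refine ⟨_, ι.toMonoidHom.comp φ, cd, fun g => ?_, fun g => ?_, fun y hy ⟨Y, hY⟩ k g g' k' => ?_⟩
  · show ι (S g) = 1 ↔ _
    rw [EmbeddingLike.map_eq_one_iff, tr_sc h.toL2P hd (hN g.2) (hA g)]
    refine ⟨fun k => sc_of h2 (d0 g) ?_ rfl, fun ⟨c, k⟩ => Subtype.ext (Subtype.ext ?_)⟩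
    · have := hS g
      rw [k, eq_inv_smul_iff₀ (d0 g)] at this
      exact this.symm
    · rw [hS, k, sc _ _ (sc_ne (A := 1) k)]; simp
  · show _ ↔ IsSquare (ι (S g))
    rw [h.inn_iff hd (hN g.2) (hA g), and_iff_right rfl]
    refine ⟨fun ⟨δ, k⟩ => IsSquare.map ι ?_, fun k => ?_⟩
    · have δ0 : δ ≠ 0 := fun t => d0 g (by rw [k, t, mul_zero])
      refine ⟨⟨⟨δ⁻¹ • (A g).1, by rw [det_smul, k, Fintype.card_fin]; field⟩, mem_centralizer_singleton_iff.2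
        (Subtype.ext (show (_ • _) * B.1 = B.1 * (_ • _) by rw [Matrix.smul_mul, Matrix.mul_smul, cA]))⟩,
        Subtype.ext (Subtype.ext ?_)⟩
      show _ = δ⁻¹ • (A g).1 * δ⁻¹ • (A g).1
      rw [hS, Matrix.smul_mul, Matrix.mul_smul, smul_smul, k, mul_inv]
    · obtain ⟨R, k⟩ : IsSquare (S g) := by simpa using k.map ι.symm
      have dz : ((A g).1 * (R⁻¹).1.1).det = (A g).1.det := by rw [det_mul, (R⁻¹).1.2, mul_one]
      obtain ⟨z, hz⟩ := sc_of (A := (A g).1 * (R⁻¹).1.1) h2 (d0 g) (by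
        have := hS g
        rw [eq_inv_smul_iff₀ (d0 g)] at this
        rw [Matrix.mul_assoc, ← Matrix.mul_assoc (R⁻¹).1.1, t.comm h2 (cS _) (cA g), Matrix.mul_assoc,
          ← Matrix.mul_assoc, ← this, Matrix.smul_mul, k]
        exact congrArg (fun M : centralizer ({B} : Set SL(2, F)) => (A g).1.det • M.1.1)
          (show R * R * (R⁻¹ * R⁻¹) = 1 by group)) dz
      exact ⟨z, by rw [← dz, hz, det_smul, det_one, Fintype.card_fin]; ring⟩
  · show ι (S g') = (ι (S g))⁻¹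
    rw [← map_inv, EmbeddingLike.apply_eq_iff_eq, ← mul_eq_one_iff_eq_inv]
    have n := Lq.cm h h1 hy hY k
    rw [neg_eq_inv hB] at n
    obtain ⟨u, v, k1⟩ := t.cent h2 (cA g)
    obtain ⟨c, k2⟩ := (h.uniq (mul_lin hd hy (hA g') hY)
      (by rw [k', inv_mul_cancel_right]; exact mul_lin hd (hN g.2) hY (hA g))).2
    have c0 := sc_ne k2
    have k3 : c • (A g').1 = co B.1 u (-v) := by
      have : co B.1 u (-v) * Y.1 = c • (A g').1 * Y.1 := by
        rw [Matrix.smul_mul, ← Units.val_mul, ← k2, Units.val_mul, k1]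
        simp [co, Matrix.add_mul, Matrix.mul_add, n]
      exact ((Units.mul_left_inj Y).1 this).symm
    have k4 : c • ((A g').1 * (A g).1) = (u ^ 2 + v ^ 2) • (1 : Matrix (Fin 2) (Fin 2) F) := by
      rw [← Matrix.smul_mul, k3, k1, t.co_mul, co]
      module
    have d1 := d0 g
    rw [k1, t.co_det] at d1
    refine Subtype.ext (Subtype.ext ?_)
    rw [SS, ← sc _ _ c0, k4, sc _ _ (by convert d1 using 1; ring)]
    simp

theorem card_sl2 : Nat.card SL(2, F) = Fintype.card F * (Fintype.card F ^ 2 - 1) := by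
  rw [H10.card_SL_two, Nat.card_eq_fintype_card, mul_assoc, mul_comm (_ - 1), ← Nat.sq_sub_sq]

end H51.HK
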