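import Cfsg.Agent.Lib.HK.N0Aa

set_option autoImplicit false
set_option linter.unusedSectionVars false

namespace H71.NA

open MulAction Subgroup H51.HK
open scoped Classical commutatorElement

variable {G Ω : Type*} [Group G] [MulAction G Ω] [Finite G] [Finite Ω] {U : Ω → Subgroup G}

theorem fx_eq (s t : G) : {x | x ∈ Fx Ω {s} ∧ t • x = x} = Fx Ω ({s, t} : Set G) := by
  ext x
  rw [Set.mem_setOf_eq, mem_Fx1, mem_Fx2]

theorem fx_of_tr {s t : G} (h : Tr (Fx Ω {s}) t) : Fx Ω {s} = Fx Ω ({s, t} : Set G) := by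
  rw [← fx_eq]
  ext x
  exact ⟨fun hx => ⟨hx, h x hx⟩, fun hx => hx.1⟩

/-- the involutions of `L_s` that commute with `t` and move `a` -/
def PQ (U : Ω → Subgroup G) (s t : G) (a : Ω) : Prop :=
  ∀ l ∈ LY U {s}, l * l = 1 → l * t = t * l → l • a ≠ a → IsConj t (l * t)

def RR (U : Ω → Subgroup G) (s : G) (a : Ω) : Prop :=
  ∀ l ∈ LY U {s}, l * l = 1 → l • a ≠ a → ∃ c : Ω, l • c = c

theorem three_pow (m : ℕ) : (3 ^ (2 * m + 1) + 1) % 8 = 4 := by
  induction m with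
  | zero => rfl
  | succ m ih => rw [show 2 * (m + 1) + 1 = 2 * m + 1 + 2 by ring, pow_add]; omega

theorem ree_case (h : Cx U) {s t : G} (ht : Inv t) (hc : s * t = t * s) {a b : Ω} (hab : a ≠ b)
    (ha : a ∈ Fx Ω {s}) (hb : b ∈ Fx Ω {s}) (ta : t • a = a) (tb : t • b = b) {q : ℕ}
    (R : ReP (normalizer ({s} : Set G)) (Fx Ω {s}) (UY U {s}) q)
    (hk : OddK (Fx Ω {s}) (UY U {s})) (h1 : ¬ Tr (Fx Ω {s}) t) :
    (Fx Ω ({s, t} : Set G)).ncard = q + 1 ∧ PQ U s t a ∧ RR U s a := by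
  have hd := h.ldY {s}
  have hN : t ∈ normalizer ({s} : Set G) := mem_norm1.2 hc.symm
  have hf := h.faithY (Y := {s}) ((Set.one_lt_ncard_iff (Set.toFinite _)).2 ⟨a, b, ha, hb, hab⟩)
  obtain ⟨j0, hj0⟩ := R.ex a ha b hb hab
  obtain ⟨m, -, hj, hm⟩ := hk.lift hj0.1 hj0.2.2.2.1 hj0.2.2.2.2
  set j := j0 ^ m with hjm
  have jL : j ∈ Lt (Fx Ω {s}) (UY U {s}) := pow_mem hj0.1 m
  have jj : ∀ x ∈ Fx Ω {s}, j • x = j0 • x := fun x hx => by
    have := hm x hx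
    rwa [mul_smul, inv_smul_eq_iff] at this
  have h2 := (R.two a ha b hb hab j0 hj0 t hN ta tb 1 (by
    rw [pow_one, pow_two, ht.1]; exact fun x _ => one_smul _ _)).resolve_left h1
  have tj : ∀ x ∈ Fx Ω {s}, t • x = j • x := fun x hx => by
    have := h2 x hx
    rw [mul_smul, inv_smul_eq_iff] at this
    rw [this, jj x hx]
  have ja : j • a = a := by rw [← tj a ha, ta]
  have j1 : ¬ Tr (Fx Ω {s}) j := fun H => h1 fun x hx => by rw [tj x hx, H x hx]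
  have tr1 : ∀ g : G, g * g = 1 → Tr (Fx Ω {s}) (g * g) := fun g e x _ => by rw [e, one_smul]
  refine ⟨?_, fun l hl l2 lt la => ?_, fun l hl l2 la => ?_⟩
  · rw [← R.fx a ha b hb hab j0 hj0, ← fx_eq]
    congr 1
    ext x
    exact and_congr_right fun hx => by rw [tj x hx, jj x hx]
  · have kN : j⁻¹ * t ∈ normalizer ({s} : Set G) := mul_mem (inv_mem (hd.Lt_le jL)) hN
    have kT : Tr (Fx Ω {s}) (j⁻¹ * t) := fun x hx => by rw [mul_smul, tj x hx, inv_smul_smul]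
    have ck : ∀ g ∈ Lt (Fx Ω {s}) (UY U {s}), Commute (j⁻¹ * t) g := fun g hg =>
      hd.commK hf kN kT hg
    have et : t = j * (j⁻¹ * t) := by group
    have lj : Commute l j := by
      have h3 : Commute l (t * (j⁻¹ * t)⁻¹) := Commute.mul_right lt (ck l hl).symm.inv_right
      simpa using h3
    have sq : l * j * (l * j) = 1 := by
      rw [← pow_two, lj.mul_pow, pow_two, pow_two, l2, hj.1, one_mul]
    obtain ⟨g, hg, H⟩ := R.cjI j jL (l * j) (mul_mem hl jL) (tr1 j hj.1) (tr1 _ sq) j1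
      fun H => la (by have := H a ha; rwa [mul_smul, ja] at this)
    have zL : (l * j)⁻¹ * (g * j * g⁻¹) ∈ Lt (Fx Ω {s}) (UY U {s}) :=
      mul_mem (inv_mem (mul_mem hl jL)) (mul_mem (mul_mem hg jL) (inv_mem hg))
    have zc : Commute ((l * j)⁻¹ * (g * j * g⁻¹)) (l * j) :=
      hd.commK hf (hd.Lt_le zL) H (mul_mem hl jL)
    have z2 : ((l * j)⁻¹ * (g * j * g⁻¹)) ^ 2 = 1 := by
      have h3 : (l * j * ((l * j)⁻¹ * (g * j * g⁻¹))) ^ 2 = 1 := by
        rw [mul_inv_cancel_left, conj_pow, pow_two, hj.1]; simp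
      rwa [zc.symm.mul_pow, pow_two (l * j), sq, one_mul] at h3
    have z1 : (l * j)⁻¹ * (g * j * g⁻¹) = 1 := by
      have h3 := (Nat.dvd_prime Nat.prime_two).1 (orderOf_dvd_of_pow_eq_one z2)
      have h4 := hk _ zL H
      rcases h3 with h3 | h3
      · exact orderOf_eq_one_iff.1 h3
      · rw [h3] at h4; exact absurd h4 (by decide)
    rw [inv_mul_eq_one] at z1
    refine isConj_iff.2 ⟨g, ?_⟩
    calc g * t * g⁻¹ = g * j * ((j⁻¹ * t) * g⁻¹) := by group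
      _ = g * j * g⁻¹ * (j⁻¹ * t) := by rw [(ck g hg).inv_right.eq]; group
      _ = l * t := by rw [← z1]; group
  · obtain ⟨g, hg, H⟩ := R.cjI j jL l hl (tr1 j hj.1) (tr1 _ l2) j1 fun H => la (H a ha)
    have h3 := H _ (hd.inv g (hd.Lt_le hg) a ha)
    rw [mul_smul, mul_smul, mul_smul, inv_smul_smul, ja, inv_smul_eq_iff] at h3
    exact ⟨_, h3.symm⟩

theorem kind (h : Cx U) (hn : Nat.card Ω % 4 = 0) (h3 : Ty3 U) {s t : G} (hs : Inv s) (ht : Inv t)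
    (hc : s * t = t * s) {a b : Ω} (hab : a ≠ b) (ha : a ∈ Fx Ω ({s, t} : Set G))
    (hb : b ∈ Fx Ω ({s, t} : Set G)) {k : ℕ} (hQ : (Fx Ω ({s, t} : Set G)).ncard = 2 ^ (k + 2)) :
    (Fx Ω {s}).ncard = 2 ^ (k + 2) ∨ ((Fx Ω {s}).ncard = (2 ^ (k + 2)) ^ 2 ∧ PQ U s t a) ∨
      (k = 0 ∧ (Fx Ω {s}).ncard = 28 ∧ PQ U s t a ∧ RR U s a) := by
  by_cases h1 : Tr (Fx Ω {s}) t
  · exact Or.inl (by rw [fx_of_tr h1, hQ])
  right
  rw [mem_Fx2] at ha hb
  have ha' := mem_Fx1.2 ha.1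
  have hb' := mem_Fx1.2 hb.1
  have hd := h.ldY {s}
  have hN : t ∈ normalizer ({s} : Set G) := mem_norm1.2 hc.symm
  have h4 : 4 ≤ 2 ^ (k + 2) := by rw [pow_add]; have := Nat.one_le_two_pow (n := k); omega
  have h5 : 3 ≤ (Fx Ω {s}).ncard := by
    have : (Fx Ω ({s, t} : Set G)).ncard ≤ (Fx Ω {s}).ncard :=
      Set.ncard_le_ncard (fun x hx => mem_Fx1.2 (mem_Fx2.1 hx).1)
    omega
  rcases h3 s hs h5 with hL | ⟨⟨q, R⟩, hk⟩ | ⟨hA, hk⟩
  · exfalso
    obtain ⟨F, _, _, e, π, L⟩ := hL a ha' b hb' hab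
    have h6 := h.toC0.parity hs.1
    rw [L.toL2P.card, hn] at h6
    rcases L.toL2P.tri hd ha' hb' hN (mem_Hb.2 ⟨ha.2, hb.2⟩) (fun x _ => by rw [ht.1, one_smul])
      with h7 | ⟨-, h7⟩ | ⟨r, -, h7, -⟩
    · exact h1 h7
    · rw [fx_eq] at h7
      rw [h7, Set.ncard_pair hab] at hQ
      omega
    · rw [h7] at h6
      have : r % 4 = 0 ∨ r % 4 = 1 ∨ r % 4 = 2 ∨ r % 4 = 3 := by omega
      rcases this with e | e | e | e <;> simp [Nat.add_mod, Nat.pow_mod, e] at h6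
  · right
    obtain ⟨h6, h7, h8⟩ := ree_case h ht hc hab ha' hb' ha.2 hb.2 R hk h1
    obtain ⟨m, hm⟩ := R.pw
    have h9 := three_pow m
    rw [← hm, ← h6, hQ] at h9
    have k0 : k = 0 := by
      rcases k with _ | k
      · rfl
      · rw [show k + 1 + 2 = k + 3 by ring, pow_add] at h9; omega
    refine ⟨k0, ?_, h7, h8⟩
    rw [hQ, k0] at h6
    rw [R.card, show q = 3 by omega]; rfl
  · left
    obtain ⟨F, _, _, e, A⟩ := hA a ha' b hb' hab
    obtain ⟨σ, r, H, e1, e2, e3, e4⟩ := af_inv A hd ha' hb' hN ha.2 hb.2 ht.1 h1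
    rw [fx_eq, hQ] at e4
    exact ⟨by rw [af_card A, e3, e4], fun l hl l2 lt _ => af_conj A hd hk hN H e1 e2 hl l2 lt⟩

theorem card_dvd_four (h : Cx U) (hr : Rk2 G Ω) {W : Subgroup G} (h2 : ∀ w ∈ W, w * w = 1)
    {x : Ω} (hx : ∀ w ∈ W, w • x = x) : Nat.card W ∣ 4 := by
  have hp : IsPGroup 2 W := fun w => ⟨1, Subtype.ext (by simpa [pow_two] using h2 w w.2)⟩
  have cm : ∀ u ∈ W, ∀ v ∈ W, u * v = v * u := fun u hu v hv => by
    rw [← inv_eq_of_mul_eq_one_right (h2 _ (mul_mem hu hv)), mul_inv_rev,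
      inv_eq_of_mul_eq_one_right (h2 u hu), inv_eq_of_mul_eq_one_right (h2 v hv)]
  obtain ⟨y, -, hy, hf⟩ := h.ld.second (by rw [Set.ncard_univ]; have := h.three; omega) hp le_top
    (Set.mem_univ x) hx
  have hH : ∀ w ∈ W, w ∈ Hb G x y := fun w hw => mem_Hb.2 ⟨hx w hw, hf w hw⟩
  have h4 : Nat.card W ≤ 4 := by
    by_contra hc
    have e : Nat.card W = (W : Set G).ncard := rfl
    obtain ⟨s, hs, s1⟩ : ∃ s ∈ (W : Set G), s ∉ ({1} : Set G) :=
      Set.exists_mem_notMem_of_ncard_lt_ncard (by rw [Set.ncard_singleton]; omega)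
    obtain ⟨t, ht, t1⟩ : ∃ t ∈ (W : Set G), t ∉ ({1, s} : Set G) :=
      Set.exists_mem_notMem_of_ncard_lt_ncard (by
        have := Set.ncard_insert_le 1 ({s} : Set G)
        rw [Set.ncard_singleton] at this; omega)
    simp only [Set.mem_insert_iff, Set.mem_singleton_iff, not_or] at s1 t1
    have h5 : (W : Set G) ⊆ {1, s, t, s * t} := fun r hr' => by
      simpa using hr x y hy.symm s (hH s hs) t (hH t ht) r (hH r hr') ⟨h2 s hs, s1⟩
        ⟨h2 t ht, t1.1⟩ (Ne.symm t1.2) (h2 r hr') (cm s hs t ht) (cm s hs r hr') (cm t ht r hr')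
    have h6 := Set.ncard_le_ncard h5
    have h7 := Set.ncard_insert_le 1 ({s, t, s * t} : Set G)
    have h8 := Set.ncard_insert_le s ({t, s * t} : Set G)
    have h9 := Set.ncard_insert_le t ({s * t} : Set G)
    rw [Set.ncard_singleton] at h9
    omega
  obtain ⟨n, hn⟩ := IsPGroup.iff_card.1 hp
  rw [hn] at h4 ⊢
  exact pow_dvd_pow 2 ((Nat.pow_le_pow_iff_right (by norm_num)).1 (show 2 ^ n ≤ 2 ^ 2 from h4))

theorem div1 : ∀ x < 136, x ∣ 135 → (136 + 15 * (x + 1)) % 32 = 0 → x = 135 := by decide +kernel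
theorem div2 : ∀ x < 376, x ∣ 375 → (376 + 15 * (x + 1)) % 32 = 0 → x = 375 := by decide +kernel
theorem div3 : ∀ x < 1216, x ∣ 1215 → (1216 + 15 * (x + 1)) % 32 = 0 → x = 1215 := by
  decide +kernel

theorem arith {m x u v : ℕ} (hx : 3 ≤ x) (bw : m * x ^ 2 = u * (x * (x + 2)) * v)
    (hu : u = x ∨ u = x * (x + 2)) (hv : v = x ∨ v = x * (x + 2))
    (hd : (x + 1) ^ 2 ∣ 2 * (m + 1)) : m = x * (x + 2) ∨ x = 3 := by
  have x0 : 0 < x ^ 2 := by positivity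
  have key : m * x ^ 2 = x * (x + 2) ^ 2 * x ^ 2 → False := fun e => by
    have e1 := Nat.eq_of_mul_eq_mul_right x0 e
    have e2 : 2 * (m + 1) + 2 * (x + 1) = (x + 1) ^ 2 * (2 * (x + 2)) := by rw [e1]; ring
    have e3 : (x + 1) ^ 2 ∣ 2 * (x + 1) := (Nat.dvd_add_right hd).1 ⟨_, e2⟩
    have := Nat.le_of_dvd (by omega) e3
    nlinarith
  rcases hu with rfl | rfl <;> rcases hv with rfl | rfl
  · exact Or.inl (Nat.eq_of_mul_eq_mul_right x0 (by rw [bw]; ring))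
  · exact (key (by rw [bw]; ring)).elim
  · exact (key (by rw [bw]; ring)).elim
  · have e1 : m = x * (x + 2) ^ 3 := Nat.eq_of_mul_eq_mul_right x0 (by rw [bw]; ring)
    have e2 : 2 * (m + 1) + 4 * (x + 1) = (x + 1) ^ 2 * (2 * ((x + 1) * (x + 3))) := by
      rw [e1]; ring
    have e3 : (x + 1) ^ 2 ∣ 4 * (x + 1) := (Nat.dvd_add_right hd).1 ⟨_, e2⟩
    have := Nat.le_of_dvd (by omega) e3
    right; nlinarith

theorem fin {m u v α : ℕ} {P P' : Prop} (bw : m * 3 ^ 2 = u * 15 * v) (tn : 16 ≠ m + 1)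
    (d4 : 32 ∣ 4 * (m + 1)) (k1 : u + 1 = 4 ∨ (u + 1 = 16 ∧ P) ∨ (u + 1 = 28 ∧ P ∧ α ≠ 0))
    (k2 : v + 1 = 4 ∨ (v + 1 = 16 ∧ P') ∨ (v + 1 = 28 ∧ P'))
    (B : P ∨ P' → (m + 1 + 15 * α) % 32 = 0) (an : α ≠ m + 1)
    (D : α ≠ 0 → ∃ y, y + 1 = α ∧ y ∣ m) : False := by
  have f1 : m = 135 → P ∨ P' → False := fun e H => by
    subst e
    have h4 := B H
    obtain ⟨y, rfl, y2⟩ := D (by omega)
    exact an (by rw [div1 y (Nat.lt_succ_of_le (Nat.le_of_dvd (by norm_num) y2)) y2 h4])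
  rcases k1 with k1 | ⟨k1, p1⟩ | ⟨k1, p1, r1⟩ <;> rcases k2 with k2 | ⟨k2, p2⟩ | ⟨k2, p2⟩ <;>
    obtain rfl := Nat.eq_sub_of_add_eq k1 <;> obtain rfl := Nat.eq_sub_of_add_eq k2
  · clear D; omega
  · clear D; omega
  · exact f1 (by clear D; omega) (Or.inr p2)
  · clear D; omega
  · obtain rfl : m = 375 := by clear D; omega
    have h4 := B (Or.inl p1)
    obtain ⟨y, rfl, y2⟩ := D (by omega)
    exact an (by rw [div2 y (Nat.lt_succ_of_le (Nat.le_of_dvd (by norm_num) y2)) y2 h4])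
  · clear D; omega
  · exact f1 (by clear D; omega) (Or.inl p1)
  · clear D; omega
  · obtain rfl : m = 1215 := by clear D; omega
    have h4 := B (Or.inl p1)
    obtain ⟨y, rfl, y2⟩ := D r1
    exact an (by rw [div3 y (Nat.lt_succ_of_le (Nat.le_of_dvd (by norm_num) y2)) y2 h4])

section Main

variable {t : G} {a b : Ω} {F : Type} [Field F] [Fintype F] {e : Ω → F} {τ : F → G}
  (h : Cx U) (A : AfP (normalizer ({t} : Set G)) (Fx Ω {t}) (UY U {t}) a b F e)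
  (hk : TrivK (Fx Ω {t}) (UY U {t})) (T : Tau (Fx Ω {t}) (UY U {t}) e τ) (ht : Inv t)

include T in
theorem tau_comm (d : F) : τ d * t = t * τ d :=
  mem_centralizer_singleton_iff.1 (LY_le U {t} (T.mem d))

/-- the group generated by the translations and `t` -/
def AA : Subgroup G where
  carrier := {g | ∃ d, g = τ d ∨ g = τ d * t}
  one_mem' := ⟨0, Or.inl (T.zero A (h.ldY _) hk).symm⟩
  mul_mem' := by
    rintro _ _ ⟨c, rfl | rfl⟩ ⟨d, rfl | rfl⟩ <;> refine ⟨c + d, ?_⟩ <;>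
      rw [T.add A (h.ldY _) hk]
    · exact Or.inl rfl
    · exact Or.inr (by group)
    · exact Or.inr (by rw [mul_assoc, ← tau_comm T, mul_assoc])
    · exact Or.inl (by
        rw [mul_assoc, ← mul_assoc t, ← tau_comm T, mul_assoc, ht.1, mul_one])
  inv_mem' := by
    rintro _ ⟨c, rfl | rfl⟩
    · exact ⟨c, Or.inl (inv_eq_of_mul_eq_one_right (T.sq A (h.ldY _) hk c))⟩
    · exact ⟨c, Or.inr (by
        rw [mul_inv_rev, inv_eq_of_mul_eq_one_right (T.sq A (h.ldY _) hk c),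
          inv_eq_of_mul_eq_one_right ht.1, tau_comm T])⟩

theorem AA_sq {g : G} (hg : g ∈ AA h A hk T ht) : g * g = 1 := by
  obtain ⟨c, rfl | rfl⟩ := hg
  · exact T.sq A (h.ldY _) hk c
  · rw [mul_assoc, ← mul_assoc t, ← tau_comm T, mul_assoc, ht.1, mul_one, T.sq A (h.ldY _) hk]

/-- the elements of `AA` -/
noncomputable def eqA : F ⊕ F ≃ AA h A hk T ht :=
  Equiv.ofBijective (Sum.elim (fun d => ⟨τ d, d, Or.inl rfl⟩) fun d => ⟨τ d * t, d, Or.inr rfl⟩) (by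
    have key : ∀ c d, τ c ≠ τ d * t := fun c d H => by
      obtain ⟨x, hx, -⟩ := af_ex A 0
      have h1 := T.act c x hx
      rw [H, mul_smul, mem_Fx1.1 hx, T.act d x hx, add_right_inj] at h1
      rw [h1] at H
      exact ht.2 (by simpa using H.symm)
    constructor
    · rintro (c | c) (d | d) H <;> replace H := congrArg Subtype.val H
      · exact congrArg _ (T.inj A H)
      · exact absurd H (key c d)
      · exact absurd H.symm (key d c)
      · exact congrArg _ (T.inj A (mul_right_cancel H))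
    · rintro ⟨_, c, rfl | rfl⟩
      · exact ⟨Sum.inl c, rfl⟩
      · exact ⟨Sum.inr c, rfl⟩)

include h A hk T ht in
theorem dvd_four (hr : Rk2 G Ω) : 2 * Fintype.card F ∣ 4 * Nat.card Ω := by
  have h1 := card_dvd_mul (G := AA h A hk T ht) (Ω := Ω) (k := 4) fun x => by
    rw [← card_map_of_injective (AA h A hk T ht).subtype_injective]
    refine card_dvd_four h hr ?_ (x := x) ?_
    · rintro _ ⟨w, -, rfl⟩
      exact AA_sq h A hk T ht w.2
    · rintro _ ⟨w, hw, rfl⟩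
      exact hw
  rwa [← Nat.card_congr (eqA h A hk T ht), Nat.card_eq_fintype_card, Fintype.card_sum,
    ← two_mul] at h1

include h A hk T in
theorem tau_conj (ha : a ∈ Fx Ω {t}) {d d' : F} (h0 : d ≠ 0) (h0' : d' ≠ 0) :
    ∃ g : G, g * t = t * g ∧ g * τ d * g⁻¹ = τ d' := by
  obtain ⟨x, hx, e1⟩ := af_ex A d
  obtain ⟨y, hy, e2⟩ := af_ex A d'
  obtain ⟨g, hg, e3⟩ := (h.ldY {t}).tr a ha x hx y hy
    (fun H => h0 (by rw [← e1, H, A.ea])) (fun H => h0' (by rw [← e2, H, A.ea]))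
  obtain ⟨c, hc⟩ := A.Vm g hg
  refine ⟨g, (mem_UY1.1 hg).2, ?_⟩
  rw [T.conj A (h.ldY _) hk ((h.ldY _).le a ha hg) (c := c) (d₀ := 0) (σ := RingEquiv.refl F)
    (fun x hx => by simpa using hc x hx), ← e2, ← e3, hc x hx, e1]
  rfl

include h A hk T ht in
theorem burn32 (ha : a ∈ Fx Ω {t}) (hF : Fintype.card F = 16) {d : F} (h0 : d ≠ 0)
    (hc : IsConj t (τ d * t)) : (Nat.card Ω + 15 * (Fx Ω {τ d}).ncard) % 32 = 0 := by
  have h1 := burn (Ω := Ω) _ (eqA h A hk T ht)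
  rw [Fintype.card_sum, Fintype.sum_sum_type, hF] at h1
  change 32 ∣ ∑ c, (Fx Ω {τ c}).ncard + ∑ c, (Fx Ω {τ c * t}).ncard at h1
  have h2 : ∑ c, (Fx Ω {τ c * t}).ncard = 16 * 16 := by
    rw [Finset.sum_const_nat (m := 16), Finset.card_univ, hF]
    intro c _
    rw [← hF, ← af_card A]
    by_cases c0 : c = 0
    · rw [c0, T.zero A (h.ldY _) hk, one_mul]
    · obtain ⟨g, g1, g2⟩ := tau_conj h A hk T ha h0 c0
      refine (Fx_ncard_conj (hc.trans (isConj_iff.2 ⟨g, ?_⟩))).symm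
      rw [← g2]
      calc g * (τ d * t) * g⁻¹ = g * τ d * g⁻¹ * (g * t * g⁻¹) := by group
        _ = _ := by rw [g1, mul_inv_cancel_right]
  have h3 : ∑ c, (Fx Ω {τ c}).ncard = Nat.card Ω + 15 * (Fx Ω {τ d}).ncard := by
    rw [← Finset.add_sum_erase _ _ (Finset.mem_univ 0), Finset.sum_const_nat
      (m := (Fx Ω {τ d}).ncard), Finset.card_erase_of_mem (Finset.mem_univ _), Finset.card_univ,
      hF, T.zero A (h.ldY _) hk, ← Set.ncard_univ]
    · congr 2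
      ext x
      simp [mem_Fx1]
    · intro c hc
      obtain ⟨g, -, g2⟩ := tau_conj h A hk T ha h0 (Finset.ne_of_mem_erase hc)
      exact (Fx_ncard_conj (isConj_iff.2 ⟨g, g2⟩)).symm
  omega

include h A hk T in
theorem exists_d {s : G} (hab : a ≠ b) (ha : a ∈ Fx Ω ({s, t} : Set G))
    (hb : b ∈ Fx Ω ({s, t} : Set G)) (h3 : 3 ≤ (Fx Ω ({s, t} : Set G)).ncard) :
    ∃ d : F, d ≠ 0 ∧ τ d ∈ LY U {s} ∧ τ d ∈ LY U {s * t} := by
  have ex : ∀ c ∈ Fx Ω ({s, t} : Set G), ∃ u ∈ UY U {s, t} c, u ≠ 1 := fun c hc => by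
    by_contra H
    push Not at H
    have h1 := h.cardY hc
    rw [(eq_bot_iff_forall _).2 H, card_bot] at h1
    omega
  have mem : ∀ c ∈ Fx Ω ({s, t} : Set G), ∀ u ∈ UY U {s, t} c,
      u ∈ UY U {t} c ∧ u ∈ LY U {s} ⊓ LY U {s * t} := fun c hc u hu => by
    rw [mem_UY2] at hu
    rw [mem_Fx2] at hc
    refine ⟨mem_UY1.2 ⟨hu.1, hu.2.2⟩, le_Lt (mem_Fx1.2 hc.1) (mem_UY1.2 ⟨hu.1, hu.2.1⟩),
      le_Lt (mem_Fx1.2 (by rw [mul_smul, hc.2, hc.1])) (mem_UY1.2 ⟨hu.1, ?_⟩)⟩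
    rw [← mul_assoc, hu.2.1, mul_assoc, hu.2.2, mul_assoc]
  obtain ⟨u, hu, u1⟩ := ex a ha
  obtain ⟨v, hv, v1⟩ := ex b hb
  obtain ⟨hu1, hu2⟩ := mem a ha u hu
  obtain ⟨hv1, hv2⟩ := mem b hb v hv
  have ha' := mem_Fx1.2 (mem_Fx2.1 ha).2
  have hb' := mem_Fx1.2 (mem_Fx2.1 hb).2
  have hd := h.ldY {t}
  have uL := le_Lt ha' hu1
  have vL := le_Lt hb' hv1
  obtain ⟨c, hc⟩ := A.Vm u hu1
  obtain ⟨c', d', -, hc'⟩ := A.Laf v vL
  have c1 : c - 1 ≠ 0 := fun H => u1 (h.reg a b hab.symm u hu.1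
    (A.bij.injOn (hd.inv u (hd.Lt_le uL) b hb') hb' (by rw [hc b hb', sub_eq_zero.1 H, one_mul])))
  have d0 : d' ≠ 0 := fun H => v1 (h.reg b a hab v hv.1
    (A.bij.injOn (hd.inv v (hd.Lt_le vL) a ha') ha' (by rw [hc' a ha', H, A.ea]; simp)))
  have h1 : u * v = τ ((c - 1) * d') * (v * u) :=
    af_ext A hd hk (mul_mem uL vL) (mul_mem (T.mem _) (mul_mem vL uL)) fun x hx => by
      rw [mul_smul, mul_smul, T.act _ _ (hd.inv _ (hd.Lt_le (mul_mem vL uL)) x hx), mul_smul,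
        hc _ (hd.inv v (hd.Lt_le vL) x hx), hc' _ (hd.inv u (hd.Lt_le uL) x hx), hc x hx, hc' x hx]
      ring
  refine ⟨_, mul_ne_zero c1 d0, ?_⟩
  rw [← mul_inv_eq_iff_eq_mul] at h1
  rw [← h1]
  exact mul_mem (mul_mem hu2 hv2) (inv_mem (mul_mem hv2 hu2))

end Main

end H71.NA

namespace H51.HK

open MulAction Subgroup Matrix H69 H71.NA
open scoped MatrixGroups Classical commutatorElement

variable {G Ω : Type*} [Group G] [MulAction G Ω] [Finite G] [Finite Ω]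

variable {U : Ω → Subgroup G}

theorem n0a (h : Cx U) (hn : Nat.card Ω % 4 = 0) (h3 : Ty3 U) (hr : Rk2 G Ω) : NoAf U := by
  intro s t hs ht hc ⟨hA, hk⟩ hQ
  by_contra h1
  obtain ⟨a, b, ha, hb, hab⟩ := (Set.one_lt_ncard_iff (Set.toFinite _)).1
    (show 1 < (Fx Ω ({s, t} : Set G)).ncard by omega)
  have ha' := mem_Fx2.1 ha
  have hb' := mem_Fx2.1 hb
  obtain ⟨F, _, _, e, A⟩ := hA a (mem_Fx1.2 ha'.2) b (mem_Fx1.2 hb'.2) hab
  obtain ⟨τ, T⟩ := af_tau A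
  obtain ⟨σ, Q, -, -, -, hF, e4⟩ := af_inv A (h.ldY _) (mem_Fx1.2 ha'.2) (mem_Fx1.2 hb'.2)
    (mem_norm1.2 hc) ha'.1 hb'.1 hs.1 h1
  rw [fx_eq, Set.pair_comm] at e4
  have hst : s ≠ t := by
    rintro rfl
    exact h1 fun x hx => mem_Fx1.1 hx
  obtain ⟨k, hk'⟩ : ∃ k, Q = 2 ^ (k + 2) := by
    have := A.two
    obtain ⟨n, -, hn⟩ := FiniteField.card F 2
    obtain ⟨j, -, hj⟩ := (Nat.dvd_prime_pow Nat.prime_two).1
      (show Q ∣ 2 ^ (n : ℕ) by rw [← hn, hF]; exact dvd_pow_self _ two_ne_zero)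
    rcases j with _ | _ | j
    · omega
    · omega
    · exact ⟨j, hj⟩
  have hs' : Inv (s * t) := ⟨by rw [mul_assoc, ← mul_assoc t, ← hc, mul_assoc, ht.1, mul_one, hs.1],
    fun H => hst (by rw [eq_inv_of_mul_eq_one_left H, inv_eq_of_mul_eq_one_right ht.1])⟩
  have e5 : Fx Ω ({s * t, t} : Set G) = Fx Ω ({s, t} : Set G) := by
    ext x
    rw [mem_Fx2, mem_Fx2]
    exact and_congr_left fun H => by rw [mul_smul, H]
  have k1 := kind h hn h3 hs ht hc hab ha hb (e4.trans hk')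
  have k2 := kind h hn h3 hs' ht (by rw [mul_assoc, ← mul_assoc t, ← hc, mul_assoc]) hab
    (e5 ▸ ha) (e5 ▸ hb) (by rw [e5, e4, hk'])
  have bw := h.toCb.bw hs ht hst hc ha'.1 ha'.2
  have c0 := h.card_U a
  have two : ∀ Y : Set G, a ∈ Fx Ω Y → b ∈ Fx Ω Y →
      Nat.card (UY U Y a) + 1 = (Fx Ω Y).ncard := fun Y h1 h2 =>
    h.cardY h1 ((Set.one_lt_ncard_iff (Set.toFinite _)).2 ⟨a, b, h1, h2, hab⟩)
  have c1 := two _ ha hb
  have c2 := two _ (mem_Fx1.2 ha'.1) (mem_Fx1.2 hb'.1)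
  have c3 := two _ (mem_Fx1.2 ha'.2) (mem_Fx1.2 hb'.2)
  have c4 := two {s * t} (mem_Fx1.2 (by rw [mul_smul, ha'.2, ha'.1]))
    (mem_Fx1.2 (by rw [mul_smul, hb'.2, hb'.1]))
  have d4 := dvd_four h A hk T ht hr
  have full : ∀ g : G, (Fx Ω {g}).ncard = Nat.card Ω → g = 1 := fun g H =>
    h.faith g fun x => mem_Fx1.1 (by
      rw [Set.eq_of_subset_of_ncard_le (Set.subset_univ (Fx Ω {g})) (by rw [Set.ncard_univ, H])]
      trivial)
  have tn : (Fx Ω {t}).ncard ≠ Nat.card Ω := fun H => ht.2 (full t H)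
  rw [af_card A, hF] at c3 tn
  rw [hF] at d4
  rw [e4] at c1 hQ
  rw [← hk'] at k1 k2
  generalize Nat.card (U a) = m at bw c0
  generalize Nat.card (UY U {s, t} a) = x at bw c1
  generalize Nat.card (UY U {s} a) = u at bw c2
  generalize Nat.card (UY U {t} a) = w at bw c3
  generalize Nat.card (UY U {s * t} a) = v at bw c4
  have k0 : k = 0 := by
    by_contra k0
    subst c1
    have e6 : ∀ y, y + 1 = (x + 1) ^ 2 → y = x * (x + 2) := fun y H => by nlinarith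
    rw [e6 w c3] at bw
    rcases arith (by rw [pow_add] at hk'; have := Nat.one_le_two_pow (n := k); omega) bw
      (k1.imp (fun H => by omega) fun H => e6 u (c2.trans (H.resolve_right fun H => k0 H.1).1))
      (k2.imp (fun H => by omega) fun H => e6 v (c4.trans (H.resolve_right fun H => k0 H.1).1))
      (Nat.dvd_of_mul_dvd_mul_left two_pos (by rw [c0, ← mul_assoc]; exact d4)) with H | H
    · exact tn (by rw [← c0, H]; ring)
    · rw [H] at hk'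
      rcases k with _ | k
      · exact k0 rfl
      · rw [show k + 1 + 2 = k + 3 by ring, pow_add] at hk'; omega
  subst k0
  subst hk'
  obtain rfl : x = 3 := by omega
  obtain rfl : w = 15 := by omega
  obtain ⟨d, d0, d1, d2⟩ := exists_d h A hk T hab ha hb (by omega)
  have t2 := T.sq A (h.ldY _) hk d
  have t3 : τ d • a ≠ a := fun H => d0 (T.fix (mem_Fx1.2 ha'.2) H)
  have B : PQ U s t a ∨ PQ U (s * t) t a →
      (Nat.card Ω + 15 * (Fx Ω {τ d}).ncard) % 32 = 0 := fun H =>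
    burn32 h A hk T ht (mem_Fx1.2 ha'.2) hF d0
      (H.elim (fun H => H _ d1 t2 (tau_comm T d) t3) fun H => H _ d2 t2 (tau_comm T d) t3)
  have an : (Fx Ω {τ d}).ncard ≠ Nat.card Ω := fun H => t3 (by rw [full _ H, one_smul])
  have D : (Fx Ω {τ d}).ncard ≠ 0 → ∃ y, y + 1 = (Fx Ω {τ d}).ncard ∧ y ∣ m := fun H => by
    obtain ⟨c, hc⟩ := Set.nonempty_of_ncard_ne_zero H
    have h4 := h.toC0.parity t2
    refine ⟨_, h.cardY hc (by omega), ?_⟩
    rw [show m = Nat.card (U c) from Nat.add_right_cancel (c0.trans (h.card_U c).symm)]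
    exact card_dvd_of_le inf_le_left
  have R : RR U s a → (Fx Ω {τ d}).ncard ≠ 0 := fun H => by
    obtain ⟨c, hc⟩ := H _ d1 t2 t3
    exact Set.ncard_ne_zero_of_mem (mem_Fx1.2 hc)
  rw [← c2] at k1
  rw [← c4] at k2
  rw [← c0] at B an tn d4
  exact fin bw tn d4 (k1.imp_right (Or.imp_right fun H => ⟨H.2.1, H.2.2.1, R H.2.2.2⟩))
    (k2.imp_right (Or.imp_right fun H => ⟨H.2.1, H.2.2.1⟩)) B an D

end H51.HK
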