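import Cfsg.Agent.Lib.HK.N0Bb

/-! Degree divisible by four, no `SL₂` involution: two point stabilisers have 2-rank one
(helper22). -/

set_option autoImplicit false
set_option linter.unusedSectionVars false

namespace H51.HK

open MulAction Subgroup Matrix H69
open scoped MatrixGroups Classical commutatorElement

variable {G Ω : Type*} [Group G] [MulAction G Ω] [Finite G] [Finite Ω]

variable {U : Ω → Subgroup G}

namespace N0X

variable {t u : G} {a b : Ω} {F : Type} [Field F] [Fintype F] {e : Ω → OnePoint F}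
  {π : SL(2, F) →* G}

theorem neg_tr (h : Cx U) (q : L2Q (normalizer ({t} : Set G)) (Fx Ω {t}) (UY U {t}) a b F e π) :
    Tr (Fx Ω {t}) (π (-1)) := by
  refine (q.sc_tr (h.ldY {t}) ((h.ldY {t}).Lt_le (q.mem _))).2 ?_
  have := q.sc_dg (-1)
  rw [dg_neg_one] at this
  simpa using this

theorem neg_sq : π (-1) * π (-1) = 1 := by rw [← map_mul]; simp

theorem dg_one : dg (1 : Fˣ) = 1 := (mul_eq_left (a := dg (1 : Fˣ))).1 (by rw [← dg_mul, mul_one])

theorem dg_pow (c : Fˣ) (n : ℕ) : dg c ^ n = dg (c ^ n) := by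
  induction n with
  | zero => rw [pow_zero, pow_zero, dg_one]
  | succ n ih => rw [pow_succ, pow_succ, dg_mul, ih]

theorem ad_comm (h : Cx U) (h3 : Fintype.card F % 4 = 3) (tH : t ∈ Hb G a b)
    (q : L2Q (normalizer ({t} : Set G)) (Fx Ω {t}) (UY U {t}) a b F e π) (h1 : π (-1) = 1)
    (P : PL U a b t) {g : G} (gH : g ∈ Hb G a b) (c : g * t = t * g) {i : ℕ} (g2 : g ^ 2 ^ i = 1)
    (d : Fˣ) : g * π (ad d) = π (ad d) * g := by
  rcases q.pm3 (h.ldY {t}) (mem_Fx1.2 (mem_Hb.1 tH).1) (mem_Fx1.2 (mem_Hb.1 tH).2) h3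
    (mem_norm1.2 c) gH (tr1 g2) with r | r
  · exact P.ck h c r (q.mem _)
  · refine conj_eq_iff.1 ((q.conj_ad (c := -1) (mem_norm1.2 c) (by simpa using r) d).trans ?_)
    rw [← dg_mul_ad, dg_neg_one, map_mul, h1, one_mul]
    rfl

theorem qle (h : Cx U) (hn : Nat.card Ω % 4 = 0) {F' : Type} [Field F'] [Fintype F']
    {e' : Ω → OnePoint F'} (P : PL U a b t) (P' : PL U a b u) (ne : t ≠ u) (c : t * u = u * t)
    (q : L2Q (normalizer ({t} : Set G)) (Fx Ω {t}) (UY U {t}) a b F e π) (h1 : π (-1) = 1)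
    (q' : L2P (normalizer ({u} : Set G)) (Fx Ω {u}) (UY U {u}) a b F' e') :
    Fintype.card F ≤ Fintype.card F' := by
  have h3 := q3 h hn P.inv.1 q.toL2P
  have h3' := q3 h hn P'.inv.1 q'
  have hd := h.ldY {u}
  have mu : ∀ d, π (ad d) * u = u * π (ad d) := fun d =>
    (ad_comm h h3 P.tH q h1 P P'.tH c.symm (pw P'.inv.1) d).symm
  have m2 : ∀ d, π (ad d) * π (ad d) = 1 := fun d => by rw [← map_mul, ad_sq, h1]
  obtain ⟨γ, hγ⟩ := IsCyclic.exists_ofOrder_eq_natCard (α := Fˣ)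
  have e1 : π (dg γ) = π (ad γ) * π (ad 1) := by
    rw [← mul_one γ, ← dg_mul_ad, map_mul, mul_assoc, m2, mul_one, mul_one]
  have du : π (dg γ) * u = u * π (dg γ) := e1 ▸ mulc (mu _) (mu _)
  have dt : π (dg γ) * t = t * π (dg γ) := PL.Lc (q.mem _)
  have dH : π (dg γ) ∈ Hb G a b := ((q.mem_D (h.ldY {t}) (mem_Fx1.2 (mem_Hb.1 P.tH).1)
    (mem_Fx1.2 (mem_Hb.1 P.tH).2)).2 ⟨γ, rfl⟩).2
  obtain ⟨A, hA⟩ := q'.lin3 hd h3' (mem_norm1.2 (mu γ)) (tr1 (pw (m2 γ)))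
  obtain ⟨A', hA'⟩ := q'.lin3 hd h3' (mem_norm1.2 (mu 1)) (tr1 (pw (m2 1)))
  have k1 := Act.mul_lin hd (mem_norm1.2 (mu 1)) hA hA'
  rw [← e1] at k1
  obtain ⟨δ, σ, s⟩ := q'.sc (mem_Fx1.2 (mem_Hb.1 P'.tH).1) (mem_Fx1.2 (mem_Hb.1 P'.tH).2)
    (mem_norm1.2 du) dH
  obtain ⟨B, -, hB⟩ := s.act
  obtain rfl := (q'.uniq k1 hB).1
  have s1 := s.pow hd (mem_norm1.2 du) (Fintype.card F' - 1)
  rw [FiniteField.pow_card_sub_one_eq_one _ δ.ne_zero] at s1
  have s2 := (q'.sc_tr hd (mem_norm1.2 (powc du _))).2 s1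
  have ck := fun l (hl : l ∈ LY U {u}) => P'.ck h (powc du _) s2 hl
  have cancel : ∀ {x y z : G}, x * (y * z) = y * z * x → x * z = z * x → x * y = y * x :=
    fun {x y z} p r => by
      have := cmul p (invc r.symm).symm
      rwa [mul_inv_cancel_right] at this
  have k2 : π (dg γ) ^ (Fintype.card F' - 1) * π (ad 1) =
      π (ad 1) * π (dg γ) ^ (Fintype.card F' - 1) := by
    by_cases i : Inn (Fx Ω {u}) (UY U {u}) (π (ad 1))
    · exact (P'.dec h (mu 1) (m2 1) i).elim (ck _) fun d => cancel (ck _ d) (powc du _)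
    · have mt : π (ad 1) * t = t * π (ad 1) := PL.Lc (q.mem _)
      refine cancel ?_ (powc dt _)
      exact (P'.dec h (mulc (mu 1) c) (sq_mul (m2 1) P.inv.1 mt) (P'.om _ t (mu 1) c
        ⟨1, pw (m2 1)⟩ ⟨1, pw P.inv.1⟩ i (P'.out P.inv ne c (mem_Fx1.2 (mem_Hb.1 P'.tH).1)
          (mem_Hb.1 P.tH).1))).elim (ck _) fun d => cancel (ck _ d) (powc du _)
  have k3 := conj_eq_iff.2 k2.symm
  rw [← map_pow, dg_pow, ← map_inv, ← map_mul, ← map_mul, ad_conj_dg] at k3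
  have k4 : (γ ^ (Fintype.card F' - 1)) ^ 4 = 1 := by
    generalize γ ^ (Fintype.card F' - 1) = ε at k3
    rcases (q.eq_iff h1).1 k3 with r | r
    · rw [show 4 = 2 * 2 from rfl, pow_mul, pow_two ε, mul_eq_one_iff_inv_eq.2 (dg_inj r), one_pow]
    · rw [← neg_one_mul, ← dg_neg_one, ← dg_mul] at r
      have r1 : ε * ε = -1 := by
        have := congrArg (ε * ·) (dg_inj r)
        simp only [mul_inv_cancel, neg_mul, one_mul, mul_neg] at this
        exact (neg_eq_iff_eq_neg.1 this.symm)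
      rw [show 4 = 2 * 2 from rfl, pow_mul, pow_two ε, r1]
      simp
  rw [← pow_mul, ← orderOf_dvd_iff_pow_eq_one, hγ, Nat.card_units, Nat.card_eq_fintype_card] at k4
  obtain ⟨m, hm⟩ : ∃ m, Fintype.card F - 1 = 2 * (2 * m + 1) := ⟨Fintype.card F / 4, by omega⟩
  obtain ⟨m', hm'⟩ : ∃ m, Fintype.card F' - 1 = 2 * (2 * m + 1) := ⟨Fintype.card F' / 4, by omega⟩
  rw [hm, hm', mul_assoc] at k4
  have k5 := Nat.le_of_dvd (by omega) (Nat.Coprime.dvd_of_dvd_mul_right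
    ((Nat.coprime_two_right.2 (odd_two_mul_add_one m)).pow_right 2)
    (Nat.dvd_of_mul_dvd_mul_left two_pos k4))
  omega

theorem idx (h : Cx U) (hab : a ≠ b) (P : PL U a b t) {q : ℕ} (h1 : (Fx Ω {t}).ncard = q + 1)
    (h2 : Nat.card Ω = q ^ 3 + 1) (ho : Odd q) : Odd (normalizer ({t} : Set G)).index ↔
      Odd ((normalizer ({t} : Set G) ⊓ Hb G a b).relIndex (Hb G a b)) := by
  have e1 := h.ld.card (by rw [Set.ncard_univ]; exact h.three) le_top le_rfl (Set.mem_univ a)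
    (Set.mem_univ b) hab
  have e2 := (h.ldY {t}).card (by have := P.big; omega) (h.ldY {t}).Lt_le le_rfl
    (mem_Fx1.2 (mem_Hb.1 P.tH).1) (mem_Fx1.2 (mem_Hb.1 P.tH).2) hab
  have e3 := (normalizer ({t} : Set G)).index_mul_card
  have e4 := ((normalizer ({t} : Set G) ⊓ Hb G a b).subgroupOf (Hb G a b)).index_mul_card
  rw [Nat.card_congr (subgroupOfEquivOfLe inf_le_right).toEquiv] at e4
  rw [top_inf_eq, card_top, Set.ncard_univ, h2, ← e4, ← e3, e2, h1] at e1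
  have p : 0 < Nat.card ↥(normalizer ({t} : Set G) ⊓ Hb G a b) := Nat.card_pos
  unfold relIndex
  generalize (normalizer ({t} : Set G)).index = i at e1
  generalize ((normalizer ({t} : Set G) ⊓ Hb G a b).subgroupOf (Hb G a b)).index = j at e1
  generalize Nat.card ↥(normalizer ({t} : Set G) ⊓ Hb G a b) = c at e1 p
  obtain ⟨r, rfl⟩ := ho
  have e5 : i = (2 * (2 * r * r + r) + 1) * ((2 * r + 1) * (2 * r + 1)) * j := by
    refine Nat.eq_of_mul_eq_mul_right (show 0 < (2 * r + 1 + 1) * (2 * r + 1) * c by positivity) ?_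
    simp only [Nat.add_sub_cancel] at e1
    rw [e1]
    ring
  rw [e5]
  simp only [Nat.odd_mul, odd_two_mul_add_one, true_and]

theorem cv (h : Cx U) (P : PL U a b t) (P' : PL U a b u) (ne : t ≠ u) (c : t * u = u * t) {g : G}
    (gH : g ∈ Hb G a b) (gt : g * t = t * g) (gu : g * u = u * g) {i : ℕ} (g2 : g ^ 2 ^ i = 1) :
    g ∈ zpowers t ⊔ zpowers u := by
  have k0 : ∀ g, g * t = t * g → g * u = u * g → g ^ 2 ^ (i + 1) = 1 → Tr (Fx Ω {t}) g →
      Tr (Fx Ω {u}) g → g = 1 := fun g gt gu g2 r r' => by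
    by_contra g1
    obtain ⟨j, hj⟩ := exists_inv g2 g1
    exact ne (((P.uk _ (powc gt _) (r.pow _) hj.1).resolve_left hj.2).symm.trans
      ((P'.uk _ (powc gu _) (r'.pow _) hj.1).resolve_left hj.2))
  have p2 : ∀ {g v : G}, g ^ 2 ^ (i + 1) = 1 → v * v = 1 → g * v = v * g →
      (g * v) ^ 2 ^ (i + 1) = 1 := fun g2 v2 c => by
    rw [Commute.mul_pow c, g2, pow_succ', pow_mul, pow_two, v2, one_pow, one_mul]
  have k1 : ∀ g ∈ Hb G a b, g * t = t * g → g * u = u * g → g ^ 2 ^ (i + 1) = 1 → Tr (Fx Ω {t}) g →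
      g ∈ zpowers t := fun g gH gt gu g2 r => by
    by_cases r' : Tr (Fx Ω {u}) g
    · rw [k0 g gt gu g2 r r']; exact one_mem _
    · refine (mul_mem_cancel_right (mem_zpowers t)).1 ?_
      rw [k0 (g * t) (mulc gt rfl) (mulc gu c) (p2 g2 P.inv.1 gt) (r.mul (tr_self t))
        (P'.pm g gH t P.tH gu c ⟨_, g2⟩ ⟨1, pw P.inv.1⟩ r'
          fun d => (P'.uk t c d P.inv.1).elim P.inv.2 ne)]
      exact one_mem _
  have g3 : g ^ 2 ^ (i + 1) = 1 := by rw [pow_succ, pow_mul, g2, one_pow]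
  by_cases r : Tr (Fx Ω {t}) g
  · exact mem_sup_left (k1 g gH gt gu g3 r)
  · exact (mul_mem_cancel_right (mem_sup_right (mem_zpowers u))).1 (mem_sup_left
      (k1 (g * u) (mul_mem gH P'.tH) (mulc gt c.symm) (mulc gu rfl) (p2 g3 P'.inv.1 gu)
        (P.pm g gH u P'.tH gt c.symm ⟨_, g3⟩ ⟨1, pw P'.inv.1⟩ r
          fun d => (P.uk u c.symm d P'.inv.1).elim P'.inv.2 ne.symm)))

theorem memV {g : G} (ht : t * t = 1) (hu : u * u = 1) (c : t * u = u * t)
    (hg : g ∈ zpowers t ⊔ zpowers u) : g = 1 ∨ g = t ∨ g = u ∨ g = t * u := by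
  rcases mem_sup2 hu (centralizer_le_normalizer _ (by
    rw [centralizer_zpowers]; exact mc.2 c.symm)) hg with d | d <;> rcases mem_zp ht d with d | d
  · exact Or.inl d
  · exact Or.inr (Or.inl d)
  · exact Or.inr (Or.inr (Or.inl (by rw [eq_inv_of_mul_eq_one_left d, inv_eq hu])))
  · exact Or.inr (Or.inr (Or.inr (by rw [← d, mul_assoc, hu, mul_one])))

theorem swap (h : Cx U) (P : PL U a b t) (P' : PL U a b u) (ne : t ≠ u) (c : t * u = u * t)
    {T : Subgroup G} (hT : IsPGroup 2 T) (l : T ≤ normalizer ({t} : Set G) ⊓ Hb G a b)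
    (lt : zpowers t ⊔ zpowers u < T) : IsConj u (t * u) := by
  obtain ⟨g, ⟨gT, gN⟩, gV⟩ := SetLike.exists_of_lt (lt_inf_normalizer_of_lt hT lt)
  have gt := mem_norm1.1 (l gT).1
  rcases memV P.inv.1 P'.inv.1 c (conj_mem_of_mem_normalizer gN (mem_sup_right (mem_zpowers u)))
    with d | d | d | d
  · exact absurd d (inv_cj P'.inv g).2
  · exact absurd ((MulAut.conj g).injective ((conj_eq_iff.2 gt).trans d.symm)) ne
  · obtain ⟨i, hi⟩ := two_of hT gT
    exact absurd (cv h P P' ne c (l gT).2 gt (conj_eq_iff.1 d) hi) gV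
  · exact ic' d

theorem core (h : Cx U) (hab : a ≠ b) (P : PL U a b t) (P' : PL U a b u) (ne : t ≠ u)
    (c : t * u = u * t) {q : ℕ} (h1 : (Fx Ω {t}).ncard = q + 1) (h1' : (Fx Ω {u}).ncard = q + 1)
    (h2 : Nat.card Ω = q ^ 3 + 1) (ho : Odd q) {T : Subgroup G} (hT : IsSylowIn 2 T (Hb G a b))
    (tT : t ∈ T) (uT : u ∈ T) (hc : ∀ g ∈ T, g * t = t * g) : False := by
  have od : ∀ {n : ℕ}, ¬ 2 ∣ n ↔ Odd n := by
    intro n; rw [Nat.odd_iff]; omega
  have l : T ≤ normalizer ({t} : Set G) ⊓ Hb G a b := fun g hg => ⟨mem_norm1.2 (hc g hg), hT.le hg⟩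
  have i1 := (idx h hab P h1 h2 ho).2 (od.1 (hT.not_dvd_relIndex_of_le l inf_le_right))
  obtain ⟨S, hS, TS⟩ := exists_isSylowIn_le hT.isP (l.trans inf_le_left)
  have hS' : IsSylowIn 2 S ⊤ := hS.trans_of_not_dvd le_top (by rw [relIndex_top_right]; exact od.2 i1)
  obtain ⟨z, x, Y⟩ := exists_SY h P hS' (fun s hs => mem_norm1.1 (hS.le hs)) (TS tT) (TS uT) P'.inv.1
    (P.out P'.inv ne.symm c.symm (mem_Fx1.2 (mem_Hb.1 P.tH).1) (mem_Hb.1 P'.tH).1)
  by_cases hK : ∀ k ∈ S, Tr (Fx Ω {t}) k → k = 1 ∨ k = t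
  · exact Y.fin h P P' ne (Y.small h P hK) ((Y.mul_t h P).small h P hK)
  push Not at hK
  obtain ⟨k, kS, hk, k1, kt⟩ := hK
  have VT : zpowers t ⊔ zpowers u ≤ T := sup_le (zpowers_le.2 tT) (zpowers_le.2 uT)
  have lt : zpowers t ⊔ zpowers u < T := by
    refine lt_of_le_of_ne VT fun d => ?_
    have kT : k ∈ T := (hT.max (S ⊓ Hb G a b) (le_inf TS hT.le) inf_le_right hS.isP.to_inf_left).le
      ⟨kS, mem_Hb.2 ⟨hk a (mem_Fx1.2 (mem_Hb.1 P.tH).1), hk b (mem_Fx1.2 (mem_Hb.1 P.tH).2)⟩⟩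
    rcases memV P.inv.1 P'.inv.1 c (d ▸ kT) with r | r | r | r
    · exact k1 r
    · exact kt r
    · exact Y.uo ⟨1, one_mem _, by simpa [r] using hk⟩
    · exact (Y.mul_t h P).uo ⟨1, one_mem _, by simpa [r] using hk⟩
  have c1 := swap h P P' ne c hT.isP l lt
  have i2 : Odd (normalizer ({u} : Set G)).index := by
    obtain ⟨y, hy, cy⟩ : ∃ y, IsConj y u ∧ ∀ s ∈ S, s * y = y * s := by
      rcases Y.all h P P'.inv with d | d | d
      · exact ⟨_, d.symm, Y.cen⟩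
      · exact ⟨_, d.symm, Y.zc⟩
      · exact ⟨_, d.symm, fun s hs => cmul (Y.zc s hs) (Y.cen s hs)⟩
    obtain ⟨g, rfl⟩ := isConj_iff.1 hy
    have := (hS'.cj_of_mem (mem_top g)).not_dvd_relIndex_of_le
      (K := normalizer ({g * y * g⁻¹} : Set G)) (fun s hs => by
        obtain ⟨s', hs', rfl⟩ := mem_cj'.1 hs
        exact mem_norm1.2 (cjc g (cy s' hs'))) le_top
    rw [relIndex_top_right] at this
    exact od.1 this
  obtain ⟨T', hT', VT'⟩ := exists_isSylowIn_le (hT.isP.to_le VT)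
    (L := normalizer ({u} : Set G) ⊓ Hb G a b) (le_inf
      (sup_le (zpowers_le.2 (mem_norm1.2 c)) (zpowers_le.2 (mem_norm1.2 rfl))) (VT.trans hT.le))
  have e := (hT'.trans_of_not_dvd inf_le_right (od.2 ((idx h hab P' h1' h2 ho).1 i2))).card_eq hT
  have c2 := swap h P' P ne.symm c.symm hT'.isP hT'.le (by
    rw [sup_comm]
    refine lt_of_le_of_ne VT' fun d => lt.ne (eq_of_le_of_card_ge VT ?_)
    rw [d, e])
  rw [← c] at c2
  exact Y.fin h P P' ne (c2.trans c1.symm) c2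

end N0X

open N0X in
theorem n0b (h : Cx U) (hn : Nat.card Ω % 4 = 0) (hr : Rk2 G Ω) (hV : NV G Ω) (hL : AllL U)
    (hS : ∀ x : G, ¬ SLt U x) : Rk1 G Ω := by
  intro a b hab s sH t tH hs ht c
  by_contra ne
  have hP : ∀ v, Inv v → v ∈ Hb G a b → ∃ (F : Type) (_ : Field F) (_ : Fintype F)
      (e : Ω → OnePoint F) (π : SL(2, F) →* G),
      L2Q (normalizer ({v} : Set G)) (Fx Ω {v}) (UY U {v}) a b F e π ∧ π (-1) = 1 ∧
        PL U a b v := fun v hv vH => by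
    have tl := hL v hv ⟨a, (mem_Hb.1 vH).1⟩
    obtain ⟨F, _, _, e, π, q⟩ := tl a (mem_Fx1.2 (mem_Hb.1 vH).1) b (mem_Fx1.2 (mem_Hb.1 vH).2) hab
    have uk : ∀ k, k * v = v * k → Tr (Fx Ω {v}) k → k * k = 1 → k = 1 ∨ k = v :=
      fun k kv hk k2 => by
        by_contra d
        push Not at d
        have h1 := hV k v ⟨k2, d.1⟩ hv d.2 kv
        have h2 := big3 (q3 h hn hv.1 q.toL2P) q.toL2P
        have h3 := Set.ncard_le_ncard (s := Fx Ω {v}) (t := Fx Ω ({k, v} : Set G))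
          fun x hx => mem_Fx2.2 ⟨hk x hx, mem_Fx1.1 hx⟩
        omega
    have h1 : π (-1) = 1 := (uk _ (PL.Lc (q.mem _)) (neg_tr h q) neg_sq).resolve_right
      fun d => hS v ⟨hv, by have := q.mem (-1); rwa [d] at this, tl⟩
    exact ⟨F, _, _, e, π, q, h1, pl_of h hn hv vH q h1 uk⟩
  have hq : ∀ v w, Inv v → Inv w → v ∈ Hb G a b → w ∈ Hb G a b → v ≠ w → v * w = w * v →
      (Fx Ω {v}).ncard ≤ (Fx Ω {w}).ncard := fun v w hv hw vH wH n d => by
    obtain ⟨F, _, _, e, π, q, h1, P⟩ := hP v hv vH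
    obtain ⟨F', _, _, e', π', q', -, P'⟩ := hP w hw wH
    rw [q.card, q'.card]
    exact Nat.succ_le_succ (qle h hn P P' n d q h1 q'.toL2P)
  have pl : ∀ v, Inv v → v ∈ Hb G a b → PL U a b v := fun v hv vH =>
    let ⟨_, _, _, _, _, _, _, P⟩ := hP v hv vH
    P
  have hst := inv_mul' hs ht ne c
  have stH := mul_mem sH tH
  have n1 : s * t ≠ s := fun d => ht.2 (mul_eq_left.1 d)
  have c1 : s * t * s = s * (s * t) := mulc rfl c.symm
  have e1 := le_antisymm (hq t s ht hs tH sH (Ne.symm ne) c.symm) (hq s t hs ht sH tH ne c)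
  have e2 := le_antisymm (hq _ s hst hs stH sH n1 c1) (hq s _ hs hst sH stH n1.symm c1.symm)
  have sa := (mem_Hb.1 sH).1
  have ta := (mem_Hb.1 tH).1
  have b1 := h.bw hs ht ne c sa ta
  have b2 := h.card2 hs.1 ht.1 c sa ta
  have b3 := hV s t hs ht ne c
  have b4 : 0 < Nat.card (UY U {s, t} a) := Nat.card_pos
  have b5 := h.card1 hs.1 sa
  have b6 := h.card1 ht.1 ta
  have b7 := h.card1 hst.1 (mem_Hb.1 stH).1
  have b8 := h.card_U a
  have b9 := h.parity hs.1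
  generalize Nat.card (UY U {s} a) = q at b1 b5
  rw [show Nat.card (UY U {s, t} a) = 1 by omega, show Nat.card (UY U {t} a) = q by omega,
    show Nat.card (UY U {s * t} a) = q by omega] at b1
  have h2 : Nat.card Ω = q ^ 3 + 1 := by rw [← b8, pow_three, ← mul_assoc, ← b1]; simp
  have ho : Odd q := by rw [Nat.odd_iff]; omega
  obtain ⟨T, hT, VT⟩ := exists_isSylowIn_le (R := zpowers s ⊔ zpowers t) (L := Hb G a b)
    ((zp2 (pw hs.1)).to_sup_of_normal_left' (zp2 (pw ht.1)) (zpowers_le.2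
      (centralizer_le_normalizer _ (by rw [centralizer_zpowers]; exact mc.2 c.symm))))
    (sup_le (zpowers_le.2 sH) (zpowers_le.2 tH))
  have sT : s ∈ T := VT (mem_sup_left (mem_zpowers s))
  have tT : t ∈ T := VT (mem_sup_right (mem_zpowers t))
  obtain ⟨z, zT, zi, zc⟩ := exists_cent hT.isP hT.isP le_normalizer
    fun d => hs.2 (mem_bot.1 (d ▸ sT))
  rcases hr a b hab s sH t tH z (hT.le zT) hs ht ne zi.1 c (zc s sT) (zc t tT) with
    rfl | rfl | rfl | rfl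
  · exact zi.2 rfl
  · exact core h hab (pl _ hs sH) (pl _ ht tH) ne c b5.symm (e1.trans b5.symm) h2 ho hT sT tT zc
  · exact core h hab (pl _ ht tH) (pl _ hs sH) (Ne.symm ne) c.symm (e1.trans b5.symm) b5.symm h2 ho
      hT tT sT zc
  · exact core h hab (pl _ hst stH) (pl _ hs sH) n1 c1 (e2.trans b5.symm) b5.symm h2 ho hT zT sT zc

end H51.HK
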