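import Cfsg.Agent.Lib.HK.SLB

/-! The case `n ≡ 0 (4)`: an involution of type `SL₂(q)` without hyperbolic conjugates. -/

set_option autoImplicit false
set_option linter.unusedSectionVars false

namespace H51.HK

open MulAction Subgroup Matrix H69
open scoped MatrixGroups Classical commutatorElement

variable {G Ω : Type*} [Group G] [MulAction G Ω] [Finite G] [Finite Ω]

variable {U : Ω → Subgroup G}

namespace N0D

theorem second_centre {S X : Subgroup G} (hS : IsPGroup 2 S) (R : Subgroup G) :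
    R ≤ S → S ≤ normalizer R → ¬ R ≤ X → ∃ c ∈ R, c ∉ X ∧ ∀ s ∈ S, ⁅s, c⁆ ∈ X := by
  induction R using WellFoundedLT.induction with
  | ind R ih =>
    intro h1 h2 h3
    by_cases k : ⁅R, S⁆ ≤ X
    · obtain ⟨c, c1, c2⟩ := SetLike.not_le_iff_exists.1 h3
      exact ⟨c, c1, c2, fun s hs => k (commutator_comm S R ▸ commutator_mem_commutator hs c1)⟩
    · have lt := commutator_lt_of_isPGroup (hS.to_le h1) hS h2 fun e => h3 (e ▸ bot_le)
      obtain ⟨c, c1, c2⟩ := ih _ lt (lt.le.trans h1)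
        (le_normalizer_commutator h2 le_normalizer) k
      exact ⟨c, lt.le c1, c2⟩

theorem mem_two {x g : G} (h : x * x = 1) (hg : g ∈ zpowers x) : g = 1 ∨ g = x := by
  obtain ⟨k, rfl⟩ := hg
  have e : ∀ j : ℤ, x ^ (2 * j) = 1 := fun j => by rw [_root_.zpow_mul, zpow_two, h, _root_.one_zpow]
  rcases Int.even_or_odd' k with ⟨j, rfl | rfl⟩
  · exact Or.inl (e j)
  · exact Or.inr (by simp only [_root_.zpow_add, e, one_mul, zpow_one])

/-- a normal cyclic subgroup of order four -/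
theorem norm4 {S R : Subgroup G} (hS : IsPGroup 2 S) (h1 : R ≤ S) (h2 : S ≤ normalizer R) {x l γ : G}
    (hx : Inv x) (cx : ∀ s ∈ S, s * x = x * s) (hu : ∀ r ∈ R, r * r = 1 → r = 1 ∨ r = x) (hl : l ∈ R)
    (l2 : l * l = x) (hγ : γ ∈ S) (hc : ∀ c ∈ R, γ * γ * c = c * (γ * γ) → l * c = c * l) :
    ∀ s ∈ S, s * l * s⁻¹ = l ∨ s * l * s⁻¹ = l * x := by
  have key : ∀ i : ℕ, ∀ c ∈ R, c ≠ 1 → c ≠ x → (∀ s ∈ S, s * c * s⁻¹ = c ∨ s * c * s⁻¹ = c * x) →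
      c ^ 2 ^ i = 1 → ∃ c ∈ R, c * c = x ∧ ∀ s ∈ S, s * c * s⁻¹ = c ∨ s * c * s⁻¹ = c * x := fun i => by
    induction i with
    | zero => exact fun c _ a _ _ b => absurd (by simpa using b) a
    | succ i ih =>
      intro c c1 c2 c3 c4 c5
      by_cases e : c * c = x
      · exact ⟨c, c1, e, c4⟩
      refine ih (c * c) (mul_mem c1 c1) (fun k => (hu c c1 k).elim c2 c3) e (fun s hs => Or.inl ?_)
        (by rw [← pow_two, ← pow_mul, ← pow_succ', c5])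
      rw [← _root_.conj_mul]
      rcases c4 s hs with k | k <;> rw [k]
      rw [mul_assoc, ← mul_assoc x, ← cx c (h1 c1), mul_assoc, hx.1, mul_one]
  obtain ⟨c, c1, c2, c3⟩ := second_centre (X := zpowers x) hS R h1 h2 fun k => by
    rcases mem_two hx.1 (k hl) with rfl | rfl
    · exact hx.2 (by rw [← l2, mul_one])
    · exact hx.2 (mul_left_cancel (l2.trans (mul_one _).symm))
  obtain ⟨i, hi⟩ := hS ⟨c, h1 c1⟩
  obtain ⟨c, c1, c2, c3⟩ := key i c c1 (fun e => c2 (e ▸ one_mem _)) (fun e => c2 (e ▸ mem_zpowers _))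
    (fun s hs => (mem_two hx.1 (c3 s hs)).imp mul_inv_eq_one.1 fun k => by
      rw [cx c (h1 c1)]; exact mul_inv_eq_iff_eq_mul.1 k) (congrArg Subtype.val hi)
  have cc := hc c c1 (mul_inv_eq_iff_eq_mul.1 (by
    rw [show γ * γ * c * (γ * γ)⁻¹ = γ * (γ * c * γ⁻¹) * γ⁻¹ by group]
    rcases c3 γ hγ with k | k
    · rw [k, k]
    · rw [k, ← _root_.conj_mul, k, conj_eq_iff.2 (cx γ hγ), mul_assoc, hx.1, mul_one]))
  have lx := cx l (h1 hl)
  have e : l = c⁻¹ ∨ l = c⁻¹ * x := by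
    refine (hu (l * c) (mul_mem hl c1) ?_).imp eq_inv_of_mul_eq_one_left fun k => ?_
    · rw [mul_assoc, ← mul_assoc c, ← cc, mul_assoc, c2, ← mul_assoc, l2, hx.1]
    · rw [← k, cc, inv_mul_cancel_left]
  have xi : x⁻¹ = x := inv_eq_of_mul_eq_one_right hx.1
  have e2 : ∀ s ∈ S, s * c⁻¹ * s⁻¹ = c⁻¹ ∨ s * c⁻¹ * s⁻¹ = c⁻¹ * x := fun s hs =>
    (c3 s hs).imp (fun k => by rw [← conj_inv, k]) fun k => by
      rw [← conj_inv, k, cx c (h1 c1), _root_.mul_inv_rev, xi]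
  intro s hs
  rcases e with rfl | rfl
  · exact e2 s hs
  · rw [← _root_.conj_mul, conj_eq_iff.2 (cx s hs)]
    exact (e2 s hs).imp (fun k => by rw [k]) fun k => by rw [k]

theorem two_of_pow {g : G} {i : ℕ} (h : g ^ 2 ^ i = 1) : IsPGroup 2 (zpowers g) := by
  rintro ⟨_, k, rfl⟩
  refine ⟨i, Subtype.ext ?_⟩
  change (g ^ k) ^ 2 ^ i = 1
  rw [← zpow_natCast, zpow_comm, zpow_natCast, h, _root_.one_zpow]

theorem two_sup {g g' : G} {i j : ℕ} (h : g ^ 2 ^ i = 1) (h' : g' ^ 2 ^ j = 1) (hc : g * g' = g' * g) :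
    IsPGroup 2 ↥(zpowers g ⊔ zpowers g') :=
  (two_of_pow h).to_sup_of_normal_right' (two_of_pow h') (zpowers_le.2 (mem_normalizer_of_cj_le (by
    rw [cj_zpowers, conj_eq_iff.2 hc])))

theorem inn_mul {N : Subgroup G} {Δ : Set Ω} {V : Ω → Subgroup G} (hd : LD N Δ V) {g g' : G}
    (h : Inn Δ V g) (h' : Inn Δ V g') : Inn Δ V (g * g') := by
  obtain ⟨l, l1, l2⟩ := h
  obtain ⟨l', l1', l2'⟩ := h'
  refine ⟨l * l', mul_mem l1 l1', fun z hz => ?_⟩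
  have a := l2' z hz
  rw [mul_smul, inv_smul_eq_iff] at a
  have b := l2 _ (hd.inv l' (hd.Lt_le l1') z hz)
  rw [mul_smul, inv_smul_eq_iff] at b
  rw [mul_smul, mul_smul, a, b, inv_smul_eq_iff, mul_smul]

variable {x y l k γ : G}

theorem noHyp_conj (hy : NoHyp Ω x) (hc : IsConj x y) : NoHyp Ω y := by
  obtain ⟨g, rfl⟩ := isConj_iff.1 hc
  rintro z h1 h2 ⟨c, c1, c2⟩
  obtain ⟨z, rfl⟩ : ∃ w, z = g * w * g⁻¹ := ⟨g⁻¹ * z * g, by group⟩
  obtain ⟨c, rfl⟩ : ∃ d, c = g • d := ⟨g⁻¹ • c, by simp⟩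
  rw [hy z (hc.trans (h1.trans (isConj_iff.2 ⟨g, rfl⟩).symm)) ((conj_comm_iff g x z).1 h2)
    ⟨c, mem_Fx1.1 ((Fx_conj g x c).1 (mem_Fx1.2 c1)), mem_Fx1.1 ((Fx_conj g z c).1 (mem_Fx1.2 c2))⟩]

theorem ker_L (h : Cx U) (hx : SLt U x) {g : G} (hg : g ∈ LY U {x}) (ht : Tr (Fx Ω {x}) g) :
    g = 1 ∨ g = x := by
  obtain ⟨a, b, F, _, _, e, π, hq, h1, -⟩ := hx.slb_coord h
  exact h1 ▸ hq.ker hg ht

theorem inv_L (h : Cx U) (hx : SLt U x) {g : G} (hg : g ∈ LY U {x}) (g2 : g * g = 1) :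
    g = 1 ∨ g = x := by
  obtain ⟨a, b, F, _, _, e, π, hq, h1, hi⟩ := hx.slb_coord h
  obtain ⟨B, rfl⟩ := hq.range.ge hg
  exact (sl2_sq hq.odd (hi (by rw [map_mul, g2, map_one]))).imp (fun k => by rw [k, map_one])
    fun k => by rw [k, h1]

theorem q3 (h : Cx U) (hn : Nat.card Ω % 4 = 0) (hx : Inv x) {a b : Ω} {F : Type} [Field F] [Fintype F]
    {e : Ω → OnePoint F} (hq : L2P (normalizer ({x} : Set G)) (Fx Ω {x}) (UY U {x}) a b F e) :
    Fintype.card F % 4 = 3 := by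
  have h1 := hq.card
  have h2 := h.toC0.parity hx.1
  omega

theorem ell (h : Cx U) (hn : Nat.card Ω % 4 = 0) (hV : NV G Ω) (hx : SLt U x) (hy : NoHyp Ω x)
    (hc : IsConj x y) (yx : y ≠ x) (cm : y * x = x * y) : Inn (Fx Ω {x}) (UY U {x}) y := by
  obtain ⟨a, b, F, _, _, e, π, hq, -, -⟩ := hx.slb_coord h
  have yi := hx.1.conj hc
  obtain ⟨A, hA⟩ := hV.lin h hx.1 hq.toL2P yi.1 cm
  have h4 := hx.three h
  rcases hq.toL2P.hyp_ell (h.ldY _) (mem_norm1.2 cm) (slb_tr_one yi.1)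
    (hV.slb_ntr hx.1 (by omega) yi yx cm) hA with ⟨k, -⟩ | ⟨-, k⟩
  · obtain ⟨c, c1, c2⟩ := Set.nonempty_of_ncard_ne_zero (k.trans_ne two_ne_zero)
    exact absurd (hy y hc cm.symm ⟨c, mem_Fx1.1 c1, c2⟩) yx
  · exact k.2 (q3 h hn hx.1 hq.toL2P)

theorem tor (h : Cx U) (hn : Nat.card Ω % 4 = 0) (hx : SLt U x) (hl : l ∈ LY U {x}) (l2 : l * l = x)
    {C : Subgroup G} (hC : IsPGroup 2 C) (cx : ∀ g ∈ C, g * x = x * g) (cl : ∀ g ∈ C, g * l = l * g) :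
    ∃ (m : ℕ) (χ : C →* Multiplicative (ZMod m)), m = (Fx Ω {x}).ncard ∧
      (∀ g : C, χ g = 1 ↔ Tr (Fx Ω {x}) (g : G)) ∧
      (∀ g : C, Inn (Fx Ω {x}) (UY U {x}) (g : G) ↔ IsSquare (χ g)) ∧
      ∀ (y : G) (i : ℕ), y * x = x * y → y ^ 2 ^ i = 1 → y * l * y⁻¹ = l * x →
        ∀ g g' : C, (g' : G) = y * g * y⁻¹ → χ g' = (χ g)⁻¹ := by
  obtain ⟨a, b, F, _, _, e, π, hq, h1, hi⟩ := hx.slb_coord h
  obtain ⟨B, rfl⟩ := hq.range.ge hl
  have q := q3 h hn hx.1 hq.toL2P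
  have lin : ∀ (g : G) (i : ℕ), g * x = x * g → g ^ 2 ^ i = 1 →
      ∃ A : GL (Fin 2) F, Act e (Fx Ω {x}) g A (RingEquiv.refl F) := fun g i a b =>
    hq.toL2P.lin3 (h.ldY _) q (mem_norm1.2 a) (slb_tr_one b)
  obtain ⟨m, χ, k1, k2, k3, k4⟩ := hq.torus (h.ldY _) (h1 ▸ hx.1.2) (B := B) (hi (by rw [map_mul, l2, h1]))
    (fun g hg => mem_norm1.2 (cx g hg)) (fun g hg => by
      obtain ⟨i, hi⟩ := hC ⟨g, hg⟩
      exact lin g i (cx g hg) (congrArg Subtype.val hi)) cl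
  refine ⟨m, χ, by rw [k1, if_neg (by omega), hq.toL2P.card], k2, k3, fun y i y1 y2 y3 =>
    k4 y (mem_norm1.2 y1) (lin y i y1 y2) ?_⟩
  rw [y3, map_inv, eq_inv_iff_mul_eq_one, mul_assoc,
    ← mem_centralizer_singleton_iff.1 (LY_le U _ hl), ← mul_assoc, l2, hx.1.1]

theorem nl (h : Cx U) (hx : SLt U x) (hl : l ∈ LY U {x}) (hk : k ∈ KY Ω ({x} : Set G)) {g : G}
    (gx : g * x = x * g) (gy : g * (l * k) = l * k * g) : g * l * g⁻¹ = l ∨ g * l * g⁻¹ = l * x := by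
  have gN := mem_norm1.2 gx
  have e : l⁻¹ * (g * l * g⁻¹) = k * (g * k⁻¹ * g⁻¹) := by
    calc l⁻¹ * (g * l * g⁻¹) = l⁻¹ * (g * (l * k)) * k⁻¹ * g⁻¹ := by group
      _ = _ := by rw [gy]; group
  refine (ker_L h hx (mul_mem (inv_mem hl) ((h.ldY _).Lt_conj gN hl)) (e ▸ (mem_KY1.1 hk).2.mul
    fun z hz => ?_)).imp (fun k => (inv_mul_eq_one.1 k).symm) inv_mul_eq_iff_eq_mul.1
  rw [mul_smul, mul_smul, (mem_KY1.1 hk).2.inv _ (Fx_norm (inv_mem gN) hz), smul_inv_smul]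

theorem lk (h : Cx U) (hV : NV G Ω) (hx : SLt U x) (hy : SLt U y) (yx : y ≠ x) (cm : y * x = x * y)
    (i : ℕ) : ∀ d ∈ LY U {y}, d ^ 2 ^ i = 1 → Tr (Fx Ω {x}) d → d = 1 := by
  have h4 := hx.three h
  induction i with
  | zero => exact fun d _ a _ => by simpa using a
  | succ i ih =>
    intro d d1 d2 d3
    refine (inv_L h hy d1 (ih _ (mul_mem d1 d1) ?_ (d3.mul d3))).resolve_right fun e =>
      hV.slb_ntr hx.1 (by omega) hy.1 yx cm (e ▸ d3)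
    rw [← pow_two, ← pow_mul, ← pow_succ', d2]

theorem gam (h : Cx U) (hn : Nat.card Ω % 4 = 0) (hy : SLt U y) (hl : l ∈ LY U {y})
    (hk : k ∈ KY Ω ({y} : Set G)) (l2 : l * l = y) : (∃ γ ∈ LY U {y}, ∃ a o : ℕ, Odd o ∧
      (Fx Ω {y}).ncard = 2 ^ (a + 2) * o ∧ γ ^ 2 ^ (a + 1) = y ∧ γ * (l * k) = l * k * γ) ∧
      ∀ d ∈ LY U {y}, ∀ d' ∈ LY U {y}, d * (l * k) = l * k * d → d' * (l * k) = l * k * d' →
        d * d' = d' * d := by
  obtain ⟨a, b, F, _, _, e, π, hq, h1, hi⟩ := hy.slb_coord h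
  have h4 := hy.three h
  have ck : ∀ d ∈ LY U {y}, k * d = d * k := fun d hd =>
    (h.ldY _).commK (h.faithY (by omega)) hk.1 (mem_KY1.1 hk).2 hd
  obtain ⟨B, rfl⟩ := hq.range.ge hl
  have q := q3 h hn hy.1 hq.toL2P
  obtain ⟨c1, c2⟩ := sl2_cent4 hq.odd (B := B) (hi (by rw [map_mul, l2, h1]))
  rw [if_neg (by omega), ← hq.toL2P.card] at c2
  have iff : ∀ D, π D * (π B * k) = π B * k * π D ↔ D ∈ centralizer {B} := fun D => by
    rw [mul_assoc, ck _ (hq.mem D), ← mul_assoc, ← mul_assoc, mul_left_inj, ← map_mul, ← map_mul,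
      hi.eq_iff, mem_centralizer_singleton_iff]
  refine ⟨?_, fun d hd d' hd' => ?_⟩
  · obtain ⟨g, hg⟩ := c1.exists_ofOrder_eq_natCard
    obtain ⟨i, o, o1, o2⟩ := Nat.exists_eq_two_pow_mul_odd (n := (Fx Ω {y}).ncard) (by omega)
    have p := h.toC0.parity hy.1.1
    obtain ⟨i, rfl⟩ : ∃ j, i = j + 2 := by
      have := Nat.odd_iff.1 o1
      rcases i with _ | _ | i
      exacts [by omega, by omega, ⟨i, rfl⟩]
    rw [c2, o2, ← orderOf_coe] at hg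
    refine ⟨π (g.1 ^ o), hq.mem _, i, o, o1, o2, ?_, (iff _).2 (pow_mem g.2 o)⟩
    rw [← map_pow, ← h1, ← pow_mul]
    refine congrArg π ((sl2_sq hq.odd ?_).resolve_left fun k => ?_)
    · rw [← pow_add, ← orderOf_dvd_iff_pow_eq_one, hg]
      exact Dvd.intro 1 (by ring)
    · have := Nat.le_of_dvd (Nat.mul_pos o1.pos (by positivity)) (hg ▸ orderOf_dvd_of_pow_eq_one k)
      have := Nat.mul_pos o1.pos (show 0 < 2 ^ (i + 1) by positivity)
      rw [pow_succ 2 (i + 1)] at *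
      nlinarith
  · obtain ⟨D, rfl⟩ := hq.range.ge hd
    obtain ⟨D', rfl⟩ := hq.range.ge hd'
    rw [iff, iff, ← map_mul, ← map_mul]
    exact fun a b => congrArg π (congrArg Subtype.val
      (c1.isMulCommutative.is_comm.comm (⟨D, a⟩ : centralizer {B}) ⟨D', b⟩))

theorem zm {m : ℕ} (s : Multiplicative (ZMod m)) : s ^ m = 1 := by
  have := pow_card_eq_one' (x := s)
  rwa [Nat.card_congr Multiplicative.toAdd, Nat.card_zmod] at this

theorem cjm {S : Subgroup G} {g c : G} (hg : g ∈ S) (hc : c ∈ S) : g * c * g⁻¹ ∈ S :=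
  mul_mem (mul_mem hg hc) (inv_mem hg)

theorem cz {g w : G} (h : g * w = w * g) : ∀ z ∈ zpowers g, z * w = w * z := fun _ hz =>
  mem_centralizer_singleton_iff.1 (zpowers_le.2 (mem_centralizer_singleton_iff.2 h) hz)

theorem cz2 {g g' w : G} (h : g * w = w * g) (h' : g' * w = w * g') :
    ∀ z ∈ zpowers g ⊔ zpowers g', z * w = w * z := fun _ hz =>
  mem_centralizer_singleton_iff.1 (sup_le (zpowers_le.2 (mem_centralizer_singleton_iff.2 h))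
    (zpowers_le.2 (mem_centralizer_singleton_iff.2 h')) hz)

theorem sq_comm {g : G} (x2 : x * x = 1) (gx : g * x = x * g) (h : g * l * g⁻¹ = l * x) :
    g * g * l = l * (g * g) := conj_eq_iff.1 (by
  rw [show g * g * l * (g * g)⁻¹ = g * (g * l * g⁻¹) * g⁻¹ by group, h, ← _root_.conj_mul, h,
    conj_eq_iff.2 gx, mul_assoc, x2, mul_one])

theorem expo (h : Cx U) (hn : Nat.card Ω % 4 = 0) (hx : SLt U x) (hl : l ∈ LY U {x})
    (hk : k ∈ KY Ω ({x} : Set G)) (l2 : l * l = x) {a o i : ℕ} (ho : Odd o)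
    (hm : (Fx Ω {x}).ncard = 2 ^ (a + 2) * o) {g : G} (gx : g * x = x * g)
    (gy : g * (l * k) = l * k * g) (hg : g ^ 2 ^ i = 1) : Tr (Fx Ω {x}) (g ^ 2 ^ (a + 2)) := by
  rcases nl h hx hl hk gx gy with e | e
  · obtain ⟨m, χ, k1, k2, -⟩ := tor h hn hx hl l2 (two_of_pow hg) (cz gx) (cz (conj_eq_iff.1 e))
    refine (k2 (⟨g, mem_zpowers g⟩ ^ 2 ^ (a + 2))).1 (eq_one_of_odd_two (i := i) ho ?_ ?_)
    · rw [map_pow, ← pow_mul, ← hm, ← k1]
      exact zm _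
    · rw [← map_pow, pow_right_comm, show (⟨g, mem_zpowers g⟩ : zpowers g) ^ 2 ^ i = 1 from
        Subtype.ext hg, one_pow, map_one]
  · obtain ⟨m, χ, -, k2, -, k4⟩ := tor h hn hx hl l2 (two_of_pow (g := g * g) (i := i) (by
      rw [← pow_two, pow_right_comm, hg, one_pow])) (cz (by
        rw [mul_assoc, gx, ← mul_assoc, gx, mul_assoc])) (cz (sq_comm hx.1.1 gx e))
    have k := k4 g i gx hg e ⟨_, mem_zpowers _⟩ ⟨_, mem_zpowers _⟩ (by simp [mul_assoc])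
    rw [eq_inv_iff_mul_eq_one, ← map_mul, k2] at k
    convert k.pow (2 ^ a) using 1
    rw [pow_add, pow_mul']
    simp only [pow_succ, pow_zero, one_mul, Nat.reduceMul, coe_mul, mul_assoc]

/-- a conjugate `y = l k` of `x` in `C(x)` -/
structure Fr (U : Ω → Subgroup G) (x l k γ : G) (a : ℕ) : Prop where
  cj : IsConj x (l * k)
  ne : l * k ≠ x
  hl : l ∈ LY U {x}
  hk : k ∈ KY Ω ({x} : Set G)
  lk : l * k = k * l
  l2 : l * l = x
  k2 : k * k = x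
  hγ : γ ∈ LY U {l * k}
  γx : γ * x = x * γ
  γp : γ ^ 2 ^ (a + 1) = l * k
  cl : ∀ d ∈ LY U {l * k}, d * x = x * d → d * l = l * d
  ab : ∀ d ∈ LY U {l * k}, ∀ d' ∈ LY U {l * k}, d * x = x * d → d' * x = x * d' → d * d' = d' * d
  out : ¬ Inn (Fx Ω {x}) (UY U {x}) γ
  ex : ∀ (g : G) (i : ℕ), g * x = x * g → g * (l * k) = l * k * g → g ^ 2 ^ i = 1 → g ^ 2 ^ (a + 2) ≠ x

theorem frame (h : Cx U) (hn : Nat.card Ω % 4 = 0) (hV : NV G Ω) (hx : SLt U x) (hy : NoHyp Ω x)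
    (hc : IsConj x y) (yx : y ≠ x) (cm : y * x = x * y) : ∃ l k γ a, y = l * k ∧ Fr U x l k γ a := by
  have sy := h.toCb.SLt_conj hc hx
  have h4 := hx.three h
  have h4' := sy.three h
  obtain ⟨l, hl, k, hk, e, lk, l2, k2⟩ := hx.inn h hV sy.1 yx cm (ell h hn hV hx hy hc yx cm)
  obtain ⟨l', hl', k', hk', e', -, l2', -⟩ := sy.inn h hV hx.1 yx.symm cm.symm
    (ell h hn hV sy (noHyp_conj hy hc) hc.symm yx.symm cm.symm)
  obtain ⟨⟨γ, g1, a, o, ho, hm, g2, g3⟩, ab⟩ := gam h hn sy hl' hk' l2'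
  have ex := fun g i a b c => expo h hn sy hl' hk' l2' ho hm (g := g) (i := i) a b c
  rw [← e'] at g3 ab ex
  have cl : ∀ d ∈ LY U {y}, d * x = x * d → d * l = l * d := fun d hd dx => by
    refine conj_eq_iff.1 ((nl h hx hl hk dx (e ▸ mem_centralizer_singleton_iff.1
      (LY_le U _ hd))).resolve_right fun c => ?_)
    have := (h.ldY {y}).Lt_conj (inv_mem (mem_norm1.2 (show l * y = y * l by
      rw [e, mul_assoc, lk]))) hd
    refine (inv_L h sy (g := x) ?_ hx.1.1).elim hx.1.2 yx.symm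
    rw [show x = l⁻¹ * d * l⁻¹⁻¹ * d⁻¹ by rw [inv_inv, mul_assoc, mul_assoc, ← mul_assoc d, c]; group]
    exact mul_mem this (inv_mem hd)
  subst e
  refine ⟨l, k, γ, a, rfl, hc, yx, hl, hk, lk, l2, k2, g1, g3, g2, cl, ab, fun c => ?_,
    fun g i a b c d => hV.slb_ntr sy.1 (by omega) hx.1 yx.symm cm.symm (d ▸ ex g i b a c)⟩
  obtain ⟨m, χ, k1, k2, k3, -⟩ := tor h hn hx hl l2 (two_of_pow (g := γ) (i := a + 2) (by
    rw [pow_succ, pow_mul, g2, pow_two, sy.1.1])) (cz g3) (cz (cl γ g1 g3))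
  obtain ⟨s, hs⟩ := (k3 ⟨γ, mem_zpowers γ⟩).1 c
  refine hV.slb_ntr hx.1 (by omega) sy.1 yx cm (g2 ▸ (k2 (⟨γ, mem_zpowers γ⟩ ^ 2 ^ (a + 1))).1
    (eq_one_of_odd_two (i := 1) ho ?_ ?_))
  · rw [map_pow, hs, ← pow_two, ← pow_mul, ← pow_mul, ← mul_assoc, ← pow_succ', ← hm, ← Fx_ncard_conj hc,
      ← k1]
    exact zm _
  · rw [← map_pow, show ((⟨γ, mem_zpowers γ⟩ : zpowers γ) ^ 2 ^ (a + 1)) ^ 2 ^ 1 = 1 from Subtype.ext (by
      rw [coe_pow, coe_pow, g2, pow_one, pow_two, sy.1.1, coe_one]), map_one]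

variable {a : ℕ}

theorem Fr.cm (f : Fr U x l k γ a) : l * k * x = x * (l * k) := by
  rw [mul_assoc, (mem_KY1.1 f.hk).1, ← mul_assoc, mem_centralizer_singleton_iff.1 (LY_le U _ f.hl), mul_assoc]

theorem Fr.γ2 (f : Fr U x l k γ a) (hx : Inv x) : γ ^ 2 ^ (a + 2) = 1 := by
  rw [pow_succ, pow_mul, f.γp, pow_two, (hx.conj f.cj).1]

theorem Fr.cent (f : Fr U x l k γ a) (h : Cx U) (hn : Nat.card Ω % 4 = 0) (hV : NV G Ω) (hx : SLt U x)
    {w : G} (w2 : w * w = 1) (wx : w * x = x * w) (wl : w * l = l * w) (wy : w * (l * k) = l * k * w) :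
    w = 1 ∨ w = x ∨ w = l * k ∨ w = l * k * x := by
  have yi := hx.1.conj f.cj
  have h4 := hx.three h
  obtain ⟨m, χ, k1, k2, -⟩ := tor h hn hx f.hl f.l2 (two_sup (i := 1) (j := 1) (by rw [pow_one, pow_two, w2])
    (by rw [pow_one, pow_two, yi.1]) wy) (cz2 wx f.cm) (cz2 wl (by rw [mul_assoc, ← f.lk]))
  have : NeZero m := ⟨by omega⟩
  let w' : ↥(zpowers w ⊔ zpowers (l * k)) := ⟨w, mem_sup_left (mem_zpowers _)⟩
  let y' : ↥(zpowers w ⊔ zpowers (l * k)) := ⟨l * k, mem_sup_right (mem_zpowers _)⟩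
  by_cases e : χ w' = 1
  · exact (hV.uniq hx.1 (by omega) (mem_KY1.2 ⟨wx, (k2 w').1 e⟩) w2).imp_right Or.inl
  have y2 : χ y' * χ y' = 1 := by rw [← map_mul, show y' * y' = 1 from Subtype.ext yi.1, map_one]
  have e2 := cyc_inv_uniq (by rw [← map_mul, show w' * w' = 1 from Subtype.ext w2, map_one]) y2 e
    fun c => hV.slb_ntr hx.1 (by omega) yi f.ne f.cm ((k2 y').1 c)
  have := hV.uniq (k := l * k * w) hx.1 (by omega) (mem_KY1.2 ⟨by rw [mul_assoc, wx, ← mul_assoc, f.cm, mul_assoc],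
    (k2 (y' * w')).1 (by rw [map_mul, e2, y2])⟩) (by
      rw [mul_assoc, ← mul_assoc w, wy, mul_assoc (l * k), w2, mul_one, yi.1])
  have yi' := inv_eq_of_mul_eq_one_right yi.1
  exact Or.inr (Or.inr (this.imp (fun c => (eq_inv_of_mul_eq_one_right c).trans yi')
    fun c => by rw [← c, ← mul_assoc, yi.1, one_mul]))

theorem all (h : Cx U) (hn : Nat.card Ω % 4 = 0) (hV : NV G Ω) (hx : SLt U x) (hy : NoHyp Ω x)
    {t : G} (ht : Inv t) : IsConj x t := by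
  obtain ⟨y, hc, cm, yx⟩ := h.toC0.zstar hx.1
  obtain ⟨l, k, γ, a, rfl, f⟩ := frame h hn hV hx hy hc yx cm.symm
  have sy := h.toCb.SLt_conj hc hx
  have h4 := hx.three h
  have ld := h.ldY {x}
  have lx := mem_centralizer_singleton_iff.1 (LY_le U _ f.hl)
  have γl := f.cl γ f.hγ f.γx
  have γy := mem_centralizer_singleton_iff.1 (LY_le U _ f.hγ)
  have cK : ∀ c ∈ KY Ω ({x} : Set G), ∀ d ∈ LY U {x}, c * d = d * c := fun c hc d hd =>
    ld.commK (h.faithY (by omega)) hc.1 (mem_KY1.1 hc).2 hd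
  have kof : ∀ g : G, g * l = l * g → g * (l * k) = l * k * g → g * k = k * g := fun g a b => by
    rwa [← mul_assoc, a, mul_assoc, mul_assoc, mul_right_inj] at b
  obtain ⟨S, hS, hR⟩ := exists_isSylowIn_le (two_sup (j := 2) (f.γ2 hx.1) (by
    rw [show 2 ^ 2 = 2 * 2 from rfl, pow_mul, pow_two, pow_two, f.l2, hx.1.1]) γl)
    fun z hz => mem_centralizer_singleton_iff.2 (cz2 f.γx lx z hz)
  have γS := hR (mem_sup_left (mem_zpowers _))
  have lS := hR (mem_sup_right (mem_zpowers _))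
  have yS : l * k ∈ S := f.γp ▸ pow_mem γS _
  have kS : k ∈ S := (S.mul_mem_cancel_left lS).1 yS
  have cx : ∀ s ∈ S, s * x = x * s := fun s hs => mem_centralizer_singleton_iff.1 (hS.le hs)
  have sq : γ ^ 2 ^ a * γ ^ 2 ^ a = l * k := by rw [← pow_two, ← pow_mul, ← pow_succ, f.γp]
  have nL := norm4 hS.isP (R := S ⊓ LY U {x}) inf_le_left (le_normalizer_of_cj_le fun g hg z hz => by
      obtain ⟨c, hc, rfl⟩ := mem_cj'.1 hz
      exact ⟨cjm hg hc.1, ld.Lt_conj (mem_norm1.2 (cx g hg)) hc.2⟩)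
    hx.1 cx (fun r hr => inv_L h hx hr.2) ⟨lS, f.hl⟩ f.l2 (pow_mem γS (2 ^ a)) fun c hc e => by
      rwa [sq, mul_assoc, cK k f.hk c hc.2, ← mul_assoc, ← mul_assoc, mul_left_inj] at e
  have nK := norm4 hS.isP (R := S ⊓ KY Ω {x}) inf_le_left (le_normalizer_of_cj_le fun g hg z hz => by
      obtain ⟨c, hc, rfl⟩ := mem_cj'.1 hz
      have gN := mem_norm1.2 (cx g hg)
      refine ⟨cjm hg hc.1, mem_KY1.2 ⟨mem_norm1.1 (cjm gN hc.2.1), fun z hz => ?_⟩⟩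
      rw [mul_smul, mul_smul, (mem_KY1.1 hc.2).2 _ (Fx_norm (inv_mem gN) hz), smul_inv_smul])
    hx.1 cx (fun r hr => hV.uniq hx.1 (by omega) hr.2) ⟨kS, f.hk⟩ f.k2 (pow_mem γS (2 ^ a))
    fun c hc e => (kof c (cK c hc.2 l f.hl) (sq ▸ e.symm)).symm
  have tw : ∀ s ∈ S, ∀ r ∈ S, s * k * s⁻¹ = k * x → r * k * r⁻¹ = k * x → s * r * k = k * (s * r) :=
    fun s hs r hr a b => conj_eq_iff.1 (by
      rw [show s * r * k * (s * r)⁻¹ = s * (r * k * r⁻¹) * s⁻¹ by group, b, ← _root_.conj_mul, a,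
        conj_eq_iff.2 (cx s hs), mul_assoc, hx.1.1, mul_one])
  obtain ⟨φ, φS, hφ⟩ : ∃ φ ∈ S, S ≤ S ⊓ centralizer {k} ⊔ zpowers φ := by
    by_cases e : ∃ φ ∈ S, φ * k * φ⁻¹ = k * x
    · obtain ⟨φ, φS, e⟩ := e
      refine ⟨φ, φS, fun s hs => (nK s hs).elim (fun c => mem_sup_left
        ⟨hs, mem_centralizer_singleton_iff.2 (conj_eq_iff.1 c)⟩) fun c => ?_⟩
      exact (mul_mem_cancel_right (mem_sup_right (mem_zpowers φ))).1 (mem_sup_left
        ⟨mul_mem hs φS, mem_centralizer_singleton_iff.2 (tw s hs φ φS c e)⟩)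
    · exact ⟨1, one_mem _, fun s hs => mem_sup_left ⟨hs, mem_centralizer_singleton_iff.2
        (conj_eq_iff.1 ((nK s hs).resolve_right fun c => e ⟨s, hs, c⟩))⟩⟩
  obtain ⟨w, ⟨wS, wk⟩, hw⟩ := h.toC0.transfer (hx.syl h hV hS).1 inf_le_left (fun s hs m hm => ⟨cjm hs hm.1,
    mem_centralizer_singleton_iff.2 (by
      have mk := mem_centralizer_singleton_iff.1 hm.2
      have : m * (s⁻¹ * k * s⁻¹⁻¹) = s⁻¹ * k * s⁻¹⁻¹ * m := by
        rcases nK _ (inv_mem hs) with c | c <;> rw [c]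
        · exact mk
        · rw [← mul_assoc, mk, mul_assoc, cx m hm.1, mul_assoc]
      calc s * m * s⁻¹ * k = s * (m * (s⁻¹ * k * s⁻¹⁻¹)) * s⁻¹ := by group
        _ = _ := by rw [this]; group)⟩) φS hφ ht.1
  refine IsConj.trans ?_ hw.symm
  have wi := ht.conj hw
  replace wk := mem_centralizer_singleton_iff.1 wk
  have wx := cx w wS
  by_cases e1 : w = x
  · exact e1 ▸ IsConj.refl _
  by_cases e2 : Inn (Fx Ω {x}) (UY U {x}) w
  · obtain ⟨l', hl', k', hk', e, -, l2, k2⟩ := hx.inn h hV wi e1 wx e2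
    have kk : k' * k = k * k' := by
      rwa [e, mul_assoc, ← mul_assoc k, cK k f.hk l' hl', mul_assoc, mul_right_inj] at wk
    have l'x := mem_centralizer_singleton_iff.1 (LY_le U _ hl')
    obtain ⟨d, hd, d2, rfl⟩ : ∃ d ∈ LY U {x}, d * d = x ∧ w = d * k := by
      rcases hV.uniq hx.1 (by omega) (mul_mem hk' f.hk) (by
        rw [mul_assoc, ← mul_assoc k, ← kk, mul_assoc, f.k2, ← mul_assoc, k2, hx.1.1]) with c | c
      · refine ⟨l' * x, mul_mem hl' hx.2.1, by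
          rw [mul_assoc, ← mul_assoc x, ← l'x, mul_assoc, hx.1.1, mul_one, l2], ?_⟩
        rw [e, mul_assoc, eq_inv_of_mul_eq_one_left c, inv_eq_of_mul_eq_one_left
          (show x * k * k = 1 by rw [mul_assoc, f.k2, hx.1.1])]
      · exact ⟨l', hl', l2, by rw [e, mul_right_cancel (c.trans f.k2.symm)]⟩
    obtain ⟨m, hm, rfl⟩ := hx.conj4 h f.hl hd f.l2 d2
    exact hc.trans (isConj_iff.2 ⟨m, by rw [← _root_.conj_mul, conj_eq_iff.2 (cK k f.hk m hm).symm]⟩)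
  rcases nL w wS with e | e
  · replace e := conj_eq_iff.1 e
    rcases f.cent h hn hV hx wi.1 wx e (by rw [← mul_assoc, e, mul_assoc, wk, mul_assoc]) with c | c | c | c
    · exact absurd c wi.2
    · exact absurd c e1
    · exact c ▸ hc
    · obtain ⟨m, -, hm⟩ := hx.conj_mul h hV sy.1 yx cm.symm
      exact c ▸ hc.trans (isConj_iff.2 ⟨m, hm⟩)
  exfalso
  obtain ⟨l1, hl1, hk1⟩ : Inn (Fx Ω {x}) (UY U {x}) (w * γ) := by
    obtain ⟨a, b, F, _, _, e, π, hq, -, -⟩ := hx.slb_coord h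
    obtain ⟨A, hA⟩ := hV.lin h hx.1 hq.toL2P wi.1 wx
    obtain ⟨A', hA'⟩ := hq.toL2P.lin3 ld (q3 h hn hx.1 hq.toL2P) (mem_norm1.2 f.γx) (slb_tr_one (f.γ2 hx.1))
    exact hq.toL2P.out_mul ld (mem_norm1.2 wx) (mem_norm1.2 f.γx) hA hA' e2 f.out
  have γk := kof γ γl γy
  have wi' := inv_eq_of_mul_eq_one_right wi.1
  obtain ⟨m, χ, -, k2, -, k4⟩ := tor h hn hx f.hl f.l2 (hS.isP.to_le (inf_le_left (b := centralizer {l})))
    (fun g hg => cx g hg.1) fun g hg => mem_centralizer_singleton_iff.1 hg.2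
  have wy : w * (l * k) * w⁻¹ = l * k * x := by
    rw [← _root_.conj_mul, e, conj_eq_iff.2 wk, mul_assoc, mul_assoc, (mem_KY1.1 f.hk).1]
  have δS : w * γ * w⁻¹ ∈ S := cjm wS γS
  have δl : w * γ * w⁻¹ * l = l * (w * γ * w⁻¹) := by
    have : w * (l * x) * w⁻¹ = l := by
      rw [← _root_.conj_mul, e, conj_eq_iff.2 wx, mul_assoc, hx.1.1, mul_one]
    rw [← this, conj_comm_iff, ← mul_assoc, γl, mul_assoc, f.γx, mul_assoc]
  have δk : w * γ * w⁻¹ * k = k * (w * γ * w⁻¹) := by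
    rw [← conj_eq_iff.2 wk, conj_comm_iff, γk]
  have δp : (w * γ * w⁻¹) ^ 2 ^ (a + 1) = l * k * x := by rw [conj_pow, f.γp, wy]
  let γ' : ↥(S ⊓ centralizer {l}) := ⟨γ, γS, mem_centralizer_singleton_iff.2 γl⟩
  let δ' : ↥(S ⊓ centralizer {l}) := ⟨_, δS, mem_centralizer_singleton_iff.2 δl⟩
  have t1 := (k2 (δ' * γ')).1 (by rw [map_mul, k4 w 1 wx (by rw [pow_one, pow_two, wi.1]) e γ' δ' rfl,
    inv_mul_cancel])
  have t2 := (k2 (δ' * γ' * δ'⁻¹ * γ'⁻¹)).1 (by simp only [map_mul, map_inv, mul_inv_cancel_comm, mul_inv_cancel])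
  obtain ⟨i, hi⟩ := hS.isP.to_le (inf_le_left (b := centralizer {l})) (δ' * γ' * δ'⁻¹ * γ'⁻¹)
  have δγ := mul_inv_eq_iff_eq_mul.1 (mul_inv_eq_one.1 (lk h hV hx sy yx cm.symm i _ (mul_mem ((h.ldY _).Lt_conj
    (mem_norm1.2 (Commute.mul_right δl δk).eq) f.hγ) (inv_mem f.hγ))
    (congrArg Subtype.val hi) t2))
  change Tr _ (w * γ * w⁻¹ * γ) at t1
  have k1K : l1⁻¹ * (w * γ) ∈ KY Ω ({x} : Set G) := mem_KY1.2 ⟨mem_norm1.1 (mul_mem (inv_mem (ld.Lt_le hl1))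
    (mul_mem (mem_norm1.2 wx) (mem_norm1.2 f.γx))), hk1⟩
  have k1k : l1⁻¹ * (w * γ) * k = k * (l1⁻¹ * (w * γ)) :=
    (Commute.mul_left (Commute.inv_left (cK k f.hk l1 hl1).symm) (Commute.mul_left wk γk)).eq
  have e3 : w * γ = l1 * (l1⁻¹ * (w * γ)) := (mul_inv_cancel_left _ _).symm
  generalize l1⁻¹ * (w * γ) = k1 at k1K k1k e3 hk1
  have e4 : w * γ * w⁻¹ * γ = l1 * l1 * (k1 * k1) := by
    rw [wi', mul_assoc, e3, mul_assoc, mul_assoc, ← mul_assoc k1, cK k1 k1K l1 hl1, mul_assoc]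
  have e5 : (l1 * l1) ^ 2 = 1 := by
    rcases ker_L h hx (mul_mem hl1 hl1) (by
      rw [eq_mul_inv_of_mul_eq e4.symm]; exact t1.mul (hk1.mul hk1).inv) with c | c <;> rw [c]
    · exact one_pow _
    · rw [pow_two, hx.1.1]
  have e6 : k1 ^ 2 ^ (a + 2) = x := by
    have := congrArg (· ^ 2 ^ (a + 1)) e4
    rwa [Commute.mul_pow δγ, δp, f.γp, f.cm, mul_assoc, sy.1.1, mul_one, Commute.mul_pow
      (cK _ (mul_mem k1K k1K) _ (mul_mem hl1 hl1)).symm, pow_succ', pow_mul, e5, one_pow, one_mul, ← pow_two,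
      ← pow_mul, ← pow_succ', ← pow_succ', eq_comm] at this
  exact f.ex k1 (a + 3) (mem_KY1.1 k1K).1
    (by rw [← mul_assoc, cK k1 k1K l f.hl, mul_assoc, k1k, mul_assoc])
    (by rw [pow_succ, pow_mul, e6, pow_two, hx.1.1]) e6

theorem no8 (h : Cx U) (hn : Nat.card Ω % 4 = 0) (hV : NV G Ω) (hx : SLt U x) (hy : NoHyp Ω x)
    (hall : ∀ t : G, Inv t → IsConj x t) (yi : Inv y) (yx : y ≠ x) (cm : y * x = x * y) {t : G}
    (t2 : t * t = 1) (tx : t * x = x * t) (ty : t * y = y * t) :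
    t = 1 ∨ t = x ∨ t = y ∨ t = y * x := by
  obtain ⟨l, k, γ, a, rfl, f⟩ := frame h hn hV hx hy (hall y yi) yx cm
  have sy := h.toCb.SLt_conj f.cj hx
  rcases nl h hx f.hl f.hk tx ty with e | e
  · exact f.cent h hn hV hx t2 tx (conj_eq_iff.1 e) ty
  by_contra c
  simp only [not_or] at c
  have δL := (h.ldY _).Lt_conj (mem_norm1.2 ty) f.hγ
  have δx : t * γ * t⁻¹ * x = x * (t * γ * t⁻¹) := by rw [← conj_eq_iff.2 tx, conj_comm_iff, f.γx]
  have δ2 : (t * γ * t⁻¹) ^ 2 ^ (a + 2) = 1 := by rw [conj_pow, f.γ2 hx.1]; simp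
  have δγ := f.ab _ δL _ f.hγ δx f.γx
  obtain ⟨m, χ, -, k2, -, k4⟩ := tor h hn hx f.hl f.l2 (two_sup δ2 (f.γ2 hx.1) δγ) (cz2 δx f.γx)
    (cz2 (f.cl _ δL δx) (f.cl _ f.hγ f.γx))
  have t1 := (k2 (⟨_, mem_sup_left (mem_zpowers _)⟩ * ⟨γ, mem_sup_right (mem_zpowers _)⟩)).1 (by
    rw [map_mul, k4 t 1 tx (by rw [pow_one, pow_two, t2]) e ⟨γ, mem_sup_right (mem_zpowers _)⟩ _ rfl,
      inv_mul_cancel])
  have e1 := lk h hV hx sy yx cm (a + 2) _ (mul_mem δL f.hγ) (by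
    rw [Commute.mul_pow δγ, δ2, f.γ2 hx.1, mul_one]) t1
  rw [inv_eq_of_mul_eq_one_right t2, mul_assoc] at e1
  refine f.out ?_
  rw [show γ = t * (t * γ) by rw [← mul_assoc, t2, one_mul]]
  refine inn_mul (h.ldY _) (ell h hn hV hx hy (hall t ⟨t2, c.1⟩) c.2.1 tx) ?_
  by_cases e2 : t * γ = 1
  · exact ⟨1, one_mem _, slb_tr_one (by rw [e2, inv_one, mul_one])⟩
  by_cases e3 : t * γ = x
  · exact ⟨1, one_mem _, by rw [e3, inv_one, one_mul]; exact slb_tr_self x⟩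
  exact ell h hn hV hx hy (hall _ ⟨e1, e2⟩) e3 (by rw [mul_assoc, f.γx, ← mul_assoc, tx, mul_assoc])

end N0D

theorem n0d (h : Cx U) (hn : Nat.card Ω % 4 = 0) (hV : NV G Ω) {x : G} (hx : SLt U x)
    (hy : NoHyp Ω x) : Cfsg.PRankLE 2 2 G := by
  intro A hA h2
  have hall : ∀ t : G, Inv t → IsConj x t := fun t => N0D.all h hn hV hx hy
  have cm : ∀ s ∈ A, ∀ t ∈ A, s * t = t * s := fun s hs t ht =>
    congrArg Subtype.val (hA.is_comm.comm (⟨s, hs⟩ : A) ⟨t, ht⟩)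
  have sq : ∀ s ∈ A, s * s = 1 := fun s hs => by rw [← pow_two, h2 s hs]
  obtain ⟨z, y, k⟩ : ∃ z y : G, (A : Set G) ⊆ {1, z, y, y * z} := by
    by_cases e : ∃ z ∈ A, z ≠ 1
    · obtain ⟨z, zA, z1⟩ := e
      have c := hall z ⟨sq z zA, z1⟩
      by_cases e : ∃ y ∈ A, y ≠ 1 ∧ y ≠ z
      · obtain ⟨y, yA, y1, yz⟩ := e
        exact ⟨z, y, fun t ht => N0D.no8 h hn hV (h.toCb.SLt_conj c hx) (N0D.noHyp_conj hy c)
          (fun t ti => c.symm.trans (hall t ti)) ⟨sq y yA, y1⟩ yz (cm y yA z zA) (sq t ht) (cm t ht z zA)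
          (cm t ht y yA)⟩
      · exact ⟨z, 1, fun t ht => by_contra fun d => e ⟨t, ht, fun c => d (Or.inl c),
          fun c => d (Or.inr (Or.inl c))⟩⟩
    · exact ⟨1, 1, fun t ht => by_contra fun d => e ⟨t, ht, fun c => d (Or.inl c)⟩⟩
  refine (Set.ncard_le_ncard k).trans ((Set.ncard_insert_le _ _).trans (Nat.succ_le_succ
    ((Set.ncard_insert_le _ _).trans (Nat.succ_le_succ ((Set.ncard_insert_le _ _).trans (by simp))))))

end H51.HK
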