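import Cfsg.Agent.Lib.HK.N0Ia

/-! HKS2, package N0I. -/

set_option autoImplicit false
set_option linter.unusedSectionVars false

namespace H51.HK

open MulAction Subgroup Matrix H69
open scoped MatrixGroups Classical commutatorElement

variable {G Ω : Type*} [Group G] [MulAction G Ω] [Finite G] [Finite Ω]

variable {U : Ω → Subgroup G}

namespace N0I

theorem four_le (a b c d : G) : ({a, b, c, d} : Set G).ncard ≤ 4 := by
  have h1 := Set.ncard_insert_le a ({b, c, d} : Set G)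
  have h2 := Set.ncard_insert_le b ({c, d} : Set G)
  have h3 := Set.ncard_insert_le c ({d} : Set G)
  rw [Set.ncard_singleton] at h3
  omega

theorem zp2 {k : G} {i : ℕ} (h : k ^ 2 ^ i = 1) : IsPGroup 2 (zpowers k) := by
  rintro ⟨y, hy⟩
  obtain ⟨n, rfl⟩ := mem_zpowers_iff.1 hy
  refine ⟨i, Subtype.ext ?_⟩
  show (k ^ n) ^ 2 ^ i = 1
  rw [← _root_.zpow_natCast, ← _root_.zpow_mul, mul_comm, _root_.zpow_mul, _root_.zpow_natCast,
    h, _root_.one_zpow]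

variable {x t : G} {a b : Ω} {F : Type} [Field F] [Fintype F] {e : Ω → OnePoint F}
  {π : SL(2, F) →* G}

theorem rankA (h : Cx U) (hV : NV G Ω) (hx : SLt U x)
    (hq : L2Q (normalizer ({x} : Set G)) (Fx Ω {x}) (UY U {x}) a b F e π)
    (hA : ∀ c ∈ KY Ω ({x} : Set G), c * c ≠ x) : Cfsg.PRankLE 2 2 G := by
  have : Fact (Nat.Prime 2) := ⟨Nat.prime_two⟩
  intro A hc h2
  have hp : IsPGroup 2 A := fun g => ⟨1, Subtype.ext (by simpa using h2 g g.2)⟩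
  obtain ⟨S, hS⟩ := exists_isSylowIn 2 (centralizer ({x} : Set G))
  obtain ⟨g, -, hg⟩ := (hx.syl h hV hS).1.exists_cj_le hp le_top
  rw [← card_cj A g]
  set B := A ^ᶜ g with hB
  have B2 : ∀ y ∈ B, y * y = 1 := by
    intro y hy
    obtain ⟨z, hz, rfl⟩ := mem_cj'.1 hy
    have := h2 z hz
    rw [pow_two] at this
    calc g * z * g⁻¹ * (g * z * g⁻¹) = g * (z * z) * g⁻¹ := by group
      _ = 1 := by rw [this]; group
  have Bx : ∀ y ∈ B, y * x = x * y := fun y hy => (hS.le (hg hy) x rfl).symm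
  have Bi : ∀ y ∈ B, Inn (Fx Ω {x}) (UY U {x}) y → y = 1 ∨ y = x := by
    intro y hy hi
    by_contra hne
    push Not at hne
    obtain ⟨l, -, k, hk, -, -, -, k2⟩ := hx.inn h hV ⟨B2 y hy, hne.1⟩ hne.2 (Bx y hy) hi
    exact hA k hk k2
  have key : ∃ y : G, (B : Set G) ⊆ {1, x, y, y * x} := by
    by_cases hy : ∃ y ∈ B, ¬ Inn (Fx Ω {x}) (UY U {x}) y
    · obtain ⟨y, yB, yi⟩ := hy
      refine ⟨y, fun z hz => ?_⟩
      simp only [Set.mem_insert_iff, Set.mem_singleton_iff]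
      by_cases zi : Inn (Fx Ω {x}) (UY U {x}) z
      · rcases Bi z hz zi with e1 | e1 <;> simp [e1]
      · obtain ⟨A1, h1⟩ := hV.lin h hx.1 hq.toL2P (B2 y yB) (Bx y yB)
        obtain ⟨A2, h3⟩ := hV.lin h hx.1 hq.toL2P (B2 z hz) (Bx z hz)
        have := hq.toL2P.out_mul (h.ldY _) (mem_norm1.2 (Bx y yB)) (mem_norm1.2 (Bx z hz)) h1 h3
          yi zi
        have e0 : z = y * (y * z) := by rw [← mul_assoc, B2 y yB, one_mul]
        rcases Bi _ (mul_mem yB hz) this with e1 | e1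
        · rw [e1, mul_one] at e0; simp [e0]
        · rw [e1] at e0; simp [e0]
    · push Not at hy
      refine ⟨1, fun z hz => ?_⟩
      rcases Bi z hz (hy z hz) with e1 | e1 <;> simp [e1]
  obtain ⟨y, hy⟩ := key
  calc Nat.card B = (B : Set G).ncard := Nat.card_coe_set_eq _
    _ ≤ _ := Set.ncard_le_ncard hy
    _ ≤ 4 := four_le _ _ _ _

theorem outer_conj (h : Cx U) (hV : NV G Ω) (hx : SLt U x)
    (hq : L2Q (normalizer ({x} : Set G)) (Fx Ω {x}) (UY U {x}) a b F e π) {τ l : G}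
    (τ2 : τ * τ = 1) (τx : τ * x = x * τ) (τK : τ ∉ KY Ω ({x} : Set G)) (hl : l ∈ LY U {x})
    (h2 : τ * l * (τ * l) = 1) : IsConj τ (τ * l) := by
  obtain ⟨A, hA⟩ := hV.lin h hx.1 hq.toL2P τ2 τx
  obtain ⟨m, -, hm⟩ := hq.ll4 (h.ldY _) (by rw [hx.neg hq]; exact hx.1.2) (mem_norm1.2 τx) τ2
    (fun ht => τK (mem_KY1.2 ⟨τx, ht⟩)) hA hl h2
  exact isConj_iff.2 ⟨m, hm⟩

theorem conj_sq {s y : G} (hc : IsConj s y) (s2 : s * s = 1) : y * y = 1 := by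
  obtain ⟨c, rfl⟩ := isConj_iff.1 hc
  calc c * s * c⁻¹ * (c * s * c⁻¹) = c * (s * s) * c⁻¹ := by group
    _ = 1 := by rw [s2]; group

theorem inner_conj (h : Cx U) (hV : NV G Ω) (hx : SLt U x) (ht : SLt U t) (xH : x ∈ Hb G a b)
    (tH : t ∈ Hb G a b) (tx : t ≠ x) (cm : x * t = t * x)
    (hq : L2Q (normalizer ({x} : Set G)) (Fx Ω {x}) (UY U {x}) a b F e π)
    (h3 : Fintype.card F % 4 = 3) {k l : G} (hk : k ∈ KY Ω ({x} : Set G)) (k2 : k * k = x)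
    (kt : IsConj t (k * t)) (hl : l ∈ LY U {x}) (l2 : l * l = x) : IsConj t (k * l) := by
  have tN : t ∈ normalizer ({x} : Set G) := mem_norm1.2 cm.symm
  have t2 := ht.1.1
  have ti : t⁻¹ = t := inv_eq_of_mul_eq_one_right t2
  have tout := t_out h hV hx xH tH ht.1 tx cm hq h3
  set g := π (ad 1) with hg
  have gL : g ∈ LY U {x} := hq.mem _
  have g2 : g * g = x := by
    rw [hg, ← map_mul, ad_mul_ad, ← hx.neg hq, ← dg_neg_one]; simp
  have d1 : dg (1 : Fˣ) = 1 := by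
    have := dg_mul (1 : Fˣ) 1
    rw [mul_one] at this
    exact left_eq_mul.1 this
  have tg : t * g * t⁻¹ = g⁻¹ := by
    have h4 : Sc e (Fx Ω {x}) t (((-1 : Fˣ)) : F) (RingEquiv.refl F) := by
      simpa using hV.neg h hx.1 xH hq.toL2P ht.1 tx cm.symm tH
    rw [hg, hq.conj_ad tN h4 1, map_one, mul_one, eq_inv_iff_mul_eq_one, ← map_mul, ad_mul_ad]
    simp [d1]
  have kt2 := conj_sq kt t2
  have tk : t * k * t⁻¹ = k⁻¹ := by
    rw [ti, eq_inv_iff_mul_eq_one]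
    calc t * k * t * k = k⁻¹ * (k * t * (k * t)) * k := by group
      _ = 1 := by rw [kt2]; group
  have kg := KL h hx hk gL
  have y2 : k * g * (k * g) = 1 := by
    calc k * g * (k * g) = k * (g * k) * g := by group
      _ = k * k * (g * g) := by rw [← kg]; group
      _ = 1 := by rw [k2, g2, hx.1.1]
  have y1 : k * g ≠ 1 := by
    intro e1
    have : k ∈ LY U {x} := by rw [eq_inv_of_mul_eq_one_left e1]; exact inv_mem gL
    rcases LK hx hq this hk with e2 | e2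
    · rw [e2, one_mul] at k2; exact hx.1.2 k2.symm
    · rw [e2, hx.1.1] at k2; exact hx.1.2 k2.symm
  have yt : k * g ≠ t := by
    intro e1
    refine tout ⟨g, gL, ?_⟩
    rw [← e1, kg, inv_mul_cancel_left]
    exact (mem_KY1.1 hk).2
  have yc : k * g * t = t * (k * g) := by
    have : t * (k * g) * t⁻¹ = k * g := by
      calc t * (k * g) * t⁻¹ = (t * k * t⁻¹) * (t * g * t⁻¹) := by group
        _ = (g * k)⁻¹ := by rw [tk, tg]; group
        _ = k * g := by rw [← kg]; exact inv_eq_of_mul_eq_one_right y2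
    exact (mul_inv_eq_iff_eq_mul.1 this).symm
  obtain ⟨m, -, hm⟩ := ht.conj_mul h hV ⟨y2, y1⟩ yt yc
  obtain ⟨m', m'L, hm'⟩ := hx.conj4 h hl gL l2 g2
  have c1 : IsConj (k * l) (k * g) := isConj_iff.2 ⟨m', by
    rw [← hm', ← mul_assoc, ← KL h hx hk m'L]; group⟩
  have c2 : IsConj (k * g) (k * g * t) := isConj_iff.2 ⟨m, hm⟩
  have c3 : IsConj (k * t) (k * t * (t⁻¹ * g * t⁻¹⁻¹)) := by
    refine outer_conj h hV hx hq kt2 (comm_mul (mem_KY1.1 hk).1 cm.symm) (fun hK => ?_)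
      ((h.ldY _).Lt_conj (inv_mem tN) gL) ?_
    · have := mul_mem (inv_mem hk) hK
      rw [inv_mul_cancel_left] at this
      exact tout (K_inn this)
    · have := conj_sq c2 y2
      convert this using 2 <;> group
  have e3 : k * t * (t⁻¹ * g * t⁻¹⁻¹) = k * g * t := by group
  rw [e3] at c3
  exact (kt.trans c3).trans (c1.trans c2).symm

theorem struct (h : Cx U) (hn : Nat.card Ω % 4 = 0) (hV : NV G Ω) (hx : SLt U x) (ht : SLt U t)
    (hab : a ≠ b) (xH : x ∈ Hb G a b) (tH : t ∈ Hb G a b) (tx : t ≠ x) (cm : x * t = t * x)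
    (hq : L2Q (normalizer ({x} : Set G)) (Fx Ω {x}) (UY U {x}) a b F e π)
    (h3 : Fintype.card F % 4 = 3) :
    ∃ S T0 : Subgroup G, IsSylowIn 2 S (centralizer ({x} : Set G)) ∧ t ∈ S ∧
      T0 ≤ S ⊓ Hb G a b ∧ t ∈ T0 ∧
      (∀ τ ∈ S ⊓ Hb G a b, ∀ σ ∈ S ⊓ Hb G a b, τ * σ ∈ T0 ↔ (τ ∈ T0 ↔ σ ∈ T0)) ∧
      ∀ y ∈ T0, y ∉ KY Ω ({x} : Set G) → ∃ τ ∈ S ⊓ Hb G a b, τ * t * τ⁻¹ = y := by
  have : Fact (Nat.Prime 2) := ⟨Nat.prime_two⟩
  have t2 := ht.1.1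
  have tout := t_out h hV hx xH tH ht.1 tx cm hq h3
  have tK : t ∉ KY Ω ({x} : Set G) := fun hK => tout (K_inn hK)
  obtain ⟨S, hS, tS⟩ := exists_isSylowIn_le (p := 2) (R := zpowers t)
    (L := centralizer ({x} : Set G)) (zp2 (i := 1) (by simpa [pow_two] using t2))
    (zpowers_le.2 fun y hy => by rw [Set.mem_singleton_iff.1 hy]; exact cm)
  have tS : t ∈ S := tS (mem_zpowers t)
  have xS : x ∈ S := (hx.syl h hV hS).2.1
  set T := S ⊓ Hb G a b with hT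
  have Tp : IsPGroup 2 T := hS.isP.to_le inf_le_left
  have sp : ∀ g ∈ T, g ∈ KY Ω ({x} : Set G) ∨ g * t ∈ KY Ω ({x} : Set G) := by
    intro g hg
    obtain ⟨i, hi⟩ := two_elt Tp hg
    exact split h hV hx xH tH ht.1 tx cm hq h3 (hS.le (mem_inf.1 hg).1 x rfl).symm
      (mem_inf.1 hg).2 hi
  let t' : T := ⟨t, mem_inf.2 ⟨tS, tH⟩⟩
  have hP : ((KY Ω ({x} : Set G)).subgroupOf T).index = 2 := by
    rw [index_eq_two_iff]
    refine ⟨t', fun g => ?_⟩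
    simp only [mem_subgroupOf, coe_mul]
    rcases sp g g.2 with h1 | h1
    · refine Or.inr ⟨h1, fun h2 => tK ?_⟩
      simpa using mul_mem (inv_mem h1) h2
    · refine Or.inl ⟨h1, fun h2 => tK ?_⟩
      simpa using mul_mem (inv_mem h2) h1
  have hc : Nat.card (centralizer ({t'} : Set T)) ≤ 4 := by
    refine le_trans ?_ (four_le (1 : G) x t (x * t))
    rw [show Nat.card (centralizer ({t'} : Set T)) = (centralizer ({t'} : Set T) : Set T).ncard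
      from Nat.card_coe_set_eq _]
    refine Set.ncard_le_ncard_of_injOn Subtype.val (fun g hg => ?_) Subtype.val_injective.injOn
    have gt : (g : G) * t = t * g := (congrArg Subtype.val (hg t' rfl)).symm
    simp only [Set.mem_insert_iff, Set.mem_singleton_iff]
    rcases sp g g.2 with h1 | h1
    · obtain ⟨i, hi⟩ := two_elt Tp g.2
      rcases cK h hn hV hx ht hab xH tH tx h1 hi gt with e1 | e1 <;> simp [e1]
    · obtain ⟨i, hi⟩ := two_elt Tp (mul_mem g.2 t'.2)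
      have e0 : (g : G) = g * t * t := by rw [mul_assoc, t2, mul_one]
      rcases cK h hn hV hx ht hab xH tH tx h1 hi (comm_mul gt rfl) with e1 | e1
      · rw [e1, one_mul] at e0; simp [e0]
      · rw [e1] at e0; simp [e0]
  have h4 : 4 ≤ Nat.card T := by
    have h1 := ((KY Ω ({x} : Set G)).subgroupOf T).card_mul_index
    have h2 : 1 < Nat.card ((KY Ω ({x} : Set G)).subgroupOf T) := by
      rw [one_lt_card_iff_ne_bot]
      intro e1
      have : (⟨x, mem_inf.2 ⟨xS, xH⟩⟩ : T) ∈ (KY Ω ({x} : Set G)).subgroupOf T :=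
        mem_subgroupOf.2 (mem_KY1.2 ⟨rfl, fun y hy => mem_Fx1.1 hy⟩)
      rw [e1, mem_bot] at this
      exact hx.1.2 (congrArg Subtype.val this)
    rw [hP] at h1
    omega
  obtain ⟨T0, i2, tT, hT0⟩ := pl Tp hP (t := t') (fun hK => tK (mem_subgroupOf.1 hK))
    (Subtype.ext t2) hc h4
  have mem0 : ∀ g : T, (g : G) ∈ T0.map T.subtype ↔ g ∈ T0 := fun g =>
    mem_map_iff_mem T.subtype_injective
  refine ⟨S, T0.map T.subtype, hS, tS, map_subtype_le _, (mem0 t').2 tT, fun τ hτ σ hσ => ?_,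
    fun y hy yK => ?_⟩
  · have := mul_mem_iff_of_index_two i2 (a := ⟨τ, hτ⟩) (b := ⟨σ, hσ⟩)
    rw [← mem0, ← mem0, ← mem0] at this
    exact this
  · obtain ⟨y', hy', rfl⟩ := hy
    obtain ⟨c, hc⟩ := isConj_iff.1 (hT0 y' hy' fun hK => yK (mem_subgroupOf.1 hK))
    exact ⟨c, c.2, congrArg Subtype.val hc⟩

theorem all (h : Cx U) (hn : Nat.card Ω % 4 = 0) (hV : NV G Ω) (hx : SLt U x) (ht : SLt U t)
    (hab : a ≠ b) (xH : x ∈ Hb G a b) (tH : t ∈ Hb G a b) (hc : IsConj x t) (tx : t ≠ x)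
    (cm : x * t = t * x)
    (hq : L2Q (normalizer ({x} : Set G)) (Fx Ω {x}) (UY U {x}) a b F e π)
    (h3 : Fintype.card F % 4 = 3) (y : G) (hy : Inv y) : IsConj x y := by
  obtain ⟨S, T0, hS, tS, hT, tT, i2, cj⟩ := struct h hn hV hx ht hab xH tH tx cm hq h3
  have ld := h.ldY ({x} : Set G)
  have t2 := ht.1.1
  have tout := t_out h hV hx xH tH ht.1 tx cm hq h3
  have Sx : ∀ s ∈ S, s * x = x * s := fun s hs => (hS.le hs x rfl).symm
  have SL : ∀ s ∈ S, ∀ l ∈ LY U {x}, s * l * s⁻¹ ∈ LY U {x} := fun s hs l hl =>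
    ld.Lt_conj (mem_norm1.2 (Sx s hs)) hl
  have T0S : ∀ τ ∈ T0, τ ∈ S := fun τ hτ => (mem_inf.1 (hT hτ)).1
  let W : Subgroup G :=
    { carrier := {g | ∃ τ ∈ T0, ∃ l ∈ LY U {x}, g = τ * l}
      one_mem' := ⟨1, one_mem _, 1, one_mem _, by simp⟩
      mul_mem' := by
        rintro _ _ ⟨τ, hτ, l, hl, rfl⟩ ⟨σ, hσ, m, hm, rfl⟩
        exact ⟨τ * σ, mul_mem hτ hσ, σ⁻¹ * l * σ⁻¹⁻¹ * m,
          mul_mem (SL _ (inv_mem (T0S σ hσ)) l hl) hm, by group⟩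
      inv_mem' := by
        rintro _ ⟨τ, hτ, l, hl, rfl⟩
        exact ⟨τ⁻¹, inv_mem hτ, τ * l⁻¹ * τ⁻¹, SL _ (T0S τ hτ) _ (inv_mem hl), by group⟩ }
  have memW : ∀ g, g ∈ W ↔ ∃ τ ∈ T0, ∃ l ∈ LY U {x}, g = τ * l := fun g => Iff.rfl
  -- `S ≤ T L`
  have dec : ∀ s ∈ S, ∃ τ ∈ S ⊓ Hb G a b, ∃ l ∈ LY U {x}, s = τ * l := by
    intro s hs
    by_cases hi : Inn (Fx Ω {x}) (UY U {x}) s
    · obtain ⟨k, kS, hk, l, hl, e1⟩ := inn_split h hx hq hS hs hi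
      exact ⟨k, mem_inf.2 ⟨kS, K_le_H xH hk⟩, l, hl, e1⟩
    · obtain ⟨i, si⟩ := two_elt hS.isP hs
      obtain ⟨A1, h1⟩ := hq.toL2P.lin3 ld h3 (mem_norm1.2 (Sx s hs)) (tr_pow si)
      obtain ⟨A2, h2⟩ := hV.lin h hx.1 hq.toL2P t2 cm.symm
      have := hq.toL2P.out_mul ld (mem_norm1.2 cm.symm) (mem_norm1.2 (Sx s hs)) h2 h1 tout hi
      obtain ⟨k, kS, hk, l, hl, e1⟩ := inn_split h hx hq hS (mul_mem tS hs) this
      refine ⟨t⁻¹ * k, mem_inf.2 ⟨mul_mem (inv_mem tS) kS, mul_mem (inv_mem tH) (K_le_H xH hk)⟩,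
        l, hl, ?_⟩
      rw [mul_assoc, ← e1, inv_mul_cancel_left]
  have nrm : ∀ τ ∈ S ⊓ Hb G a b, ∀ m ∈ T0, τ * m * τ⁻¹ ∈ T0 := by
    intro τ hτ m hm
    rw [i2 _ (mul_mem hτ (hT hm)) _ (inv_mem hτ), i2 _ hτ _ (hT hm), inv_mem_iff]
    tauto
  have hf : ∃ f ∈ S, S ≤ (S ⊓ W) ⊔ zpowers f := by
    by_cases hTT : ∀ τ ∈ S ⊓ Hb G a b, τ ∈ T0
    · refine ⟨1, one_mem _, fun s hs => mem_sup_left (mem_inf.2 ⟨hs, ?_⟩)⟩
      obtain ⟨τ, hτ, l, hl, e1⟩ := dec s hs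
      exact ⟨τ, hTT τ hτ, l, hl, e1⟩
    · push Not at hTT
      obtain ⟨f, hf, f0⟩ := hTT
      refine ⟨f, (mem_inf.1 hf).1, fun s hs => ?_⟩
      obtain ⟨τ, hτ, l, hl, e1⟩ := dec s hs
      by_cases h0 : τ ∈ T0
      · exact mem_sup_left (mem_inf.2 ⟨hs, τ, h0, l, hl, e1⟩)
      · have h1 : f⁻¹ * s ∈ S ⊓ W := mem_inf.2 ⟨mul_mem (inv_mem (mem_inf.1 hf).1) hs, f⁻¹ * τ,
          by rw [i2 _ (inv_mem hf) _ hτ, inv_mem_iff]; tauto, l, hl, by rw [e1, mul_assoc]⟩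
        have := mul_mem (mem_sup_right (S := S ⊓ W) (mem_zpowers f)) (mem_sup_left h1)
        simpa using this
  obtain ⟨f, fS, hf⟩ := hf
  obtain ⟨m, hm, ym⟩ := h.toC0.transfer (hx.syl h hV hS).1 (M := S ⊓ W) inf_le_left (by
    intro s hs m hm
    refine mem_inf.2 ⟨mul_mem (mul_mem hs (mem_inf.1 hm).1) (inv_mem hs), ?_⟩
    obtain ⟨τ, hτ, l, hl, e1⟩ := dec s hs
    obtain ⟨σ, hσ, l', hl', e2⟩ := (memW m).1 (mem_inf.1 hm).2
    refine ⟨τ * σ * τ⁻¹, nrm τ hτ σ hσ, τ * (σ⁻¹ * l * σ⁻¹⁻¹ * l' * l⁻¹) * τ⁻¹,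
      SL τ (mem_inf.1 hτ).1 _ (mul_mem (mul_mem (SL _ (inv_mem (T0S σ hσ)) l hl) hl') (inv_mem hl)),
      ?_⟩
    rw [e1, e2]; group) fS hf hy.1
  refine IsConj.trans ?_ ym.symm
  have m2 := conj_sq ym hy.1
  have m1 : m ≠ 1 := by
    rintro rfl
    exact hy.2 (isConj_one_left.1 ym)
  obtain ⟨τ, hτ, l, hl, rfl⟩ := (memW m).1 (mem_inf.1 hm).2
  by_cases τK : τ ∈ KY Ω ({x} : Set G)
  · have kl := KL h hx τK hl
    have e1 : τ * τ * (l * l) = 1 := by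
      calc τ * τ * (l * l) = τ * (τ * l) * l := by simp only [mul_assoc]
        _ = τ * (l * τ) * l := by rw [kl]
        _ = 1 := by rw [← m2]; simp only [mul_assoc]
    have e2 : τ * τ ∈ LY U {x} := by
      rw [eq_inv_of_mul_eq_one_left e1]; exact inv_mem (mul_mem hl hl)
    have h4 := hx.three h
    rcases LK hx hq e2 (mul_mem τK τK) with e3 | e3
    · rw [e3, one_mul] at e1
      have l1 : l = 1 ∨ l = x := by
        obtain ⟨B, rfl⟩ : l ∈ π.range := by rw [hq.range]; exact hl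
        have inj := hq.inj (by rw [hx.neg hq]; exact hx.1.2)
        rcases sl2_sq hq.odd (B := B) (inj (by rw [map_mul, e1, map_one])) with e4 | e4
        · left; rw [e4, map_one]
        · right; rw [e4, hx.neg hq]
      rcases hV.uniq hx.1 (by omega) τK e3 with e4 | e4 <;> rcases l1 with e5 | e5
      · exact absurd (by rw [e4, e5, one_mul]) m1
      · rw [e4, e5, one_mul]
      · rw [e4, e5, mul_one]
      · exact absurd (by rw [e4, e5, hx.1.1]) m1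
    · have l2 : l * l = x := by
        rw [e3] at e1
        rw [eq_inv_of_mul_eq_one_right e1]; exact inv_eq_of_mul_eq_one_right hx.1.1
      obtain ⟨σ, -, hσ⟩ := cj (τ * t) (mul_mem hτ tT) fun hK => tout (K_inn (by
        simpa using mul_mem (inv_mem τK) hK))
      exact hc.trans (inner_conj h hV hx ht xH tH tx cm hq h3 τK e3 (isConj_iff.2 ⟨σ, hσ⟩) hl l2)
  · obtain ⟨σ, -, hσ⟩ := cj τ hτ τK
    have c1 : IsConj t τ := isConj_iff.2 ⟨σ, hσ⟩
    exact (hc.trans c1).trans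
      (outer_conj h hV hx hq (conj_sq c1 t2) (Sx τ (T0S τ hτ)) τK hl m2)

theorem c4 (h : Cx U) (hn : Nat.card Ω % 4 = 0) (hV : NV G Ω) (hx : SLt U x) (ht : SLt U t)
    (hab : a ≠ b) (xH : x ∈ Hb G a b) (tH : t ∈ Hb G a b) (tx : t ≠ x) (cm : x * t = t * x)
    (hq : L2Q (normalizer ({x} : Set G)) (Fx Ω {x}) (UY U {x}) a b F e π)
    (h3 : Fintype.card F % 4 = 3) {c : G} (hc : c ∈ KY Ω ({x} : Set G)) (c2 : c * c = x) :
    ∃ c ∈ KY Ω ({x} : Set G), c * c = x ∧ c * t * c⁻¹ = t * x := by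
  have : Fact (Nat.Prime 2) := ⟨Nat.prime_two⟩
  obtain ⟨S, T0, hS, tS, hT, tT, i2, cj⟩ := struct h hn hV hx ht hab xH tH tx cm hq h3
  have t2 := ht.1.1
  have tout := t_out h hV hx xH tH ht.1 tx cm hq h3
  have xK : x ∈ KY Ω ({x} : Set G) := mem_KY1.2 ⟨rfl, fun y hy => mem_Fx1.1 hy⟩
  obtain ⟨g, hg, hgS⟩ := hS.exists_cj_le (R := zpowers c)
    (zp2 (i := 2) (by rw [show 2 ^ 2 = 2 * 2 from rfl, pow_mul, pow_two c, c2, pow_two, hx.1.1]))
    (zpowers_le.2 fun y hy => by rw [Set.mem_singleton_iff.1 hy]; exact (mem_KY1.1 hc).1.symm)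
  have gx : g * x = x * g := (hg x rfl).symm
  have c1 : g * c * g⁻¹ ∈ S ⊓ Hb G a b :=
    mem_inf.2 ⟨hgS (cj_mem g (mem_zpowers c)), K_le_H xH (K_conj gx hc)⟩
  have xT : x ∈ T0 := by
    have := (i2 _ c1 _ c1).2 Iff.rfl
    rwa [show g * c * g⁻¹ * (g * c * g⁻¹) = g * (c * c) * g⁻¹ by group, c2, gx,
      mul_inv_cancel_right] at this
  obtain ⟨τ, hτ, e1⟩ := cj (t * x) (mul_mem tT xT) fun hK => tout (K_inn (by
    simpa using mul_mem hK (inv_mem xK)))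
  have key : ∃ k ∈ S, k ∈ KY Ω ({x} : Set G) ∧ k * t * k⁻¹ = t * x := by
    obtain ⟨i, hi⟩ := two_elt hS.isP (mem_inf.1 hτ).1
    rcases split h hV hx xH tH ht.1 tx cm hq h3 (hS.le (mem_inf.1 hτ).1 x rfl).symm
      (mem_inf.1 hτ).2 hi with h1 | h1
    · exact ⟨τ, (mem_inf.1 hτ).1, h1, e1⟩
    · exact ⟨τ * t, mul_mem (mem_inf.1 hτ).1 tS, h1, by rw [← e1]; group⟩
  obtain ⟨k, kS, hk, e2⟩ := key
  refine ⟨k, hk, ?_, e2⟩
  have kx := (mem_KY1.1 hk).1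
  obtain ⟨i, hi⟩ := two_elt hS.isP (mul_mem kS kS)
  have h4 := hx.three h
  have ne : ¬ (k = 1 ∨ k = x) := by
    rintro (e3 | e3)
    · rw [e3] at e2; exact hx.1.2 (by simpa using e2)
    · rw [e3, cm, mul_inv_cancel_right] at e2; exact hx.1.2 (by simpa using e2)
  have e4 : k * k * t = t * (k * k) := by
    rw [← mul_inv_eq_iff_eq_mul]
    calc k * k * t * (k * k)⁻¹ = k * (k * t * k⁻¹) * k⁻¹ := by group
      _ = k * (t * x) * k⁻¹ := by rw [e2]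
      _ = k * t * k⁻¹ * (k * x * k⁻¹) := by group
      _ = t := by rw [e2, kx, mul_inv_cancel_right, mul_assoc, hx.1.1, mul_one]
  rcases cK h hn hV hx ht hab xH tH tx (mul_mem hk hk) hi e4 with e5 | e5
  · exact absurd (hV.uniq hx.1 (by omega) hk e5) ne
  · exact e5

theorem out8 (h : Cx U) (hn : Nat.card Ω % 4 = 0) (hV : NV G Ω) (hx : SLt U x) (ht : SLt U t)
    (hab : a ≠ b) (xH : x ∈ Hb G a b) (tH : t ∈ Hb G a b) (tx : t ≠ x) {T : Subgroup G}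
    (Tp : IsPGroup 2 T) (TK : T ≤ KY Ω {x}) (Tt : ∀ k ∈ T, t * k * t⁻¹ ∈ T)
    (T8 : Nat.card T = 8) : ∃ k ∈ T, ⁅t, k⁆ * ⁅t, k⁆ ≠ 1 := by
  by_contra hne
  push Not at hne
  have h4 := hx.three h
  have c1 : ∀ k ∈ T, t * k * t⁻¹ = k ∨ t * k * t⁻¹ = x * k := by
    intro k hk
    have : ⁅t, k⁆ ∈ T := by rw [commutatorElement_def]; exact mul_mem (Tt k hk) (inv_mem hk)
    rcases hV.uniq hx.1 (by omega) (TK this) (hne k hk) with e1 | e1
    · left; rwa [commutatorElement_def, mul_inv_eq_one] at e1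
    · right; rwa [commutatorElement_def, mul_inv_eq_iff_eq_mul] at e1
  have c2 : ∀ k ∈ T, t * k * t⁻¹ = k → k = 1 ∨ k = x := by
    intro k hk e1
    obtain ⟨i, hi⟩ := two_elt Tp hk
    exact cK h hn hV hx ht hab xH tH tx (TK hk) hi (mul_inv_eq_iff_eq_mul.1 e1).symm
  have key : ∃ y : G, (T : Set G) ⊆ {1, x, y, y * x} := by
    by_cases hy : ∃ y ∈ T, t * y * t⁻¹ ≠ y
    · obtain ⟨y, yT, yi⟩ := hy
      have y1 := (c1 y yT).resolve_left yi
      refine ⟨y, fun z hz => ?_⟩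
      simp only [Set.mem_insert_iff, Set.mem_singleton_iff]
      rcases c1 z hz with z1 | z1
      · rcases c2 z hz z1 with e1 | e1 <;> simp [e1]
      · have e0 : z = y * (y⁻¹ * z) := by group
        have : t * (y⁻¹ * z) * t⁻¹ = y⁻¹ * z := by
          calc t * (y⁻¹ * z) * t⁻¹ = (t * y * t⁻¹)⁻¹ * (t * z * t⁻¹) := by group
            _ = _ := by rw [y1, z1]; group
        rcases c2 _ (mul_mem (inv_mem yT) hz) this with e1 | e1
        · rw [e1, mul_one] at e0; simp [e0]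
        · rw [e1] at e0; simp [e0]
    · push Not at hy
      refine ⟨1, fun z hz => ?_⟩
      rcases c2 z hz (hy z hz) with e1 | e1 <;> simp [e1]
  obtain ⟨y, hy⟩ := key
  have : Nat.card T ≤ 4 :=
    calc Nat.card T = (T : Set G).ncard := Nat.card_coe_set_eq _
      _ ≤ _ := Set.ncard_le_ncard hy
      _ ≤ 4 := four_le _ _ _ _
  omega

end N0I

open N0I in
theorem n0i (h : Cx U) (hn : Nat.card Ω % 4 = 0) (hV : NV G Ω) {x t : G}
    {a b : Ω} (hx : SLt U x) (hab : a ≠ b) (xH : x ∈ Hb G a b) (tH : t ∈ Hb G a b)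
    (hc : IsConj x t) (tx : t ≠ x) (cm : x * t = t * x) :
    Cfsg.PRankLE 2 2 G ∨ GTc U a b x t := by
  obtain ⟨F, iF, fF, e, π, hq, h3⟩ := coord h hn hx hab xH
  have ht : SLt U t := h.toCb.SLt_conj hc hx
  by_cases hA : ∀ c ∈ KY Ω ({x} : Set G), c * c ≠ x
  · exact Or.inl (rankA h hV hx hq hA)
  push Not at hA
  obtain ⟨c, cK, c2⟩ := hA
  refine Or.inr ⟨hab, hx, xH, tH, ht.1, tx, cm, all h hn hV hx ht hab xH tH hc tx cm hq h3,
    c4 h hn hV hx ht hab xH tH tx cm hq h3 cK c2, ?_, t, tH, cm.symm, rfl,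
    ⟨1, by simpa [pow_two] using ht.1.1⟩, t_out h hV hx xH tH ht.1 tx cm hq h3,
    fun T Tp TK Tt T8 _ => out8 h hn hV hx ht hab xH tH tx Tp TK Tt T8⟩
  rintro g gH gx ⟨i, gi⟩ d dL dH
  have ld := h.ldY ({x} : Set G)
  have ha : a ∈ Fx Ω {x} := mem_Fx1.2 (mem_Hb.1 xH).1
  have hb : b ∈ Fx Ω {x} := mem_Fx1.2 (mem_Hb.1 xH).2
  obtain ⟨c', rfl⟩ := (hq.mem_D ld ha hb).1 ⟨dL, dH⟩
  have gN : g ∈ normalizer ({x} : Set G) := mem_norm1.2 gx
  have : ∃ u : Fˣ, Sc e (Fx Ω {x}) g u (RingEquiv.refl F) := by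
    rcases hq.toL2P.pm3 ld ha hb h3 gN gH (tr_pow gi) with h1 | h1
    · exact ⟨1, by simpa using (hq.toL2P.sc_tr ld gN).1 h1⟩
    · exact ⟨-1, by simpa using h1⟩
  obtain ⟨u, hu⟩ := this
  have := hq.conj_dg gN hu c'
  rw [mul_inv_eq_iff_eq_mul] at this
  exact this

end H51.HK
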