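import Cfsg.Agent.Lib.HK.LQ
import Cfsg.Agent.Lib.M11T.Bas

set_option autoImplicit false
set_option linter.unusedSectionVars false
set_option linter.unusedVariables false

namespace H51.HK

open MulAction Subgroup Matrix H69
open scoped MatrixGroups Classical commutatorElement
open H50.SC6 (Nm V4 W8 cj_eq comm_of_cj comm_cj sq_cj inv_self sq_of_comm comm_of_sq mem_sup2 comm_V4 mem_zt pg2
  exists_pow_two exists_inv_cent eq_one_of_odd t_V4 s_V4 V4_W8 s1_W8)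
open H58.ME (E2 Bd Tc pg_sup pg_V4 pg_W8 card_sup2 card_V4 card_zt_le mem_W8 V4_cases comm_W8 sq_W8)

variable {G Ω : Type*} [Group G] [MulAction G Ω] [Finite G] [Finite Ω]

variable {U : Ω → Subgroup G}

namespace N0R

theorem act_eq {Δ : Set Ω} {j k : G} (h : Tr Δ (j⁻¹ * k)) {x : Ω} (hx : x ∈ Δ) : k • x = j • x := by
  have := h x hx
  rwa [mul_smul, inv_smul_eq_iff] at this

theorem lift_inv {Δ : Set Ω} {V : Ω → Subgroup G} {a b : Ω} {j : G} (O : OddK Δ V) (hj : InI Δ V a b j) :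
    ∃ j', InI Δ V a b j' ∧ Inv j' := by
  obtain ⟨h1, h2, h3, h4, h5⟩ := hj
  obtain ⟨m, -, i, e⟩ := O.lift h1 h4 h5
  exact ⟨j ^ m, ⟨pow_mem h1 m, pow_mem (show j ∈ stabilizer G a from h2) m, pow_mem (show j ∈ stabilizer G b from h3) m,
    fun x _ => by rw [i.1, one_smul], fun t => h5 fun x hx => by rw [← act_eq e hx, t x hx]⟩, i⟩

theorem cL {v l : G} (hl : l ∈ LY U {v}) : l * v = v * l := mem_centralizer_singleton_iff.1 (LY_le U _ hl)

theorem two_le {Δ : Set Ω} {a b : Ω} (ha : a ∈ Δ) (hb : b ∈ Δ) (hab : a ≠ b) : 2 ≤ Δ.ncard :=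
  (Set.one_lt_ncard (Set.toFinite _)).2 ⟨a, ha, b, hb, hab⟩

theorem cK (h : Cx U) {v k l : G} (h2 : 2 ≤ (Fx Ω {v}).ncard) (kv : k * v = v * k) (ht : Tr (Fx Ω {v}) k)
    (hl : l ∈ LY U {v}) : k * l = l * k :=
  (h.ldY {v}).commK (h.faithY h2) (mem_norm1.2 kv) ht hl

theorem LY_le1 {s t v : G} (h1 : ∀ x : Ω, s • x = x → t • x = x → v • x = x)
    (h2 : ∀ g : G, g * s = s * g → g * t = t * g → g * v = v * g) : LY U {s, t} ≤ LY U {v} :=
  iSup₂_le fun c hc => le_trans (fun u hu => mem_UY1.2 ⟨(mem_UY2.1 hu).1, h2 u (mem_UY2.1 hu).2.1 (mem_UY2.1 hu).2.2⟩)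
    (le_Lt (V := UY U {v}) (mem_Fx1.2 (h1 c (mem_Fx2.1 hc).1 (mem_Fx2.1 hc).2)))

theorem q8 {N : Subgroup G} {Δ : Set Ω} {V : Ω → Subgroup G} {q : ℕ} (R : ReP N Δ V q) : q % 8 = 3 := by
  obtain ⟨m, rfl⟩ := R.pw
  rw [pow_succ, pow_mul]
  simp [Nat.mul_mod, Nat.pow_mod]

/-- the involutions of `L_v` are conjugate in `L_v` -/
theorem tr_conj (h : Cx U) {v y y' : G} {q : ℕ} (R : ReP (normalizer {v}) (Fx Ω {v}) (UY U {v}) q)
    (O : OddK (Fx Ω {v}) (UY U {v})) (hy : y ∈ LY U {v}) (hy' : y' ∈ LY U {v}) (iy : Inv y) (iy' : Inv y') :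
    ∃ l ∈ LY U {v}, l * y * l⁻¹ = y' := by
  have nt : ∀ z ∈ LY U {v}, Inv z → ¬ Tr (Fx Ω {v}) z := fun z hz i t =>
    i.2 (eq_one_of_odd (O z hz t) (k := 1) (by rw [pow_one, pow_two, i.1]))
  obtain ⟨l, hl, e⟩ := R.cjI y hy y' hy' (fun x _ => by rw [iy.1, one_smul]) (fun x _ => by rw [iy'.1, one_smul])
    (nt y hy iy) (nt y' hy' iy')
  have hk : y'⁻¹ * (l * y * l⁻¹) ∈ LY U {v} := mul_mem (inv_mem hy') (mul_mem (mul_mem hl hy) (inv_mem hl))
  have c := cK h (by rw [R.card]; have := q8 R; have := Nat.pow_pos (n := 3) (show 0 < q by omega); omega) (cL hk) e hy'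
  have s := sq_cj iy.1 l
  refine ⟨l, hl, (inv_mul_eq_one.1 (eq_one_of_odd (O _ hk e) (k := 1) ?_)).symm⟩
  rw [pow_one, pow_two, inv_self iy'.1] at *
  refine sq_of_comm iy'.1 s ?_
  rw [mul_assoc, mul_right_inj] at c
  exact c.symm

theorem dvd_orb {S : Subgroup G} {m : ℕ} : ∀ (n : ℕ) (Δ : Set Ω), Δ.ncard = n → (∀ g ∈ S, ∀ x ∈ Δ, g • x ∈ Δ) →
    (∀ c ∈ Δ, m ∣ (orbit S c).ncard) → m ∣ n := by
  intro n
  induction n using Nat.strong_induction_on with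
  | _ n ih =>
    intro Δ e hi hd
    rcases Δ.eq_empty_or_nonempty with rfl | ⟨c, hc⟩
    · simp [← e]
    have sub : orbit S c ⊆ Δ := by
      rintro _ ⟨g, rfl⟩
      exact hi g g.2 c hc
    have e1 := Set.ncard_sdiff_add_ncard_of_subset sub
    have p : 0 < (orbit S c).ncard := (Set.ncard_pos (Set.toFinite _)).2 ⟨c, mem_orbit_self c⟩
    rw [← e, ← e1]
    refine dvd_add (ih _ (by omega) _ rfl (fun g hg x hx => ⟨hi g hg x hx.1, fun o => hx.2 ?_⟩)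
      fun x hx => hd x hx.1) (hd c hc)
    obtain ⟨k, hk⟩ := o
    exact ⟨(⟨g, hg⟩ : S)⁻¹ * k, by
      show ((⟨g, hg⟩ : S)⁻¹ * k) • c = x
      rw [mul_smul, inv_smul_eq_iff]; exact hk⟩

theorem bd16 (h : Cx U) {v : G} {q : ℕ} (R : ReP (normalizer {v}) (Fx Ω {v}) (UY U {v}) q) (v2 : v * v = 1)
    (K2 : ∀ k, E2 k → k * v = v * k → Tr (Fx Ω {v}) k → k = 1 ∨ k = v) : Bd v 16 := fun S pS cS => by
  have : Fact (Nat.Prime 2) := ⟨Nat.prime_two⟩
  have ld := h.ldY {v}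
  have hq := q8 R
  have hq3 : q ^ 3 % 8 = 3 := by simp [Nat.pow_mod, hq]
  obtain ⟨c, hc, h8⟩ : ∃ c ∈ Fx Ω {v}, ¬ 8 ∣ (orbit S c).ncard := by
    by_contra hn
    push Not at hn
    have := dvd_orb _ _ R.card (fun g hg => ld.inv g (mem_norm1.2 (cS g hg))) hn
    omega
  rw [← index_stabilizer] at h8
  obtain ⟨k, hk⟩ := pS.index (stabilizer S c)
  have h4 : (stabilizer S c).index ≤ 4 := by
    rw [hk] at h8 ⊢
    by_contra hn
    exact h8 (pow_dvd_pow 2 (show 3 ≤ k by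
      by_contra h3
      exact hn (Nat.pow_le_pow_right two_pos (show k ≤ 2 by omega))))
  set P := (stabilizer S c).map S.subtype with hP
  have PS : P ≤ S := map_subtype_le _
  have Pc : ∀ g ∈ P, g • c = c := by
    rintro _ ⟨g, hg, rfl⟩
    exact hg
  obtain ⟨d, hd, dc, Pd⟩ := ld.second (by rw [R.card]; omega) (pS.to_le PS) (fun g hg => mem_norm1.2 (cS g (PS hg))) hc Pc
  obtain ⟨j, hj⟩ := R.ex c hc d hd dc.symm
  have tw : ∀ g ∈ P, g ∉ zpowers v → Tr (Fx Ω {v}) (j⁻¹ * g) := fun g hg n => by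
    obtain ⟨i, hi⟩ := exists_pow_two pS (PS hg)
    exact (R.two c hc d hd dc.symm j hj g (mem_norm1.2 (cS g (PS hg))) (Pc g hg) (Pd g hg) i
      fun x _ => by rw [hi, one_smul]).resolve_left fun t => n ((mem_zt v2).2 (K2 g ⟨i, hi⟩ (cS g (PS hg)) t))
  have l2 : H70.Le2 (zpowers v) P := fun x hx y hy nx ny => (mem_zt v2).2 (K2 _ (.of_mem pS (PS (mul_mem hx hy)))
    (cS _ (PS (mul_mem hx hy))) fun w hw => by
      rw [mul_smul, act_eq (tw x hx nx) (ld.inv y (mem_norm1.2 (cS y (PS hy))) w hw), act_eq (tw y hy ny) hw,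
        ← mul_smul, hj.2.2.2.1 w hw])
  have c1 := l2.card_le
  have c2 := (card_le_of_le (inf_le_left : zpowers v ⊓ P ≤ _)).trans (card_zt_le v2)
  have c3 := (stabilizer S c).card_mul_index
  rw [← card_map_of_injective (K := stabilizer S c) S.subtype_injective, ← hP] at c3
  rw [← c3]
  exact Nat.mul_le_mul (show Nat.card P ≤ 4 by omega) h4

/-- `v` has type `²G₂(q)` and `w` acts on its fixed points as the involution `j` of `L_v` -/
structure Rv (U : Ω → Subgroup G) (a b : Ω) (q : ℕ) (v w j : G) : Prop where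
  R : ReP (normalizer {v}) (Fx Ω {v}) (UY U {v}) q
  O : OddK (Fx Ω {v}) (UY U {v})
  I : InI (Fx Ω {v}) (UY U {v}) a b j
  ij : Inv j
  jv : j = w ∨ j = v * w
  nt : ¬ Tr (Fx Ω {v}) w

theorem four_le (h : Cx U) (hn : Nat.card Ω % 4 = 0) {v : G} (v2 : v * v = 1) {a : Ω} (ha : v • a = a) :
    4 ≤ (Fx Ω {v}).ncard ∧ (Fx Ω {v}).ncard % 4 = 0 := by
  have := h.toC0.parity v2
  have p : 0 < (Fx Ω {v}).ncard := (Set.ncard_pos (Set.toFinite _)).2 ⟨a, mem_Fx1.2 ha⟩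
  omega

theorem exists_Rv (h : Cx U) (hn : Nat.card Ω % 4 = 0) (h3 : Ty3 U) (hr : Rk2 G Ω) (hA : NoAf U) {a b : Ω}
    (hab : a ≠ b) {v w : G} (iv : Inv v) (iw : Inv w) (ne : v ≠ w) (c : v * w = w * v) (vH : v ∈ Hb G a b)
    (wH : w ∈ Hb G a b) {n : ℕ} (hn3 : 3 ≤ n) (e : (Fx Ω ({v, w} : Set G)).ncard = n) (nt : ¬ Tr (Fx Ω {v}) w) :
    ∃ j, Rv U a b (n - 1) v w j := by
  have ha := mem_Fx1.2 (mem_Hb.1 vH).1
  have hb := mem_Fx1.2 (mem_Hb.1 vH).2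
  have f4 := four_le h hn iv.1 (mem_Hb.1 vH).1
  have ld := h.ldY {v}
  have wN := mem_norm1.2 c.symm
  have w2 : Tr (Fx Ω {v}) (w * w) := fun x _ => by rw [iw.1, one_smul]
  have eq : {x | x ∈ Fx Ω {v} ∧ w • x = x} = Fx Ω ({v, w} : Set G) := Set.ext fun x => by
    rw [mem_Fx2, ← mem_Fx1]; rfl
  rcases h3 v iv (by omega) with T | ⟨⟨q, R⟩, O⟩ | T
  · obtain ⟨F, _, _, e', π, L⟩ := T a ha b hb hab
    have cd := L.toL2P.card
    rcases L.toL2P.tri ld ha hb wN wH w2 with t | ⟨-, t⟩ | ⟨r, -, t, -⟩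
    · exact absurd t nt
    · rw [← eq, t, Set.ncard_pair hab] at e
      omega
    · have : r ^ 2 % 4 = 0 ∨ r ^ 2 % 4 = 1 := by
        rcases (by omega : r % 4 = 0 ∨ r % 4 = 1 ∨ r % 4 = 2 ∨ r % 4 = 3) with h | h | h | h <;> simp [Nat.pow_mod, h]
      omega
  · obtain ⟨j0, hj0⟩ := R.ex a ha b hb hab
    obtain ⟨j, hj, ij⟩ := lift_inv O hj0
    have t := (R.two a ha b hb hab j hj w wN (mem_Hb.1 wH).1 (mem_Hb.1 wH).2 1
      (by rwa [pow_one, pow_two])).resolve_left nt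
    have jv := cL hj.1
    have c1 := cK h (by omega) (k := j⁻¹ * w) (mem_norm1.1 (mul_mem (inv_mem (mem_norm1.2 jv)) wN)) t hj.1
    have wj : w * j = j * w := by
      rw [mul_assoc, inv_mul_eq_iff_eq_mul, mul_inv_cancel_left] at c1
      exact c1
    have f := R.fx a ha b hb hab j hj
    rw [show {x | x ∈ Fx Ω {v} ∧ j • x = x} = {x | x ∈ Fx Ω {v} ∧ w • x = x} from Set.ext fun x =>
      and_congr_right fun hx => by rw [act_eq t hx], eq, e] at f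
    obtain rfl : q = n - 1 := by omega
    refine ⟨j, R, O, hj, ij, ?_, nt⟩
    rcases hr a b hab v vH w wH j (mem_Hb.2 ⟨hj.2.1, hj.2.2.1⟩) iv iw ne ij.1 c jv.symm wj with k | k | k | k
    · exact absurd k ij.2
    · exact absurd (fun x hx => k ▸ mem_Fx1.1 hx) hj.2.2.2.2
    · exact Or.inl k
    · exact Or.inr k
  · exact absurd (hA w v iw iv c.symm T (by rw [Set.pair_comm]; omega)) nt

namespace Rv
variable {a b : Ω} {q : ℕ} {v w j : G} (r : Rv U a b q v w j)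
include r

theorem two : 2 ≤ (Fx Ω {v}).ncard := by
  rw [r.R.card]
  have := q8 r.R
  have := Nat.pow_pos (n := 3) (show 0 < q by omega)
  omega

theorem sq (h : Cx U) (hab : a ≠ b) (vH : v ∈ Hb G a b) {k : G} (e : E2 k) (kH : k ∈ Hb G a b) (kv : k * v = v * k)
    {u : G} (hu : u ∈ UY U {v} a) : k * k * u = u * (k * k) := by
  have ha := mem_Fx1.2 (mem_Hb.1 vH).1
  have hb := mem_Fx1.2 (mem_Hb.1 vH).2
  have kN := mem_norm1.2 kv
  obtain ⟨i, hi⟩ := e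
  refine cK h r.two (mem_norm1.1 (mul_mem kN kN)) (fun x hx => ?_) (le_Lt (V := UY U {v}) ha hu)
  rcases r.R.two a ha b hb hab j r.I k kN (mem_Hb.1 kH).1 (mem_Hb.1 kH).2 i (fun x _ => by rw [hi, one_smul]) with t | t
  · rw [mul_smul, t x hx, t x hx]
  · rw [mul_smul, act_eq t ((h.ldY {v}).inv k kN x hx), act_eq t hx, ← mul_smul, r.ij.1, one_smul]

theorem k2 (h : Cx U) (hr : Rk2 G Ω) (hab : a ≠ b) (iv : Inv v) (iw : Inv w) (ne : v ≠ w) (c : v * w = w * v)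
    (vH : v ∈ Hb G a b) (wH : w ∈ Hb G a b)
    (sq : ∀ k, E2 k → k ∈ Hb G a b → k * v = v * k → k * w = w * k → k * k = 1) : Bd v 16 := by
  refine bd16 h r.R iv.1 fun k e kv t => ?_
  have kH : k ∈ Hb G a b := mem_Hb.2 ⟨t a (mem_Fx1.2 (mem_Hb.1 vH).1), t b (mem_Fx1.2 (mem_Hb.1 vH).2)⟩
  have kj := cK h r.two kv t r.I.1
  have kw : k * w = w * k := by
    rcases r.jv with e | e
    · rwa [e] at kj
    · rw [e, ← mul_assoc, kv, mul_assoc, mul_assoc, mul_right_inj] at kj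
      exact kj
  rcases hr a b hab v vH w wH k kH iv iw ne (sq k e kH kv kw) c kv.symm kw.symm with f | f | f | f
  · exact Or.inl f
  · exact Or.inr f
  · exact absurd (f ▸ t) r.nt
  · exact absurd (fun x hx => by
      have := t x hx
      rwa [f, c, mul_smul, mem_Fx1.1 hx] at this) r.nt

theorem cj (h : Cx U) {y : G} (hy : y ∈ LY U {v}) (iy : Inv y) :
    ∃ l ∈ LY U {v}, l * j * l⁻¹ = y ∧ l * (v * j) * l⁻¹ = v * y := by
  obtain ⟨l, hl, e⟩ := tr_conj h r.R r.O r.I.1 hy r.ij iy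
  exact ⟨l, hl, e, by rw [← e, ← mul_assoc l, cL hl]; group⟩

end Rv

/-- an involution of `L_V` without fixed points on the fixed points of `V` -/
def Ee (U : Ω → Subgroup G) (Y : Set G) (e : G) : Prop := e ∈ LY U Y ∧ Inv e ∧ ∀ x ∈ Fx Ω Y, e • x ≠ x

theorem exists_E (h : Cx U) (hr : Rk2 G Ω) {a b : Ω} (hab : a ≠ b) {v w j : G} {q : ℕ} (r : Rv U a b q v w j)
    (iv : Inv v) (iw : Inv w) (ne : v ≠ w) (c : v * w = w * v) (vH : v ∈ Hb G a b) (wH : w ∈ Hb G a b)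
    (e : (Fx Ω ({v, w} : Set G)).ncard = q + 1) :
    ∃ e1 e2, Ee U {v, w} e1 ∧ Ee U {v, w} e2 ∧ Ee U {v, w} (e2 * e1) := by
  have ha : a ∈ Fx Ω ({v, w} : Set G) := mem_Fx2.2 ⟨(mem_Hb.1 vH).1, (mem_Hb.1 wH).1⟩
  have hb : b ∈ Fx Ω ({v, w} : Set G) := mem_Fx2.2 ⟨(mem_Hb.1 vH).2, (mem_Hb.1 wH).2⟩
  have hq := q8 r.R
  have no : OddK (Fx Ω ({v, w} : Set G)) (UY U {v, w}) → ∀ i, ¬ InI (Fx Ω ({v, w} : Set G)) (UY U {v, w}) a b i :=
    fun O i0 hi0 => by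
      obtain ⟨i, hi, ii⟩ := lift_inv O hi0
      have ci := LY_le U _ hi.1
      refine hi.2.2.2.2 fun x hx => ?_
      obtain ⟨x1, x2⟩ := mem_Fx2.1 hx
      rcases hr a b hab v vH w wH i (mem_Hb.2 ⟨hi.2.1, hi.2.2.1⟩) iv iw ne ii.1 c (ci v (by simp)) (ci w (by simp)) with
        f | f | f | f <;> simp [f, mul_smul, x1, x2]
  rcases h.ih {v, w} ⟨v, by simp, iv.2⟩ (by omega) with T | ⟨⟨p, q', R⟩, O⟩ | ⟨⟨q', R⟩, O⟩ | ⟨T, -⟩
  · obtain ⟨F, _, _, e', π, L⟩ := T a ha b hb hab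
    have cd := L.toL2P.card
    have ld := h.ldY ({v, w} : Set G)
    have jx : ∀ x ∈ Fx Ω {v}, j • x = x → x ∈ Fx Ω ({v, w} : Set G) := fun x hx t => mem_Fx2.2 ⟨mem_Fx1.1 hx, by
      rcases r.jv with f | f
      · rwa [f] at t
      · rwa [f, c, mul_smul, mem_Fx1.1 hx] at t⟩
    have sub : LY U {v, w} ≤ LS (Fx Ω {v}) (UY U {v}) j := iSup₂_le fun x hx u hu => by
      obtain ⟨x1, x2⟩ := mem_Fx2.1 hx
      obtain ⟨u0, u1, u2⟩ := mem_UY2.1 hu
      refine subset_closure ⟨x, mem_Fx1.2 x1, ?_, mem_UY1.2 ⟨u0, u1⟩, fun y _ => ?_⟩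
      · rcases r.jv with f | f <;> simp [f, mul_smul, x1, x2]
      · rw [commutatorElement_eq_one_iff_mul_comm.2, one_smul]
        rcases r.jv with f | f <;> rw [f]
        · exact u2
        · rw [← mul_assoc, u1, mul_assoc, u2, mul_assoc]
    have n1 : π (-1) = 1 := eq_one_of_odd (r.O _ (LY_mono U (by simp) (L.mem (-1)))
      (r.R.sub a (mem_Fx1.2 (mem_Hb.1 vH).1) b (mem_Fx1.2 (mem_Hb.1 vH).2) hab j r.I _ (sub (L.mem (-1)))
        fun x hx t => (L.tr_iff ld).2 (Or.inr rfl) x (jx x hx t))) (k := 1) (by rw [← map_pow]; simp)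
    have ee : ∀ B : SL(2, F), B * B = -1 → Ee U {v, w} (π B) := fun B hB => by
      have nt : ¬ Tr (Fx Ω ({v, w} : Set G)) (π B) := fun t => by
        have : (-1 : SL(2, F)) = 1 := by rcases (L.tr_iff ld).1 t with f | f <;> rw [← hB, f] <;> simp
        rw [← dg_neg_one, show (1 : SL(2, F)) = dg 1 from by
          have := dg_mul (1 : Fˣ) 1
          rw [mul_one] at this
          exact (mul_eq_left.1 this.symm).symm] at this
        have e2 : (-1 : F) = 1 := by simpa using congrArg Units.val (dg_inj this)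
        have o := L.odd
        exact Ring.neg_one_ne_one_of_char_ne_two (fun f => by
          have := FiniteField.even_card_iff_char_two.1 f
          have := Nat.odd_iff.1 o
          omega) e2
      have b2 : π B * π B = 1 := by rw [← map_mul, hB, n1]
      refine ⟨L.mem B, ⟨b2, fun f => nt fun x _ => by rw [f, one_smul]⟩, ?_⟩
      rcases L.toL2P.hyp_ell ld (ld.Lt_le (L.mem B)) (fun x _ => by rw [b2, one_smul]) nt (L.act B) with t | t
      · have := t.2.1 ⟨π B, L.mem B, fun x _ => by simp⟩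
        omega
      · exact t.1
    have hB : (ad 1 : SL(2, F)) * ad 1 = -1 := by rw [ad_mul_ad, ← dg_neg_one]; simp
    obtain ⟨C, c1, c2⟩ := sl2_inv4 L.odd hB
    refine ⟨_, _, ee _ hB, ee _ c1, map_mul π _ _ ▸ ee _ ?_⟩
    calc _ = C * ad 1 * C⁻¹ * (C * C) * ad 1 := by group
      _ = -1 := by rw [c1, c2]; simp
  · obtain ⟨i, hi⟩ := R.ex a ha b hb hab
    exact absurd hi (no O i)
  · obtain ⟨i, hi⟩ := R.ex a ha b hb hab
    exact absurd hi (no O i)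
  · obtain ⟨F, _, _, e', L⟩ := T a ha b hb hab
    have := L.two
    obtain ⟨n, -, hn⟩ := FiniteField.card F 2
    have c1 := L.bij.ncard_eq
    have c2 := L.big
    rw [e, Set.ncard_univ, Nat.card_eq_fintype_card] at c1
    have : 2 ^ 3 ∣ 2 ^ (n : ℕ) := pow_dvd_pow 2 (by
      by_contra h3
      have := Nat.pow_le_pow_right two_pos (show (n : ℕ) ≤ 2 by omega)
      omega)
    omega

theorem main (h : Cx U) (hn : Nat.card Ω % 4 = 0) (h3 : Ty3 U) (hr : Rk2 G Ω) (hA : NoAf U) {v w : G} (iv : Inv v)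
    (iw : Inv w) (ne : v ≠ w) (c : v * w = w * v) (f3 : 3 ≤ (Fx Ω ({v, w} : Set G)).ncard)
    (n1 : ¬ Tr (Fx Ω {v}) w) (n2 : ¬ Tr (Fx Ω {w}) v) :
    ∃ S : Subgroup G, IsSylowIn 2 S ⊤ ∧ IsMulCommutative S ∧ Nat.card S = 16 := by
  obtain ⟨a, ha, b, hb, hab⟩ := (Set.one_lt_ncard (Set.toFinite _)).1 (show 1 < (Fx Ω ({v, w} : Set G)).ncard by omega)
  have vH : v ∈ Hb G a b := mem_Hb.2 ⟨(mem_Fx2.1 ha).1, (mem_Fx2.1 hb).1⟩
  have wH : w ∈ Hb G a b := mem_Hb.2 ⟨(mem_Fx2.1 ha).2, (mem_Fx2.1 hb).2⟩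
  have iu : Inv (v * w) := ⟨sq_of_comm iv.1 iw.1 c, fun e => ne (by rw [eq_inv_of_mul_eq_one_left e, inv_self iw.1])⟩
  have vv : v * (v * w) = w := by rw [← mul_assoc, iv.1, one_mul]
  have ww : w * (w * v) = v := by rw [← mul_assoc, iw.1, one_mul]
  have uv : v * w * v = w := by rw [c, mul_assoc, iv.1, mul_one]
  have uw : v * w * w = v := by rw [mul_assoc, iw.1, mul_one]
  have fu : Fx Ω ({v * w, v} : Set G) = Fx Ω ({v, w} : Set G) := Set.ext fun x => by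
    rw [mem_Fx2, mem_Fx2, and_comm, c, mul_smul]
    exact and_congr_right fun e => by rw [e]
  generalize hq : (Fx Ω ({v, w} : Set G)).ncard = n at f3
  obtain ⟨j1, r1⟩ := exists_Rv h hn h3 hr hA hab iv iw ne c vH wH f3 hq n1
  obtain ⟨j2, r2⟩ := exists_Rv h hn h3 hr hA hab iw iv ne.symm c.symm wH vH f3 (by rwa [Set.pair_comm]) n2
  obtain ⟨q, rfl⟩ : ∃ q, n = q + 1 := ⟨n - 1, by omega⟩
  rw [Nat.add_sub_cancel] at r1 r2
  obtain ⟨e1, e2, E1, E2', E3⟩ := exists_E h hr hab r1 iv iw ne c vH wH hq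
  have L1 : LY U {v, w} ≤ LY U {v} := LY_mono U (by simp)
  have L2 : LY U {v, w} ≤ LY U {w} := LY_mono U (by simp)
  have L3 : LY U {v, w} ≤ LY U {v * w} := LY_le1 (fun x x1 x2 => by rw [mul_smul, x2, x1])
    fun g g1 g2 => by rw [← mul_assoc, g1, mul_assoc, g2, mul_assoc]
  by_cases n3 : Tr (Fx Ω {v * w}) v
  · exfalso
    have s3 : Fx Ω {v * w} = Fx Ω ({v, w} : Set G) := by
      rw [← fu]
      exact Set.ext fun x => ⟨fun hx => mem_Fx2.2 ⟨mem_Fx1.1 hx, n3 x hx⟩, fun hx => mem_Fx1.2 (mem_Fx2.1 hx).1⟩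
    have k1 := r1.R.card
    have k2 := r2.R.card
    have k3 : (Fx Ω {v * w}).ncard = q + 1 := by rw [s3, hq]
    have lt : q < q ^ 3 := by
      have := q8 r1.R
      simpa using Nat.pow_lt_pow_right (show 1 < q by omega) (show 1 < 3 by omega)
    obtain ⟨l1, hl1, a1, b1⟩ := r1.cj h (L1 E1.1) E1.2.1
    obtain ⟨l2, hl2, a2, b2⟩ := r2.cj h (L2 E1.1) E1.2.1
    have p1 := Fx_ncard_conj (Ω := Ω) (isConj_iff.2 ⟨l1, a1⟩)
    have p2 := Fx_ncard_conj (Ω := Ω) (isConj_iff.2 ⟨l2, a2⟩)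
    rcases r1.jv with rfl | rfl <;> rcases r2.jv with f | f
    · subst f
      have ce := LY_le U _ E1.1 j2 (by simp)
      obtain ⟨l3, -, a3, -⟩ := r2.cj h (mul_mem r2.I.1 (L2 E1.1)) ⟨sq_of_comm iv.1 E1.2.1.1 ce, fun e => E1.2.2 a ha (by
        rw [eq_inv_of_mul_eq_one_right e, inv_self iv.1, (mem_Fx2.1 ha).1])⟩
      have p3 := Fx_ncard_conj (Ω := Ω) (isConj_iff.2 ⟨l3, a3⟩)
      have p4 := Fx_ncard_conj (Ω := Ω) (isConj_iff.2 ⟨l1, b1⟩)
      omega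
    · rw [f, ← c] at p2
      omega
    · rw [f] at p2
      omega
    · rw [f, ← c] at a2
      have sb : ∀ {u l : G}, l ∈ LY U {u} → l * (v * w) * l⁻¹ = e1 → (∀ x ∈ Fx Ω ({v, w} : Set G), u • x = x) →
          ∀ x : Ω, e1 • x = x → u • x = x := fun {u l} hl e hu x hx => by
        have := (Fx_conj l (v * w) (l⁻¹ • x)).1 (by rw [e, smul_inv_smul]; exact mem_Fx1.2 hx)
        rw [s3] at this
        have := (h.ldY {u}).inv l (mem_norm1.2 (cL hl)) _ (mem_Fx1.2 (hu _ this))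
        rw [smul_inv_smul] at this
        exact mem_Fx1.1 this
      have fx : e1 • l1 • a = l1 • a := mem_Fx1.1 (a1 ▸ (Fx_conj l1 (v * w) a).2 (s3 ▸ ha))
      exact E1.2.2 _ (mem_Fx2.2 ⟨sb hl1 a1 (fun x hx => (mem_Fx2.1 hx).1) _ fx,
        sb hl2 a2 (fun x hx => (mem_Fx2.1 hx).2) _ fx⟩) fx
  have uH := mul_mem vH wH
  have nu : v * w ≠ v := fun e => iw.2 (mul_eq_left.1 e)
  have cu : v * w * v = v * (v * w) := by rw [uv, vv]
  obtain ⟨j3, r3⟩ := exists_Rv h hn h3 hr hA hab iu iv nu cu uH vH f3 (by rw [fu, hq]) n3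
  rw [Nat.add_sub_cancel] at r3
  have sq : ∀ k, E2 k → k ∈ Hb G a b → k * v = v * k → k * w = w * k → k * k = 1 := fun k e kH kv kw =>
    h.toCb.eq_one hab (mul_mem kH kH) fun u hu => by
      rw [← h.toCb.gen4 iv.1 iw.1 c (mem_Fx2.1 ha).1 (mem_Fx2.1 ha).2] at hu
      refine (mem_centralizer_singleton_iff.1 ((show _ ≤ centralizer {k * k} from sup_le (sup_le ?_ ?_) ?_) hu)).symm
      · exact fun u hu => mem_centralizer_singleton_iff.2 (r1.sq h hab vH e kH kv hu).symm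
      · exact fun u hu => mem_centralizer_singleton_iff.2 (r2.sq h hab wH e kH kw hu).symm
      · exact fun u hu => mem_centralizer_singleton_iff.2 (r3.sq h hab uH e kH
          (by rw [← mul_assoc, kv, mul_assoc, kw, mul_assoc]) hu).symm
  have B1 := r1.k2 h hr hab iv iw ne c vH wH sq
  have B2 := r2.k2 h hr hab iw iv ne.symm c.symm wH vH fun k e kH kw kv => sq k e kH kv kw
  have B3 := r3.k2 h hr hab iu iv nu cu uH vH fun k e kH ku kv => sq k e kH kv (by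
    rw [← mul_assoc, kv, mul_assoc, mul_assoc, mul_right_inj] at ku
    exact ku)
  have ev : ∀ {e}, Ee U {v, w} e → e * v = v * e := fun E => (LY_le U _ E.1 v (by simp)).symm
  have ew : ∀ {e}, Ee U {v, w} e → e * w = w * e := fun E => (LY_le U _ E.1 w (by simp)).symm
  have nV : ∀ {e}, Ee U {v, w} e → e ∉ V4 v w := fun E m => E.2.2 a ha (by
    rcases (V4_cases iv.1 iw.1 c.symm).1 m with f | f | f | f <;>
      simp [f, mul_smul, (mem_Fx2.1 ha).1, (mem_Fx2.1 ha).2])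
  have e21 := comm_of_sq E2'.2.1.1 E1.2.1.1 E3.2.1.1
  have nm : Nm e2 (W8 v w e1) := fun d hd => by rwa [cj_eq (comm_W8 (ev E2') (ew E2') e21 hd)]
  have m2 : e2 * e2 ∈ W8 v w e1 := E2'.2.1.1 ▸ one_mem _
  have mW := fun x => mem_W8 (x := x) iv.1 iw.1 E1.2.1.1 c.symm (ev E1) (ew E1)
  set A := W8 v w e1 ⊔ zpowers e2 with hAd
  have pA : IsPGroup 2 A := pg_sup (pg_W8 iv.1 iw.1 E1.2.1.1 c.symm (ev E1) (ew E1)) nm (.of_sq E2'.2.1.1)
  have cA : Nat.card A = 16 := by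
    rw [hAd, card_sup2 nm m2 fun m => ((mW _).1 m).elim (nV E2') (nV E3), W8,
      card_sup2 (fun d hd => by rwa [cj_eq (comm_V4 (ev E1) (ew E1) hd)]) (E1.2.1.1 ▸ one_mem _) (nV E1),
      card_V4 iv.1 iw.1 c.symm iv.2 iw.2 ne.symm]
  have sA : ∀ x ∈ A, x * x = 1 := fun x hx => by
    rcases (mem_sup2 nm m2).1 hx with m | m
    · exact sq_W8 iv.1 iw.1 E1.2.1.1 c.symm (ev E1) (ew E1) m
    · have := sq_of_comm (sq_W8 iv.1 iw.1 E1.2.1.1 c.symm (ev E1) (ew E1) m) E2'.2.1.1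
        (comm_W8 (ev E2') (ew E2') e21 m).symm
      rwa [mul_assoc x, E2'.2.1.1, mul_one] at this
  have BV : ∀ x ∈ V4 v w, x ≠ 1 → Bd x 16 := fun x hx x1 => by
    rcases (V4_cases iv.1 iw.1 c.symm).1 hx with f | f | f | f <;> rw [f]
    exacts [absurd f x1, B1, B2, c ▸ B3]
  have BE : ∀ {e x}, Ee U {v, w} e → x * e ∈ V4 v w → Bd x 16 := fun {e x} E m => by
    obtain ⟨l1, -, a1, b1⟩ := r1.cj h (L1 E.1) E.2.1
    obtain ⟨l2, -, -, b2⟩ := r2.cj h (L2 E.1) E.2.1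
    obtain ⟨l3, -, -, b3⟩ := r3.cj h (L3 E.1) E.2.1
    have ex : x = x * e * e := by rw [mul_assoc, E.2.1.1, mul_one]
    rcases (V4_cases iv.1 iw.1 c.symm).1 m with f | f | f | f <;> rw [ex, f]
    · rw [one_mul]
      refine Bd.tc ?_ ⟨l1, a1⟩
      rcases r1.jv with g | g <;> rw [g]
      exacts [B2, B3]
    · refine Bd.tc ?_ ⟨l1, b1⟩
      rcases r1.jv with g | g <;> rw [g]
      exacts [B3, vv.symm ▸ B2]
    · refine Bd.tc ?_ ⟨l2, b2⟩
      rcases r2.jv with g | g <;> rw [g]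
      exacts [c ▸ B3, ww.symm ▸ B1]
    · rw [← c]
      refine Bd.tc ?_ ⟨l3, b3⟩
      rcases r3.jv with g | g <;> rw [g, uv]
      exacts [B2, uw.symm ▸ B1]
  have BA : ∀ x ∈ A, x ≠ 1 → Bd x 16 := fun x hx x1 => by
    rcases (mem_sup2 nm m2).1 hx with m | m <;> rcases (mW _).1 m with m | m
    exacts [BV x m x1, BE E1 m, BE E2' m, BE E3 (by rwa [← mul_assoc])]
  have : Fact (Nat.Prime 2) := ⟨Nat.prime_two⟩
  obtain ⟨S, hS, AS⟩ := exists_isSylowIn_le pA (le_top (a := A))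
  have vA : v ∈ A := mem_sup_left (V4_W8 t_V4)
  obtain ⟨z, zS, z2, z1, zc⟩ := exists_inv_cent hS.isP le_rfl (fun g hg => .of_mem hg)
    fun e => iv.2 (by simpa [e] using AS vA)
  have cm : ∀ x ∈ A, ∀ y ∈ A, x * y = y * x := fun x hx y hy => comm_of_sq (sA x hx) (sA y hy) (sA _ (mul_mem hx hy))
  have zA : z ∈ A := by
    by_contra n
    have nz : Nm z A := fun d hd => by rwa [cj_eq (zc d (AS hd)).symm]
    have := B1 _ (pg_sup pA nz (.of_sq z2)) fun y hy => mem_centralizer_singleton_iff.1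
      ((show _ ≤ centralizer {v} from sup_le (fun x hx => mem_centralizer_singleton_iff.2 (cm x hx v vA))
        (zpowers_le.2 (mem_centralizer_singleton_iff.2 (zc v (AS vA)).symm))) hy)
    rw [card_sup2 nz (z2 ▸ one_mem _) n] at this
    omega
  have := eq_of_le_of_card_ge AS (cA ▸ BA z zA z1 S hS.isP zc)
  exact ⟨A, this ▸ hS, ⟨⟨fun x y => Subtype.ext (cm x x.2 y y.2)⟩⟩, cA⟩

theorem two_triv (h : Cx U) {s t : G} (is : Inv s) (it : Inv t) (c : s * t = t * s) {a b : Ω} (hab : a ≠ b)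
    (ha : a ∈ Fx Ω ({s, t} : Set G)) (hb : b ∈ Fx Ω ({s, t} : Set G)) (t1 : Tr (Fx Ω {s}) t) (t2 : Tr (Fx Ω {t}) s) :
    s = t := by
  obtain ⟨sa, ta⟩ := mem_Fx2.1 ha
  obtain ⟨sb, tb⟩ := mem_Fx2.1 hb
  have := h.toCb.eq_one hab (g := s * t) (mem_Hb.2 ⟨by rw [mul_smul, ta, sa], by rw [mul_smul, tb, sb]⟩) fun u hu => by
    rw [← h.toCb.gen4 is.1 it.1 c sa ta] at hu
    refine (mem_centralizer_singleton_iff.1 ((show _ ≤ centralizer {s * t} from sup_le (sup_le ?_ ?_) ?_) hu)).symm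
    · intro u hu
      have := cK h (two_le (mem_Fx1.2 sa) (mem_Fx1.2 sb) hab) c.symm t1 (le_Lt (V := UY U {s}) (mem_Fx1.2 sa) hu)
      rw [mem_centralizer_singleton_iff, ← mul_assoc, (mem_UY1.1 hu).2, mul_assoc, ← this, mul_assoc]
    · intro u hu
      have := cK h (two_le (mem_Fx1.2 ta) (mem_Fx1.2 tb) hab) c t2 (le_Lt (V := UY U {t}) (mem_Fx1.2 ta) hu)
      rw [mem_centralizer_singleton_iff, ← mul_assoc, ← this, mul_assoc, (mem_UY1.1 hu).2, mul_assoc]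
    · exact fun u hu => mem_centralizer_singleton_iff.2 (mem_UY1.1 hu).2
  rw [eq_inv_of_mul_eq_one_left this, inv_self it.1]

theorem half (h : Cx U) (hn : Nat.card Ω % 4 = 0) (h3 : Ty3 U) (hr : Rk2 G Ω) (hA : NoAf U) {s t : G} (is : Inv s)
    (it : Inv t) (ne : s ≠ t) (c : s * t = t * s) (f3 : 3 ≤ (Fx Ω ({s, t} : Set G)).ncard) (t1 : Tr (Fx Ω {s}) t) :
    ∃ S : Subgroup G, IsSylowIn 2 S ⊤ ∧ IsMulCommutative S ∧ Nat.card S = 16 := by
  obtain ⟨a, ha, b, hb, hab⟩ := (Set.one_lt_ncard (Set.toFinite _)).1 (show 1 < (Fx Ω ({s, t} : Set G)).ncard by omega)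
  have iu : Inv (s * t) := ⟨sq_of_comm is.1 it.1 c, fun e => ne (by rw [eq_inv_of_mul_eq_one_left e, inv_self it.1])⟩
  have f1 : Fx Ω ({t, s * t} : Set G) = Fx Ω ({s, t} : Set G) := Set.ext fun x => by
    rw [mem_Fx2, mem_Fx2, and_comm, mul_smul]
    exact and_congr_left fun e => by rw [e]
  have f2 : Fx Ω ({s, s * t} : Set G) = Fx Ω ({s, t} : Set G) := Set.ext fun x => by
    rw [mem_Fx2, mem_Fx2, c, mul_smul]
    exact and_congr_right fun e => by rw [e]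
  refine main h hn h3 hr hA it iu (fun e => is.2 (mul_eq_right.1 e.symm)) (by rw [← mul_assoc, ← c]) (f1 ▸ f3)
    (fun k => ne (two_triv h is it c hab ha hb t1 fun x hx => ?_)) fun k => it.2 (mul_eq_left.1 (two_triv h is iu
      (by rw [mul_assoc, ← c]) hab (f2 ▸ ha) (f2 ▸ hb) (fun x hx => ?_) fun x hx => ?_).symm)
  · have := k x hx
    rwa [mul_smul, mem_Fx1.1 hx] at this
  · rw [mul_smul, t1 x hx, mem_Fx1.1 hx]
  · have := mem_Fx1.1 hx
    rwa [mul_smul, k x hx] at this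

theorem t1 (h : Cx U) (hn : Nat.card Ω % 4 = 0) (h3 : Ty3 U) (hV : NV G Ω) {t : G} (it : Inv t) {c : Ω}
    (tc : t • c = c) : TL U {t} ∨ TA U {t} := by
  have f4 := four_le h hn it.1 tc
  rcases h3 t it (by omega) with T | ⟨⟨q, R⟩, O⟩ | T
  · exact Or.inl T
  · obtain ⟨a, ha, b, hb, hab⟩ := (Set.one_lt_ncard (Set.toFinite _)).1 (show 1 < (Fx Ω {t}).ncard by omega)
    obtain ⟨j0, hj0⟩ := R.ex a ha b hb hab
    obtain ⟨j, hj, ij⟩ := lift_inv O hj0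
    have := hV t j it ij (fun e => hj.2.2.2.2 fun x hx => e ▸ mem_Fx1.1 hx) (cL hj.1).symm
    have f := R.fx a ha b hb hab j hj
    rw [show {x | x ∈ Fx Ω {t} ∧ j • x = x} = Fx Ω ({t, j} : Set G) from Set.ext fun x => by
      rw [mem_Fx2, ← mem_Fx1]; rfl] at f
    have := q8 R
    omega
  · exact Or.inr T

theorem fix3 {F : Type} [Field F] [Fintype F] [CharP F 2] (h8 : 8 ≤ Fintype.card F) {σ : F ≃+* F}
    (h2 : ∀ x, σ (σ x) = x) : ∃ z, z ≠ 0 ∧ z ≠ 1 ∧ σ z = z := by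
  by_contra hn
  have k : ∀ z, σ z = z → z = 0 ∨ z = 1 := fun z e => by
    by_contra n
    exact hn ⟨z, fun f => n (Or.inl f), fun f => n (Or.inr f), e⟩
  have t : (2 : F) = 0 := CharTwo.two_eq_zero
  have := Nat.le_of_dvd three_pos ((FiniteField.forall_pow_eq_one_iff F 3).1 fun x => Units.ext (by
    have x0 := x.ne_zero
    rw [Units.val_pow_eq_pow_val, Units.val_one]
    generalize (x : F) = y at x0
    rcases k (y + σ y) (by rw [map_add, h2, add_comm]) with e | e <;>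
      rcases k (y * σ y) (by rw [map_mul, h2, mul_comm]) with f | f
    · exact absurd f (mul_ne_zero x0 (by simpa using x0))
    · have : σ y = y := by linear_combination e - y * t
      rw [(k y this).resolve_left x0, one_pow]
    · exact absurd f (mul_ne_zero x0 (by simpa using x0))
    · linear_combination (y + 1) * (y * e - f) - t))
  omega

theorem no_af (h : Cx U) (hV : NV G Ω) {y r : G} (iy : Inv y) (ir : Inv r) (ne : y ≠ r) (c : y * r = r * y) {a b : Ω}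
    (hab : a ≠ b) (yH : y ∈ Hb G a b) (rH : r ∈ Hb G a b) : ¬ TA U {y} := fun T => by
  have ha := mem_Fx1.2 (mem_Hb.1 yH).1
  have hb := mem_Fx1.2 (mem_Hb.1 yH).2
  obtain ⟨F, _, _, e, L⟩ := T.1 a ha b hb hab
  have := L.two
  have rN := mem_norm1.2 c.symm
  have iv := (h.ldY {y}).inv r rN
  obtain ⟨k, d, σ, -, hk⟩ := L.Naf r rN
  have e1 := hk a ha
  have e2 := hk b hb
  rw [(mem_Hb.1 rH).1, L.ea, map_zero, mul_zero, zero_add] at e1
  rw [(mem_Hb.1 rH).2, L.eb, map_one, mul_one, ← e1, add_zero] at e2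
  simp only [← e1, ← e2, one_mul, add_zero] at hk
  obtain ⟨z, z0, z1, hz⟩ := fix3 L.big (σ := σ) fun x => by
    obtain ⟨w, hw, rfl⟩ := L.bij.surjOn (Set.mem_univ x)
    rw [← hk w hw, ← hk _ (iv w hw), ← mul_smul, ir.1, one_smul]
  obtain ⟨w, hw, rfl⟩ := L.bij.surjOn (Set.mem_univ z)
  have := (Set.two_lt_ncard_iff (Set.toFinite _)).2 ⟨a, b, w, mem_Fx2.2 ⟨mem_Fx1.1 ha, (mem_Hb.1 rH).1⟩,
    mem_Fx2.2 ⟨mem_Fx1.1 hb, (mem_Hb.1 rH).2⟩, mem_Fx2.2 ⟨mem_Fx1.1 hw, L.bij.injOn (iv w hw) hw (by rw [hk w hw, hz])⟩,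
    hab, fun f => z0 (f ▸ L.ea), fun f => z1 (f ▸ L.eb)⟩
  have := hV y r iy ir ne c
  omega

theorem mate {H : Subgroup G} {s t y : G} (sH : s ∈ H) (tH : t ∈ H) (yH : y ∈ H) (is : Inv s) (it : Inv t) (iy : Inv y)
    (ne : s ≠ t) (c : s * t = t * s) : ∃ r ∈ H, Inv r ∧ y ≠ r ∧ y * r = r * y := by
  have : Fact (Nat.Prime 2) := ⟨Nat.prime_two⟩
  obtain ⟨T, hT, yT⟩ := exists_isSylowIn_le (H58.ME.E2.pg (.of_sq iy.1)) (zpowers_le.2 yH)
  replace yT := yT (mem_zpowers y)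
  obtain ⟨z, zT, z2, z1, zc⟩ := exists_inv_cent hT.isP le_rfl (fun g hg => .of_mem hg)
    fun e => iy.2 (by simpa [e] using yT)
  by_cases e : y = z
  · obtain ⟨g, -, hg⟩ := hT.exists_cj_le (pg_V4 is.1 it.1 c.symm) (sup_le (zpowers_le.2 sH) (zpowers_le.2 tH))
    have m : ∀ x ∈ V4 s t, g * x * g⁻¹ ∈ T := fun x hx => hg (mem_cj'.2 ⟨x, hx, rfl⟩)
    by_cases f : y = g * s * g⁻¹
    · exact ⟨_, hT.le (m t s_V4), it.conj (isConj_iff.2 ⟨g, rfl⟩), fun k => ne (by simpa using f.symm.trans k),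
        e ▸ (zc _ (m t s_V4)).symm⟩
    · exact ⟨_, hT.le (m s t_V4), is.conj (isConj_iff.2 ⟨g, rfl⟩), f, e ▸ (zc _ (m s t_V4)).symm⟩
  · exact ⟨z, hT.le zT, ⟨z2, z1⟩, e, zc y yT⟩

end N0R

open N0R

theorem n0r (h : Cx U) (hn : Nat.card Ω % 4 = 0) (h3 : Ty3 U) (hr : Rk2 G Ω) (hA : NoAf U) :
    NV G Ω ∨ ∃ S : Subgroup G, IsSylowIn 2 S ⊤ ∧ IsMulCommutative S ∧ Nat.card S = 16 := by
  refine or_iff_not_imp_right.2 fun n s t is it ne c => ?_
  by_contra f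
  have f3 : 3 ≤ (Fx Ω ({s, t} : Set G)).ncard := by omega
  exact n (main h hn h3 hr hA is it ne c f3 (fun k => n (half h hn h3 hr hA is it ne c f3 k))
    fun k => n (half h hn h3 hr hA it is ne.symm c.symm (by rwa [Set.pair_comm]) k))

/-- the types `²G₂` and affine do not occur any more -/
theorem n0t (h : Cx U) (hn : Nat.card Ω % 4 = 0) (h3 : Ty3 U) (hV : NV G Ω) :
    (∀ t : G, Inv t → (∃ c : Ω, t • c = c) → TL U {t} ∨ TA U {t}) ∧ (Rk1 G Ω ∨ AllL U) := by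
  refine ⟨fun t it ⟨c, tc⟩ => t1 h hn h3 hV it tc, or_iff_not_imp_left.2 fun n y iy ⟨c, yc⟩ => ?_⟩
  refine (t1 h hn h3 hV iy yc).resolve_right fun T => n fun a b hab s sH t tH is it cm => ?_
  by_contra ne
  obtain ⟨c, hc, d, hd, hcd⟩ := (Set.one_lt_ncard (Set.toFinite _)).1
    (show 1 < (Fx Ω {y}).ncard from h.toCb.two_le_Fx1 iy.1 yc)
  obtain ⟨g, rfl, rfl⟩ := h.toCb.pair hab hcd
  have m : ∀ x ∈ Hb G a b, g * x * g⁻¹ ∈ Hb G (g • a) (g • b) := fun x hx => by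
    simp [mem_Hb, mul_smul, (mem_Hb.1 hx).1, (mem_Hb.1 hx).2]
  have yH := mem_Hb.2 ⟨mem_Fx1.1 hc, mem_Fx1.1 hd⟩
  obtain ⟨r, rH, ir, e, cr⟩ := mate (m s sH) (m t tH) yH (is.conj (isConj_iff.2 ⟨g, rfl⟩))
    (it.conj (isConj_iff.2 ⟨g, rfl⟩)) iy (fun k => ne (by simpa using k)) ((conj_comm_iff g s t).2 cm)
  exact no_af h hV iy ir e cr hcd yH rH T

end H51.HK
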