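import Cfsg.Agent.Lib.HK.SLB

set_option autoImplicit false
set_option linter.unusedSectionVars false

namespace H51.HK

open MulAction Subgroup Matrix H69
open scoped MatrixGroups Classical commutatorElement

variable {G Ω : Type*} [Group G] [MulAction G Ω] [Finite G] [Finite Ω]

variable {U : Ω → Subgroup G}

namespace N2A

section field
variable {F : Type} [Field F] [Fintype F]

theorem char_ne (ho : Odd (Fintype.card F)) : ringChar F ≠ 2 := by
  intro h2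
  have := FiniteField.even_card_iff_char_two.1 h2
  obtain ⟨k, hk⟩ := ho
  omega

theorem neg_ne (ho : Odd (Fintype.card F)) : (-1 : F) ≠ 1 :=
  Ring.neg_one_ne_one_of_char_ne_two (char_ne ho)

theorem two_ne (ho : Odd (Fintype.card F)) : (2 : F) ≠ 0 :=
  Ring.two_ne_zero (char_ne ho)

theorem fix_sq (ho : Odd (Fintype.card F)) {σ : F ≃+* F} (h2 : ∀ y, σ (σ y) = y)
    (h1 : σ ≠ RingEquiv.refl F) {x : F} (hx : σ x = x) : IsSquare x := by
  obtain ⟨z, hz⟩ : ∃ z, σ z ≠ z := by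
    by_contra hh
    push Not at hh
    exact h1 (RingEquiv.ext hh)
  set y := z - σ z with hy
  have y0 : y ≠ 0 := sub_ne_zero.2 (Ne.symm hz)
  have sy : σ y = -y := by rw [hy, map_sub, h2]; ring
  let K : Subfield F := (σ : F →+* F).eqLocusField (RingHom.id F)
  have mK : ∀ w : F, w ∈ K ↔ σ w = w := fun w => Iff.rfl
  let _ : Fintype K := Fintype.ofFinite K
  have hd : y * y ∈ K := by rw [mK, map_mul, sy]; ring
  let δ : K := ⟨y * y, hd⟩
  let x' : K := ⟨x, (mK x).2 hx⟩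
  have hδ : ¬ IsSquare δ := by
    rintro ⟨r, hr⟩
    have e1 : y * y = (r : F) * r := congrArg Subtype.val hr
    have r1 : σ r = r := (mK r).1 r.2
    have : σ y = y := by
      rcases mul_self_eq_mul_self_iff.1 e1 with e | e
      · rw [e, r1]
      · rw [e, map_neg, r1]
    rw [sy] at this
    have : (2 : F) * y = 0 := by linear_combination -this
    rcases mul_eq_zero.1 this with e | e
    · exact two_ne ho e
    · exact y0 e
  by_cases hs : IsSquare x'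
  · obtain ⟨r, hr⟩ := hs
    exact ⟨r, congrArg Subtype.val hr⟩
  · have q1 := quadraticChar_neg_one_iff_not_isSquare.2 hδ
    have q2 := quadraticChar_neg_one_iff_not_isSquare.2 hs
    have n0 : x' * δ ≠ 0 := by
      refine mul_ne_zero ?_ ?_
      · intro e; apply hs; rw [e]; exact IsSquare.zero
      · intro e; apply hδ; rw [e]; exact IsSquare.zero
    have q3 : quadraticChar K (x' * δ) = 1 := by rw [map_mul, q1, q2]; norm_num
    obtain ⟨r, hr⟩ := (quadraticChar_one_iff_isSquare n0).1 q3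
    have e1 : x * (y * y) = (r : F) * r := congrArg Subtype.val hr
    refine ⟨r / y, ?_⟩
    field_simp
    linear_combination e1

theorem ex_zeta (ho : Odd (Fintype.card F)) {σ : F ≃+* F} (h2 : ∀ y, σ (σ y) = y)
    (h1 : σ ≠ RingEquiv.refl F) : ∃ ζ : F, ζ ^ 4 = -1 := by
  obtain ⟨i, hi⟩ := fix_sq ho h2 h1 (x := -1) (by simp)
  have h3 : σ i * σ i = i * i := by rw [← map_mul, ← hi]; simp
  have : IsSquare i := by
    rcases mul_self_eq_mul_self_iff.1 h3 with e | e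
    · exact fix_sq ho h2 h1 e
    · obtain ⟨r, hr⟩ := fix_sq ho h2 h1 (x := 2) (map_ofNat σ 2)
      have r0 : r ≠ 0 := by rintro rfl; exact two_ne ho (by simpa using hr)
      refine ⟨(1 + i) / r, ?_⟩
      field_simp
      linear_combination (-i) * hr + hi
  obtain ⟨ζ, hζ⟩ := this
  exact ⟨ζ, by rw [hi, hζ]; ring⟩

theorem ex_i (hq : Fintype.card F % 4 = 1) : ∃ i : Fˣ, i * i = -1 := by
  obtain ⟨i, hi⟩ := (FiniteField.isSquare_neg_one_iff (F := F)).2 (by omega)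
  have i0 : i ≠ 0 := by rintro rfl; simp at hi
  exact ⟨Units.mk0 i i0, Units.ext (by simpa using hi.symm)⟩

end field

theorem tr_self (v : G) : Tr (Fx Ω {v}) v := fun _ hx => hx v rfl

theorem inv_mul {s t : G} (hs : Inv s) (ht : Inv t) (hne : s ≠ t) (hc : s * t = t * s) :
    Inv (s * t) := by
  refine ⟨?_, ?_⟩
  · calc s * t * (s * t) = s * (t * s) * t := by group
      _ = (s * s) * (t * t) := by rw [← hc]; group
      _ = 1 := by rw [hs.1, ht.1, one_mul]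
  · intro e
    apply hne
    calc s = s * (t * t) := by rw [ht.1, mul_one]
      _ = t := by rw [← mul_assoc, e, one_mul]

variable {a b : Ω}

theorem triv (h : Cx U) (hab : a ≠ b) {g v : G} (hg : g ∈ Hb G a b) (vb : v • b = b)
    (ht : Tr (Fx Ω {v}) g) : UY U {v} a ≤ centralizer {g} := by
  intro u hu
  obtain ⟨hu, hc⟩ := mem_UY1.1 hu
  rw [mem_centralizer_singleton_iff]
  refine ((h.fix_iff hab hg hu).1 (ht _ (mem_Fx1.2 ?_))).symm
  rw [← mul_smul, ← hc, mul_smul, vb]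

theorem triv3 (h : Cx U) (hab : a ≠ b) {s t g : G} (hs : s * s = 1) (ht : t * t = 1)
    (hc : s * t = t * s) (sH : s ∈ Hb G a b) (tH : t ∈ Hb G a b) (hg : g ∈ Hb G a b)
    (h1 : Tr (Fx Ω {s}) g) (h2 : Tr (Fx Ω {t}) g) (h3 : Tr (Fx Ω {s * t}) g) : g = 1 := by
  have st := mem_Hb.1 (mul_mem sH tH)
  have e := h.toC0.toCb.gen4 hs ht hc (mem_Hb.1 sH).1 (mem_Hb.1 tH).1
  refine h.toC0.toCb.eq_one hab hg fun u hu => ?_
  have : U a ≤ centralizer {g} := by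
    rw [← e]
    exact sup_le (sup_le (triv h hab hg (mem_Hb.1 sH).2 h1) (triv h hab hg (mem_Hb.1 tH).2 h2))
      (triv h hab hg st.2 h3)
  exact (mem_centralizer_singleton_iff.1 (this hu)).symm

theorem coords (hL : AllL U) (hab : a ≠ b) {v : G} (hv : Inv v) (vH : v ∈ Hb G a b) :
    ∃ (F : Type) (_ : Field F) (_ : Fintype F) (e : Ω → OnePoint F) (π : SL(2, F) →* G),
      L2Q (normalizer ({v} : Set G)) (Fx Ω {v}) (UY U {v}) a b F e π :=
  hL v hv ⟨a, (mem_Hb.1 vH).1⟩ a (mem_Fx1.2 (mem_Hb.1 vH).1) b (mem_Fx1.2 (mem_Hb.1 vH).2) hab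

theorem three_le {S : Set Ω} {x y z : Ω} (hx : x ∈ S) (hy : y ∈ S) (hz : z ∈ S) (xy : x ≠ y)
    (xz : x ≠ z) (yz : y ≠ z) : 3 ≤ S.ncard :=
  (Set.two_lt_ncard (Set.toFinite S)).2 ⟨x, hx, y, hy, z, hz, xy, xz, yz⟩

theorem inn3 (h : Cx U) (hL : AllL U) (hab : a ≠ b) {r v : G} (hr : Inv r) (rH : r ∈ Hb G a b)
    {x : Ω} (xa : x ≠ a) (xb : x ≠ b) (rx : r • x = x) (hv : v ∈ LY U {r}) (vH : v ∈ Hb G a b)
    (vx : v • x = x) : Tr (Fx Ω {r}) v := by
  obtain ⟨F, _, _, e, π, hq⟩ := coords hL hab hr rH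
  refine hq.toL2P.inn_three (h.ldY {r}) ((h.ldY {r}).Lt_le hv) ⟨v, hv, fun y _ => by simp⟩ ?_
  exact three_le (x := a) (y := b) (z := x) ⟨mem_Fx1.2 (mem_Hb.1 rH).1, (mem_Hb.1 vH).1⟩
    ⟨mem_Fx1.2 (mem_Hb.1 rH).2, (mem_Hb.1 vH).2⟩ ⟨mem_Fx1.2 rx, vx⟩ hab xa.symm xb.symm

section co
variable {v : G} {F : Type} [Field F] [Fintype F] {e : Ω → OnePoint F} {π : SL(2, F) →* G}

theorem q1 (h : Cx U) (hn : Nat.card Ω % 4 = 2) (hv : v * v = 1)
    (hq : L2P (normalizer ({v} : Set G)) (Fx Ω {v}) (UY U {v}) a b F e) :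
    Fintype.card F % 4 = 1 := by
  have e1 := h.toC0.parity hv
  rw [hq.card, hn] at e1
  omega

theorem pi_comm (hq : L2Q (normalizer ({v} : Set G)) (Fx Ω {v}) (UY U {v}) a b F e π)
    (B : SL(2, F)) : π B * v = v * π B :=
  mem_centralizer_singleton_iff.1 (LY_le U {v} (hq.mem B))

theorem dg_H (h : Cx U) (vH : v ∈ Hb G a b)
    (hq : L2Q (normalizer ({v} : Set G)) (Fx Ω {v}) (UY U {v}) a b F e π) (c : Fˣ) :
    π (dg c) ∈ Hb G a b :=
  ((hq.mem_D (h.ldY {v}) (mem_Fx1.2 (mem_Hb.1 vH).1) (mem_Fx1.2 (mem_Hb.1 vH).2)).2 ⟨c, rfl⟩).2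

theorem dg_sq (h1 : π (-1) = 1) {i : Fˣ} (hi : i * i = -1) : π (dg i) * π (dg i) = 1 := by
  rw [← map_mul, ← dg_mul, hi, dg_neg_one, h1]

theorem dg_sc (hq : L2Q (normalizer ({v} : Set G)) (Fx Ω {v}) (UY U {v}) a b F e π) {i : Fˣ}
    (hi : i * i = -1) : Sc e (Fx Ω {v}) (π (dg i)) (-1) (RingEquiv.refl F) := by
  have := hq.sc_dg i
  have e1 : (i : F) ^ 2 = -1 := by
    have := congrArg Units.val hi
    simpa [sq] using this
  rwa [e1] at this

theorem dg_ntr (hq : L2Q (normalizer ({v} : Set G)) (Fx Ω {v}) (UY U {v}) a b F e π) {i : Fˣ}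
    (hi : i * i = -1) : ¬ Tr (Fx Ω {v}) (π (dg i)) := fun ht =>
  neg_ne hq.odd (hq.toL2P.sc_uniq (neg_ne_zero.2 _root_.one_ne_zero) (dg_sc hq hi)
    ht.sc).1

end co

theorem core (h : Cx U) (hn : Nat.card Ω % 4 = 2) (hr : Rk2 G Ω) (hL : AllL U) (hab : a ≠ b)
    {v w : G} (hv : Inv v) (hw : Inv w) (hne : v ≠ w) (hc : v * w = w * v) (vH : v ∈ Hb G a b)
    (wH : w ∈ Hb G a b) {x : Ω} (xa : x ≠ a) (xb : x ≠ b) (vx : v • x = x) (wx : w • x = x) :
    Tr (Fx Ω {v}) w := by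
  by_contra hnt
  obtain ⟨F, _, _, e, π, hq⟩ := coords hL hab hv vH
  have hd := h.ldY {v}
  have ha : a ∈ Fx Ω {v} := mem_Fx1.2 (mem_Hb.1 vH).1
  have hb : b ∈ Fx Ω {v} := mem_Fx1.2 (mem_Hb.1 vH).2
  have hx : x ∈ Fx Ω {v} := mem_Fx1.2 vx
  have wN : w ∈ normalizer ({v} : Set G) := mem_norm1.2 hc.symm
  have ww : Tr (Fx Ω {v}) (w * w) := by rw [hw.1]; exact fun y _ => one_smul _ _
  have vw : ¬ Tr (Fx Ω {v}) (v * w) := by
    intro ht
    apply hnt
    intro y hy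
    have := ht y hy
    rwa [hc, mul_smul, mem_Fx1.1 hy] at this
  by_cases h1 : π (-1) = 1
  · rcases hq.toL2P.tri hd ha hb wN wH ww with ht | ⟨-, ht⟩ | ⟨r, -, -, -, c, σ, hσ, -, hs⟩
    · exact hnt ht
    · have : x ∈ ({a, b} : Set Ω) := by rw [← ht]; exact ⟨hx, wx⟩
      rcases this with e1 | e1
      · exact xa e1
      · exact xb e1
    · obtain ⟨i, hi⟩ := ex_i (q1 h hn hv.1 hq.toL2P)
      have cw : w * π (dg i) = π (dg i) * w := by
        have e1 := hq.conj_dg wN hs i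
        have e2 : Units.map (σ : F →* F) i * Units.map (σ : F →* F) i = i * i := by
          rw [← map_mul, hi]; ext; simp
        have e3 : π (dg (Units.map (σ : F →* F) i)) = π (dg i) := by
          have e4 := congrArg Units.val e2
          simp only [Units.val_mul] at e4
          rcases mul_self_eq_mul_self_iff.1 e4 with e5 | e5
          · rw [Units.ext e5]
          · have : Units.map (σ : F →* F) i = -1 * i := Units.ext (by simpa using e5)
            rw [this, dg_mul, dg_neg_one, map_mul, h1, one_mul]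
        rw [e3] at e1
        exact mul_inv_eq_iff_eq_mul.1 e1
      have hsc := dg_sc hq hi
      have hnt' := dg_ntr hq hi
      rcases hr a b hab v vH w wH _ (dg_H h vH hq i) hv hw hne (dg_sq h1 hi) hc
        (pi_comm hq _).symm cw with e1 | e1 | e1 | e1
      · apply hnt'; rw [e1]; exact fun y _ => one_smul _ _
      · apply hnt'; rw [e1]; exact tr_self v
      · rw [e1] at hsc
        exact hσ (hq.toL2P.sc_uniq c.ne_zero hs hsc).2
      · rw [e1] at hsc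
        have hs' : Sc e (Fx Ω {v}) (v * w) c σ := by
          intro y hy
          rw [hc, mul_smul, mem_Fx1.1 hy]
          exact hs y hy
        exact hσ (hq.toL2P.sc_uniq c.ne_zero hs' hsc).2
  · have zt : Tr (Fx Ω {v}) (π (-1)) := (hq.tr_iff (h.ldY _)).2 (Or.inr rfl)
    have zH : π (-1) ∈ Hb G a b := mem_Hb.2 ⟨zt a ha, zt b hb⟩
    have z2 : π (-1) * π (-1) = 1 := by rw [← map_mul]; simp
    have zv : π (-1) = v := by
      rcases hr a b hab v vH w wH _ zH hv hw hne z2 hc (pi_comm hq _).symm (hq.neg_comm wN)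
        with e1 | e1 | e1 | e1
      · exact absurd e1 h1
      · exact e1
      · rw [e1] at zt; exact absurd zt hnt
      · rw [e1] at zt; exact absurd zt vw
    have h2 : 2 ≤ (Fx Ω {v}).ncard := le_trans (by norm_num) (three_le ha hb hx hab xa.symm xb.symm)
    obtain ⟨u, hu, u', hu', e1, e2⟩ := hq.ll6 hd (h.faithY h2) ha hb hx xa xb
    obtain ⟨c1, c2⟩ := e2 w wN (mem_Hb.1 wH).1 (mem_Hb.1 wH).2 wx ww
    obtain ⟨uU, uv⟩ := mem_UY1.1 hu
    obtain ⟨uU', uv'⟩ := mem_UY1.1 hu'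
    have key : ∀ r : G, r ∈ Hb G a b → u * r = r * u → u' * r = r * u' → v ∈ LY U {r} := by
      intro r rH d1 d2
      have m1 : u ∈ LY U {r} := le_Lt (mem_Fx1.2 (mem_Hb.1 rH).1) (mem_UY1.2 ⟨uU, d1⟩)
      have m2 : u' ∈ LY U {r} := le_Lt (mem_Fx1.2 (mem_Hb.1 rH).2) (mem_UY1.2 ⟨uU', d2⟩)
      rw [← zv, ← e1]
      exact pow_mem (mul_mem (mul_mem m1 m2) m1) 2
    have t1 := inn3 h hL hab hw wH xa xb wx (key w wH c1.symm c2.symm) vH vx
    have t2 := inn3 h hL hab (inv_mul hv hw hne hc) (mul_mem vH wH) xa xb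
      (by rw [mul_smul, wx, vx])
      (key (v * w) (mul_mem vH wH) (by rw [← mul_assoc, uv, mul_assoc, ← c1, mul_assoc])
        (by rw [← mul_assoc, uv', mul_assoc, ← c2, mul_assoc])) vH vx
    exact hv.2 (triv3 h hab hv.1 hw.1 hc vH wH vH (tr_self v) t1 t2)

/-- `g` acts on the fixed points of `u` as a scalar -/
def Sa (U : Ω → Subgroup G) (a b : Ω) (u g : G) : Prop :=
  ∀ (F : Type) [Field F] [Fintype F] (e : Ω → OnePoint F) (π : SL(2, F) →* G),
    L2Q (normalizer ({u} : Set G)) (Fx Ω {u}) (UY U {u}) a b F e π →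
      ∃ c : Fˣ, Sc e (Fx Ω {u}) g c (RingEquiv.refl F)

/-- the field of `u` contains no primitive eighth root of unity -/
def Nz (U : Ω → Subgroup G) (a b : Ω) (u : G) : Prop :=
  ∀ (F : Type) [Field F] [Fintype F] (e : Ω → OnePoint F) (π : SL(2, F) →* G),
    L2Q (normalizer ({u} : Set G)) (Fx Ω {u}) (UY U {u}) a b F e π → ¬ ∃ ζ : F, ζ ^ 4 = -1

theorem Sa.mul (h : Cx U) {u g g' : G} (c' : g' * u = u * g') (h1 : Sa U a b u g)
    (h2 : Sa U a b u g') : Sa U a b u (g * g') := by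
  intro F _ _ e π hq
  obtain ⟨c, hc⟩ := h1 F e π hq
  obtain ⟨d, hd⟩ := h2 F e π hq
  exact ⟨c * d, Sc.mul (h.ldY {u}) (mem_norm1.2 c') hc hd⟩

theorem sa_tr {u g : G} (ht : Tr (Fx Ω {u}) g) : Sa U a b u g :=
  fun _ _ _ _ _ hq => ⟨1, ht.sc⟩

theorem sa_inv (h : Cx U) (hV : NV G Ω) {u y : G} (hu : Inv u) (uH : u ∈ Hb G a b)
    (y2 : y * y = 1) (yH : y ∈ Hb G a b) (hc : y * u = u * y) : Sa U a b u y := by
  by_cases y1 : y = 1
  · exact sa_tr (by rw [y1]; exact fun _ _ => one_smul _ _)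
  by_cases yu : y = u
  · exact sa_tr (by rw [yu]; exact tr_self u)
  intro F _ _ e π hq
  exact ⟨-1, NV.neg h hV hu uH hq.toL2P ⟨y2, y1⟩ yu hc yH⟩

theorem sa_swap (h : Cx U) (hV : NV G Ω) {u m m' : G} (hu : Inv u) (uH : u ∈ Hb G a b)
    (m2 : m * m = 1) (m2' : m' * m' = 1) (c : m * u = u * m) (c' : m' * u = u * m')
    (hH : m * m' ∈ Hb G a b) : Sa U a b u (m * m') := by
  intro F _ _ e π hq
  obtain ⟨A, hA⟩ := NV.lin h hV hu hq.toL2P m2 c
  obtain ⟨A', hA'⟩ := NV.lin h hV hu hq.toL2P m2' c'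
  have h1 := Act.mul (h.ldY {u}) (mem_norm1.2 c') hA hA'
  obtain ⟨d, σ, hd⟩ := hq.toL2P.sc (mem_Fx1.2 (mem_Hb.1 uH).1) (mem_Fx1.2 (mem_Hb.1 uH).2)
    (mul_mem (mem_norm1.2 c) (mem_norm1.2 c')) hH
  obtain ⟨B, -, hB⟩ := hd.act
  have : σ = RingEquiv.refl F := (hq.toL2P.uniq hB h1).1
  exact ⟨d, this ▸ hd⟩

theorem sa_invert (h : Cx U) (hL : AllL U) (hV : NV G Ω) (hab : a ≠ b) {u m g : G} (hu : Inv u)
    (uH : u ∈ Hb G a b) (m2 : m * m = 1) (c : m * u = u * m) (ma : m • a = b) (mb : m • b = a)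
    (gc : g * u = u * g) (hg : Sa U a b u g) : Tr (Fx Ω {u}) (m * g * m⁻¹ * g) := by
  obtain ⟨F, _, _, e, π, hq⟩ := coords hL hab hu uH
  obtain ⟨d, hd⟩ := hg F e π hq
  obtain ⟨A, hA⟩ := NV.lin h hV hu hq.toL2P m2 c
  have h1 := hq.toL2P.swap_sc (h.ldY {u}) (mem_Fx1.2 (mem_Hb.1 uH).1) (mem_Fx1.2 (mem_Hb.1 uH).2)
    (mem_norm1.2 c) (mem_norm1.2 gc) hA ma mb hd
  have h2 := Sc.mul (h.ldY {u}) (mem_norm1.2 gc) h1 hd
  rw [hq.toL2P.sc_tr (h.ldY _) (mul_mem (mul_mem (mul_mem (mem_norm1.2 c) (mem_norm1.2 gc))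
    (inv_mem (mem_norm1.2 c))) (mem_norm1.2 gc))]
  simp only [RingEquiv.refl_apply, Units.inv_mul] at h2
  exact h2

theorem sa_sq (h : Cx U) {u g : G} (uH : u ∈ Hb G a b) (hz : Nz U a b u) (gH : g ∈ Hb G a b)
    (gc : g * u = u * g) (hg : Sa U a b u (g * g)) : Sa U a b u g := by
  intro F _ _ e π hq
  obtain ⟨d, hd⟩ := hg F e π hq
  obtain ⟨c, σ, hc⟩ := hq.toL2P.sc (mem_Fx1.2 (mem_Hb.1 uH).1) (mem_Fx1.2 (mem_Hb.1 uH).2)
    (mem_norm1.2 gc) gH
  have h2 := (hq.toL2P.sc_uniq d.ne_zero hd (Sc.mul (h.ldY {u}) (mem_norm1.2 gc) hc hc)).2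
  by_cases h1 : σ = RingEquiv.refl F
  · exact ⟨c, h1 ▸ hc⟩
  · exact absurd (ex_zeta hq.odd (fun y => (RingEquiv.congr_fun h2 y).symm) h1) (hz F e π hq)

theorem sa_two (h : Cx U) {u : G} (uH : u ∈ Hb G a b) (hz : Nz U a b u) (n : ℕ) :
    ∀ g : G, g ∈ Hb G a b → g * u = u * g → g ^ 2 ^ n = 1 → Sa U a b u g := by
  induction n with
  | zero =>
    intro g _ _ h1
    have : g = 1 := by simpa using h1
    exact sa_tr (by rw [this]; exact fun _ _ => one_smul _ _)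
  | succ n ih =>
    intro g gH gc h1
    refine sa_sq h uH hz gH gc (ih _ (mul_mem gH gH) ?_ ?_)
    · rw [mul_assoc, gc, ← mul_assoc, gc, mul_assoc]
    · rw [← sq, ← pow_mul, ← pow_succ', h1]

section co
variable {v : G} {F : Type} [Field F] [Fintype F] {e : Ω → OnePoint F} {π : SL(2, F) →* G}

theorem neg1 (h : Cx U) (hV : NV G Ω) (hS : ∀ x : G, ¬ SLt U x) (hL : AllL U) (hv : Inv v)
    (vH : v ∈ Hb G a b)
    (hq : L2Q (normalizer ({v} : Set G)) (Fx Ω {v}) (UY U {v}) a b F e π) : π (-1) = 1 := by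
  have h3 : 3 ≤ (Fx Ω {v}).ncard := by
    rw [hq.toL2P.card]
    have := Fintype.one_lt_card (α := F)
    omega
  have z2 : π (-1) * π (-1) = 1 := by rw [← map_mul]; simp
  rcases hV.uniq hv h3 (mem_KY1.2 ⟨pi_comm hq _, (hq.tr_iff (h.ldY _)).2 (Or.inr rfl)⟩) z2 with e1 | e1
  · exact e1
  · exact absurd ⟨hv, e1 ▸ hq.mem (-1), hL v hv ⟨a, (mem_Hb.1 vH).1⟩⟩ (hS v)

theorem ad_sq (h1 : π (-1) = 1) (c : Fˣ) : π (ad c) * π (ad c) = 1 := by
  rw [← map_mul, ad_mul_ad, mul_inv_cancel, dg_neg_one, h1]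

theorem ad_swap (h : Cx U) (vH : v ∈ Hb G a b)
    (hq : L2Q (normalizer ({v} : Set G)) (Fx Ω {v}) (UY U {v}) a b F e π) (c : Fˣ) :
    π (ad c) • a = b ∧ π (ad c) • b = a :=
  ((hq.mem_swap (h.ldY {v}) (mem_Fx1.2 (mem_Hb.1 vH).1)
    (mem_Fx1.2 (mem_Hb.1 vH).2)).2 ⟨c, rfl⟩).2

theorem ad_comm (h : Cx U) (hV : NV G Ω) (hv : Inv v) (vH : v ∈ Hb G a b)
    (hq : L2Q (normalizer ({v} : Set G)) (Fx Ω {v}) (UY U {v}) a b F e π) (h1 : π (-1) = 1)
    {w : G} (hw : Inv w) (hne : v ≠ w) (hc : v * w = w * v) (wH : w ∈ Hb G a b) (c : Fˣ) :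
    π (ad c) * w = w * π (ad c) := by
  have hs := NV.neg h hV hv vH hq.toL2P hw hne.symm hc.symm wH
  have e1 := hq.conj_ad (c := -1) (mem_norm1.2 hc.symm) hs c
  have e2 : Units.map ((RingEquiv.refl F : F ≃+* F) : F →* F) c = c := Units.ext rfl
  rw [e2, ← dg_mul_ad, dg_neg_one, map_mul, h1, one_mul] at e1
  exact (mul_inv_eq_iff_eq_mul.1 e1).symm

theorem dg_comm (hq : L2Q (normalizer ({v} : Set G)) (Fx Ω {v}) (UY U {v}) a b F e π)
    {g : G} (gc : g * v = v * g) (hg : Sa U a b v g) (c : Fˣ) :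
    g * π (dg c) = π (dg c) * g := by
  obtain ⟨d, hd⟩ := hg F e π hq
  have e1 := hq.conj_dg (mem_norm1.2 gc) hd c
  have e2 : Units.map ((RingEquiv.refl F : F ≃+* F) : F →* F) c = c := Units.ext rfl
  rw [e2] at e1
  exact mul_inv_eq_iff_eq_mul.1 e1

theorem dgV (h : Cx U) (hr : Rk2 G Ω) (hV : NV G Ω) (hab : a ≠ b) (hv : Inv v)
    (vH : v ∈ Hb G a b)
    (hq : L2Q (normalizer ({v} : Set G)) (Fx Ω {v}) (UY U {v}) a b F e π) (h1 : π (-1) = 1)
    {w : G} (hw : Inv w) (hne : v ≠ w) (hc : v * w = w * v) (wH : w ∈ Hb G a b) {i : Fˣ}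
    (hi : i * i = -1) : π (dg i) = w ∨ π (dg i) = v * w := by
  have hnt := dg_ntr hq hi
  rcases hr a b hab v vH w wH _ (dg_H h vH hq i) hv hw hne (dg_sq h1 hi) hc (pi_comm hq _).symm
    (dg_comm hq hc.symm (sa_inv h hV hv vH hw.1 wH hc.symm) i) with e1 | e1 | e1 | e1
  · exact absurd (by rw [e1]; exact fun y _ => one_smul _ _) hnt
  · exact absurd (by rw [e1]; exact tr_self v) hnt
  · exact Or.inl e1
  · exact Or.inr e1

end co

theorem comm_mul {g s t : G} (hs : g * s = s * g) (ht : g * t = t * g) :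
    g * (s * t) = s * t * g := by
  rw [← mul_assoc, hs, mul_assoc, ht, mul_assoc]

theorem key0 (h : Cx U) (hL : AllL U) (hV : NV G Ω) (hS : ∀ x : G, ¬ SLt U x) (hab : a ≠ b)
    {w v g : G} (hw : Inv w) (hv : Inv v) (hne : w ≠ v) (hc : w * v = v * w) (wH : w ∈ Hb G a b)
    (vH : v ∈ Hb G a b) (gH : g ∈ Hb G a b) (gw : g * w = w * g) (gv : g * v = v * g)
    (s2 : Sa U a b v g) (s3 : Sa U a b (w * v) g) (ht : Tr (Fx Ω {w}) g) : g * g = 1 := by
  obtain ⟨F, _, _, e, π, hq⟩ := coords hL hab hw wH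
  have h1 := neg1 h hV hS hL hw wH hq
  have m2 := ad_sq h1 1
  obtain ⟨ma, mb⟩ := ad_swap h wH hq 1
  have mw := pi_comm hq (ad 1)
  have mv := ad_comm h hV hw wH hq h1 hv hne hc vH 1
  have h2 : 2 ≤ (Fx Ω {w}).ncard := by
    rw [hq.toL2P.card]
    have := Fintype.one_lt_card (α := F)
    omega
  have cm := (h.ldY {w}).commK (h.faithY h2) (mem_norm1.2 gw) ht (hq.mem (ad 1))
  have e1 : π (ad 1) * g * (π (ad 1))⁻¹ * g = g * g := by rw [← cm]; group
  have t1 := sa_invert h hL hV hab hw wH m2 mw ma mb gw (sa_tr ht)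
  have t2 := sa_invert h hL hV hab hv vH m2 mv ma mb gv s2
  have t3 := sa_invert h hL hV hab (inv_mul hw hv hne hc) (mul_mem wH vH) m2 (comm_mul mw mv) ma mb
    (comm_mul gw gv) s3
  rw [e1] at t1 t2 t3
  exact triv3 h hab hw.1 hv.1 hc wH vH (mul_mem gH gH) t1 t2 t3

theorem key (h : Cx U) (hL : AllL U) (hV : NV G Ω) (hS : ∀ x : G, ¬ SLt U x) (hab : a ≠ b)
    {w v g : G} (hw : Inv w) (hv : Inv v) (hne : w ≠ v) (hc : w * v = v * w) (wH : w ∈ Hb G a b)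
    (vH : v ∈ Hb G a b) (gH : g ∈ Hb G a b) (gw : g * w = w * g) (gv : g * v = v * g)
    (s1 : Sa U a b w g) (s2 : Sa U a b v g) (s3 : Sa U a b (w * v) g) : g * g ≠ w := by
  intro g2
  obtain ⟨F, _, _, e, π, hq⟩ := coords hL hab hw wH
  obtain ⟨c, hc1⟩ := s1 F e π hq
  have h2 := Sc.mul (h.ldY {w}) (mem_norm1.2 gw) hc1 hc1
  rw [g2] at h2
  have h3 : (1 : F) = c * c := (hq.toL2P.sc_uniq _root_.one_ne_zero (tr_self w).sc h2).1
  rcases mul_self_eq_one_iff.1 h3.symm with e1 | e1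
  · rw [e1] at hc1
    exact hw.2 (g2 ▸ key0 h hL hV hS hab hw hv hne hc wH vH gH gw gv s2 s3 
      ((hq.toL2P.sc_tr (h.ldY _) (mem_norm1.2 gw)).2 hc1))
  · rw [e1] at hc1
    have h4 := Sc.mul (h.ldY {w}) (mem_norm1.2 hc.symm) hc1
      (NV.neg h hV hw wH hq.toL2P hv hne.symm hc.symm vH)
    have h5 : Tr (Fx Ω {w}) (g * v) := by
      rw [hq.toL2P.sc_tr (h.ldY _) (mul_mem (mem_norm1.2 gw) (mem_norm1.2 hc.symm))]
      simp only [RingEquiv.refl_apply, mul_neg, mul_one, neg_neg] at h4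
      exact h4
    have cv : v * (w * v) = w * v * v := comm_mul hc.symm rfl
    have := key0 h hL hV hS hab hw hv hne hc wH vH (mul_mem gH vH)
      (comm_mul gw.symm hc).symm (comm_mul gv.symm rfl).symm
      (s2.mul h rfl (sa_tr (tr_self v)))
      (s3.mul h cv (sa_inv h hV (inv_mul hw hv hne hc) (mul_mem wH vH) hv.1 vH cv)) h5
    apply hw.2
    calc w = g * g * (v * v) := by rw [g2, hv.1, mul_one]
      _ = g * (g * v) * v := by group
      _ = g * (v * g) * v := by rw [gv]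
      _ = 1 := by rw [← this]; group

theorem key2 (h : Cx U) (hL : AllL U) (hV : NV G Ω) (hS : ∀ x : G, ¬ SLt U x) (hab : a ≠ b)
    {w v g : G} (hw : Inv w) (hv : Inv v) (hne : w ≠ v) (hc : w * v = v * w) (wH : w ∈ Hb G a b)
    (vH : v ∈ Hb G a b) (gH : g ∈ Hb G a b) (gw : g * w = w * g) (gv : g * v = v * g)
    (s1 : Sa U a b w g) (s2 : Sa U a b v g) (s3 : Sa U a b (w * v) g) :
    g * g ≠ w ∧ g * g ≠ v ∧ g * g ≠ w * v := by
  refine ⟨key h hL hV hS hab hw hv hne hc wH vH gH gw gv s1 s2 s3,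
    key h hL hV hS hab hv hw hne.symm hc.symm vH wH gH gv gw s2 s1 (hc ▸ s3),
    key h hL hV hS hab (inv_mul hw hv hne hc) hv (fun e => hw.2 (by simpa using e))
      (comm_mul hc.symm rfl).symm (mul_mem wH vH) vH gH (comm_mul gw gv) gv s3 s2 ?_⟩
  rwa [mul_assoc, hv.1, mul_one]

theorem nz (h : Cx U) (hr : Rk2 G Ω) (hL : AllL U) (hV : NV G Ω) (hS : ∀ x : G, ¬ SLt U x)
    (hab : a ≠ b) {w v : G} (hw : Inv w) (hv : Inv v) (hne : w ≠ v) (hc : w * v = v * w)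
    (wH : w ∈ Hb G a b) (vH : v ∈ Hb G a b) : Nz U a b w := by
  rintro F _ _ e π hq ⟨ζ, hζ⟩
  have h1 := neg1 h hV hS hL hw wH hq
  have z0 : ζ ≠ 0 := by rintro rfl; simp at hζ
  set z : Fˣ := Units.mk0 ζ z0 with hz
  have hi : z * z * (z * z) = -1 := Units.ext (by simp [hz, ← hζ]; ring)
  have e1 : π (dg z) = π (ad (-z)) * π (ad 1) := by
    rw [← map_mul, ad_mul_ad]; simp
  have dH := dg_H h wH hq z
  have mw := pi_comm hq
  have mv := ad_comm h hV hw wH hq h1 hv hne hc vH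
  have sw : ∀ r : G, Inv r → r ∈ Hb G a b → (∀ c, π (ad c) * r = r * π (ad c)) →
      Sa U a b r (π (dg z)) := by
    intro r hr rH cr
    rw [e1]
    exact sa_swap h hV hr rH (ad_sq h1 _) (ad_sq h1 _) (cr _) (cr _) (e1 ▸ dH)
  have k := key2 h hL hV hS hab hw hv hne hc wH vH dH (mw _)
    (by rw [e1]; exact (comm_mul (mv _).symm (mv _).symm).symm) (sw w hw wH fun c => mw _)
    (sw v hv vH mv) (sw _ (inv_mul hw hv hne hc) (mul_mem wH vH) fun c => comm_mul (mw _) (mv c))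
  rw [← map_mul, ← dg_mul] at k
  rcases dgV h hr hV hab hw wH hq h1 hv hne hc vH hi with e2 | e2
  · exact k.2.1 e2
  · exact k.2.2 e2

theorem cent (h : Cx U) (hr : Rk2 G Ω) (hL : AllL U) (hV : NV G Ω) (hS : ∀ x : G, ¬ SLt U x)
    (hab : a ≠ b) {w v : G} (hw : Inv w) (hv : Inv v) (hne : w ≠ v) (hc : w * v = v * w)
    (wH : w ∈ Hb G a b) (vH : v ∈ Hb G a b) (n : ℕ) : ∀ g : G, g ∈ Hb G a b → g * w = w * g →
      g * v = v * g → g ^ 2 ^ n = 1 → g = 1 ∨ g = w ∨ g = v ∨ g = w * v := by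
  have n1 := nz h hr hL hV hS hab hw hv hne hc wH vH
  have n2 := nz h hr hL hV hS hab hv hw hne.symm hc.symm vH wH
  have n3 := nz h hr hL hV hS hab (inv_mul hw hv hne hc) hv (fun e => hw.2 (by simpa using e))
    (comm_mul hc.symm rfl).symm (mul_mem wH vH) vH
  induction n with
  | zero => intro g _ _ _ h1; exact Or.inl (by simpa using h1)
  | succ n ih =>
    intro g gH gw gv h1
    have k := key2 h hL hV hS hab hw hv hne hc wH vH gH gw gv (sa_two h wH n1 _ g gH gw h1)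
      (sa_two h vH n2 _ g gH gv h1) (sa_two h (mul_mem wH vH) n3 _ g gH (comm_mul gw gv) h1)
    rcases ih (g * g) (mul_mem gH gH) (comm_mul gw.symm gw.symm).symm
      (comm_mul gv.symm gv.symm).symm (by rw [← sq, ← pow_mul, ← pow_succ', h1])
      with e | e | e | e
    · exact hr a b hab w wH v vH g gH hw hv hne e hc gw.symm gv.symm
    · exact absurd e k.1
    · exact absurd e k.2.1
    · exact absurd e k.2.2

theorem fin (h : Cx U) (hn : Nat.card Ω % 4 = 2) (hr : Rk2 G Ω) (hL : AllL U) (hV : NV G Ω)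
    (hS : ∀ x : G, ¬ SLt U x) (hab : a ≠ b) {w v : G} (hw : Inv w) (hv : Inv v) (hne : w ≠ v)
    (hc : w * v = v * w) (wH : w ∈ Hb G a b) (vH : v ∈ Hb G a b) {n : ℕ} {g : G}
    (gH : g ∈ Hb G a b) (gw : g * w = w * g) (g2 : g ^ 2 ^ n = 1) : g * v = v * g := by
  obtain ⟨F, _, _, e, π, hq⟩ := coords hL hab hw wH
  have h1 := neg1 h hV hS hL hw wH hq
  obtain ⟨i, hi⟩ := ex_i (q1 h hn hw.1 hq.toL2P)
  have c := dg_comm hq gw (sa_two h wH (nz h hr hL hV hS hab hw hv hne hc wH vH) _ g gH gw g2) i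
  rcases dgV h hr hV hab hw wH hq h1 hv hne hc vH hi with e2 | e2
  · rwa [e2] at c
  · rw [e2, ← mul_assoc, gw, mul_assoc, mul_assoc] at c
    exact mul_left_cancel c

theorem main (h : Cx U) (hn : Nat.card Ω % 4 = 2) (hr : Rk2 G Ω) (hL : AllL U) (hV : NV G Ω)
    (hS : ∀ x : G, ¬ SLt U x) (hab : a ≠ b) {w v : G} (hw : Inv w) (hv : Inv v) (hne : w ≠ v)
    (hc : w * v = v * w) (wH : w ∈ Hb G a b) (vH : v ∈ Hb G a b) {T : Subgroup G}
    (hT : IsPGroup 2 T) (TH : T ≤ Hb G a b) (wZ : ∀ g ∈ T, g * w = w * g) :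
    IsMulCommutative T := by
  have k : ∀ g ∈ T, g * v = v * g ∧ (g = 1 ∨ g = w ∨ g = v ∨ g = w * v) := by
    intro g hg
    obtain ⟨n, hg2⟩ := hT ⟨g, hg⟩
    have g2 : g ^ 2 ^ n = 1 := congrArg Subtype.val hg2
    have gv := fin h hn hr hL hV hS hab hw hv hne hc wH vH (TH hg) (wZ g hg) g2
    exact ⟨gv, cent h hr hL hV hS hab hw hv hne hc wH vH n g (TH hg) (wZ g hg) gv g2⟩
  refine ⟨⟨fun x y => Subtype.ext ?_⟩⟩
  show (x : G) * y = y * x
  rcases (k y y.2).2 with e | e | e | e <;> rw [e]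
  · simp
  · exact wZ x x.2
  · exact (k x x.2).1
  · exact comm_mul (wZ x x.2) (k x x.2).1

end N2A

open N2A

theorem n2a (h : Cx U) (hn : Nat.card Ω % 4 = 2) (hr : Rk2 G Ω) (hL : AllL U) : NV G Ω := by
  intro s t hs ht hne hc
  by_contra h3
  obtain ⟨a, ha, b, hb, x, hx, hab, ax, bx⟩ :=
    (Set.two_lt_ncard (Set.toFinite _)).1 (not_le.1 h3)
  rw [mem_Fx2] at ha hb hx
  have sH : s ∈ Hb G a b := mem_Hb.2 ⟨ha.1, hb.1⟩
  have tH : t ∈ Hb G a b := mem_Hb.2 ⟨ha.2, hb.2⟩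
  have t1 := core h hn hr hL hab ht hs hne.symm hc.symm tH sH ax.symm bx.symm hx.2 hx.1
  have t2 := core h hn hr hL hab (inv_mul hs ht hne hc) hs
    (fun e => ht.2 (by simpa using e)) (by rw [mul_assoc, ← hc]) (mul_mem sH tH) sH ax.symm bx.symm
    (by rw [mul_smul, hx.2, hx.1]) hx.1
  exact hs.2 (triv3 h hab hs.1 ht.1 hc sH tH sH (tr_self s) t1 t2)

theorem n2b (h : Cx U) (hn : Nat.card Ω % 4 = 2) (hr : Rk2 G Ω) (hL : AllL U) (hV : NV G Ω)
    (hS : ∀ x : G, ¬ SLt U x) : Rk1 G Ω ∨ AbT G Ω := by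
  by_cases h1 : Rk1 G Ω
  · exact Or.inl h1
  right
  unfold Rk1 at h1
  push Not at h1
  obtain ⟨a, b, hab, s, sH, t, tH, hs, ht, hc, hne⟩ := h1
  have p : ∀ x : G, x * x = 1 → IsPGroup 2 (zpowers x) := by
    intro x hx
    rintro ⟨_, k, rfl⟩
    refine ⟨1, Subtype.ext ?_⟩
    show (x ^ k) ^ 2 ^ 1 = 1
    rw [← zpow_natCast, ← _root_.zpow_mul, mul_comm, _root_.zpow_mul, zpow_natCast, pow_one, sq, hx,
      _root_.one_zpow]
  have hp : IsPGroup 2 ↥(zpowers s ⊔ zpowers t) := by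
    refine IsPGroup.to_sup_of_normal_right' (p s hs.1) (p t ht.1) ?_
    rw [zpowers_le]
    exact (centralizer_le_normalizer _) (by
      rintro _ ⟨k, rfl⟩
      exact ((show Commute t s from hc.symm).zpow_left k).eq)
  obtain ⟨T, hT, hle⟩ := exists_isSylowIn_le hp
    (sup_le (zpowers_le.2 sH) (zpowers_le.2 tH))
  have sT : s ∈ T := hle (mem_sup_left (mem_zpowers s))
  have tT : t ∈ T := hle (mem_sup_right (mem_zpowers t))
  refine ⟨a, b, hab, T, hT, ?_⟩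
  have nt : Nontrivial T := ⟨⟨s, sT⟩, ⟨t, tT⟩, fun e => hne (congrArg Subtype.val e)⟩
  have nc := hT.isP.center_nontrivial
  obtain ⟨z, hz⟩ := exists_ne (1 : center T)
  have zc : ∀ g ∈ T, g * (z : T) = (z : T) * g := fun g hg =>
    congrArg Subtype.val (mem_center_iff.1 z.2 ⟨g, hg⟩)
  obtain ⟨n, hz2⟩ := hT.isP (z : T)
  rcases cent h hr hL hV hS hab hs ht hne hc sH tH n _ (hT.le (z : T).2) (zc s sT).symm
    (zc t tT).symm (congrArg Subtype.val hz2) with e | e | e | e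
  · exact absurd (Subtype.ext (Subtype.ext e)) hz
  · exact main h hn hr hL hV hS hab hs ht hne hc sH tH hT.isP hT.le (e ▸ zc)
  · exact main h hn hr hL hV hS hab ht hs hne.symm hc.symm tH sH hT.isP hT.le (e ▸ zc)
  · exact main h hn hr hL hV hS hab (inv_mul hs ht hne hc) ht (fun e => hs.2 (by simpa using e))
      (comm_mul hc.symm rfl).symm (mul_mem sH tH) tH hT.isP hT.le (e ▸ zc)

end H51.HK
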