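import Cfsg.Agent.Lib.HK.N2Cb
import Cfsg.Agent.Lib.AutCl.Galois

/-! The case `n ≡ 2 (4)` with an `SL₂` involution without hyperbolic conjugates. -/

set_option autoImplicit false
set_option linter.unusedSectionVars false

namespace H51.HK

open MulAction Subgroup Matrix H69
open H4.YM (adj Idx idx_adj adj_le le_adj self_mem_adj adj_le_comap mem_adj)
open H4.TL (pg_pow pg_zpowers)
open scoped MatrixGroups Classical commutatorElement

variable {G Ω : Type*} [Group G] [MulAction G Ω] [Finite G] [Finite Ω]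

namespace N2C

theorem gal {N : Subgroup G} {Δ : Set Ω} {V : Ω → Subgroup G} {a b : Ω} {F : Type} [Field F]
    [Fintype F] {e : Ω → OnePoint F} (hd : LD N Δ V) (q : L2P N Δ V a b F e) {S : Subgroup G}
    (hS : S ≤ N) : ∃ φ : S →* RingAut F, (∀ s : S, ∃ A, Act e Δ (s : G) A (φ s)) ∧
      ∃ f : S, ∀ s : S, ∃ n : ℤ, φ s = φ f ^ n := by
  choose A σ hA using fun s : S => q.Ngl s (hS s.2)
  let φ : S →* RingAut F :=
    MonoidHom.mk' σ fun s t => (q.uniq (hA (s * t)) ((hA s).mul hd (hS t.2) (hA t))).1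
  obtain ⟨⟨_, f, rfl⟩, hf⟩ := IsCyclic.exists_generator (α := φ.range)
  refine ⟨φ, fun s => ⟨_, hA s⟩, f, fun s => ?_⟩
  obtain ⟨n, hn⟩ := hf ⟨_, s, rfl⟩
  exact ⟨n, (congrArg Subtype.val hn).symm⟩

theorem nsq_mul {F : Type} [Field F] [Fintype F] {A B : GL (Fin 2) F} (σ : F ≃+* F)
    (hA : ¬ IsSquare (A : Matrix (Fin 2) (Fin 2) F).det)
    (hB : ¬ IsSquare (B : Matrix (Fin 2) (Fin 2) F).det) :
    IsSquare ((A * B.map (σ : F →+* F) : GL (Fin 2) F) : Matrix (Fin 2) (Fin 2) F).det := by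
  have hB' : ¬ IsSquare ((B.map (σ : F →+* F) : GL (Fin 2) F) : Matrix (Fin 2) (Fin 2) F).det :=
    fun e => hB (by
      have e' : IsSquare (σ (B : Matrix (Fin 2) (Fin 2) F).det) := by
        rw [show σ (B : Matrix (Fin 2) (Fin 2) F).det = _ from (σ : F →+* F).map_det _]
        exact e
      simpa using e'.map σ.symm)
  rw [← quadraticChar_neg_one_iff_not_isSquare] at hA hB'
  rw [← quadraticChar_one_iff_isSquare (GeneralLinearGroup.det_ne_zero _), Units.val_mul, det_mul,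
    map_mul, hA, hB']
  rfl

end N2C

open N2C

variable {U : Ω → Subgroup G}

theorem n2c (h : Cx U) (hn : Nat.card Ω % 4 = 2) (hV : NV G Ω) {x : G} (hx : SLt U x)
    (hy : NoHyp Ω x) : Rk1 G Ω := by
  by_cases hK : ∀ k ∈ KY Ω ({x} : Set G), k * k ≠ x
  · exact caseA h hn hV hx hK
  exfalso
  push Not at hK
  obtain ⟨k0, hk0, k2⟩ := hK
  obtain ⟨a, b, F, _, _, e, π, -, -, -, q, q1⟩ := coord h hn hx
  obtain ⟨y, h1, h2, h3⟩ := h.toC0.zstar hx.1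
  replace h2 := h2.symm
  have x2 := hx.1.1
  have y2 := (inv_conj hx.1 h1).1
  have yi : y⁻¹ = y := inv_eq_of_mul_eq_one_right y2
  have n1 := hx.neg q
  have hd := h.ldY ({x} : Set G)
  obtain ⟨S, hS, yS⟩ := exists_isSylowIn_le (pg_zpowers (x := y) (k := 1) (by rw [pow_one, pow_two, y2]))
    (zpowers_le.2 (mem_centralizer_singleton_iff.2 h2))
  rw [zpowers_le] at yS
  obtain ⟨hS', xS, -⟩ := hx.syl h hV hS
  obtain ⟨c, cS, cK, c2, cy, hT⟩ := exC h hn hV hx hy h1 h3 hS xS yS hk0 k2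
  obtain ⟨⟨Y, hY⟩, yo, yt⟩ := outer h hV hx hy q.toL2P q1 h1 h2 h3
  have sx : ∀ s ∈ S, s * x = x * s := fun s hs => mem_centralizer_singleton_iff.1 (hS.le hs)
  have sN : S ≤ normalizer ({x} : Set G) := fun s hs => mem_norm1.2 (sx s hs)
  have ci : c⁻¹ = c * x := by rw [inv_eq_iff_mul_eq_one, ← mul_assoc, c2, x2]
  set Q := S ⊓ LY U {x} with hQ
  have xQ : x ∈ Q := ⟨xS, hx.2.1⟩
  have nQ : ∀ s ∈ S, ∀ l ∈ Q, s * l * s⁻¹ ∈ Q := fun s hs l hl =>
    mem_inf.2 ⟨mul_mem (mul_mem hs (mem_inf.1 hl).1) (inv_mem hs), hd.Lt_conj (sN hs) hl.2⟩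
  have mM : ∀ {m}, m ∈ adj Q y ↔ m ∈ Q ∨ y⁻¹ * m ∈ Q := mem_adj (nQ y yS) (y2 ▸ one_mem _)
  have MS : adj Q y ≤ S := adj_le inf_le_left yS
  have l4 : ∀ l ∈ Q, y * l * (y * l) = 1 → ∃ m ∈ LY U {x}, m * y * m⁻¹ = y * l := fun l hl e =>
    q.ll4 hd (n1 ▸ hx.1.2) (sN yS) y2 yt hY hl.2 e
  have nc : ∀ l ∈ Q, ∀ d ∈ KY Ω ({x} : Set G), d * d = x → y * d * y⁻¹ = d⁻¹ →
      ¬ IsConj x (y * (l * d)) := fun l hl d hd' d2 dy e => by
    have dl := commK h hx hd' hl.2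
    obtain ⟨m, hm, e'⟩ := l4 l hl (by
      rw [← (inv_conj hx.1 e).1]
      calc y * l * (y * l) = y * l * (d * (y * d * y⁻¹) * y * l) := by rw [dy]; group
        _ = _ := by rw [← dl]; simp only [mul_assoc, inv_mul_cancel_left, dl])
    refine ncy h hn hV hx hy h1 h2 h3 hd' d2 dy (e.trans (isConj_iff.2 ⟨m, ?_⟩).symm)
    rw [← mul_assoc y, ← e', ← mul_assoc, mul_assoc _ d, commK h hx hd' (inv_mem hm), ← mul_assoc]
  have nM : ∀ s ∈ S, ∀ m ∈ adj Q y, s * m * s⁻¹ ∈ adj Q y := fun s hs => by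
    refine adj_le_comap (fun l hl => le_adj (nQ s hs l hl)) ?_
    have c1 : IsConj x (s * y * s⁻¹) := h1.trans (isConj_iff.2 ⟨s, rfl⟩)
    have c2' : s * y * s⁻¹ ∈ S := mul_mem (mul_mem hs yS) (inv_mem hs)
    change s * y * s⁻¹ ∈ adj Q y
    generalize s * y * s⁻¹ = z at c1 c2'
    by_cases zx : z = x
    · exact le_adj (zx ▸ xQ)
    obtain ⟨⟨Z, hZ⟩, zo, -⟩ := outer h hV hx hy q.toL2P q1 c1 (sx z c2') zx
    obtain ⟨l, hl, k, kS, kK, e⟩ := dec h hn hx hS (mul_mem yS c2')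
      (q.toL2P.out_mul hd (sN yS) (sN c2') hY hZ yo zo)
    have e' : z = y * (l * k) := by rw [← e, ← mul_assoc, y2, one_mul]
    rw [mM, yi, e]
    rcases hT k kS kK with rfl | rfl | rfl | rfl
    · exact Or.inr (mul_mem hl (one_mem _))
    · exact Or.inr (mul_mem hl xQ)
    · exact (nc l hl _ kK c2 cy (e' ▸ c1)).elim
    · rw [← ci] at e' kK
      exact (nc l hl _ kK (by rw [← _root_.mul_inv_rev, c2, inv_eq_of_mul_eq_one_right x2])
        (by rw [← conj_inv, cy]) (e' ▸ c1)).elim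
  have inn : ∀ H : Subgroup G, adj Q y ≤ H → c ∈ H → ∀ z ∈ S, Inn (Fx Ω {x}) (UY U {x}) z → z ∈ H :=
    fun H hH cH z zS hz => by
      obtain ⟨l, hl, k, kS, kK, rfl⟩ := dec h hn hx hS zS hz
      have xH := hH (le_adj xQ)
      refine mul_mem (hH (le_adj hl)) ?_
      rcases hT k kS kK with rfl | rfl | rfl | rfl
      exacts [one_mem _, xH, cH, mul_mem cH xH]
  obtain ⟨φ, hφ, f0, hf0⟩ := gal hd q.toL2P sN
  have lin : ∀ H : Subgroup G, adj Q y ≤ H → c ∈ H → ∀ z : S, φ z = 1 → (z : G) ∈ H :=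
    fun H hH cH z hz => by
      obtain ⟨A, hA⟩ := hφ z
      rw [hz] at hA
      by_cases zi : Inn (Fx Ω {x}) (UY U {x}) z
      · exact inn H hH cH z z.2 zi
      · exact (mul_mem_cancel_left (hH self_mem_adj)).1 (inn H hH cH _ (mul_mem yS z.2)
          (q.toL2P.out_mul hd (sN yS) (sN z.2) hY hA yo zi))
  have gen : ∃ f ∈ S, S ≤ adj Q y ⊔ zpowers f := by
    by_cases hc : c ∈ adj Q y ⊔ zpowers (f0 : G)
    · refine ⟨f0, f0.2, fun s hs => ?_⟩
      obtain ⟨n, hn⟩ := hf0 ⟨s, hs⟩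
      exact (mul_mem_cancel_left (inv_mem (mem_sup_right (zpow_mem (mem_zpowers _) n)))).1
        (lin _ le_sup_left hc ((f0 ^ n)⁻¹ * ⟨s, hs⟩) (by
          rw [map_mul, map_inv, map_zpow, hn, inv_mul_cancel]))
    have sub : ∀ f : S, (f : G) ∈ adj Q y ⊔ zpowers (f0 : G) → φ f ≠ 1 → φ f * φ f = 1 → ∀ A,
        Act e (Fx Ω {x}) (f : G) A (φ f) → ¬ IsSquare (A : Matrix (Fin 2) (Fin 2) F).det := by
      intro f hf f1 f2 A hA hs
      obtain ⟨B, hB⟩ := hφ (f * f)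
      rw [map_mul, f2] at hB
      obtain ⟨l, hl, k, kS, kK, e⟩ := dec h hn hx hS (mul_mem f.2 f.2)
        (q.toL2P.sq_inn hd (sN f.2) hB)
      have kH : k ∈ adj Q y ⊔ zpowers (f0 : G) :=
        (mul_mem_cancel_left (mem_sup_left (le_adj hl))).1 (e ▸ mul_mem hf hf)
      obtain ⟨u, hu, u2, u1, u3⟩ := q.ll5 hd (sN f.2) hA f1 hs (by
        rw [e]
        rcases hT k kS kK with rfl | rfl | rfl | rfl
        exacts [mul_mem hl.2 (one_mem _), mul_mem hl.2 xQ.2, (hc kH).elim,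
          (hc ((mul_mem_cancel_right (mem_sup_left (le_adj xQ))).1 kH)).elim])
      have := hV x _ hx.1 ⟨u2, fun e => u1 (tr_one e)⟩ (fun e => u1 (e ▸ (mem_KY1.1 xK).2))
        (mem_norm1.1 (mul_mem (sN f.2) (hd.Lt_le hu))).symm
      rw [show Fx Ω ({x, (f : G) * u} : Set G) = {c | c ∈ Fx Ω {x} ∧ ((f : G) * u) • c = c} from
        Set.ext fun _ => by rw [mem_Fx2, Set.mem_setOf_eq, mem_Fx1]] at this
      omega
    have φy : φ ⟨y, yS⟩ = 1 := by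
      obtain ⟨A, hA⟩ := hφ ⟨y, yS⟩
      exact (q.toL2P.uniq hA hY).1
    have key : ∀ f : S, (f : G) ∈ adj Q y ⊔ zpowers (f0 : G) → φ f * φ f = 1 → φ f = 1 := by
      intro f hf f2
      by_contra f1
      obtain ⟨A, hA⟩ := hφ f
      have e1 : φ (f * ⟨y, yS⟩) = φ f := by rw [map_mul, φy, mul_one]
      exact sub (f * ⟨y, yS⟩) (mul_mem hf (mem_sup_left self_mem_adj)) (e1 ▸ f1) (e1 ▸ f2) _
        (e1 ▸ hA.mul hd (sN yS) hY) (nsq_mul _ (sub f hf f1 f2 A hA) fun e =>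
          yo ((q.toL2P.inn_iff hd (sN yS) hY).2 ⟨rfl, e⟩))
    have one : ∀ j : ℕ, φ (f0 ^ 2 ^ j) = 1 → φ f0 = 1 := fun j => by
      induction j with
      | zero => simp
      | succ j ih =>
        exact fun e => ih (key _ (mem_sup_right (pow_mem (mem_zpowers _) _))
          (by rw [← map_mul, ← pow_two, ← pow_mul, ← pow_succ, e]))
    obtain ⟨j, hj⟩ := hS.isP f0
    refine ⟨c, cS, fun s hs => lin _ le_sup_left (mem_sup_right (mem_zpowers _)) ⟨s, hs⟩ ?_⟩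
    obtain ⟨n, hn⟩ := hf0 ⟨s, hs⟩
    rw [hn, one j (by rw [hj, map_one]), _root_.one_zpow]
  obtain ⟨f, fS, hf⟩ := gen
  have t2 : y * c * (y * c) = 1 := by
    rw [← mul_assoc, show y * c * y = c⁻¹ by rw [← cy, yi], inv_mul_cancel]
  obtain ⟨m, hm, e⟩ := h.toC0.transfer hS' MS nM fS hf t2
  have mi := inv_conj ⟨t2, fun e => yt ((mem_KY1.1
    (eq_inv_of_mul_eq_one_left e ▸ inv_mem cK)).2)⟩ e
  refine ncy h hn hV hx hy h1 h2 h3 cK c2 cy (IsConj.trans ?_ e.symm)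
  rcases mM.1 hm with hl | hl
  · obtain ⟨B, rfl⟩ : m ∈ π.range := q.range ▸ hl.2
    rcases sl2_sq q.odd (q.inj (n1 ▸ hx.1.2) (by rw [map_mul, mi.1, map_one])) with rfl | rfl
    exacts [(mi.2 (map_one _)).elim, n1 ▸ IsConj.refl _]
  · obtain ⟨g, -, e'⟩ := l4 _ hl (by rw [mul_inv_cancel_left, mi.1])
    exact h1.trans (isConj_iff.2 ⟨g, by rw [e', mul_inv_cancel_left]⟩)

end H51.HK
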