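import Cfsg.Agent.Lib.HK.N2Db

/-! The case `n ≡ 2 (4)` with three conjugate axes. -/

set_option autoImplicit false
set_option linter.unusedSectionVars false

namespace H51.HK

open MulAction Subgroup H69 H36.SW
open scoped commutatorElement

variable {G Ω : Type*} [Group G] [MulAction G Ω] [Finite G] [Finite Ω]

variable {U : Ω → Subgroup G}

namespace N2D

/-- extension of index at most two -/
def ext2 (A : Subgroup G) (μ : G) (hn : ∀ u ∈ A, μ * u * μ⁻¹ ∈ A) (h2 : μ * μ ∈ A) : Subgroup G where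
  carrier := {g | g ∈ A ∨ g * μ⁻¹ ∈ A}
  one_mem' := Or.inl (one_mem _)
  mul_mem' := by
    rintro g h (a | a) (b | b)
    · exact Or.inl (mul_mem a b)
    · exact Or.inr (mul_assoc g h _ ▸ mul_mem a b)
    · exact Or.inr (by simpa [mul_assoc] using mul_mem a (hn _ b))
    · exact Or.inl (by simpa [mul_assoc] using mul_mem (mul_mem a (hn _ b)) h2)
  inv_mem' := by
    rintro g (a | a)
    · exact Or.inl (inv_mem a)
    · exact Or.inr (by simpa [mul_assoc] using inv_mem (mul_mem (hn _ a) h2))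

theorem hb_swap {a b : Ω} {μ g : G} (h1 : μ • a = b) (h2 : μ • b = a) (hg : g ∈ Hb G a b) :
    μ * g * μ⁻¹ ∈ Hb G a b := by
  obtain ⟨g1, g2⟩ := mem_Hb.1 hg
  refine mem_Hb.2 ⟨?_, ?_⟩
  · rw [mul_smul, mul_smul, inv_smul_eq_iff.2 h2.symm, g2, h2]
  · rw [mul_smul, mul_smul, inv_smul_eq_iff.2 h1.symm, g1, h1]

variable {a b : Ω} {q k : ℕ} {x t d d' : G}

theorem sw2 {g : G} (x2 : x * x = 1) (hg : g * x = x * g) (h : g * t * g⁻¹ = t * x) : g * (t * x) * g⁻¹ = t := by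
  rw [← conj_mul, h, hg, mul_inv_cancel_right, mul_assoc, x2, mul_one]

theorem sq_cen {g : G} (x2 : x * x = 1) (hg : g * x = x * g) (h : g * t * g⁻¹ = t ∨ g * t * g⁻¹ = t * x) :
    g * g * t = t * (g * g) := by
  rw [← mul_inv_eq_iff_eq_mul, show g * g * t * (g * g)⁻¹ = g * (g * t * g⁻¹) * g⁻¹ by group]
  rcases h with h | h <;> rw [h]
  exacts [h, sw2 x2 hg h]

namespace Ax
variable (X : Ax U a b q k x d) (Y : Ax U a b q k t d') (tx : t ≠ x) (cm : x * t = t * x) (hr : Rk2 G Ω)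
  (hab : a ≠ b)
include X Y tx cm

theorem swP {μ : G} (hH : ∀ g ∈ Hb G a b, μ * g * μ⁻¹ ∈ Hb G a b) (hx : μ * x = x * μ)
    (ht : μ * t * μ⁻¹ = t * x) {u : G} (hu : u ∈ X.P Y tx cm) : μ * u * μ⁻¹ ∈ X.P Y tx cm := by
  have h1 := (mem_CH.1 (X.P_le Y tx cm hu)).1
  have h2 := (mem_CH.1 (X.P_le' Y tx cm hu)).1
  refine X.memP Y tx cm (mem_CH.2 ⟨?_, hH _ (X.P_le Y tx cm hu).2⟩) (mem_CH.2 ⟨?_, hH _ (X.P_le Y tx cm hu).2⟩)
    ((X.P_P2 Y tx cm hu).conj μ)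
  · exact ((show Commute μ x from hx).mul_left h1).mul_left (Commute.inv_left hx)
  · rw [← sw2 X.inv.1 hx ht, conj_mul, conj_mul, ← mul_assoc u, h2, mul_assoc t, h1, mul_assoc t]

include hr hab

theorem rk {y : G} (hy : y ∈ CH a b x) (yi : Inv y) (c : y * t = t * y) : y = x ∨ y = t ∨ y = t * x :=
  cm ▸ (hr a b hab x X.vH t Y.vH y hy.2 X.inv Y.inv tx.symm yi.1 cm (mem_CH.1 hy).1.symm c.symm).resolve_left yi.2

theorem rk' {g : G} (hg : g ∈ CH a b x) (c : g * t * g⁻¹ * t = t * (g * t * g⁻¹)) :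
    g * t * g⁻¹ = t ∨ g * t * g⁻¹ = t * x :=
  (X.rk Y tx cm hr hab (mul_mem (mul_mem hg (mem_CH.2 ⟨cm.symm, Y.vH⟩)) (inv_mem hg))
    ⟨cjsq Y.inv.1 g, cjne Y.inv.2 g⟩ c).resolve_left fun e => tx (by
      rwa [mul_inv_eq_iff_eq_mul, ← (mem_CH.1 hg).1, mul_right_inj] at e)

theorem sw_all {T : Subgroup G} (hT : IsPGroup 2 T) (h1 : T ≤ CH a b x) (h2 : X.P Y tx cm ≤ T) {g : G}
    (hg : g ∈ T) : g * t * g⁻¹ = t ∨ g * t * g⁻¹ = t * x := by
  have x2 := X.inv.1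
  let R : Subgroup G :=
    { carrier := {g | g ∈ T ∧ (g * t * g⁻¹ = t ∨ g * t * g⁻¹ = t * x)}
      one_mem' := ⟨one_mem _, Or.inl (by simp)⟩
      mul_mem' := by
        rintro g h ⟨hg, i⟩ ⟨hh, j⟩
        refine ⟨mul_mem hg hh, ?_⟩
        rw [show g * h * t * (g * h)⁻¹ = g * (h * t * h⁻¹) * g⁻¹ by group]
        rcases j with j | j <;> rw [j]
        · exact i
        · rcases i with i | i
          · right; rw [← conj_mul, i, (mem_CH.1 (h1 hg)).1, mul_inv_cancel_right]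
          · exact Or.inl (sw2 x2 (mem_CH.1 (h1 hg)).1 i)
      inv_mem' := by
        rintro g ⟨hg, i | i⟩
        · exact ⟨inv_mem hg, Or.inl (by conv_lhs => rw [← i]
                                        group)⟩
        · exact ⟨inv_mem hg, Or.inr (by conv_lhs => rw [← sw2 x2 (mem_CH.1 (h1 hg)).1 i]
                                        group)⟩ }
  by_contra c
  obtain ⟨n, ⟨n1, n2⟩, n3⟩ := SetLike.exists_of_lt (lt_inf_normalizer_of_lt hT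
    (lt_of_le_of_ne (fun _ h => h.1 : R ≤ T) fun e => c (e.ge hg).2))
  have y1 : d' ^ 2 ^ k ∈ X.P Y tx cm := pow_mem (X.dP' Y tx cm) _
  have y2 := (mem_normalizer_iff.1 n2 _).1 (show d' ^ 2 ^ k ∈ R from ⟨h2 y1, Or.inl
    (mul_inv_eq_iff_eq_mul.2 (mem_CH.1 (X.P_le' Y tx cm y1)).1)⟩)
  have y3 := sq_cen x2 (mem_CH.1 (h1 y2.1)).1 y2.2
  rw [conj_mul, ← pow_add, ← two_mul, ← pow_succ', Y.half] at y3
  exact n3 ⟨n1, X.rk' Y tx cm hr hab (h1 n1) y3⟩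

omit hr hab in
theorem exists_c {T : Subgroup G} (hT : IsPGroup 2 T) (h1 : T ≤ CH a b x) (h2 : X.P Y tx cm ≤ T) {e : G}
    (he : e ∈ T) (et : e * t * e⁻¹ = t * x) (Z : Ax U a b q k (t * x) (e * d' * e⁻¹)) :
    ∃ c ∈ T, c ∈ KY Ω ({x} : Set G) ∧ c * c = x ∧ c * t * c⁻¹ = t * x := by
  have ex := (mem_CH.1 (h1 he)).1
  have n : t * x ≠ t := fun c => X.inv.2 (mul_eq_left.1 c)
  have c' : t * (t * x) = t * x * t := by rw [mul_assoc, cm]
  have e2 := sq_cen X.inv.1 ex (Or.inr et)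
  have e3 : e * e ∈ Y.P Z n c' := Y.memP Z n c' (mem_CH.2 ⟨e2, (h1 (mul_mem he he)).2⟩) (mem_CH.2
    ⟨Commute.mul_right e2 (Commute.mul_left ex ex), (h1 (mul_mem he he)).2⟩) (P2.of_mem hT (mul_mem he he))
  have cc : ∀ u ∈ zpowers d', ∀ w ∈ zpowers d', u * (e * w * e⁻¹) = e * w * e⁻¹ * u := fun u hu w hw =>
    zp_comm (Y.comm Z n c') hu (zp_cj e hw)
  obtain ⟨u, hu, w, hw', e4⟩ := id e3
  rw [← cj_zpowers] at hw'
  obtain ⟨w, hw, rfl⟩ := mem_cj'.1 hw'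
  have e5 : u * (e * w * e⁻¹) = e * u * e⁻¹ * w := by
    rw [← e4, show e * u * e⁻¹ * w = e * (u * (e * ((e * e)⁻¹ * w * (e * e)) * e⁻¹)) * e⁻¹ by group,
      mul_assoc _ w, ← PG_comm e3 (l_PG hw), inv_mul_cancel_left, ← e4]
    group
  have e6 : u * w⁻¹ = e * (u * w⁻¹) * e⁻¹ := by
    rw [mul_inv_eq_iff_eq_mul, ← conj_mul, ← conj_inv, mul_assoc, ← (Commute.inv_right (cc w hw w hw)).eq,
      ← mul_assoc, ← e5, mul_inv_cancel_right]
  obtain rfl : u = w := mul_inv_eq_one.1 (Y.disj Z n (mul_mem hu (inv_mem hw))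
    (e6 ▸ zp_cj e (mul_mem hu (inv_mem hw))))
  have uT := h2 (r_PG hu)
  have ut := (mem_CH.1 (X.P_le' Y tx cm (r_PG hu))).1
  have ux := (mem_CH.1 (h1 uT)).1
  have f1 : u⁻¹ * e * t * (u⁻¹ * e)⁻¹ = t * x := by
    rw [show u⁻¹ * e * t * (u⁻¹ * e)⁻¹ = u⁻¹ * (e * t * e⁻¹) * u by group, et, mul_assoc,
      ← (Commute.mul_right ut ux).eq, inv_mul_cancel_left]
  have f2 : u⁻¹ * e * (u⁻¹ * e) = 1 := by
    rw [show u⁻¹ * e * (u⁻¹ * e) = (e * u * e⁻¹ * u)⁻¹ * (e * e) by group, e4, cc u hu u hu, inv_mul_cancel]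
  have fT := mul_mem (inv_mem uT) he
  generalize u⁻¹ * e = f at f1 f2 fT
  have tT : t ∈ T := h2 (r_PG Y.vz)
  have k1 := X.neg f (h1 fT) ⟨f2, by rintro rfl; exact n (by simpa using f1.symm)⟩ (by
    rintro rfl; rw [cm, mul_inv_cancel_right] at f1; exact n f1.symm)
  have k2 := mul_mem (inv_mem k1) (X.neg t (h1 tT) Y.inv tx)
  rw [mul_inv_rev, mul_assoc, inv_mul_cancel_left, inv_eq_of_mul_eq_one_right f2] at k2
  refine ⟨f * t, mul_mem fT tT, k2, ?_, by rw [← f1]; group⟩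
  rw [← mul_assoc, ← inv_eq_of_mul_eq_one_right f2, inv_eq_of_mul_eq_one_right f2]
  nth_rw 2 [← inv_eq_of_mul_eq_one_right f2]
  rw [f1, mul_assoc, cm, ← mul_assoc, Y.inv.1, one_mul]

end Ax

theorem syl_top (h : Cx U) (hn : Nat.card Ω % 4 = 2) (hab : a ≠ b) {T S : Subgroup G}
    (hT : IsSylowIn 2 T (Hb G a b)) (hS : IsPGroup 2 S) (h1 : T < S) : IsSylowIn 2 S ⊤ := by
  obtain ⟨S0, h0⟩ := exists_isSylowIn 2 (⊤ : Subgroup G)
  refine h0.of_card_le hS le_top ?_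
  have h3 := h.three
  have h2 := h.ld.card (by rwa [Set.ncard_univ]) le_top le_rfl (Set.mem_univ a) (Set.mem_univ b) hab
  obtain ⟨s, hs⟩ := hS.exists_card_eq
  have h4 : Nat.card T < Nat.card S := lt_of_le_of_ne (card_le_of_le h1.le) fun e =>
    h1.ne (eq_of_le_of_card_ge h1.le e.ge)
  rw [top_inf_eq, Set.ncard_univ] at h2
  rw [hT.card_eq_pow_factorization, hs, Nat.pow_lt_pow_iff_right (by norm_num)] at h4
  obtain ⟨n, e⟩ : ∃ n, Nat.card Ω = 2 * (2 * n + 1) := ⟨Nat.card Ω / 4, by omega⟩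
  rw [h0.card_eq_pow_factorization, hs, Nat.pow_le_pow_iff_right (by norm_num), h2, e,
    Nat.factorization_mul (mul_ne_zero (by omega) (by omega)) Nat.card_pos.ne',
    Nat.factorization_mul (by positivity) (by omega),
    Nat.factorization_mul (by positivity) (by omega)]
  simp only [Finsupp.add_apply, Nat.prime_two.factorization_self]
  rw [Nat.factorization_eq_zero_of_not_dvd (by omega), Nat.factorization_eq_zero_of_not_dvd (by omega)]
  omega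

theorem fac2 {n : ℕ} (h : n % 4 = 2) : n.factorization 2 = 1 := by
  obtain ⟨m, rfl⟩ : ∃ m, n = 2 * (2 * m + 1) := ⟨n / 4, by omega⟩
  rw [Nat.factorization_mul (by positivity) (by omega), Finsupp.add_apply, Nat.prime_two.factorization_self,
    Nat.factorization_eq_zero_of_not_dvd (by omega)]

end N2D
open N2D

theorem n2d (h : Cx U) (hn : Nat.card Ω % 4 = 2) (hr : Rk2 G Ω) (hV : NV G Ω) {x t : G}
    {a b : Ω} (hx : SLt U x) (hab : a ≠ b) (xH : x ∈ Hb G a b) (tH : t ∈ Hb G a b)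
    (hc : IsConj x t) (tx : t ≠ x) (cm : x * t = t * x) : AbT G Ω ∨ GTc U a b x t := by
  obtain ⟨q, k, ax⟩ := exists_ax h hn hV hab hx
  obtain ⟨d, X⟩ := (ax x xH (IsConj.refl x)).1
  obtain ⟨d', Y⟩ := (ax t tH hc).1
  have az : ∀ g, (∀ u ∈ Hb G a b, g * u * g⁻¹ ∈ Hb G a b) → g * t * g⁻¹ = t * x →
      Ax U a b q k (t * x) (g * d' * g⁻¹) := fun g hg e =>
    (ax _ (mul_mem tH xH) (hc.trans (isConj_iff.2 ⟨g, e⟩))).2 _ (e ▸ (h.toCb.mem_LY_conj g t d').2 Y.dL)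
      (hg _ Y.dC.2) ((MulAut.conj g).orderOf_eq d' ▸ Y.ord)
  set P := X.P Y tx cm with hP
  have P1 : P ≤ CH a b x := X.P_le Y tx cm
  have P2' : ∀ u ∈ P, u * t = t * u := fun u hu => (mem_CH.1 (X.P_le' Y tx cm hu)).1
  obtain ⟨T, hT, PT⟩ := exists_isSylowIn_le (p := 2) (isP_of_P2 fun _ => X.P_P2 Y tx cm) P1
  have hT' := SLt.sylH h hV hx hab xH ((fac2 ((h.toC0.parity hx.1.1).trans hn)).trans (fac2 hn).symm) hT
  have TP : ∀ g ∈ T, g * t = t * g → g ∈ P := fun g hg c =>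
    X.memP Y tx cm (hT.le hg) (mem_CH.2 ⟨c, (hT.le hg).2⟩) (P2.of_mem hT.isP hg)
  have sw := fun g hg => X.sw_all Y tx cm hr hab hT.isP hT.le PT (g := g) hg
  by_cases ab : ∀ g ∈ T, g * t * g⁻¹ = t
  · exact Or.inl ⟨a, b, hab, T, hT', ⟨⟨fun u w => Subtype.ext (PG_comm
      (TP _ u.2 (mul_inv_eq_iff_eq_mul.1 (ab _ u.2))) (TP _ w.2 (mul_inv_eq_iff_eq_mul.1 (ab _ w.2))))⟩⟩⟩
  push Not at ab
  obtain ⟨e, he, et⟩ := ab
  replace et := (sw e he).resolve_left et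
  have HH : ∀ g ∈ Hb G a b, ∀ u ∈ Hb G a b, g * u * g⁻¹ ∈ Hb G a b := fun g hg u hu =>
    mul_mem (mul_mem hg hu) (inv_mem hg)
  obtain ⟨c, cT, cK, c2, ct⟩ := X.exists_c Y tx cm hT.isP hT.le PT he et (az e (HH e (hT.le he).2) et)
  have cx := (mem_KY1.1 cK).1
  have x2 := X.inv.1
  have n : t * x ≠ t := fun c => X.inv.2 (mul_eq_left.1 c)
  have cP : c ∉ P := fun i => n (ct.symm.trans (mul_inv_eq_iff_eq_mul.2 (P2' c i)))
  have Tc : ∀ g ∈ T, g ∈ P ∨ g * c ∈ P := fun g hg => (sw g hg).imp (fun i => TP g hg (mul_inv_eq_iff_eq_mul.1 i))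
    fun i => TP _ (mul_mem hg cT) (mul_inv_eq_iff_eq_mul.1 (by
      rw [show g * c * t * (g * c)⁻¹ = g * (c * t * c⁻¹) * g⁻¹ by group, ct, sw2 x2 (mem_CH.1 (hT.le hg)).1 i]))
  have nc : ∀ u ∈ P, c * u * c⁻¹ ∈ P := fun u => X.swP Y tx cm (HH c (hT.le cT).2) cx ct
  refine Or.inr ⟨hab, hx, xH, tH, Y.inv, tx, cm, fun y hy => ?_, ⟨c, cK, c2, ct⟩, fun g gH gx g2 l lL lH => ?_,
    d', Y.dC.2, (mem_CH.1 (X.dC' Y cm)).1, (mem_CH.1 Y.dC).1, Y.p2, (X.onto' Y tx cm).1,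
    fun T' t1 t2 t3 t4 t5 => ?_⟩
  · obtain ⟨μ, μL, μ1, μ2, μ3⟩ := X.mu
    have μx : μ * x = x * μ := mem_centralizer_singleton_iff.1 (LY_le U _ μL)
    have μμ : μ * μ = x := by simpa using μ3 1 (one_mem _) (one_mem _)
    have D : ∀ u ∈ zpowers d, u ∈ LY U {x} ∧ u ∈ Hb G a b := fun u hu =>
      ⟨zpowers_le.2 X.dL hu, zpowers_le.2 X.dC.2 hu⟩
    have μi : ∀ u ∈ zpowers d, μ * u * μ⁻¹ = u⁻¹ := fun u hu => by
      have := (μ3 u (D u hu).1 (D u hu).2).trans μμ.symm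
      rw [← mul_assoc, mul_left_inj] at this
      rw [mul_inv_eq_iff_eq_mul, eq_inv_mul_iff_mul_eq, ← mul_assoc, this]
    have δz := pow_mem (mem_zpowers d) (2 ^ k)
    have δ2 : d ^ 2 ^ k * d ^ 2 ^ k = x := by rw [← pow_add, ← two_mul, ← pow_succ', X.half]
    have κK := X.neg t (mem_CH.2 ⟨cm.symm, tH⟩) Y.inv tx
    generalize d ^ 2 ^ k = δ at δz δ2 κK
    have μt : μ * t * μ⁻¹ = t * x := by
      rw [← inv_mul_cancel_left δ t, ← conj_mul, ← X.KL _ κK μ μL, mul_inv_cancel_right, μi _ (inv_mem δz), inv_inv,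
        inv_mul_cancel_left, ← mul_assoc, δ2, cm]
    have nμ : ∀ u ∈ P, μ * u * μ⁻¹ ∈ P := fun u => X.swP Y tx cm (fun _ => hb_swap μ1 μ2) μx μt
    have xP : x ∈ P := l_PG X.vz
    have cμ := X.KL c cK μ μL
    let M := ext2 P μ nμ (μμ ▸ xP)
    have PM : P ≤ M := fun _ h => Or.inl h
    have μM : μ ∈ M := Or.inr (by simp)
    have TM : T ≤ M ⊔ zpowers c := fun g hg => (Tc g hg).elim (fun i => mem_sup_left (PM i)) fun i =>
      (mul_mem_cancel_right (mem_sup_right (mem_zpowers c))).1 (mem_sup_left (PM i))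
    have cM : c ∈ 𝐍(M) := mem_normalizer_of_cj_le (by
      rintro _ ⟨u, i | i, rfl⟩
      · exact Or.inl (nc u i)
      · refine Or.inr ?_
        have := nc _ i
        rwa [← conj_mul, (Commute.inv_right cμ).eq, mul_inv_cancel_right] at this)
    have μT : μ ∈ 𝐍(T) := mem_normalizer_of_cj_le (by
      rintro _ ⟨u, i, rfl⟩
      rcases Tc u i with j | j
      · exact PT (nμ u j)
      · have := PT (nμ _ j)
        rwa [← conj_mul, ← cμ, mul_inv_cancel_right, mul_mem_cancel_right cT] at this)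
    have hS := syl_top h hn hab hT' (isPGroup_sup_of_le_normalizer_left hT.isP
      (P2.of_mul_self (μμ ▸ P2.of_sq x2)).zpowers (zpowers_le.2 μT)) (lt_of_le_of_ne le_sup_left fun e =>
        hab ((mem_Hb.1 (hT'.le (e.ge (mem_sup_right (mem_zpowers μ))))).1.symm.trans μ1))
    have SM : T ⊔ zpowers μ ≤ M ⊔ zpowers c := sup_le TM (zpowers_le.2 (mem_sup_left μM))
    obtain ⟨m, hm, ym⟩ := h.toC0.transfer hS (M := M) (by
      rintro g (i | i)
      · exact mem_sup_left (PT i)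
      · exact (mul_mem_cancel_right (mem_sup_right (inv_mem (mem_zpowers μ)))).1 (mem_sup_left (PT i)))
      (fun s hs m hm => (mem_normalizer_iff.1 (sup_le le_normalizer (zpowers_le.2 cM) (SM hs)) m).1 hm)
      (mem_sup_left cT) SM hy.1
    refine IsConj.trans ?_ ym.symm
    obtain ⟨g, rfl⟩ := isConj_iff.1 ym
    have mi : Inv (g * y * g⁻¹) := ⟨cjsq hy.1 g, cjne hy.2 g⟩
    generalize g * y * g⁻¹ = m at hm mi
    rcases hm with i | ⟨u, hu, w, hw, i⟩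
    · rcases X.rk Y tx cm hr hab (P1 i) mi (P2' m i) with rfl | rfl | rfl
      exacts [IsConj.refl _, hc, hc.trans (isConj_iff.2 ⟨c, ct⟩)]
    obtain rfl := eq_mul_of_mul_inv_eq i
    have Z := az μ (fun _ => hb_swap μ1 μ2) μt
    have e1 : w * t = (μ * w * μ⁻¹)⁻¹ * (t * x) := by
      have := mi.1
      rw [show u * w * μ * (u * w * μ) = u * w * (μ * u * μ⁻¹) * (μ * w * μ⁻¹) * (μ * μ) by group, μi u hu, μμ,
        zp_comm (X.comm Y tx cm) hu hw, mul_inv_cancel_right, mul_eq_one_iff_eq_inv,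
        inv_eq_of_mul_eq_one_right x2, ← PG_comm (nμ w (r_PG hw)) (r_PG hw)] at this
      rw [eq_inv_mul_iff_mul_eq, ← mul_assoc, this, cm]
    have e2 := Y.disj Z n (mul_mem hw Y.vz) (e1 ▸ mul_mem (inv_mem (zp_cj μ hw)) Z.vz)
    obtain rfl : t = w := (mul_eq_one_iff_eq_inv.1 e2).trans (inv_eq_of_mul_eq_one_right Y.inv.1) |>.symm
    have l1 := D _ (mul_mem hu (inv_mem δz))
    obtain ⟨r, rL, e3⟩ := SLt.conj4 h hx (inv_mem (D δ δz).1) (mul_mem l1.1 μL)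
      (by rw [← mul_inv_rev, δ2, inv_eq_of_mul_eq_one_right x2]) (μ3 _ l1.1 l1.2)
    refine hc.trans (isConj_iff.2 ⟨r, ?_⟩)
    rw [← inv_mul_cancel_left δ t, ← conj_mul, e3, ← X.KL _ κK r rL, mul_inv_cancel_right, mul_assoc,
      ← X.KL _ κK μ μL]
    group
  · obtain ⟨j, hj, e⟩ := hT.exists_cj_le (P2.zpowers g2) (zpowers_le.2 (mem_CH.2 ⟨gx, gH⟩))
    have gT := e (cj_mem j (mem_zpowers g))
    have := X.sc _ (hT.le gT) (P2.conj g2 j) ((Tc _ gT).elim (fun i => PG_comm i (X.dP Y tx cm)) fun i => by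
      have := PG_comm i (X.dP Y tx cm)
      rwa [mul_assoc, X.KL c cK d X.dL, ← mul_assoc, ← mul_assoc, mul_left_inj] at this) _
      (X.cL j (mem_CH.1 hj).1 l lL) (HH j hj.2 l lH)
    rwa [conj_mul, conj_mul, mul_left_inj, mul_right_inj] at this
  · obtain ⟨j, hj, e⟩ := hT.exists_cj_le (isPGroup_sup_of_le_normalizer_left t1 Y.p2.zpowers (zpowers_le.2
      (mem_normalizer_of_cj_le (by rintro _ ⟨u, i, rfl⟩; exact t3 u i))))
      (sup_le (t2.trans X.KC) (zpowers_le.2 (X.dC' Y cm)))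
    have jx := (mem_CH.1 hj).1
    have h8 : Nat.card ↥(T ⊓ KY Ω ({x} : Set G)) ≤ 8 := by
      obtain ⟨s, hs⟩ := (hT.isP.to_inf_left (K := KY Ω ({x} : Set G))).exists_card_eq
      have : ¬ 4 ≤ s := fun c => t5 (((pow_dvd_pow 2 c).trans hs.symm.dvd).trans (card_dvd_of_le inf_le_right))
      rw [hs]; exact Nat.pow_le_pow_right (n := 2) (i := s) (j := 3) (by norm_num) (by omega)
    have e1 : T' ^ᶜ j = T ⊓ KY Ω ({x} : Set G) := eq_of_le_of_card_ge (le_inf ((cj_mono j le_sup_left).trans e) (by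
      rintro _ ⟨u, i, rfl⟩; exact KY_cj jx (t2 i))) (by rwa [card_cj, t4])
    obtain ⟨k0, h0, h1, -, h2⟩ := X.exists_k0 Y tx cm
    have c8 : Nat.card ↥(T ⊓ KY Ω ({x} : Set G)) = 2 ^ 3 := by rw [← e1, card_cj, t4]; rfl
    obtain rfl : k = 0 := h2 (by
      by_contra i
      have o : orderOf k0 = 2 ^ (2 + 1) := orderOf_eq_prime_pow i (orderOf_dvd_iff_pow_eq_one.1
        (c8 ▸ Subgroup.orderOf_dvd_natCard (T ⊓ KY Ω ({x} : Set G)) ⟨PT h0, h1⟩))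
      exact cP (zpowers_le.2 h0 ((eq_of_le_of_card_ge (zpowers_le.2 (show k0 ∈ T ⊓ _ from ⟨PT h0, h1⟩))
        (by rw [c8, Nat.card_zpowers, o])).ge ⟨cT, cK⟩)))
    have γT := e (cj_mem j (mem_sup_right (mem_zpowers d')))
    have γ2 : j * d' * j⁻¹ * (j * d' * j⁻¹) = j * t * j⁻¹ := by
      rw [conj_mul, ← sq, show d' ^ 2 = t from Y.half]
    have t' := X.rk' Y tx cm hr hab hj (γ2 ▸ sq_cen x2 (mem_CH.1 (hT.le γT)).1 (sw _ γT))
    have γP : j * d' * j⁻¹ ∈ P := TP _ γT (by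
      have i : Commute (j * d' * j⁻¹) (j * t * j⁻¹) := γ2 ▸ (Commute.refl _).mul_right (Commute.refl _)
      rcases t' with i' | i' <;> rw [i'] at i
      · exact i
      · simpa [mul_assoc, x2] using (i.mul_right (mem_CH.1 (hT.le γT)).1).eq)
    obtain ⟨c', i, rfl⟩ := mem_cj'.1 (e1.ge ⟨cT, cK⟩)
    refine ⟨c', i, fun i => X.inv.2 ?_⟩
    have i2 : ⁅j * d' * j⁻¹, j * c' * j⁻¹⁆ * ⁅j * d' * j⁻¹, j * c' * j⁻¹⁆ = 1 := by
      rw [show ⁅j * d' * j⁻¹, j * c' * j⁻¹⁆ = j * ⁅d', c'⁆ * j⁻¹ by simp only [commutatorElement_def]; group]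
      exact cjsq i j
    generalize j * d' * j⁻¹ = γ at γP γ2 i2
    generalize j * c' * j⁻¹ = c at nc ct cx i2
    rw [show ⁅γ, c⁆ * ⁅γ, c⁆ = γ * (c * γ⁻¹ * c⁻¹ * γ) * (c * γ⁻¹ * c⁻¹) by simp only [commutatorElement_def]; group,
      PG_comm (nc _ (inv_mem γP)) γP, show γ * (γ * (c * γ⁻¹ * c⁻¹)) * (c * γ⁻¹ * c⁻¹) =
        γ * γ * (c * (γ * γ) * c⁻¹)⁻¹ by group, mul_inv_eq_one, γ2] at i2
    rcases t' with i' | i' <;> rw [i'] at i2
    · exact absurd (i2.trans ct).symm n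
    · exact absurd (i2.trans (sw2 x2 cx ct)) n

theorem N2D.eqns_N2D : True := by
  have := @ext2.eq_1.{0}
  trivial

end H51.HK
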