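import Cfsg.Agent.Lib.HK.NR1b

/-! The non-regular case: the basic configuration `NRc`. -/

set_option autoImplicit false
set_option linter.unusedSectionVars false

namespace H15.NR

open MulAction Subgroup H51.HK
open scoped commutatorElement

variable {G Ω : Type*} [Group G] [MulAction G Ω] [Finite G] [Finite Ω]

variable {U : Ω → Subgroup G}

namespace Ctx
variable {p i : ℕ} (h : Ctx U p i) {a b : Ω}
include h

theorem fisher (hab : b ≠ a) : (Ln U a b).ncard ≤ (YY U a b a).relIndex (U a) := by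
  obtain ⟨e, he⟩ := (Set.ne_univ_iff_exists_notMem _).1 (h.nu hab)
  have eb : e ≠ b := fun e1 => he (by rw [e1]; exact Ln_b a b)
  have ha : a ∉ Ln U b e := fun h1 =>
    he (by rw [h.Ln_eq eb h1 (Ln_a h.cb b e) hab]; exact Ln_b b e)
  have hu : ∀ d : Ln U b e, ∃ u : U a, (u : G) • b = d := fun d => by
    obtain ⟨u, a1, a2⟩ := trU h.cb hab (show (d : Ω) ≠ a from fun e1 => ha (by rw [← e1]; exact d.2))
    exact ⟨⟨u, a1⟩, a2⟩
  choose f hf using hu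
  rw [← h.Ln_card hab eb, ← Nat.card_coe_set_eq]
  refine Nat.card_le_card_of_injective
    (fun d => (QuotientGroup.mk (f d) : U a ⧸ (YY U a b a).subgroupOf (U a))) fun d d' e1 => ?_
  have h1 := (h.memY hab ((f d)⁻¹ * f d').2).1 (mem_subgroupOf.1 (QuotientGroup.eq.1 e1))
  have da : (d : Ω) ≠ a := fun e1 => ha (by rw [← e1]; exact d.2)
  have h2 : (d' : Ω) ∈ Ln U a d := mem_Ln.2 fun y a1 a2 => by
    have := mem_Ln.1 h1 ((f d : G)⁻¹ * y * f d) (mul_mem (mul_mem (inv_mem (f d).2) a1) (f d).2)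
      (by rw [mul_smul, mul_smul, hf, a2, ← hf, inv_smul_smul])
    simpa [mul_smul, hf] using this
  by_contra hne
  have h3 : (d' : Ω) ≠ d := fun e2 => hne (Subtype.ext e2.symm)
  refine ha ?_
  rw [← h.Ln_eq eb d.2 d'.2 h3, h.Ln_eq da (Ln_b a d) h2 h3]
  exact Ln_a h.cb a d

theorem exY (hab : b ≠ a) :
    ∃ y ∈ U a, PE p y ∧ y ∉ YY U a b a ∧ y ∈ normalizer (YY U a b a : Set G) := by
  classical
  have hex : ∃ j, ∃ y ∈ ZS (U a) j, y ∉ YY U a b a := by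
    obtain ⟨e, he⟩ := (Set.ne_univ_iff_exists_notMem _).1 (h.nu hab)
    obtain ⟨u, a1, rfl⟩ := trU h.cb hab (show e ≠ a from fun e1 => he (e1 ▸ Ln_a h.cb a b))
    obtain ⟨n, hn⟩ := ZS_top (nilU h.cb a)
    exact ⟨n, u, hn u a1, fun hy => he ((h.memY hab a1).1 hy)⟩
  obtain ⟨y0, a1, a2⟩ := Nat.find_spec hex
  rcases e : Nat.find hex with _ | j
  · rw [e, ZS_zero] at a1; exact absurd (a1 ▸ one_mem _) a2
  rw [e] at a1
  have hj : ∀ y ∈ ZS (U a) j, y ∈ YY U a b a := fun y hy => by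
    by_contra hc
    exact Nat.find_min hex (m := j) (by omega) ⟨y, hy, hc⟩
  obtain ⟨x, b1, b2⟩ := h.exR hab
  by_contra hc
  refine a2 (mem_of_PE fun y hy r hr hy' => ?_)
  have hZ : y ∈ ZS (U a) (j + 1) := zpowers_le.2 a1 hy
  have hU := ZS_le _ _ hZ
  by_cases e1 : p = r
  · subst e1
    by_contra hY
    refine hc ⟨y, hU, hy', hY, norm_of fun u hu => ?_⟩
    have := mul_mem (hj _ ((mem_ZS_succ.1 hZ).2 u hu.1)) hu
    rwa [commutatorElement_def, inv_mul_cancel_right] at this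
  · exact (h.cY b1 b2 (Ln_a h.cb a b)).2 ⟨hU, comm_of_PE (nilU h.cb a) h.pr hr e1 (h.RU b1) hU
      (PE.of_pow b1.2.2) hy'⟩

theorem normY {g : G} (hg : g ∈ Hb G a b) : g ∈ normalizer (YY U a b a : Set G) :=
  norm_of fun u hu => ⟨cjU' h.cb (mem_Hb.1 hg).1 hu.1, by
    have := nP2 h.cb (Or.inl (mem_Hb.1 hg))
    exact Subgroup.mul_mem _ (Subgroup.mul_mem _ this hu.2) (Subgroup.inv_mem _ this)⟩

theorem dec1 (hab : b ≠ a) {t : G} (hg : t ∈ Hb G a b) (ht : t * t = 1) :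
    ∃ s ∈ U a, ∃ c ∈ U a, PE p c ∧ s ∈ normalizer (YY U a b a : Set G) ∧ t * s * t = s⁻¹ ∧
      c * t = t * c ∧ (s ∉ YY U a b a ∨ c ∉ YY U a b a) := by
  obtain ⟨y, a1, a2, a3, a4⟩ := h.exY hab
  obtain ⟨Q, hQ⟩ := exists_Op (nilU h.cb a) h.pr
  obtain ⟨s, b1, c, b2, b3, b4, rfl⟩ := decomp (A := Q ⊓ normalizer (YY U a b a : Set G))
    (fun u hu => oddU h.cb ((hQ u).1 hu.1).1) ht (fun u hu =>
      ⟨(hQ _).2 ⟨cjU' h.cb (mem_Hb.1 hg).1 ((hQ u).1 hu.1).1, ((hQ u).1 hu.1).2.conj t⟩,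
        Subgroup.mul_mem _ (Subgroup.mul_mem _ (h.normY hg) hu.2)
          (Subgroup.inv_mem _ (h.normY hg))⟩) ⟨(hQ y).2 ⟨a1, a2⟩, a4⟩
  refine ⟨s, ((hQ s).1 b1.1).1, c, ((hQ c).1 b2.1).1, ((hQ c).1 b2.1).2, b1.2, b3, b4, ?_⟩
  by_contra hc
  push Not at hc
  exact a3 (mul_mem hc.1 hc.2)

variable {hab : b ≠ a}

theorem cfx {g : G} (hg : g ∈ Hb G a b) (h1 : g ≠ 1) (hc : (orderOf g).Coprime (Nat.card (U a)))
    {x : G} (hx : x ∈ h.RR a b hab) (x1 : x ≠ 1) (e : g * x = x * g) : Fx Ω {g} ⊆ Ln U a b := by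
  intro c hc'
  by_cases ca : c = a
  · rw [ca]; exact Ln_a h.cb a b
  by_cases cb : c = b
  · rw [cb]; exact Ln_b a b
  have ga := mem_Fx1.2 (mem_Hb.1 hg).1
  have gb := mem_Fx1.2 (mem_Hb.1 hg).2
  have hr := (h.cy.ih _ _ _ (cop h.cb hc) (Fx_ne h.cb h1)
    (three_le ga gb hc' hab.symm (Ne.symm ca) (Ne.symm cb))).1
  rw [← h.fx hx x1]
  exact mem_Fx1.2 (hr a ga x (mem_UY1.2 ⟨h.RU hx, e.symm⟩) b gb hab hx.2.1 c hc')

theorem xY {x : G} (hx : x ∈ h.RR a b hab) (x1 : x ≠ 1) : x ∈ YY U a b a :=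
  (h.cY hx x1 (Ln_a h.cb a b)).2 ⟨h.RU hx, rfl⟩

theorem cenY {x s y : G} (hx : x ∈ h.RR a b hab) (x1 : x ≠ 1)
    (hs : s ∈ normalizer (YY U a b a : Set G)) (hy : y ∈ YY U a b a) :
    Commute (s * x * s⁻¹) y := by
  have := ((h.cY hx x1 (Ln_a h.cb a b)).1 (norm_cj (inv_mem hs) hy)).2
  calc s * x * s⁻¹ * y = s * (x * (s⁻¹ * y * s⁻¹⁻¹)) * s⁻¹ := by group
    _ = y * (s * x * s⁻¹) := by rw [← this]; group

theorem mv {j : G} (hj : j ∈ Hb G a b) (hi : Inv j) {x : G} (hx : x ∈ h.RR a b hab) (x1 : x ≠ 1)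
    (e : j * x = x * j) : ∃ v ∈ ZS (U a) i, PE p v ∧ v ∈ YY U a b a ∧
      (∀ y ∈ YY U a b a, v * y = y * v) ∧ j * v ≠ v * j := by
  obtain ⟨s, a1, c, a2, -, a4, a5, a6, a7⟩ := h.dec1 hab hj hi.1
  have hc : c ∈ YY U a b a := (h.memY hab a2).2 (h.cfx hj hi.2 (cop2 h.cb a hi) hx x1 e
    (mem_Fx1.2 (by rw [← mul_smul, ← a6, mul_smul, (mem_Hb.1 hj).2])))
  have hs : s ∉ YY U a b a := a7.resolve_right (not_not.2 hc)
  have hZ := ZS_comm hx.1 a1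
  refine ⟨⁅s, x⁆, hZ, (PE.of_pow hx.2.2).comm (nilU h.cb a) h.pr (h.RU hx) a1,
    mul_mem (norm_cj a4 (h.xY hx x1)) (inv_mem (h.xY hx x1)), fun y hy => ?_, fun e1 => hs ?_⟩
  · exact (h.cenY hx x1 a4 hy).mul_left
      (Commute.inv_left ((h.cY hx x1 (Ln_a h.cb a b)).1 hy).2.symm)
  · refine (h.cY hx x1 (Ln_a h.cb a b)).2 ⟨a1, commutatorElement_eq_one_iff_mul_comm.1 ?_⟩
    refine eq_one_of_inv (oddU h.cb a1) (oddU h.cb (ZS_le _ _ hZ)) ?_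
    have ji : j⁻¹ = j := inv_eq_of_mul_eq_one_right hi.1
    have s1 : j * s * j⁻¹ = s⁻¹ := by rw [ji, a5]
    have s2 : j * x * j⁻¹ = x := by rw [e]; simp
    have s3 : j * ⁅s, x⁆ * j⁻¹ = ⁅s, x⁆ := by rw [e1]; simp
    rw [conjugate_commutatorElement, s1, s2] at s3
    calc s⁻¹ * ⁅s, x⁆ * s = ⁅s⁻¹, x⁆⁻¹ := by simp only [commutatorElement_def]; group
      _ = _ := by rw [s3]

theorem iv {w : G} (hw : w ∈ Hb G a b) (hi : Inv w) {x : G} (hx : x ∈ h.RR a b hab) (x1 : x ≠ 1)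
    (e : w * x * w = x⁻¹) : (Fx Ω {w}).ncard % p = 1 := by
  obtain ⟨Q, hQ⟩ := exists_Op (nilU h.cb a) h.pr
  have wa := (mem_Hb.1 hw).1
  have wi : w⁻¹ = w := inv_eq_of_mul_eq_one_right hi.1
  have key : ∃ c ∈ Q, c * w = w * c ∧ c • b ≠ b := by
    obtain ⟨s, a1, c, a2, a3, a4, a5, a6, a7⟩ := h.dec1 hab hw hi.1
    rcases a7 with hs | hc
    · have hZ := ZS_comm hx.1 a1
      obtain ⟨s', b1, c', b2, b3, b4, b5⟩ := decomp (A := Q ⊓ ZS (U a) i)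
        (fun u hu => oddU h.cb ((hQ u).1 hu.1).1) hi.1 (fun u hu =>
          ⟨(hQ _).2 ⟨cjU' h.cb wa ((hQ u).1 hu.1).1, ((hQ u).1 hu.1).2.conj w⟩,
            cjZ' h.cb wa hu.2⟩)
        ⟨(hQ _).2 ⟨ZS_le _ _ hZ, (PE.of_pow hx.2.2).comm (nilU h.cb a) h.pr (h.RU hx) a1⟩, hZ⟩
      refine ⟨c', b2.1, b4, fun e1 => hs ?_⟩
      rw [h.sr a b hab c' b2.2 e1, mul_one] at b5
      refine (h.cY hx x1 (Ln_a h.cb a b)).2 ⟨a1, commutatorElement_eq_one_iff_mul_comm.1 ?_⟩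
      refine eq_one_of_inv (oddU h.cb a1) (oddU h.cb (ZS_le _ _ hZ)) ?_
      have s1 : w * s * w⁻¹ = s⁻¹ := by rw [wi, a5]
      have s2 : w * x * w⁻¹ = x⁻¹ := by rw [wi, e]
      have s3 : w * ⁅s, x⁆ * w⁻¹ = ⁅s, x⁆⁻¹ := by rw [wi, b5, b3]
      rw [conjugate_commutatorElement, s1, s2] at s3
      have s4 := (h.cenY hx x1 (inv_mem a4) (h.xY hx x1)).inv_left.eq
      rw [← s3]
      simp only [commutatorElement_def]
      calc _ = x * (s⁻¹ * x * s⁻¹⁻¹)⁻¹ := by group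
        _ = _ := by rw [← s4]; group
    · exact ⟨c, (hQ c).2 ⟨a2, a3⟩, a6, fun e1 => hc ((h.memY hab a2).2 (e1.symm ▸ Ln_b a b))⟩
  obtain ⟨c, c1, c2, c3⟩ := key
  have h1 := cnt_grp h.pr (Q := Q ⊓ centralizer {w}) (pgroup_of fun u hu => ((hQ u).1 hu.1).2)
    (s := Fx Ω {w}) (fun q hq d hd => by
      rw [mem_Fx1] at hd ⊢
      rw [← mul_smul, ← mem_centralizer_singleton_iff.1 hq.2, mul_smul, hd])
  have h2 : {d | d ∈ Fx Ω {w} ∧ ∀ q ∈ Q ⊓ centralizer {w}, q • d = d} = {a} := by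
    ext d
    simp only [Set.mem_ofPred_eq, Set.mem_singleton_iff]
    constructor
    · rintro ⟨d1, d2⟩
      by_contra da
      obtain ⟨u, u1, u2⟩ := (cop h.cb (cop2 h.cb a hi)).tr a (mem_Fx1.2 wa) d d1 b
        (mem_Fx1.2 (mem_Hb.1 hw).2) da hab
      rw [mem_UY1] at u1
      have hc := (hQ c).1 c1
      have := d2 (u⁻¹ * c * u⁻¹⁻¹) ⟨(hQ _).2 ⟨mul_mem (mul_mem (inv_mem u1.1) hc.1)
        (inv_mem (inv_mem u1.1)), hc.2.conj _⟩, mem_centralizer_singleton_iff.2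
        (((Commute.inv_left u1.2).mul_left c2).mul_left (Commute.inv_left u1.2).inv_left)⟩
      rw [inv_inv, mul_smul, mul_smul, u2, inv_smul_eq_iff, u2] at this
      exact c3 this
    · rintro rfl
      exact ⟨mem_Fx1.2 wa, fun q hq => fixU h.cb ((hQ q).1 hq.1).1⟩
  rw [h2, Set.ncard_singleton] at h1
  rw [h1, Nat.mod_eq_of_lt h.pr.one_lt]

theorem lay {t : G} (ht : t ∈ Hb G a b) (hi : Inv t) {x : G} (hx : x ∈ h.RR a b hab) (x1 : x ≠ 1)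
    (e : t * x * t = x⁻¹) : Fx Ω {t} ≠ Ln U a b := by
  intro hF
  have ta := (mem_Hb.1 ht).1
  have ti : t⁻¹ = t := inv_eq_of_mul_eq_one_right hi.1
  have hcb : ∀ c, c * t = t * c → c • b ∈ Ln U a b := fun c hc =>
    hF ▸ mem_Fx1.2 (by rw [← mul_smul, ← hc, mul_smul, (mem_Hb.1 ht).2])
  have hd : ∀ u : U a, ∃ s ∈ ZS (U a) i, ∃ c ∈ ZS (U a) i, t * s * t = s⁻¹ ∧ c * t = t * c ∧
      ⁅(u : G), x⁆ = s * c := fun u =>
    decomp (fun v hv => oddU h.cb (ZS_le _ _ hv)) hi.1 (fun v hv => cjZ' h.cb ta hv)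
      (ZS_comm hx.1 u.2)
  choose s hs c hc h1 h2 h3 using hd
  have key : ∀ u u' : U a, c u = c u' → ((u⁻¹ * u' : U a) : G) ∈ YY U a b a := by
    intro u u' ec
    obtain ⟨s1, b1, c1, b2, b3, b4, b5⟩ := decomp (fun v hv => oddU h.cb hv) hi.1
      (fun v hv => cjU' h.cb ta hv) (u⁻¹ * u').2
    have b6 := ((h.cY hx x1 (Ln_a h.cb a b)).1 ((h.memY hab b2).2 (hcb c1 b4))).2
    refine (h.cY hx x1 (Ln_a h.cb a b)).2 ⟨(u⁻¹ * u').2, ?_⟩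
    have n1 : ⁅((u⁻¹ * u' : U a) : G), x⁆ = ⁅s1, x⁆ := by
      rw [b5]
      simp only [commutatorElement_def]
      calc _ = s1 * (c1 * x) * c1⁻¹ * s1⁻¹ * x⁻¹ := by group
        _ = _ := by rw [b6]; group
    have m1 : s u' * (s u)⁻¹ = u * ⁅s1, x⁆ * (u : G)⁻¹ := by
      calc s u' * (s u)⁻¹ = (s u' * c u') * (s u * c u)⁻¹ := by rw [ec]; group
        _ = _ := by
          rw [← h3, ← h3, ← n1]
          simp only [commutatorElement_def, Subgroup.coe_mul, Subgroup.coe_inv]; group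
    have t1 : t * ⁅s1, x⁆ * t⁻¹ = (x * s1)⁻¹ * ⁅s1, x⁆ * (x * s1) := by
      rw [conjugate_commutatorElement, ti, b3, e]
      simp only [commutatorElement_def]; group
    have t2 : t * (s u' * (s u)⁻¹) * t⁻¹ = (s u')⁻¹ * s u := by
      calc _ = (t * s u' * t⁻¹) * (t * s u * t⁻¹)⁻¹ := by group
        _ = _ := by rw [ti, h1, h1, inv_inv]
    have hg : (s u' * (t * u * t⁻¹) * (x * s1)⁻¹ * (u : G)⁻¹)⁻¹ ∈ U a :=
      inv_mem (mul_mem (mul_mem (mul_mem (ZS_le _ _ (hs u')) (cjU' h.cb ta u.2))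
        (inv_mem (mul_mem (h.RU hx) b1))) (inv_mem u.2))
    have m2 : s u' * (s u)⁻¹ = 1 := by
      refine eq_one_of_inv (oddU h.cb hg) (oddU h.cb (ZS_le _ _ (mul_mem (hs u') (inv_mem (hs u))))) ?_
      calc _ = s u' * (t * u * t⁻¹) * (x * s1)⁻¹ * (u : G)⁻¹ * (u * ⁅s1, x⁆ * (u : G)⁻¹) *
            (s u' * (t * u * t⁻¹) * (x * s1)⁻¹ * (u : G)⁻¹)⁻¹ := by rw [← m1, inv_inv]
        _ = s u' * (t * u * t⁻¹) * ((x * s1)⁻¹ * ⁅s1, x⁆ * (x * s1)) * (t * u * t⁻¹)⁻¹ *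
            (s u')⁻¹ := by group
        _ = s u' * (t * (u * ⁅s1, x⁆ * (u : G)⁻¹) * t⁻¹) * (s u')⁻¹ := by rw [← t1]; group
        _ = _ := by rw [← m1, t2]; group
    rw [m2, eq_comm, mul_inv_eq_one, mul_eq_left] at m1
    exact commutatorElement_eq_one_iff_mul_comm.1 (n1.trans m1)
  have h4 : (YY U a b a).relIndex (U a) ≤ (Ln U a b \ {a}).ncard := by
    rw [← Nat.card_coe_set_eq]
    refine Nat.card_le_card_of_injective
      (fun q : U a ⧸ (YY U a b a).subgroupOf (U a) => (⟨c q.out • b, hcb _ (h2 _),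
        smul_ne h.cb (ZS_le _ _ (hc _)) hab⟩ : ↥(Ln U a b \ {a}))) fun q q' e1 => ?_
    have e2 : c q.out • b = c q'.out • b := congrArg Subtype.val e1
    have e3 := h.sr a b hab _ (mul_mem (inv_mem (hc q.out)) (hc q'.out))
      (by rw [mul_smul, ← e2, inv_smul_smul])
    rw [← QuotientGroup.out_eq' q, ← QuotientGroup.out_eq' q']
    exact QuotientGroup.eq.2 (mem_subgroupOf.2 (key _ _ (inv_mul_eq_one.1 e3)))
  have h5 := Set.ncard_sdiff_singleton_lt_of_mem (Ln_a h.cb a b)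
  have h6 := h.fisher hab
  omega

end Ctx

end H15.NR

namespace H51.HK

open MulAction Subgroup Matrix H69 H15.NR
open scoped MatrixGroups Classical commutatorElement

variable {G Ω : Type*} [Group G] [MulAction G Ω] [Finite G] [Finite Ω]

variable {U : Ω → Subgroup G}

theorem nr1 (h : Cy U) :
    ∃ p : ℕ, ∀ a b : Ω, a ≠ b → ∃ R N : Subgroup G, NRc U a b p R N := by
  obtain ⟨p, i, c⟩ := exists_ctx h
  refine ⟨p, fun a b hab => ?_⟩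
  obtain ⟨Q, hQ⟩ := exists_Op (nilU c.cb a) c.pr
  refine ⟨c.RR a b hab.symm, Q ⊓ ZS (U a) i, hab, c.pr, fun _ _ _ _ _ hx _ e => sym c.cb hx e,
    c.ld hab.symm, Ln_a c.cb a b, Ln_b a b, c.three hab.symm, c.nu hab.symm,
    fun g hg => ⟨nP2 c.cb hg, fun x hx => ?_⟩,
    fun _ hc u hu => ⟨fun ht => (ker c.cb hc).2 ⟨hu, ht⟩, fun hP => ((ker c.cb hc).1 hP).2⟩,
    fun e => ?_, fun x hx => ⟨c.RU hx, hx.2.1⟩, fun x hx => hx.2.2,
    fun x hx y hy => (c.cen hab.symm hx.1 hx.2.1 hy.1 (Ctx.comm_fix hx.2.1 hy.2)).symm,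
    fun x hx h1 => c.fx hx h1, fun x hx h1 d hd => ?_, fun v hv => ZS_le _ _ hv.2,
    pgroup_of fun v hv => ((hQ v).1 hv.1).2,
    fun g hg v hv => ⟨(hQ _).2 ⟨cjU' c.cb hg ((hQ v).1 hv.1).1, ((hQ v).1 hv.1).2.conj g⟩,
      cjZ' c.cb hg hv.2⟩,
    fun v hv d hd e => c.sr a d hd v hv.2 e,
    fun x hx u hu => ⟨(hQ _).2 ⟨ZS_le _ _ (ZS_comm hx.1 hu),
      (PE.of_pow hx.2.2).comm (nilU c.cb a) c.pr (c.RU hx) hu⟩, ZS_comm hx.1 hu⟩,
    fun z hz hc d hd e => zsr c.cb hz hc hd e, c.fisher hab.symm, ?_, fun g hg => cop c.cb hg,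
    fun g hg h1 hc x hx x1 e => c.cfx hg h1 hc hx x1 e, fun j hj hi x hx x1 e => ?_,
    fun w hw hi x hx x1 e => c.iv hw hi hx x1 e, fun t ht hi x hx x1 e => c.lay ht hi hx x1 e⟩
  · obtain ⟨a1, a2⟩ := nP1 c.cb hg (fixU c.cb (c.RU hx)) hx.2.1
    exact ⟨symZ c.cb c.pr (cjZ c.cb g hx.1) ((PE.of_pow hx.2.2).conj g) a1, a2,
      by rw [conj_pow, hx.2.2]; simp⟩
  · obtain ⟨x, a1, a2⟩ := c.exR hab.symm
    exact a2 (mem_bot.1 (e ▸ a1))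
  · ext u
    rw [mem_UY1, c.cY hx h1 hd]
  · obtain ⟨y, a1, -, a2⟩ := c.exY hab.symm
    exact ⟨y, a1, a2⟩
  · obtain ⟨v, a1, a2, a3, a4⟩ := c.mv hj hi hx x1 e
    exact ⟨v, ⟨⟨(hQ v).2 ⟨ZS_le _ _ a1, a2⟩, a1⟩, a3⟩, a4⟩

end H51.HK
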