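import Cfsg.Agent.Lib.HK.NRAb
import Cfsg.Agent.Lib.Cyc2.Hk
import Cfsg.Agent.S0205
import Cfsg.Agent.S4040

/-! The non-regular case with an affine line. -/

set_option autoImplicit false
set_option linter.unusedSectionVars false

namespace H51.HK

open MulAction Subgroup Matrix H69
open scoped MatrixGroups Classical commutatorElement

variable {G Ω : Type*} [Group G] [MulAction G Ω] [Finite G] [Finite Ω]

variable {U : Ω → Subgroup G}

variable {a b : Ω} {p : ℕ}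

namespace NRA

/-- the setwise stabiliser of a pair -/
def PS (G : Type*) {Ω : Type*} [Group G] [MulAction G Ω] (a b : Ω) : Subgroup G where
  carrier := {g | Pr a b g}
  one_mem' := Or.inl ⟨one_smul _ _, one_smul _ _⟩
  mul_mem' := by
    rintro g g' (h | h) (h' | h') <;> simp only [Set.mem_ofPred_eq, Pr, mul_smul, h.1, h.2, h'.1,
      h'.2, and_self, true_or, or_true]
  inv_mem' := by
    rintro g (h | h)
    · exact Or.inl ⟨inv_smul_eq_iff.2 h.1.symm, inv_smul_eq_iff.2 h.2.symm⟩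
    · exact Or.inr ⟨inv_smul_eq_iff.2 h.2.symm, inv_smul_eq_iff.2 h.1.symm⟩

namespace Ct
variable {R N : Subgroup G} {x : G} (C : Ct U a b p R N x)
include C

theorem four {j t : G} (hj : Inv j) (ht : Inv t) (ja : j • a = a) (jb : j • b = b)
    (jx : j * x * j⁻¹ = x) (tN : t ∈ normalizer (PP U a b : Set G)) (tT : Tr (Ln U a b) t)
    (jt : j * t = t * j) : Gl G Ω := by
  have ta := tT a C.c.ha
  have tb := tT b C.c.hb
  have tx : t * x * t = x⁻¹ := by
    rcases C.pm' (Or.inl ⟨ta, tb⟩) ht.1 with h | h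
    · exact absurd (C.no_inv (mem_OO.2 ⟨tN, tT, h⟩) ht.1) ht.2
    · rwa [inv_eq_of_mul_eq_one_right ht.1] at h
  have hne := C.c.lay t (mem_Hb.2 ⟨ta, tb⟩) ht x C.xR C.x1 tx
  have hs : Ln U a b ⊆ Fx Ω {t} := fun z hz => mem_Fx1.2 (tT z hz)
  have hd := C.c.cop t (C.cop ht)
  obtain ⟨s1, s2, s3⟩ := C.fixsq hj ja jb jx
  have ma := hs C.c.ha
  have mb := hs C.c.hb
  have hab : ({a, b} : Set Ω) ⊆ Fx Ω {j} := by
    rintro z (rfl | rfl)
    · exact mem_Fx1.2 ja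
    · exact mem_Fx1.2 jb
  have h2 : 2 ≤ (Fx Ω {j}).ncard := Set.ncard_pair C.c.ne ▸ Set.ncard_le_ncard hab
  have fin : (Fx Ω {j}).ncard = 2 → Gl G Ω := fun h => nrj C.h C.c hj (mem_Hb.2 ⟨ja, jb⟩)
    (Set.eq_of_subset_of_ncard_le hab (by rw [h, Set.ncard_pair C.c.ne])).superset
  have key : ∀ l : ℕ, l.Prime → (∀ u ∈ UY U {t} a, ∃ k, Tr (Fx Ω {t}) (u ^ l ^ k)) → Gl G Ω := by
    intro l hl hp
    rcases C.X.pp with h4 | h4
    · exact fin (by rw [h4] at s3; nlinarith)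
    obtain ⟨k, hk⟩ := h4 l hl fun z hz za => by
      obtain ⟨u, hu, ub⟩ := hd.tr a ma b mb z (hs hz) C.c.ne.symm za
      obtain ⟨y, hy, yb⟩ := C.c.ld.tr a C.c.ha b C.c.hb z hz C.c.ne.symm za
      have : y⁻¹ * u ∈ YY U a b a := PY ⟨(U a).mul_mem ((U a).inv_mem hy.1) hu.1,
        mem_stabilizer_iff.2 (by rw [mul_smul, ub, inv_smul_eq_iff, yb])⟩
      obtain ⟨k, hk⟩ := hp u hu
      exact ⟨u, by simpa using mul_mem hy this, ub, k, fun z hz => hk z (hs hz)⟩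
    obtain ⟨i, hi⟩ := C.X.two
    exact fin (arith hl h2 (s3.trans hi) (s3.trans hk))
  obtain ⟨-, hL | ⟨l, q, hU⟩ | ⟨q, hR⟩ | hA⟩ := C.h.ih _ _ _ hd
    (fun hh => ht.2 (C.h.faith t fun z => mem_Fx1.1 (hh ▸ Set.mem_univ z)))
    (C.c.three.trans (Set.ncard_le_ncard hs))
  · obtain ⟨F, _, _, e, hF⟩ := hL a ma b mb C.c.ne
    exact key (ringChar F) (CharP.char_is_prime F _) fun u hu =>
      ⟨1, by rw [pow_one]; exact (hF.V_comm hd ma hu hu).2⟩
  · exact key l hU.pr (hU.pg a ma)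
  · exact key 3 Nat.prime_three (hR.pg a ma)
  · obtain ⟨F, _, _, e, hF⟩ := hA a ma b mb C.c.ne
    have := af_sq hF hd ma mb (mem_norm1.2 jt) ja jb (fun z _ => by rw [hj.1, one_smul])
      fun hh => s2 fun z hz => hh z (hs hz)
    have e1 : {z | z ∈ Fx Ω {t} ∧ j • z = z} = Fx Ω {j} := by
      ext z
      exact ⟨fun hz => mem_Fx1.2 hz.2, fun hz => ⟨hs (s1 hz), mem_Fx1.1 hz⟩⟩
    rw [e1, s3] at this
    exact absurd (Set.eq_of_subset_of_ncard_le hs this.ge).symm hne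

/-- two involutions with the same action on the line and on `x` are conjugate -/
theorem cj {s t : G} (s2 : s * s = 1) (t2 : t * t = 1) (ps : Pr a b s) (pt : Pr a b t)
    (h : ∀ z ∈ Ln U a b, s • z = t • z) (hx : s * t * x * (s * t)⁻¹ = x) :
    ∃ k : G, k • a = a ∧ k • b = b ∧ t = k * s * k⁻¹ := by
  have hO : s * t ∈ OO U a b x := mem_OO.2 ⟨mul_mem (C.c.nP s ps).1 (C.c.nP t pt).1,
    fun z hz => by rw [mul_smul, ← h z hz, ← mul_smul, s2, one_smul], hx⟩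
  obtain ⟨m, hm⟩ := conj_of_odd s2 t2 (C.odd hO)
  have := (mem_OO.1 (pow_mem hO m)).2.1
  exact ⟨_, this a C.c.ha, this b C.c.hb, hm⟩

/-- an element of `H` whose square lies in `O` is an involution modulo `O` -/
theorem lift {g : G} (hp : Pr a b g) (hT : Tr (Ln U a b) (g * g)) (hx : PM x g) :
    ∃ k : ℕ, (g * g) ^ k ∈ OO U a b x ∧ g * (g * g) ^ k * (g * (g * g) ^ k) = 1 := by
  have hO : g * g ∈ OO U a b x :=
    mem_OO.2 ⟨mul_mem (C.c.nP g hp).1 (C.c.nP g hp).1, hT, hx.sq⟩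
  obtain ⟨k, hk⟩ := odd_pow (C.odd hO)
  exact ⟨k, pow_mem hO k, hk⟩

theorem rank {t s : G} (ht : Inv t) (tT : Tr (Ln U a b) t) (tx : t * x * t⁻¹ = x⁻¹)
    (sa : s • a = a) (sb : s • b = b) (s2 : Tr (Ln U a b) (s * s)) (s1 : ¬ Tr (Ln U a b) s)
    (sx : PM x s) : Gl G Ω := by
  have ta := tT a C.c.ha
  have tb := tT b C.c.hb
  have tN := (C.c.nP t (Or.inl ⟨ta, tb⟩)).1
  wlog ss : s * s = 1 generalizing s
  · obtain ⟨k, k1, k2⟩ := C.lift (Or.inl ⟨sa, sb⟩) s2 sx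
    obtain ⟨-, kT, kx⟩ := mem_OO.1 k1
    exact this (s := s * (s * s) ^ k) (by rw [mul_smul, kT a C.c.ha, sa])
      (by rw [mul_smul, kT b C.c.hb, sb]) (fun z _ => by rw [k2, one_smul])
      (fun hh => s1 fun z hz => by rw [← hh z hz, mul_smul, kT z hz, ← mul_smul, s2 z hz,
        ← kT z hz, ← mul_smul, hh z hz, kT z hz]) (sx.mul (Or.inl kx)) k2
  have sN := (C.c.nP s (Or.inl ⟨sa, sb⟩)).1
  have ga : (s * t) • a = a := by rw [mul_smul, ta, sa]
  have gb : (s * t) • b = b := by rw [mul_smul, tb, sb]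
  obtain ⟨k, k1, k2⟩ := C.lift (Or.inl ⟨ga, gb⟩) (fun z hz => by
    rw [mul_smul, mul_smul, mul_smul, tT z hz, tT _ (C.c.ld.inv s sN z hz), ← mul_smul, ss,
      one_smul]) (sx.mul (Or.inr tx))
  obtain ⟨-, kT, kx⟩ := mem_OO.1 k1
  have ti : t⁻¹ = t := inv_eq_of_mul_eq_one_right ht.1
  have e1 : t * (s * t) * t⁻¹ = (s * t)⁻¹ := by
    rw [_root_.mul_inv_rev, inv_eq_of_mul_eq_one_right ss, ← mul_assoc, mul_inv_cancel_right, ti]
  have e2 : t * (s * t * (s * t * (s * t)) ^ k) * t⁻¹ = (s * t * (s * t * (s * t)) ^ k)⁻¹ := by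
    rw [← pow_two, ← pow_mul, ← pow_succ', ← conj_pow, e1, inv_pow]
  have act : ∀ y ∈ Ln U a b, (s * t * (s * t * (s * t)) ^ k) • y = s • y := fun y hy => by
    rw [mul_smul, kT y hy, mul_smul, tT y hy]
  have zx : PM x (s * t * (s * t * (s * t)) ^ k) := (sx.mul (Or.inr tx)).mul (Or.inl kx)
  generalize s * t * (s * t * (s * t)) ^ k = z at k2 e2 act zx
  rw [inv_eq_of_mul_eq_one_right k2, mul_inv_eq_iff_eq_mul] at e2
  have za : z • a = a := by rw [act a C.c.ha, sa]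
  have zb : z • b = b := by rw [act b C.c.hb, sb]
  rcases zx with zx | zx
  · exact C.four ⟨k2, fun hh => s1 fun y hy => by rw [← act y hy, hh, one_smul]⟩ ht za zb zx tN tT
      e2.symm
  · refine C.four (j := z * t) ⟨?_, fun hh => s1 fun y hy => ?_⟩ ht (by rw [mul_smul, ta, za])
      (by rw [mul_smul, tb, zb]) (cj_mul (cj_inv zx) tx) tN tT (by rw [← mul_assoc, e2])
    · rw [mul_assoc, ← mul_assoc t, e2, mul_assoc, ht.1, mul_one, k2]
    · rw [← act y hy, ← tT y hy, ← mul_smul, hh, one_smul, tT y hy]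

variable {w : G} (wL : w ∈ Lt (Ln U a b) (YY U a b)) (ww : w * w = 1) (wa : w • a = b)
  (wf : ∀ z : Ω, w • z ≠ z)
include wL ww wa wf

theorem swap (nG : ¬ Gl G Ω) {v : G} (vv : v * v = 1) (va : v • a = b) (vf : ∀ z : Ω, v • z ≠ z) :
    ∃ k : G, k • a = a ∧ k • b = b ∧ v = k * w * k⁻¹ := by
  have sw : ∀ {g : G}, g * g = 1 → g • a = b → g • b = a := fun h1 h2 => by
    rw [← h2, ← mul_smul, h1, one_smul]
  have pr : ∀ {g : G}, g * g = 1 → g • a = b → Pr a b g := fun h1 h2 => Or.inr ⟨h2, sw h1 h2⟩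
  have un : ∀ {g g' : G}, g * g = 1 → g • a = b → g' * g' = 1 → g' • a = b →
      (∀ z ∈ Ln U a b, g • z ≠ z) → (∀ z ∈ Ln U a b, g' • z ≠ z) →
      ∀ z ∈ Ln U a b, g • z = g' • z := fun h1 h2 h1' h2' f f' =>
    C.X.un _ (C.c.nP _ (pr h1 h2)).1 _ (C.c.nP _ (pr h1' h2')).1 h2 (sw h1 h2) h2' (sw h1' h2')
      (fun z _ => by rw [h1, one_smul]) (fun z _ => by rw [h1', one_smul]) f f'
  have wx := C.Lx wL
  have wv := un ww wa vv va (fun z _ => wf z) fun z _ => vf z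
  rcases C.pm' (pr vv va) vv with vx | vx
  · exact C.cj ww vv (pr ww wa) (pr vv va) wv (cj_mul wx vx)
  exfalso
  have hT : Tr (Ln U a b) (w * v) := fun z hz => by
    rw [mul_smul, ← wv z hz, ← mul_smul, ww, one_smul]
  have hx : w * v * x * (w * v)⁻¹ = x⁻¹ := cj_mul (cj_inv' wx) vx
  obtain ⟨k, k1, k2⟩ := C.lift (Or.inl ⟨hT a C.c.ha, hT b C.c.hb⟩)
    (fun z hz => by rw [mul_smul, hT z hz, hT z hz]) (Or.inr hx)
  obtain ⟨-, kT, kx⟩ := mem_OO.1 k1
  have tT : Tr (Ln U a b) (w * v * (w * v * (w * v)) ^ k) := fun z hz => by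
    rw [mul_smul, kT z hz, hT z hz]
  have tx := cj_mul hx kx
  generalize w * v * (w * v * (w * v)) ^ k = t at k2 tT tx
  have t1 : t ≠ 1 := fun hh => C.ne_inv (by simpa [hh] using tx)
  obtain ⟨z, hz⟩ : ∃ z : Ω, t • z ≠ z := by
    by_contra hc
    push Not at hc
    exact t1 (C.h.faith t hc)
  obtain ⟨g, g1, g2⟩ := C.h.pair hz.symm C.c.ne
  have r2 : g * t * g⁻¹ * (g * t * g⁻¹) = 1 := by rw [conj_mul, k2, mul_one, mul_inv_cancel]
  have ra : (g * t * g⁻¹) • a = b := by rw [← g1, mul_smul, inv_smul_smul, mul_smul, g2]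
  have rf : (g * t * g⁻¹) • g • a = g • a := by
    rw [mul_smul, inv_smul_smul, mul_smul, tT a C.c.ha]
  generalize g * t * g⁻¹ = r at r2 ra rf
  have nc : ∀ {s : G}, (∀ z : Ω, s • z ≠ z) → ∀ k : G, r ≠ k * s * k⁻¹ := fun {s} f k hk =>
    f (k⁻¹ • g • a) (by
      rw [hk, mul_smul, mul_smul, ← eq_inv_smul_iff] at rf
      exact rf)
  have rx := C.pm' (pr r2 ra) r2
  by_cases hr : ∀ z ∈ Ln U a b, r • z ≠ z
  · rcases rx with rx | rx
    · obtain ⟨k, -, -, hk⟩ := C.cj ww r2 (pr ww wa) (pr r2 ra)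
        (un ww wa r2 ra (fun z _ => wf z) hr) (cj_mul wx rx)
      exact nc wf k hk
    · obtain ⟨k, -, -, hk⟩ := C.cj vv r2 (pr vv va) (pr r2 ra)
        (un vv va r2 ra (fun z _ => vf z) hr) (cj_mul (cj_inv vx) rx)
      exact nc vf k hk
  push Not at hr
  obtain ⟨y, hy, ry⟩ := hr
  refine nG (C.rank (s := w * r) ⟨k2, t1⟩ tT tx (by rw [mul_smul, ra, sw ww wa])
    (by rw [mul_smul, sw r2 ra, wa]) ?_ (fun hh => wf y ?_) (PM.mul (Or.inl wx) rx))
  · have := C.X.ab w (C.c.nP _ (pr ww wa)).1 r (C.c.nP _ (pr r2 ra)).1 (pr ww wa) (pr r2 ra)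
    rwa [commutatorElement_def, inv_eq_of_mul_eq_one_right ww, inv_eq_of_mul_eq_one_right r2,
      mul_assoc] at this
  · have := hh y hy
    rwa [mul_smul, ry] at this

theorem hk (nG : ¬ Gl G Ω) {I : Subgroup G} (hI : ∀ g g' : G, Pr a b g → Pr a b g' → ⁅g, g'⁆ ∈ I)
    (PI : PP U a b ≤ I) : Hb G a b ≤ I := fun g hg => by
  have wb : w • b = a := by rw [← wa, ← mul_smul, ww, one_smul]
  refine H46.C2.hk_sub (U := U a) (N := PS G a b) C.c.ne.symm wa ww (C.h.ld.fix a trivial)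
    (fun g ga u hu => by have := C.h.ld.cj g trivial a trivial u hu; rwa [ga] at this)
    (fun y ya => C.h.ld.tr a trivial b trivial y trivial C.c.ne.symm ya) (C.h.ld.nil a trivial) wf
    (fun g ga => C.swap wL ww wa wf nG (by rw [conj_mul, ww, mul_one, mul_inv_cancel]) ga
      fun z hz => wf (g⁻¹ • z) ?_) (fun h ha hb => Or.inl ⟨ha, hb⟩) (Or.inr ⟨wa, wb⟩)
    (fun g hg g' hg' => hI g g' hg hg') (fun u hu ub => PI ⟨hu, ub⟩) ?_ (mem_Hb.1 hg).1
    (mem_Hb.1 hg).2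
  · rwa [mul_smul, mul_smul, ← eq_inv_smul_iff] at hz
  · refine (show Lt Set.univ U ≤ normalClosure (U a : Set G) from iSup₂_le fun c _ u hu => ?_)
      (C.h.gen ▸ mem_top g)
    by_cases hc : c = a
    · exact subset_normalClosure (hc ▸ hu)
    obtain ⟨k, k1, -⟩ := C.h.pair (G := G) hc (Ne.symm hc)
    have := C.h.ld.cj k trivial c trivial u hu
    rw [k1] at this
    simpa using normalClosure_normal.mem_comm (subset_normalClosure this)

theorem pass1 (nG : ¬ Gl G Ω) : Hb G a b ≤ OO U a b x := by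
  refine C.hk wL ww wa wf nG (fun g g' p p' => ?_) fun u hu => mem_OO.2 ⟨le_normalizer hu,
    fun z hz => hz u hu, mul_inv_eq_iff_eq_mul.2 (C.c.RZ x C.xR u hu).symm⟩
  have m := (C.c.nP g p).1
  have m' := (C.c.nP g' p').1
  refine mem_OO.2 ⟨mul_mem (mul_mem (mul_mem m m') (inv_mem m)) (inv_mem m'),
    C.X.ab g m g' m' p p', ?_⟩
  obtain ⟨i, hi⟩ := C.gen _ ((C.c.nP g p).2 x C.xR)
  obtain ⟨j, hj⟩ := C.gen _ ((C.c.nP g' p').2 x C.xR)
  obtain ⟨k, hk⟩ := C.gen _ ((C.c.nP _ ((PS G a b).inv_mem ((PS G a b).mul_mem p' p))).2 x C.xR)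
  simp only at hi hj hk
  have e1 : g * g' * x * (g * g')⁻¹ = g' * g * x * (g' * g)⁻¹ := by
    rw [cj_mul rfl hj.symm, cj_mul rfl hi.symm, ← conj_zpow, ← conj_zpow, ← hi, ← hj,
      ← _root_.zpow_mul, ← _root_.zpow_mul, mul_comm]
  calc _ = g * g' * ((g' * g)⁻¹ * x * (g' * g)⁻¹⁻¹) * (g * g')⁻¹ := by
        simp only [commutatorElement_def]; group
    _ = g' * g * ((g' * g)⁻¹ * x * (g' * g)⁻¹⁻¹) * (g' * g)⁻¹ := by
        rw [← hk, ← conj_zpow, ← conj_zpow, e1]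
    _ = x := by group

theorem wP {k : G} (hk : k ∈ OO U a b x) : ⁅w, k⁆ ∈ PP U a b := by
  obtain ⟨kN, kT, -⟩ := mem_OO.1 hk
  let S : Subgroup G :=
    { carrier := {l | l ∈ normalizer (PP U a b : Set G) ∧ ⁅l, k⁆ ∈ PP U a b}
      one_mem' := ⟨one_mem _, by simp⟩
      mul_mem' := fun {l l'} h h' => ⟨mul_mem h.1 h'.1, by
        have := mul_mem ((mem_normalizer_iff.1 h.1 _).1 h'.2) h.2
        convert this using 1
        simp only [commutatorElement_def]; group⟩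
      inv_mem' := fun {l} h => ⟨inv_mem h.1, by
        have := (mem_normalizer_iff.1 (inv_mem h.1) _).1 (inv_mem h.2)
        convert this using 1
        simp only [commutatorElement_def]; group⟩ }
  have : Lt (Ln U a b) (YY U a b) ≤ S := iSup₂_le fun c hc l hl => by
    have lN := C.c.ld.le c hc hl
    refine ⟨lN, (C.c.ker c hc _ ?_).1 (tr_comm C.c.ld lN kN fun z hz => by
      rw [kT z hz, kT _ (C.c.ld.inv l lN z hz)])⟩
    have := C.c.ld.cj k kN c hc _ (inv_mem hl)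
    rw [kT c hc] at this
    simpa only [commutatorElement_def, mul_assoc] using (U c).mul_mem hl.1 this.1
  exact (this wL).2

theorem pass2 (nG : ¬ Gl G Ω) : Hb G a b ≤ PP U a b := by
  have p1 := C.pass1 wL ww wa wf nG
  have wb : w • b = a := by rw [← wa, ← mul_smul, ww, one_smul]
  have PH : PP U a b ≤ Hb G a b := fun u hu => ⟨C.h.ld.fix a trivial u hu.1, hu.2⟩
  have hn : ((PP U a b).subgroupOf (Hb G a b)).Normal := ⟨fun u hu g =>
    (mem_normalizer_iff.1 (mem_OO.1 (p1 g.2)).1 _).1 hu⟩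
  let f := QuotientGroup.mk' ((PP U a b).subgroupOf (Hb G a b))
  let I : Subgroup G := ((commutator _).comap f).map (Hb G a b).subtype
  have IH : I ≤ Hb G a b := map_subtype_le _
  have PI : PP U a b ≤ I := fun u hu => ⟨⟨u, PH hu⟩, by
    have : f ⟨u, PH hu⟩ = 1 := (QuotientGroup.eq_one_iff _).2 hu
    refine mem_comap.2 ?_
    rw [this]; exact one_mem _, rfl⟩
  have c1 : ∀ g ∈ Hb G a b, ∀ g' ∈ Hb G a b, ⁅g, g'⁆ ∈ I := fun g hg g' hg' =>
    ⟨⁅(⟨g, hg⟩ : Hb G a b), (⟨g', hg'⟩ : Hb G a b)⁆, by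
      refine mem_comap.2 ?_
      rw [map_commutatorElement]
      exact commutator_mem_commutator (mem_top _) (mem_top _), rfl⟩
  have c2 : ∀ g ∈ Hb G a b, ⁅w, g⁆ ∈ I := fun g hg => PI (C.wP wL ww wa wf (p1 hg))
  have c3 : ∀ i ∈ I, w * i * w⁻¹ ∈ I := fun i hi => by
    simpa [commutatorElement_def] using mul_mem (c2 i (IH hi)) hi
  have c4 : ∀ g ∈ Hb G a b, ∀ g' ∈ Hb G a b, ⁅w * g, g'⁆ ∈ I := fun g hg g' hg' => by
    have := mul_mem (c3 _ (c1 g hg g' hg')) (c2 g' hg')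
    convert this using 1
    simp only [commutatorElement_def]; group
  have sp : ∀ g, Pr a b g → g ∈ Hb G a b ∨ ∃ g' ∈ Hb G a b, g = w * g' := fun g hg =>
    hg.imp mem_Hb.2 fun hh => ⟨w * g, mem_Hb.2 ⟨by rw [mul_smul, hh.1, wb],
      by rw [mul_smul, hh.2, wa]⟩, by rw [← mul_assoc, ww, one_mul]⟩
  have HI : Hb G a b ≤ I := C.hk wL ww wa wf nG (fun g g' p p' => by
    rcases sp g p with m | ⟨g, m, rfl⟩ <;> rcases sp g' p' with m' | ⟨g', m', rfl⟩
    · exact c1 g m g' m'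
    · rw [← commutatorElement_inv]
      exact inv_mem (c4 g' m' g m)
    · exact c4 g m g' m'
    · have := mul_mem (c3 _ (inv_mem (c4 g' m' g m))) (c3 _ (c2 g' m'))
      convert this using 1
      simp only [commutatorElement_def]; group) PI
  have ho : Odd (Nat.card (Hb G a b)) := by
    by_contra hh
    have : Fact (Nat.Prime 2) := ⟨Nat.prime_two⟩
    obtain ⟨g, hg⟩ := exists_prime_orderOf_dvd_card' (G := Hb G a b) 2
      (even_iff_two_dvd.1 (Nat.not_odd_iff_even.1 hh))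
    have := C.odd (p1 g.2)
    rw [Subgroup.orderOf_coe, hg] at this
    exact absurd this (by decide)
  have := Cfsg.Agent.S0205.result ho
  intro g hg
  by_contra hP
  have : Nontrivial (Hb G a b ⧸ (PP U a b).subgroupOf (Hb G a b)) :=
    ⟨⟨f ⟨g, hg⟩, 1, fun hh => hP ((QuotientGroup.eq_one_iff (⟨g, hg⟩ : Hb G a b)).1 hh)⟩⟩
  refine (Group.IsSolvable.commutator_lt_top_of_nontrivial
    (Hb G a b ⧸ (PP U a b).subgroupOf (Hb G a b))).ne (eq_top_iff.2 fun q _ => ?_)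
  obtain ⟨k, rfl⟩ := QuotientGroup.mk'_surjective _ q
  obtain ⟨k', h1, h2⟩ := HI k.2
  rwa [Subtype.ext h2] at h1

end Ct

end NRA

theorem nra (h : Cy U) (c : ∀ a b : Ω, a ≠ b → ∃ R N : Subgroup G, NRc U a b p R N) (hab : a ≠ b)
    (hA : AfA (normalizer (PP U a b : Set G)) (Ln U a b) (YY U a b) ∨
      (L2A (normalizer (PP U a b : Set G)) (Ln U a b) (YY U a b) ∧ (Ln U a b).ncard = 4)) :
    Gl G Ω := by
  obtain ⟨R, N, c⟩ := c a b hab
  have X : NRA.AX (normalizer (PP U a b : Set G)) (Ln U a b) (YY U a b) a b := by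
    rcases hA with hA | ⟨hA, h4⟩
    · obtain ⟨F, _, _, e, hF⟩ := hA a c.ha b c.hb hab
      exact NRA.af_ax hF c.ld c.ha c.hb
    · obtain ⟨F, _, _, e, hF⟩ := hA a c.ha b c.hb hab
      exact NRA.l2_ax hF c.ld c.ha c.hb hab h4
  obtain ⟨x, xR, x1, gen⟩ := NRA.ex_gen c X
  have C : NRA.Ct U a b p R N x := ⟨h, c, X, xR, x1, gen⟩
  obtain ⟨w, wL, ww, wa, wf⟩ := C.ex_w
  by_contra nG
  have p2 := C.pass2 wL ww wa wf nG
  have hs : stabilizer G a = U a := le_antisymm (fun g hg => by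
    obtain ⟨u, hu, ub⟩ := h.ld.tr a trivial b trivial (g • b) trivial hab.symm
      fun hh => hab (MulAction.injective g ((mem_stabilizer_iff.1 hg).trans hh.symm))
    have := (p2 (mem_Hb.2 ⟨show (u⁻¹ * g) • a = a by
      rw [mul_smul, mem_stabilizer_iff.1 hg, inv_smul_eq_iff, h.ld.fix a trivial u hu],
      by rw [mul_smul, ← ub, inv_smul_smul]⟩)).1
    simpa using (U a).mul_mem hu this) (h.ld.fix a trivial)
  have h2 := h.two
  have : Nontrivial Ω := ⟨⟨a, b, hab⟩⟩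
  have hp : IsPreprimitive G Ω := isPreprimitive_of_is_two_pretransitive h2
  have hc : IsCoatom (stabilizer G a) := IsPreprimitive.isCoatom_stabilizer_of_isPreprimitive G a
  have := Cfsg.Agent.S4040.result _ hc (hs ▸ h.ld.nil a trivial) (hs ▸ h.ld.odd a trivial)
  have hb := h.nosolv ⊤ inferInstance (inferInstanceAs (Group.IsSolvable _))
  have : w = 1 := mem_bot.1 (hb ▸ mem_top w)
  exact wf a (by rw [this, one_smul])

end H51.HK
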