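import Cfsg.Agent.Lib.PGroup.Extra
import Cfsg.Agent.Lib.Core.CoprimeNorm

/-! A `p`-group with a half-transitive group of automorphisms on a section (helper2, for HKS2 NRL) -/

set_option autoImplicit false

namespace H51.HK.NRL

open Subgroup
open scoped commutatorElement

variable {X D : Type*} [Group X] [Finite X] [Group D] [Finite D] {φ : D →* MulAut X}

omit [Finite X] [Finite D] in
theorem ap_inv (φ : D →* MulAut X) (d : D) (u : X) : φ d⁻¹ (φ d u) = u := by
  rw [← MulAut.mul_apply, ← map_mul, inv_mul_cancel, map_one, MulAut.one_apply]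

omit [Finite X] [Finite D] in
theorem ap_inv' (φ : D →* MulAut X) (d : D) (u : X) : φ d (φ d⁻¹ u) = u := by
  rw [← MulAut.mul_apply, ← map_mul, mul_inv_cancel, map_one, MulAut.one_apply]

theorem cnt {M B : Subgroup X} (l : M ≤ B) (hM : ∀ d, ∀ u ∈ M, φ d u ∈ M) (hB : ∀ d, ∀ u ∈ B, φ d u ∈ B)
    (sr : ∀ d ≠ 1, ∀ u, φ d u = u → u ∈ M) : Nat.card D ∣ Nat.card B - Nat.card M := by
  let _ : MulAction D ((B : Set X) \ M : Set X) :=
    { smul := fun d u => ⟨φ d u, hB d _ u.2.1, fun m => u.2.2 (ap_inv φ d u ▸ hM d⁻¹ _ m)⟩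
      one_smul := fun u => Subtype.ext (show φ 1 u = u by simp)
      mul_smul := fun d e u => Subtype.ext (show φ (d * e) u = φ d (φ e u) by simp) }
  have e := Nat.card_congr (MulAction.selfEquivOrbitsQuotientProd (G := D) (X := ((B : Set X) \ M : Set X))
    fun u => eq_bot_iff.2 fun d hd => by_contra fun n => u.2.2 (sr d n u (congrArg Subtype.val hd)))
  rw [Nat.card_prod, Nat.card_coe_set_eq, Set.ncard_diff l] at e
  exact ⟨_, e.trans (mul_comm _ _)⟩

theorem arith {p e t : ℕ} (hp : p.Prime) (h0 : 0 < e) (h1 : p ∣ 2 * e + 1) (h2 : p ∣ t) (h3 : e ∣ t - 1)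
    (h4 : t ≤ 2 * e + 1) (h5 : 0 < t) : t = 2 * e + 1 := by
  obtain ⟨m, hm⟩ := h3
  have n1 : ¬ p ∣ 1 := hp.not_dvd_one
  have : m ≤ 2 := Nat.le_of_mul_le_mul_left (by omega) h0
  interval_cases m
  · exact absurd ((show t = 1 by omega) ▸ h2) n1
  · exact absurd ((show 2 * t - (2 * e + 1) = 1 by omega) ▸ Nat.dvd_sub (h2.mul_left 2) h1) n1
  · omega

theorem pg {p : ℕ} [hp : Fact p.Prime] (hX : IsPGroup p X) {N M : Subgroup X} [N.Normal] (NM : N < M)
    (MT : M ≠ ⊤) (c : ∀ d, ∀ m ∈ M, φ d m * m⁻¹ ∈ N) (sr : ∀ d ≠ 1, ∀ u, φ d u = u → u ∈ M)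
    (h1 : p ∣ 2 * Nat.card D + 1) (h4 : (2 * Nat.card D + 1) % 4 = 3) (hi : M.index ≤ 2 * Nat.card D + 1)
    (gen : ∀ B : Subgroup X, (∀ d u, u⁻¹ * φ d u ∈ B) → B = ⊤) : False := by
  have iv : ∀ K, N ≤ K → K ≤ M → ∀ d, ∀ u ∈ K, φ d u ∈ K := fun K l1 l2 d u hu => by
    simpa using K.mul_mem (l1 (c d u (l2 hu))) hu
  have hM := iv M NM.le le_rfl
  have cp : (Nat.card D).Coprime p := ((Nat.Prime.coprime_iff_not_dvd hp.out).2 fun d =>
    hp.out.not_dvd_one ((Nat.dvd_add_right (d.mul_left 2)).1 h1)).symm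
  have mx : ∀ B, M < B → (∀ d, ∀ u ∈ B, φ d u ∈ B) → B = ⊤ ∧ M.index = 2 * Nat.card D + 1 := fun B l hB => by
    have e := H1.card_mul_relIndex_of_le l.le
    have d := cnt l.le hM hB sr
    rw [← e, ← Nat.mul_sub_one] at d
    obtain ⟨k, hk⟩ := IsPGroup.iff_card.1 (hX.to_subgroup M)
    obtain ⟨j, hj⟩ := IsPGroup.iff_card.1 (hX.to_subgroup B)
    have i := relIndex_mul_index l.le
    have i0 : M.index ≠ 0 := index_ne_zero_of_finite
    have pd : p ∣ M.relIndex B := by
      obtain ⟨n, -, hn⟩ := (Nat.dvd_prime_pow hp.out).1 (show M.relIndex B ∣ p ^ j from hj ▸ e ▸ dvd_mul_left _ _)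
      rw [hn]
      exact dvd_pow_self p (by
        rintro rfl
        exact l.not_ge (relIndex_eq_one.1 hn))
    have t := arith hp.out Nat.card_pos h1 pd
      ((hk ▸ cp.pow_right k).dvd_of_dvd_mul_left d)
      ((Nat.le_of_dvd (Nat.pos_of_ne_zero i0) ⟨_, i.symm⟩).trans hi) (Nat.pos_of_ne_zero fun z => i0 (by
        rw [← i, z, zero_mul]))
    rw [t] at i
    have : B.index = 1 := le_antisymm (Nat.le_of_mul_le_mul_left (by rwa [i, mul_one]) (Nat.succ_pos (2 * Nat.card D)))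
      (Nat.pos_of_ne_zero index_ne_zero_of_finite)
    exact ⟨index_eq_one.1 this, by rw [← i, this, mul_one]⟩
  have nM : M.Normal := by
    obtain ⟨x, x1, -, x2⟩ := H5.exists_mem_normalizer_not_mem hX MT
    refine normalizer_eq_top_iff.1 (mx _ (lt_of_le_not_ge le_normalizer fun l => x1 (l x2)) fun d u hu => ?_).1
    refine mem_normalizer_fintype fun m hm => ?_
    have := hM d _ ((mem_normalizer_iff.1 hu _).1 (hM d⁻¹ m hm))
    rwa [map_mul, map_mul, ap_inv', map_inv] at this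
  have cz : ∀ (K : Subgroup X) [K.Normal] (hK : ∀ d, ∀ u ∈ K, φ d u ∈ K) (d : D),
      ∀ u ∈ (center (X ⧸ K)).comap (QuotientGroup.mk' K), φ d u ∈ (center (X ⧸ K)).comap (QuotientGroup.mk' K) :=
    fun K _ hK d u hu => mem_center_iff.2 fun g => by
      obtain ⟨g, rfl⟩ := (H2.quotAut φ K hK d).surjective g
      exact (map_mul _ g _).symm.trans ((congrArg _ (mem_center_iff.1 hu g)).trans (map_mul _ _ g))
  have mz : ∀ (K : Subgroup X) [K.Normal] (u : X),
      u ∈ (center (X ⧸ K)).comap (QuotientGroup.mk' K) ↔ ∀ g, ⁅u, g⁆ ∈ K := fun K _ u => by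
    rw [mem_comap, mem_center_iff, QuotientGroup.mk'_surjective K |>.forall]
    refine forall_congr' fun g => ?_
    rw [← QuotientGroup.eq_one_iff, ← QuotientGroup.mk'_apply, map_commutatorElement,
      commutatorElement_eq_one_iff_mul_comm, eq_comm]
  have ab : ∀ u g, ⁅u, g⁆ ∈ M := fun u => by
    obtain ⟨x, -, x1, -, x2⟩ := H5.exists_step hX M ⊤ fun l => MT (top_le_iff.1 l)
    refine (mz M u).1 ((mx _ (lt_of_le_not_ge (fun m hm => (mz M m).2 fun g => ?_) fun l => x1 (l ((mz M x).2 x2)))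
      (cz M hM)).1.symm ▸ mem_top u)
    simpa [commutatorElement_def, mul_assoc] using M.mul_mem hm (nM.conj_mem _ (inv_mem hm) g)
  obtain ⟨K, nK, l1, l2, cK, zK⟩ := H5.exists_normal_cocover hX NM
  have hK := iv K l1 l2
  have MZ : M ≤ (center (X ⧸ K)).comap (QuotientGroup.mk' K) := fun m hm => (mz K m).2 fun g =>
    zK (commutator_mem_commutator hm (mem_top g))
  have cM : Nat.card (M.map (QuotientGroup.mk' K)) = p := by
    have := H1.card_map_mk'_mul K M
    rw [inf_eq_left.2 l2, cK, mul_comm] at this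
    exact Nat.eq_of_mul_eq_mul_left Nat.card_pos this
  rcases MZ.eq_or_lt with e | e
  · have := isCyclic_of_prime_card cM
    obtain ⟨z, hz⟩ := (Subgroup.isCyclic_iff_exists_zpowers_eq_top _).1 this
    obtain ⟨n, hn⟩ := H5.WES.exists_card hp.out (z := z) ⊤ ⟨by rw [← Nat.card_zpowers, hz, cM], by
      rw [hz, e, map_comap_eq_self_of_surjective (QuotientGroup.mk'_surjective K), top_inf_eq, coe_top,
        centralizer_univ], fun x _ y _ => by
      obtain ⟨x, rfl⟩ := QuotientGroup.mk'_surjective K x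
      obtain ⟨y, rfl⟩ := QuotientGroup.mk'_surjective K y
      exact hz ▸ ⟨_, ab x y, map_commutatorElement _ _ _⟩⟩
    have i := (M.map (QuotientGroup.mk' K)).card_mul_index
    rw [cM, index_map_eq M (QuotientGroup.mk'_surjective K) (by rwa [QuotientGroup.ker_mk']), ← card_top, hn, pow_succ',
      (mx ⊤ MT.lt_top fun _ _ _ => mem_top _).2] at i
    rw [Nat.eq_of_mul_eq_mul_left hp.out.pos i, mul_comm, pow_mul, pow_two, Nat.mul_mod] at h4
    have := Nat.mod_lt (p ^ n) (show 0 < 4 by norm_num)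
    generalize p ^ n % 4 = r at h4 this
    interval_cases r <;> simp at h4
  · have t := (mx _ e (cz K hK)).1
    let _ : CommGroup (X ⧸ K) := { (inferInstance : Group (X ⧸ K)) with
      mul_comm := fun x y => by
        obtain ⟨y, rfl⟩ := QuotientGroup.mk'_surjective K y
        exact mem_center_iff.1 (t.symm ▸ mem_top y : y ∈ (center (X ⧸ K)).comap (QuotientGroup.mk' K)) x }
    have := Fintype.ofFinite D
    have g := gen ((H2.normHom (H2.quotAut φ K hK)).comp (QuotientGroup.mk' K)).ker fun d u => by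
      rw [MonoidHom.mem_ker, map_mul, map_inv, inv_mul_eq_one]
      exact (H2.normHom_apply_apply (H2.quotAut φ K hK) d _).symm
    have : M ≤ K := fun m hm => by
      have e1 : H2.normHom (H2.quotAut φ K hK) (m : X ⧸ K) = 1 :=
        MonoidHom.mem_ker.1 (g.symm ▸ mem_top m : m ∈ ((H2.normHom (H2.quotAut φ K hK)).comp (QuotientGroup.mk' K)).ker)
      rw [H2.normHom_of_fixed _ fun d => by
        rw [H2.quotAut_mk, ← mul_inv_eq_one, ← QuotientGroup.mk_inv, ← QuotientGroup.mk_mul, QuotientGroup.eq_one_iff]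
        exact l1 (c d m hm)] at e1
      obtain ⟨k, hk⟩ := hX.to_quotient K m
      rw [← QuotientGroup.eq_one_iff, ← pow_one (m : X ⧸ K), ← cp.pow_right k, pow_gcd_eq_one]
      exact ⟨e1, hk⟩
    rw [le_antisymm this l2] at cK
    exact hp.out.one_lt.ne (Nat.eq_of_mul_eq_mul_left Nat.card_pos ((mul_one _).trans cK))

end H51.HK.NRL
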