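import Cfsg.Agent.Lib.HK.LQ
import Cfsg.Agent.Lib.HK.KPI
import Cfsg.Agent.Lib.HK.NRLa
import Cfsg.Agent.Lib.Core.Coprime

/-! The non-regular case: lines of type `L₂` and `U₃` (helper2) -/

set_option autoImplicit false

namespace H51.HK

open MulAction Subgroup Matrix H69
open scoped MatrixGroups Classical commutatorElement

variable {G Ω : Type*} [Group G] [MulAction G Ω] [Finite G] [Finite Ω]

namespace NRL

variable {N : Subgroup G} {Δ : Set Ω} {Y V : Ω → Subgroup G}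

/-- a normal transitive subgroup of a root group defines a family of root groups -/
theorem fam (h : LD N Δ Y) (h3 : 3 ≤ Δ.ncard) {a : Ω} (ha : a ∈ Δ) {A : Subgroup G} (hA : A ≤ Y a)
    (hn : ∀ g ∈ N, g • a = a → ∀ u ∈ A, g * u * g⁻¹ ∈ A)
    (ht : ∀ x ∈ Δ, ∀ y ∈ Δ, x ≠ a → y ≠ a → ∃ u ∈ A, u • x = y) :
    ∃ V : Ω → Subgroup G, LD N Δ V ∧ V a = A ∧ ∀ c ∈ Δ, V c ≤ Y c := by
  let V : Ω → Subgroup G := fun c =>
    { carrier := {v | ∀ g ∈ N, g • c = a → g * v * g⁻¹ ∈ A}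
      one_mem' := fun g _ _ => by simp
      mul_mem' := fun p q g hg e => by rw [← conj_mul]; exact A.mul_mem (p g hg e) (q g hg e)
      inv_mem' := fun p g hg e => by rw [← conj_inv]; exact A.inv_mem (p g hg e) }
  have tr : ∀ c ∈ Δ, ∃ g ∈ N, g • c = a := fun c hc =>
    (h.trans h3 hc ha).imp fun g hg => ⟨h.Lt_le hg.1, hg.2⟩
  have l : ∀ c ∈ Δ, V c ≤ Y c := fun c hc v hv => by
    obtain ⟨g, hg, e⟩ := tr c hc
    exact (h.cj_iff hg hc).1 (e.symm ▸ hA (hv g hg e))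
  refine ⟨V, ⟨h.inv, fun c hc => (l c hc).trans (h.le c hc), fun c hc u hu => h.fix c hc u (l c hc hu),
    fun g hg c _ u hu k hk e => ?_, fun c hc x hx y hy xc yc => ?_, fun c hc => ?_, fun c hc =>
      (h.odd c hc).of_dvd_nat (card_dvd_of_le (l c hc))⟩,
    le_antisymm (fun v hv => by simpa using hv 1 (one_mem N) (one_smul G a)) fun v hv g hg e => hn g hg e v hv, l⟩
  · simpa [mul_assoc] using hu (k * g) (N.mul_mem hk hg) (by rw [mul_smul, e])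
  · obtain ⟨g, hg, e⟩ := tr c hc
    obtain ⟨u, hu, f⟩ := ht _ (h.inv g hg x hx) _ (h.inv g hg y hy) (e ▸ fun r => xc (smul_left_cancel g r))
      (e ▸ fun r => yc (smul_left_cancel g r))
    refine ⟨g⁻¹ * u * g, fun k hk r => ?_, by rw [mul_smul, mul_smul, f, inv_smul_smul]⟩
    simpa [mul_assoc] using hn (k * g⁻¹) (N.mul_mem hk (inv_mem hg)) (by rw [mul_smul, ← e, inv_smul_smul, r, e]) u hu
  · have := h.nil c hc
    exact nilpotent_of_mulEquiv (subgroupOfEquivOfLe (l c hc))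

theorem exists_ne (h3 : 3 ≤ Δ.ncard) (c : Ω) : ∃ d ∈ Δ, d ≠ c :=
  Set.exists_ne_of_one_lt_ncard (by omega) c

theorem l2a_sub (hd : LD N Δ Y) (hv : LD N Δ V) (l : ∀ c ∈ Δ, V c ≤ Y c) (h3 : 3 ≤ Δ.ncard) (h : L2A N Δ Y) :
    L2A N Δ V := by
  let S : Subgroup G :=
    { carrier := {g | g ∈ N ∧ ∃ k ∈ Lt Δ V, ∀ x ∈ Δ, k • x = g • x}
      one_mem' := ⟨one_mem N, 1, one_mem _, fun _ _ => rfl⟩
      mul_mem' := fun {g g'} ⟨p, k, hk, e⟩ ⟨p', k', hk', e'⟩ => ⟨N.mul_mem p p', k * k', mul_mem hk hk', fun x hx => by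
        rw [mul_smul, mul_smul, e' x hx, e _ (hd.inv g' p' x hx)]⟩
      inv_mem' := fun {g} ⟨p, k, hk, e⟩ => ⟨N.inv_mem p, k⁻¹, inv_mem hk, fun x hx => by
        rw [inv_smul_eq_iff, e _ (hd.inv _ (inv_mem p) x hx), smul_inv_smul]⟩ }
  have k : Lt Δ Y ≤ S := Lt_le_iff.2 fun c hc u hu => by
    obtain ⟨d, hd', dc⟩ := exists_ne h3 c
    obtain ⟨F, _, _, e, q⟩ := h c hc d hd' dc.symm
    obtain ⟨v, hv', f⟩ := hv.tr c hc d hd' _ (hd.inv u (hd.le c hc hu) d hd') dc fun r =>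
      dc (smul_left_cancel u (r.trans (hd.fix c hc u hu).symm))
    obtain ⟨s, hs⟩ := q.Vt _ ((Y c).mul_mem (inv_mem (l c hc hv')) hu)
    have := hs d hd'
    rw [mul_smul, ← f, inv_smul_smul, q.eb, OnePoint.map_some, OnePoint.smul_some_eq_ite] at this
    obtain rfl : s = 0 := by
      rw [SpecialLinearGroup.coe_GL_coe_matrix] at this
      simpa [up, eq_comm] using this
    rw [show up (0 : F) = 1 from Subtype.ext (by simp [up, one_fin_two]), map_one,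
      ← q.tr_iff hd (hd.le c hc ((Y c).mul_mem (inv_mem (l c hc hv')) hu))] at hs
    exact ⟨hd.le c hc hu, v, le_Lt hc hv', fun x hx => (inv_smul_eq_iff.1 ((mul_smul _ _ _).symm.trans (hs x hx))).symm⟩
  intro a ha b hb ab
  obtain ⟨F, _, _, e, q⟩ := h a ha b hb ab
  refine ⟨F, inferInstance, inferInstance, e, q.odd, q.bij, q.ea, q.eb, fun u hu => q.Vt u (l a ha hu),
    fun g hg => q.Lsl g (Lt_le_iff.2 (fun c hc => (l c hc).trans (le_Lt hc)) hg), fun B => ?_, q.Ngl⟩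
  obtain ⟨g, hg, r⟩ := q.slL B
  obtain ⟨-, k, hk, f⟩ := k hg
  exact ⟨k, hk, fun x hx => f x hx ▸ r x hx⟩

end NRL

variable {U : Ω → Subgroup G}

variable {a b : Ω} {p : ℕ} {R N : Subgroup G}

namespace NRc

variable (c : NRc U a b p R N)
include c

theorem exR : ∃ x ∈ R, x ≠ 1 := (ne_bot_iff_exists_ne_one.1 c.Rne).elim fun x hx => ⟨x, x.2, by simpa using hx⟩

theorem LR {l x : G} (hl : l ∈ Lt (Ln U a b) (YY U a b)) (hx : x ∈ R) : l * x = x * l := by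
  by_cases x1 : x = 1
  · simp [x1]
  exact mem_centralizer_singleton_iff.1 (Lt_le_iff.2 (fun d hd => c.cY x hx x1 d hd ▸ inf_le_right) hl)

theorem mv' {j x : G} (jH : j ∈ Hb G a b) (hj : Inv j) (hx : x ∈ R) (x1 : x ≠ 1) (e : j * x = x * j) :
    ∃ v ∈ YY U a b a, (∀ y ∈ YY U a b a, v * y = y * v) ∧ j • v • b ≠ v • b := by
  obtain ⟨v, hv, z, n⟩ := c.mv j jH hj x hx x1 e
  obtain ⟨ja, jb⟩ := mem_Hb.1 jH
  refine ⟨v, hv.2, z, fun f => n ?_⟩
  have := c.Nsr _ (N.mul_mem (inv_mem hv.1) (c.Nn j ja v hv.1)) b c.ne.symm (by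
    rw [mul_smul, mul_smul, mul_smul, inv_smul_eq_iff.2 jb.symm, f, inv_smul_smul])
  rwa [inv_mul_eq_one, eq_mul_inv_iff_mul_eq, eq_comm] at this

theorem oddK : OddK (Ln U a b) (YY U a b) := fun g hg t => by
  by_contra o
  obtain ⟨m, hm⟩ := Nat.not_odd_iff_even.1 o
  obtain ⟨x, hx, x1⟩ := c.exR
  have t' := t.pow m
  have := orderOf_pos g
  obtain ⟨v, hv, -, n⟩ := c.mv' (mem_Hb.2 ⟨t' a c.ha, t' b c.hb⟩) ⟨by rw [← pow_add, ← hm, pow_orderOf_eq_one],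
    pow_ne_one_of_lt_orderOf (by omega) (by omega)⟩ hx x1 (c.LR (pow_mem hg m) hx)
  exact n (t' _ (c.ld.inv v hv.2 b c.hb))

theorem idx : (YY U a b a).relIndex (U a) ≤ Nat.card N := by
  obtain ⟨x, hx, x1⟩ := c.exR
  refine Nat.card_le_card_of_injective (fun q => (⟨⁅(q.out : G), x⁆, c.Nc x hx _ q.out.2⟩ : N)) fun q r e => ?_
  have e' : ⁅(q.out : G), x⁆ = ⁅(r.out : G), x⁆ := congrArg Subtype.val e
  rw [← q.out_eq', ← r.out_eq', QuotientGroup.eq, mem_subgroupOf]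
  refine (c.cY x hx x1 a c.ha).le (mem_UY1.2 ⟨SetLike.coe_mem _, ?_⟩)
  rw [coe_mul, coe_inv]
  calc (q.out : G)⁻¹ * r.out * x = (q.out : G)⁻¹ * ⁅(r.out : G), x⁆ * x * r.out := by group
    _ = _ := by rw [← e']; group

theorem cardN (l : N ≤ YY U a b a) : Nat.card N < (Ln U a b).ncard := by
  refine lt_of_le_of_lt (b := (Ln U a b \ {a}).ncard) (Set.ncard_le_ncard_of_injOn (s := (N : Set G)) (t := Ln U a b \ {a}) (fun v => v • b) (fun v hv => ?_) fun v hv w hw e => ?_)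
    (Set.ncard_diff_singleton_lt_of_mem c.ha)
  · exact ⟨c.ld.inv v (l hv).2 b c.hb, fun r =>
      c.ne.symm (smul_left_cancel v (r.trans (c.ld.fix a c.ha v (l hv)).symm))⟩
  · exact inv_mul_eq_one.1 (c.Nsr _ (N.mul_mem (inv_mem hv) hw) b c.ne.symm
      (by rw [mul_smul, inv_smul_eq_iff]; exact e.symm))

omit c in
theorem ZY {z : G} (hz : z ∈ U a) (e : ∀ u ∈ U a, u * z = z * u) : z ∈ YY U a b a :=
  ⟨hz, cent_le_norm _ fun y hy => e y hy.1⟩

theorem sub (h : Cy U) {A : Subgroup G} (hA : A ≤ U a) (hne : A ≠ U a)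
    (hn : ∀ g : G, g • a = a → ∀ u ∈ A, g * u * g⁻¹ ∈ A) (ht : ∀ u ∈ U a, ∃ w ∈ A, w • b = u • b) : Gl G Ω :=
  h.sub hA hne hn fun x y xa ya => by
    obtain ⟨u, hu, rfl⟩ := h.toCb.tr c.ne.symm xa
    obtain ⟨v, hv, rfl⟩ := h.toCb.tr c.ne.symm ya
    obtain ⟨w, hw, e⟩ := ht u hu
    obtain ⟨w', hw', e'⟩ := ht v hv
    exact ⟨w' * w⁻¹, A.mul_mem hw' (inv_mem hw), by rw [mul_smul, ← e, inv_smul_smul, e']⟩

theorem fixb (h : Cy U) {j u : G} (jH : j ∈ Hb G a b) (h2 : Fx Ω {j} ⊆ {a, b}) (hu : u ∈ U a)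
    (e : j * u = u * j) : u • b = b :=
  (h2 (mem_Fx1.2 (by rw [← mul_smul, e, mul_smul, (mem_Hb.1 jH).2]))).resolve_left fun f =>
    c.ne.symm (smul_left_cancel u (f.trans (h.toCb.fix hu).symm))

end NRc

theorem nrj (h : Cy U) (c : NRc U a b p R N) {j : G} (hj : Inv j) (jH : j ∈ Hb G a b)
    (h2 : Fx Ω {j} ⊆ {a, b}) : Gl G Ω := by
  have ja := (mem_Hb.1 jH).1
  have inv : ∀ v ∈ N, j * v * j⁻¹ = v⁻¹ := fun v hv => by
    let f : N →* N := ((MulAut.conj j).toMonoidHom.comp N.subtype).codRestrict N fun w => c.Nn j ja w w.2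
    exact congrArg Subtype.val (congrFun (MonoidHom.FixedPointFree.coe_eq_inv_of_involutive (φ := f)
      (fun w e => Subtype.ext (c.Nsr _ w.2 b c.ne.symm (c.fixb h jH h2 (c.NU w.2)
        (conj_eq_iff.1 (congrArg Subtype.val e))))) fun w => Subtype.ext (by
          show j * (j * w * j⁻¹) * j⁻¹ = w
          calc _ = j * j * w * (j * j)⁻¹ := by group
            _ = _ := by rw [hj.1]; group)) ⟨v, hv⟩)
  have zp : ∀ g ∈ zpowers j, g = 1 ∨ g = j := by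
    rintro _ ⟨n, rfl⟩
    have t2 : j ^ (2 : ℤ) = 1 := by rw [zpow_two, hj.1]
    rcases Int.even_or_odd' n with ⟨m, rfl | rfl⟩ <;> simp [_root_.zpow_add, _root_.zpow_mul, t2]
  refine c.sub h (A := U a ⊓ centralizer N) inf_le_left (fun e => ?_) (fun g hg u hu =>
    ⟨h.ld.cj g trivial a trivial u hu.1 |> (hg ▸ ·), fun v hv => ?_⟩) fun u hu => ?_
  · exact (c.fisher.trans c.idx).not_gt (c.cardN fun v hv => NRc.ZY (c.NU hv) fun u hu =>
      ((e.symm ▸ hu : u ∈ U a ⊓ centralizer N).2 v hv).symm)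
  · have := hu.2 _ (c.Nn g⁻¹ (inv_smul_eq_iff.2 hg.symm) v hv)
    calc v * (g * u * g⁻¹) = g * (g⁻¹ * v * g⁻¹⁻¹ * u) * g⁻¹ := by group
      _ = _ := by rw [this]; group
  · have nj : zpowers j ≤ normalizer (U a : Set G) := zpowers_le.2 (h.toCb.norm ja)
    obtain ⟨n, hn, k, hk, rfl⟩ := H2.exists_commutator_mul_centralizer nj (by
      rw [Nat.card_zpowers, orderOf_eq_prime ((pow_two j).trans hj.1) hj.2]
      exact (h.toCb.odd a).coprime_two_left) (.inl (H2.isSolvable_zpowers j)) hu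
    refine ⟨n, ⟨H2.commutator_le_of_le_normalizer nj hn, (commutator_le.2 fun w hw g hg v hv => ?_ :
      ⁅U a, zpowers j⁆ ≤ centralizer N) hn⟩, by rw [mul_smul, c.fixb h jH h2 hk.1 (hk.2 j (mem_zpowers j))]⟩
    rcases zp g hg with rfl | rfl
    · simp
    have e1 := inv _ (c.Nn w⁻¹ (h.toCb.fix (inv_mem hw)) _ (inv_mem hv))
    calc v * ⁅w, g⁆ = w * (w⁻¹ * v⁻¹ * w⁻¹⁻¹)⁻¹ * w⁻¹ * ⁅w, g⁆ := by group
      _ = ⁅w, g⁆ * (g * v⁻¹ * g⁻¹) := by rw [← e1]; group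
      _ = _ := by rw [inv _ (inv_mem hv), inv_inv]

theorem nru (h : Cy U) (c : NRc U a b p R N) (hU : U3A (Ln U a b) (YY U a b)) : False := by
  obtain ⟨r, q, hU⟩ := hU
  obtain ⟨j, hj⟩ := hU.ex a c.ha b c.hb c.ne
  obtain ⟨m, -, hi, t⟩ := c.oddK.lift hj.1 hj.2.2.2.1 hj.2.2.2.2
  have e : ∀ y ∈ Ln U a b, j ^ m • y = j • y := fun y hy => inv_smul_eq_iff.1 ((mul_smul _ _ _).symm.trans (t y hy))
  obtain ⟨x, hx, x1⟩ := c.exR
  obtain ⟨v, hv, z, n⟩ := c.mv' (mem_Hb.2 ⟨(e a c.ha).trans hj.2.1, (e b c.hb).trans hj.2.2.1⟩) hi hx x1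
    (c.LR (pow_mem hj.1 m) hx)
  have vb := c.ld.inv v hv.2 b c.hb
  exact n ((e _ vb).trans ((hU.fx a c.ha b c.hb c.ne j hj _ vb).2 (.inr ⟨v, ⟨hv, fun u hu => by
    rw [commutatorElement_eq_one_iff_mul_comm.2 (z u hu)]; exact Tr.one⟩, rfl⟩)))

theorem NRc.pgrp (h : Cy U) (c : NRc U a b p R N) {F : Type} [Field F] [Fintype F] {e : Ω → OnePoint F}
    (q : L2P (normalizer (PP U a b : Set G)) (Ln U a b) (YY U a b) a b F e) : IsPGroup (ringChar F) (U a) := by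
  have hr : (ringChar F).Prime := CharP.char_is_prime F _
  have := Fact.mk hr
  have := h.toCb.nil a
  refine IsPGroup.iff_card.2 ⟨_, Nat.eq_prime_pow_of_unique_prime_dvd Nat.card_pos.ne' fun {s} hs d => ?_⟩
  have := Fact.mk hs
  obtain ⟨S⟩ : Nonempty (Sylow s (U a)) := inferInstance
  obtain ⟨⟨z, z1, z2⟩, n⟩ := ne_bot_iff_exists_ne_one.1
    (H5.inf_center_ne_bot_of_nilpotent (S : Subgroup (U a)) (S.ne_bot_of_dvd_card d))
  have zc : ∀ u ∈ U a, u * z = z * u := fun u hu => congrArg Subtype.val (mem_center_iff.1 z2 ⟨u, hu⟩)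
  have zY := NRc.ZY (b := b) z.2 zc
  have e1 : z ^ ringChar F = 1 := Subtype.ext (c.Zsr _ (pow_mem z.2 _) (fun u hu =>
    (Commute.pow_right (zc u hu) _).symm) b c.ne.symm ((q.V_comm c.ld c.ha zY zY).2 b c.hb))
  obtain ⟨k, hk⟩ := S.2 ⟨z, z1⟩
  by_contra ne
  refine n (Subtype.ext ?_)
  show z = 1
  rw [← pow_one z, ← ((Nat.coprime_primes hs hr).2 ne).pow_left k, pow_gcd_eq_one]
  exact ⟨congrArg Subtype.val hk, e1⟩

/-- the end of the argument: a group `D` of order `(q - 1) / 2` with `C_U(d) = P` -/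
theorem NRc.fin (h : Cy U) (c : NRc U a b p R N) {r : ℕ} [hr : Fact r.Prime] (hU : IsPGroup r (U a))
    {D : Subgroup G} (DH : D ≤ Hb G a b) (nD : Hb G a b ≤ normalizer (D : Set G))
    (DP : ∀ d ∈ D, ∀ y ∈ PP U a b, y * d = d * y) (sr : ∀ d ∈ D, d ≠ 1 → Fx Ω {d} ⊆ {a, b}) (D1 : D ≠ ⊥)
    (cp : (Nat.card D).Coprime (Nat.card (U a))) (h1 : r ∣ 2 * Nat.card D + 1)
    (h4 : (2 * Nat.card D + 1) % 4 = 3) (hq : (Ln U a b).ncard = 2 * Nat.card D + 1 + 1) : Gl G Ω := by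
  have HU : Hb G a b ≤ normalizer (U a : Set G) := fun g hg => h.toCb.norm hg.1
  have DU := DH.trans HU
  have UN : U a ≤ normalizer (N : Set G) := fun u hu => mem_normalizer_fintype (c.Nn u (h.toCb.fix hu))
  have PN : PP U a b ≤ normalizer (N : Set G) := inf_le_left.trans UN
  obtain ⟨x, hx, x1⟩ := c.exR
  have xN : x ∉ N := fun m => x1 (c.Nsr x m b c.ne.symm (c.RP hx).2)
  by_cases e1 : ⁅U a, D⁆ = U a
  swap
  · refine c.sub h (H2.commutator_le_of_le_normalizer DU) e1 (fun g hg => ?_) fun u hu => ?_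
    · obtain ⟨u, hu, f⟩ := h.toCb.tr c.ne.symm (show g • b ≠ a from fun r => c.ne (smul_left_cancel g (hg.trans r.symm)))
      have := mul_mem (normalizer_commutator_ge_left _ D hu) (H2.le_normalizer_commutator HU nD
        (mem_Hb.2 ⟨by rw [mul_smul, hg, h.toCb.fix (inv_mem hu)], by rw [mul_smul, ← f, inv_smul_smul]⟩ :
          u⁻¹ * g ∈ Hb G a b))
      rw [mul_inv_cancel_left] at this
      exact fun v => (mem_normalizer_iff.1 this v).1
    · have := h.toCb.nil a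
      obtain ⟨n, hn, k, hk, rfl⟩ := H2.exists_commutator_mul_centralizer DU cp (.inr inferInstance) hu
      obtain ⟨d, d1⟩ := ne_bot_iff_exists_ne_one.1 D1
      exact ⟨n, hn, by rw [mul_smul, c.fixb h (DH d.2) (sr d d.2 (by simpa using d1)) hk.1 (hk.2 d d.2)]⟩
  by_cases e2 : U a ≤ N ⊔ PP U a b
  · refine c.sub h c.NU (fun e => xN (e.symm ▸ (c.RP hx).1)) c.Nn fun u hu => ?_
    obtain ⟨n, hn, y, hy, rfl⟩ := (H2.mem_sup_iff_of_le_normalizer PN).1 (e2 hu)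
    exact ⟨n, hn, by rw [mul_smul, show y • b = b from hy.2]⟩
  exfalso
  have := normal_subgroupOf_of_le_normalizer UN
  refine NRL.pg (φ := H2.conjAut DU) hU (N := N.subgroupOf (U a)) (M := (N ⊔ PP U a b).subgroupOf (U a))
    (lt_of_le_not_ge (comap_mono le_sup_left) fun l => xN (l (x := ⟨x, (c.RP hx).1⟩) (mem_sup_right (c.RP hx))))
    (fun e => e2 (subgroupOf_eq_top.1 e)) (fun d m hm => ?_) (fun d d1 u e => mem_sup_right (S := N) ⟨u.2, ?_⟩) h1 h4 ?_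
    fun B hB => eq_top_iff.2 fun u _ => ?_
  · obtain ⟨n, hn, y, hy, e⟩ := (H2.mem_sup_iff_of_le_normalizer PN).1 hm
    show (d : G) * m * (d : G)⁻¹ * (m : G)⁻¹ ∈ N
    rw [← show n * y = m from e, show (d : G) * (n * y) * (d : G)⁻¹ * (n * y)⁻¹ =
      d * n * (d : G)⁻¹ * (d * y * (y * d)⁻¹ * (y * d * (d * y)⁻¹ * (y * d * (d * y)⁻¹)⁻¹)) * n⁻¹ by group, DP d d.2 y hy]
    simpa using N.mul_mem (c.Nn d (DH d.2).1 n hn) (inv_mem hn)
  · exact c.fixb h (DH d.2) (sr d d.2 (by simpa using d1)) u.2 (conj_eq_iff.1 (congrArg Subtype.val e))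
  · have i1 := H1.card_mul_relIndex_of_le (sup_le c.NU inf_le_left : N ⊔ PP U a b ≤ U a)
    have i2 := H1.card_mul_relIndex_of_le (inf_le_left : YY U a b a ≤ U a)
    have i3 := c.ld.card_V c.ha c.hb c.ne
    have i4 : Nat.card ↥(YY U a b a ⊓ stabilizer G b) ≤ Nat.card (PP U a b) :=
      card_le_of_le fun y hy => ⟨hy.1.1, hy.2⟩
    rw [H2.card_sup_of_le_normalizer PN (eq_bot_iff.2 fun y hy => c.Nsr y hy.2 b c.ne.symm hy.1.2)] at i1
    rw [hq, Nat.add_sub_cancel] at i3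
    refine Nat.le_of_mul_le_mul_left (i1.le.trans (i2.ge.trans ?_)) (Nat.mul_pos Nat.card_pos Nat.card_pos)
    calc _ ≤ (2 * Nat.card D + 1) * Nat.card (PP U a b) * Nat.card N :=
          Nat.mul_le_mul (i3.le.trans (Nat.mul_le_mul_left _ i4)) c.idx
      _ = _ := by ring
  · obtain ⟨v, hv, f⟩ : (u : G) ∈ B.map (U a).subtype := (commutator_le.2 fun w hw d hd =>
      ⟨_, hB ⟨d, hd⟩ ⟨w, hw⟩⁻¹, by simp [H2.coe_conjAut_apply, commutatorElement_def, mul_assoc]⟩ :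
        ⁅U a, D⁆ ≤ B.map (U a).subtype) (e1.symm ▸ u.2)
    exact (Subtype.ext f : v = u) ▸ hv

theorem nrl (h : Cy U) (c : NRc U a b p R N)
    (hL : L2A (normalizer (PP U a b : Set G)) (Ln U a b) (YY U a b))
    (h4 : (Ln U a b).ncard ≠ 4) : Gl G Ω := by
  obtain ⟨F', _, _, e', q'⟩ := hL a c.ha b c.hb c.ne
  have hU := c.pgrp h q'
  obtain ⟨x, hx, x1⟩ := c.exR
  have nA : ∀ g ∈ normalizer (PP U a b : Set G), g • a = a → ∀ u ∈ N ⊓ YY U a b a, g * u * g⁻¹ ∈ N ⊓ YY U a b a :=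
    fun g hg e u hu => ⟨c.Nn g e u hu.1, by simpa [e] using c.ld.cj g hg a c.ha u hu.2⟩
  have ex : ∃ u ∈ N ⊓ YY U a b a, ¬ Tr (Ln U a b) u := by
    have := h.toCb.nil a
    have := normal_subgroupOf_of_le_normalizer
      (fun u hu => mem_normalizer_fintype (c.Nn u (h.toCb.fix hu)) : U a ≤ normalizer (N : Set G))
    obtain ⟨⟨z, z1, z2⟩, n⟩ := ne_bot_iff_exists_ne_one.1 (H5.inf_center_ne_bot_of_nilpotent (N.subgroupOf (U a)) fun e => by
      have := c.three.trans (c.fisher.trans c.idx)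
      rw [← H1.card_subgroupOf_of_le c.NU, e, card_bot] at this
      omega)
    exact ⟨z, ⟨z1, NRc.ZY z.2 fun u hu => congrArg Subtype.val (mem_center_iff.1 z2 ⟨u, hu⟩)⟩, fun t =>
      n (Subtype.ext (Subtype.ext (c.Nsr _ z1 b c.ne.symm (t b c.hb))))⟩
  have t := q'.ll3 c.ld c.ha c.hb inf_le_right (fun d hd dH => nA d (c.ld.Lt_le hd) dH.1) ex
  obtain ⟨V, hv, Va, l⟩ := NRL.fam c.ld c.three c.ha inf_le_right nA fun y hy z hz ya za => by
    obtain ⟨u, hu, rfl⟩ := t y hy ya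
    obtain ⟨v, hv, rfl⟩ := t z hz za
    exact ⟨v * u⁻¹, mul_mem hv (inv_mem hu), by rw [mul_smul, inv_smul_smul]⟩
  have hf : FaithV (Ln U a b) V := fun d hd u hu tu => by
    obtain ⟨g, hg, f⟩ := hv.trans c.three hd c.ha
    have := hv.cj g (hv.Lt_le hg) d hd u hu
    rw [f, Va] at this
    exact conj_eq_one_iff.1 (c.Nsr _ this.1 b c.ne.symm (by
      rw [mul_smul, mul_smul, tu _ (hv.inv _ (inv_mem (hv.Lt_le hg)) b c.hb), smul_inv_smul]))
  obtain ⟨F, _, _, e, π, q⟩ := kpi_l2 hv hf (NRL.l2a_sub c.ld hv l c.three hL) a c.ha b c.hb c.ne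
  have LV : Lt (Ln U a b) V ≤ Lt (Ln U a b) (YY U a b) := Lt_le_iff.2 fun d hd => (l d hd).trans (le_Lt hd)
  have m1 : π (-1) = 1 := orderOf_eq_one_iff.1 (Nat.Coprime.eq_one_of_dvd
    (c.oddK _ (LV (q.mem _)) ((q.tr_iff hv).2 (.inr rfl))).coprime_two_right
    (orderOf_dvd_of_pow_eq_one (by rw [← map_pow, neg_one_sq, map_one])))
  have mD := fun k : Fˣ => (q.mem_D hv c.ha c.hb).2 ⟨k, rfl⟩
  have sr : ∀ d ∈ Lt (Ln U a b) V ⊓ Hb G a b, d ≠ 1 → (orderOf d).Coprime (Nat.card (U a)) → Fx Ω {d} ⊆ {a, b} :=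
    fun d hd d1 cp y hy => by
      by_contra n
      rw [Set.mem_insert_iff, Set.mem_singleton_iff, not_or] at n
      refine d1 ((q.ker hd.1 (q.inn_three hv (hv.Lt_le hd.1) ⟨d, hd.1, by rw [inv_mul_cancel]; exact Tr.one⟩
        ((Set.ncard_eq_three.2 ⟨a, b, y, c.ne, Ne.symm n.1, Ne.symm n.2, rfl⟩).ge.trans (Set.ncard_le_ncard ?_)))).elim
        id (·.trans m1))
      rintro _ (rfl | rfl | rfl)
      exacts [⟨c.ha, hd.2.1⟩, ⟨c.hb, hd.2.2⟩, ⟨c.cfx d hd.2 d1 cp x hx x1 (c.LR (LV hd.1) hx) hy, mem_Fx1.1 hy⟩]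
  have two : (-1 : Fˣ) ≠ 1 := fun f => by
    have := FiniteField.even_card_of_char_two (CharP.ringChar_of_prime_eq_zero (R := F) Nat.prime_two (by
      have : (-1 : F) = 1 := congrArg Units.val f
      push_cast
      linear_combination -this))
    have := Nat.odd_iff.1 q.odd
    omega
  have ke : ∀ k : Fˣ, π (dg k) = 1 ↔ k = 1 ∨ k = -1 := fun k => by
    have d1 : dg (1 : Fˣ) = 1 := Subtype.ext (by simp [dg, one_fin_two])
    rw [← map_one π, q.eq_iff m1, ← dg_neg_one, ← d1]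
    exact or_congr ⟨dg_inj, congrArg dg⟩ ⟨dg_inj, congrArg dg⟩
  by_cases h3 : Fintype.card F % 4 = 3
  · let θ := π.comp (MonoidHom.mk' dg dg_mul)
    have eD : θ.range = Lt (Ln U a b) V ⊓ Hb G a b := Subgroup.ext fun g =>
      ⟨fun ⟨k, f⟩ => f ▸ mD k, fun hg => ((q.mem_D hv c.ha c.hb).1 hg).imp fun _ => Eq.symm⟩
    have cD := θ.ker.card_mul_index
    rw [index_ker, eD, Nat.card_units, Nat.card_eq_fintype_card (α := F), show Nat.card θ.ker = 2 from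
      (Nat.card_coe_set_eq _).trans ((congrArg Set.ncard (Set.ext ke)).trans (Set.ncard_pair two.symm))] at cD
    have cF : 2 * Nat.card ↥(Lt (Ln U a b) V ⊓ Hb G a b) + 1 = Fintype.card F := by omega
    have hr := Fact.mk (CharP.char_is_prime F' (ringChar F'))
    have h1 : ringChar F' ∣ Fintype.card F := by
      rw [← Nat.add_right_cancel (q'.card.symm.trans q.card)]
      exact (CharP.cast_eq_zero_iff F' _ _).1 (FiniteField.cast_card_eq_zero F')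
    have cp : (Nat.card ↥(Lt (Ln U a b) V ⊓ Hb G a b)).Coprime (Nat.card (U a)) := by
      obtain ⟨k, hk⟩ := IsPGroup.iff_card.1 hU
      exact hk ▸ ((Nat.Prime.coprime_iff_not_dvd hr.out).2 fun d =>
        hr.out.not_dvd_one ((Nat.dvd_add_right (d.mul_left 2)).1 (cF ▸ h1))).symm.pow_right k
    refine c.fin h hU inf_le_right (fun g hg => mem_normalizer_fintype fun d hd =>
      ⟨hv.Lt_conj (c.nP g (.inl hg)).1 hd.1, (Hb G a b).mul_mem ((Hb G a b).mul_mem hg hd.2) ((Hb G a b).inv_mem hg)⟩)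
      (fun d hd y hy => hv.commK hf (le_normalizer hy) (fun z hz => hz y hy) hd.1)
      (fun d hd d1 => sr d hd d1 (cp.coprime_dvd_left (H1.orderOf_dvd_card_of_mem hd))) (fun f => h4 ?_) cp
      (cF ▸ h1) (cF ▸ h3) (cF ▸ q.card)
    rw [q.card, ← cF, f, card_bot]
  · obtain ⟨i, hi⟩ := FiniteField.isSquare_neg_one_iff.2 h3
    have i0 : i ≠ 0 := fun f => by simp [f] at hi
    have i2 : Units.mk0 i i0 * Units.mk0 i i0 = -1 := Units.ext hi.symm
    have hj : Inv (π (dg (Units.mk0 i i0))) := ⟨by rw [← map_mul, ← dg_mul, i2, dg_neg_one, m1], fun f => two (by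
      rcases (ke _).1 f with r | r <;> rw [← i2, r] <;> simp)⟩
    exact nrj h c hj (mD _).2 (sr _ (mD _) hj.2 (by
      rw [orderOf_eq_prime ((pow_two _).trans hj.1) hj.2]
      exact (h.toCb.odd a).coprime_two_left))

end H51.HK
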