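import Cfsg.Agent.Lib.HK.LQ
import Mathlib.GroupTheory.FixedPointFree

/-! Two point stabilisers have 2-rank at most two (blueprint/HKS2.md, RK). -/

set_option autoImplicit false
set_option linter.unusedSectionVars false

namespace H51.HK

open MulAction Subgroup Matrix H69
open scoped MatrixGroups Classical commutatorElement

variable {G Ω : Type*} [Group G] [MulAction G Ω] [Finite G] [Finite Ω]

variable {U : Ω → Subgroup G}

namespace RK

theorem cyc_aut (K : Type*) [Field K] [CharP K 2] [Finite K] : IsCyclic (K ≃+* K) := by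
  have : Fact (Nat.Prime 2) := ⟨Nat.prime_two⟩
  let _ := ZMod.algebra K 2
  let A : (K ≃+* K) →* (K ≃ₐ[ZMod 2] K) :=
    { toFun := fun σ => AlgEquiv.ofRingEquiv (f := σ) fun x => DFunLike.congr_fun
        (RingHom.ext_zmod ((σ : K →+* K).comp (algebraMap _ _)) (algebraMap _ _)) x
      map_one' := rfl
      map_mul' := fun _ _ => rfl }
  exact isCyclic_of_injective A fun σ τ e => RingEquiv.ext fun a => DFunLike.congr_fun e a

theorem cyc_two {C : Type*} [Group C] [Finite C] [IsCyclic C] {σ τ : C} (h1 : σ * σ = 1)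
    (h2 : τ * τ = 1) (s1 : σ ≠ 1) (t1 : τ ≠ 1) : σ = τ := by
  have := Fintype.ofFinite C
  by_contra hne
  have h := IsCyclic.card_pow_eq_one_le (α := C) (n := 2) two_pos
  have hs : ({1, σ, τ} : Finset C) ⊆ Finset.univ.filter (fun a : C => a ^ 2 = 1) := by
    intro x hx
    simp only [Finset.mem_insert, Finset.mem_singleton] at hx
    rcases hx with rfl | rfl | rfl <;> simp [sq, h1, h2]
  have h3 : ({1, σ, τ} : Finset C).card = 3 := by
    rw [Finset.card_eq_three]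
    exact ⟨1, σ, τ, s1.symm, t1.symm, hne, rfl⟩
  have := Finset.card_le_card hs
  omega

omit [Finite Ω] in
theorem sq_one (h : Cb U) {a : Ω} {u : G} (hu : u ∈ U a) (h2 : u * u = 1) : u = 1 := by
  have ho := h.ld.odd a (Set.mem_univ _)
  have h1 : orderOf u ∣ Nat.card (U a) := orderOf_dvd_natCard (⟨u, hu⟩ : U a) |>
    (fun x => by rwa [← Subgroup.orderOf_coe] at x)
  have h3 : orderOf u ∣ 2 := orderOf_dvd_of_pow_eq_one (by rw [sq, h2])
  have : orderOf u ∣ Nat.gcd 2 (Nat.card (U a)) := Nat.dvd_gcd h3 h1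
  rw [(Nat.coprime_two_left.2 ho : Nat.gcd _ _ = 1)] at this
  exact orderOf_eq_one_iff.1 (Nat.dvd_one.1 this)

omit [Finite G] [Finite Ω] in
theorem cj_mem (h : Cb U) {a : Ω} {g u : G} (hg : g • a = a) (hu : u ∈ U a) :
    g * u * g⁻¹ ∈ U a := by
  have := h.ld.cj g (mem_top _) a (Set.mem_univ _) u hu
  rwa [hg] at this

/-- an involution that centralises no element of the root group inverts it -/
theorem inverts (h : Cb U) {a : Ω} {z : G} (hz : z * z = 1) (za : z • a = a)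
    (hf : ∀ u ∈ U a, u * z = z * u → u = 1) :
    (∀ u ∈ U a, z * u * z⁻¹ = u⁻¹) ∧ ∀ u ∈ U a, ∀ v ∈ U a, u * v = v * u := by
  let φ : U a →* U a :=
    { toFun := fun u => ⟨z * u * z⁻¹, cj_mem h za u.2⟩
      map_one' := by ext; simp
      map_mul' := fun u v => by ext; simp [mul_assoc] }
  have h1 : MonoidHom.FixedPointFree φ := fun u hu => by
    have h2 : z * u * z⁻¹ = u := congrArg Subtype.val hu
    exact Subtype.ext (hf u u.2 (by rw [← h2]; simpa [mul_assoc] using by rw [← mul_assoc, h2]))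
  have zi : z⁻¹ = z := inv_eq_of_mul_eq_one_right hz
  have h2 : Function.Involutive φ := fun u => by
    ext
    change z * (z * u * z⁻¹) * z⁻¹ = u
    rw [zi]
    calc z * (z * u * z) * z = (z * z) * u * (z * z) := by group
      _ = u := by rw [hz]; simp
  refine ⟨fun u hu => ?_, fun u hu v hv => ?_⟩
  · have := congrFun (h1.coe_eq_inv_of_involutive h2) ⟨u, hu⟩
    exact congrArg Subtype.val this
  · exact congrArg Subtype.val (h1.commute_all_of_involutive h2 ⟨u, hu⟩ ⟨v, hv⟩).eq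

/-- an involution is determined by its fixed points if there are exactly two of them -/
theorem uniq2 (h : Cx U) {c d : Ω} (hcd : c ≠ d) {y y' : G} (y2 : y * y = 1) (y2' : y' * y' = 1)
    (hy : Fx Ω {y} = {c, d}) (hy' : Fx Ω {y'} = {c, d}) : y = y' := by
  have key : ∀ y : G, y * y = 1 → Fx Ω {y} = {c, d} →
      y ∈ Hb G c d ∧ ∀ u ∈ U c, y * u * y⁻¹ = u⁻¹ := by
    intro y y2 hy
    have yc : y • c = c := mem_Fx1.1 (by rw [hy]; simp)
    have yd : y • d = d := mem_Fx1.1 (by rw [hy]; simp)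
    have yH : y ∈ Hb G c d := mem_Hb.2 ⟨yc, yd⟩
    refine ⟨yH, (inverts h.toCb y2 yc fun u hu hc => ?_).1⟩
    have h1 : u • d ∈ Fx Ω {y} := mem_Fx1.2 ((h.fix_iff hcd yH hu).2 hc.symm)
    rw [hy] at h1
    rcases h1 with h1 | h1
    · exfalso
      have := h.ld.fix c (Set.mem_univ _) u hu
      exact hcd (smul_left_cancel u (this.trans h1.symm))
    · exact h.reg c d hcd.symm u hu h1
  obtain ⟨h1, h2⟩ := key y y2 hy
  obtain ⟨h3, h4⟩ := key y' y2' hy'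
  have := h.toCb.eq_one hcd (mul_mem (inv_mem h3) h1) fun u hu => by
    have e : y * u * y⁻¹ = y' * u * y'⁻¹ := by rw [h2 u hu, h4 u hu]
    calc y'⁻¹ * y * u = y'⁻¹ * (y * u * y⁻¹) * y := by group
      _ = u * (y'⁻¹ * y) := by rw [e]; group
  exact (inv_mul_eq_one.1 this).symm

/-- an elementary abelian subgroup of `G_{ab}` -/
structure El (a b : Ω) (E : Subgroup G) : Prop where
  ne : a ≠ b
  le : E ≤ Hb G a b
  sq : ∀ x ∈ E, x * x = 1
  cm : ∀ x ∈ E, ∀ y ∈ E, x * y = y * x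

/-- `U_v` is maximal -/
def Mx (U : Ω → Subgroup G) (a : Ω) (E : Subgroup G) (v : G) : Prop :=
  v ∈ E ∧ v ≠ 1 ∧ ∀ e ∈ E, e ≠ 1 → UY U {v} a ≤ UY U {e} a → UY U {e} a ≤ UY U {v} a

omit [MulAction G Ω] [Finite Ω] in
theorem exMx (a : Ω) {E : Subgroup G} {e : G} (he : e ∈ E) (e1 : e ≠ 1) :
    ∃ v, Mx U a E v ∧ UY U {e} a ≤ UY U {v} a := by
  obtain ⟨v, ⟨hv, v1, hle⟩, hm⟩ := Set.exists_max_image
    {v | v ∈ E ∧ v ≠ 1 ∧ UY U {e} a ≤ UY U {v} a} (fun v => Nat.card (UY U {v} a))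
    (Set.toFinite _) ⟨e, he, e1, le_rfl⟩
  refine ⟨v, ⟨hv, v1, fun k hk k1 hl => ?_⟩, hle⟩
  exact (eq_of_le_of_card_ge hl (hm k ⟨hk, k1, hle.trans hl⟩)).ge

variable {a b : Ω} {E : Subgroup G} {v : G}

theorem El.fa (hE : El a b E) {x : G} (hx : x ∈ E) : x • a = a := (mem_Hb.1 (hE.le hx)).1
theorem El.fb (hE : El a b E) {x : G} (hx : x ∈ E) : x • b = b := (mem_Hb.1 (hE.le hx)).2

omit [Finite G] [Finite Ω] in
theorem El.inv (hE : El a b E) {x : G} (hx : x ∈ E) : x⁻¹ = x :=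
  inv_eq_of_mul_eq_one_right (hE.sq x hx)

theorem El.mul_ne (hE : El a b E) {x y : G} (hy : y ∈ E) (h : x ≠ y) : x * y ≠ 1 := fun e =>
  h (by rw [eq_inv_of_mul_eq_one_left e, hE.inv hy])

/-- only `1` and `v` centralise `U_v` -/
theorem Mx.cent (h : Cx U) (hE : El a b E) (hv : Mx U a E v) {k : G} (hk : k ∈ E) (k1 : k ≠ 1)
    (kv : k ≠ v) (hc : ∀ u ∈ UY U {v} a, u * k = k * u) : False := by
  have h1 : UY U {k} a ≤ UY U {v} a :=
    hv.2.2 k hk k1 fun u hu => mem_UY1.2 ⟨(mem_UY1.1 hu).1, hc u hu⟩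
  have h2 : UY U {v * k} a ≤ UY U {v} a :=
    hv.2.2 _ (mul_mem hv.1 hk) (hE.mul_ne hk kv.symm) fun u hu => mem_UY1.2 ⟨(mem_UY1.1 hu).1, by
      rw [← mul_assoc, (mem_UY1.1 hu).2, mul_assoc, hc u hu, mul_assoc]⟩
  have h3 := h.toCb.gen4 (hE.sq v hv.1) (hE.sq k hk) (hE.cm v hv.1 k hk) (hE.fa hv.1) (hE.fa hk)
  have h4 : U a ≤ UY U {v} a := by
    rw [← h3]
    exact sup_le (sup_le le_rfl h1) h2
  exact hv.2.1 (h.toCb.eq_one hE.ne (hE.le hv.1) fun u hu => (mem_UY1.1 (h4 hu)).2.symm)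

theorem Mx.ntr (h : Cx U) (hE : El a b E) (hv : Mx U a E v) {k : G} (hk : k ∈ E) (k1 : k ≠ 1)
    (kv : k ≠ v) : ¬ Tr (Fx Ω {v}) k := fun ht =>
  hv.cent h hE hk k1 kv fun u hu => by
    obtain ⟨hu, hc⟩ := mem_UY1.1 hu
    exact ((h.fix_iff hE.ne (hE.le hk) hu).1
      (ht _ (mem_Fx1.2 ((h.fix_iff hE.ne (hE.le hv.1) hu).2 hc.symm)))).symm

/-- three fixed points -/
theorem three_of (h : Cx U) (hab : a ≠ b) {u : G} (hu : u ∈ U a) (u1 : u ≠ 1) {S : Set Ω}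
    (ha : a ∈ S) (hb : b ∈ S) (hc : u • b ∈ S) : 3 ≤ S.ncard := by
  have h1 : u • b ≠ a := fun e =>
    hab (smul_left_cancel u ((h.ld.fix a (Set.mem_univ _) u hu).trans e.symm))
  have h2 : u • b ≠ b := fun e => u1 (h.reg a b hab.symm u hu e)
  have : ({a, b, u • b} : Set Ω).ncard = 3 :=
    Set.ncard_eq_three.2 ⟨a, b, u • b, hab, h1.symm, h2.symm, rfl⟩
  rw [← this]
  refine Set.ncard_le_ncard ?_ (Set.toFinite _)
  rintro x (rfl | rfl | rfl) <;> assumption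

theorem tr_mul {Δ : Set Ω} {j k k' : G} (h1 : Tr Δ (j⁻¹ * k)) (h2 : Tr Δ (j⁻¹ * k'))
    (k2 : k * k = 1) : Tr Δ (k * k') := fun x hx => by
  have e1 : k • x = j • x := by
    have := h1 x hx
    rw [mul_smul, inv_smul_eq_iff] at this
    exact this
  have e2 : k' • x = j • x := by
    have := h2 x hx
    rw [mul_smul, inv_smul_eq_iff] at this
    exact this
  rw [mul_smul, e2, ← e1, ← mul_smul, k2, one_smul]

/-- a maximal `U_v` has type `L₂` -/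
theorem Mx.tl (h : Cx U) (h3 : Ty3 U) (hE : El a b E) (hv : Mx U a E v) {k k' : G} (hk : k ∈ E)
    (hk' : k' ∈ E) (k1 : k ≠ 1) (kv : k ≠ v) (k1' : k' ≠ 1) (kv' : k' ≠ v) (kk1 : k * k' ≠ 1)
    (kkv : k * k' ≠ v) : TL U {v} := by
  have ha : a ∈ Fx Ω {v} := mem_Fx1.2 (hE.fa hv.1)
  have hb : b ∈ Fx Ω {v} := mem_Fx1.2 (hE.fb hv.1)
  have n1 := hv.ntr h hE hk k1 kv
  have n2 := hv.ntr h hE hk' k1' kv'
  have n3 := hv.ntr h hE (mul_mem hk hk') kk1 kkv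
  have kN : ∀ x ∈ E, x ∈ normalizer ({v} : Set G) := fun x hx => mem_norm1.2 (hE.cm x hx v hv.1)
  have t3 : 3 ≤ (Fx Ω {v}).ncard := by
    by_contra hlt
    refine hv.cent h hE hk k1 kv fun u hu => ?_
    obtain ⟨hu, hc⟩ := mem_UY1.1 hu
    by_cases u1 : u = 1
    · simp [u1]
    · exact absurd (three_of h hE.ne hu u1 ha hb
        (mem_Fx1.2 ((h.fix_iff hE.ne (hE.le hv.1) hu).2 hc.symm))) hlt
  rcases h3 v ⟨hE.sq v hv.1, hv.2.1⟩ t3 with hL | ⟨⟨q, hR⟩, -⟩ | ⟨hA, -⟩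
  · exact hL
  · exfalso
    obtain ⟨j, hj⟩ := hR.ex a ha b hb hE.ne
    have key : ∀ x ∈ E, ¬ Tr (Fx Ω {v}) x → Tr (Fx Ω {v}) (j⁻¹ * x) := fun x hx hn =>
      (hR.two a ha b hb hE.ne j hj x (kN x hx) (hE.fa hx) (hE.fb hx) 1 (by
        rw [pow_one, sq, hE.sq x hx]; exact fun y _ => one_smul _ _)).resolve_left hn
    exact n3 (tr_mul (key k hk n1) (key k' hk' n2) (hE.sq k hk))
  · exfalso
    obtain ⟨F, _, _, e, hP⟩ := hA a ha b hb hE.ne
    have := hP.two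
    have := cyc_aut F
    have : Finite (F ≃+* F) := Finite.of_injective (fun σ => (σ : F → F)) DFunLike.coe_injective
    have ld := h.ldY ({v} : Set G)
    have key : ∀ x ∈ E, ¬ Tr (Fx Ω {v}) x → ∃ σ : F ≃+* F, σ * σ = 1 ∧ σ ≠ 1 ∧
        ∀ y ∈ Fx Ω {v}, e (x • y) = σ (e y) := by
      intro x hx hn
      obtain ⟨c, d, σ, -, hs⟩ := hP.Naf x (kN x hx)
      have d0 : d = 0 := by
        have := hs a ha
        rw [hE.fa hx, hP.ea] at this
        simpa using this.symm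
      have c1 : c = 1 := by
        have := hs b hb
        rw [hE.fb hx, hP.eb, d0] at this
        simpa using this.symm
      have hs' : ∀ y ∈ Fx Ω {v}, e (x • y) = σ (e y) := fun y hy => by
        rw [hs y hy, c1, d0]; simp
      refine ⟨σ, RingEquiv.ext fun z => ?_, fun s1 => hn fun y hy => ?_, hs'⟩
      · obtain ⟨y, hy, rfl⟩ := hP.bij.surjOn (Set.mem_univ z)
        change σ (σ (e y)) = e y
        rw [← hs' y hy, ← hs' _ (ld.inv x (kN x hx) y hy), ← mul_smul, hE.sq x hx, one_smul]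
      · refine hP.bij.injOn (ld.inv x (kN x hx) y hy) hy ?_
        rw [hs' y hy, s1]; rfl
    obtain ⟨σ, s2, s1, hs⟩ := key k hk n1
    obtain ⟨τ, t2, t1, ht⟩ := key k' hk' n2
    have := cyc_two s2 t2 s1 t1
    subst this
    refine n3 fun y hy => hP.bij.injOn (ld.inv _ (kN _ (mul_mem hk hk')) y hy) hy ?_
    rw [mul_smul, hs _ (ld.inv _ (kN _ hk') y hy), ht y hy]
    exact DFunLike.congr_fun s2 (e y)

omit [Finite G] [Finite Ω] in
theorem up_neg {F : Type} [Field F] (d : F) : up d * up (-d) = 1 := by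
  ext i j
  rw [Matrix.SpecialLinearGroup.coe_mul]
  fin_cases i <;> fin_cases j <;> simp [up, Matrix.mul_apply, Fin.sum_univ_two]

/-- `U_v` is abelian and inverted by one of `k, k', k k'` -/
theorem Mx.neg (h : Cx U) (h3 : Ty3 U) (hE : El a b E) (hv : Mx U a E v) {k k' : G} (hk : k ∈ E)
    (hk' : k' ∈ E) (k1 : k ≠ 1) (kv : k ≠ v) (k1' : k' ≠ 1) (kv' : k' ≠ v) (kk1 : k * k' ≠ 1)
    (kkv : k * k' ≠ v) : (∀ u ∈ UY U {v} a, ∀ w ∈ UY U {v} a, u * w = w * u) ∧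
      ∃ r, (r = k ∨ r = k' ∨ r = k * k') ∧ ∀ u ∈ UY U {v} a, r * u * r⁻¹ = u⁻¹ := by
  have ha : a ∈ Fx Ω {v} := mem_Fx1.2 (hE.fa hv.1)
  have hb : b ∈ Fx Ω {v} := mem_Fx1.2 (hE.fb hv.1)
  have kN : ∀ x ∈ E, x ∈ normalizer ({v} : Set G) := fun x hx => mem_norm1.2 (hE.cm x hx v hv.1)
  obtain ⟨F, _, _, e, π, hq⟩ := hv.tl h h3 hE hk hk' k1 kv k1' kv' kk1 kkv a ha b hb hE.ne
  refine ⟨fun u hu w hw => (hq.V_ab hu hw).1, ?_⟩
  have t1 : Tr (Fx Ω {v}) (1 : G) := fun y _ => one_smul _ _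
  obtain ⟨r, hr, hs⟩ := hq.toL2P.ll2 (h.ldY _) ha hb (kN k hk) (kN k' hk') (hE.le hk) (hE.le hk')
    (by rw [hE.sq k hk]; exact t1) (by rw [hE.sq k' hk']; exact t1)
    (by rw [commutatorElement_eq_one_iff_mul_comm.2 (hE.cm k hk k' hk')]; exact t1)
  have rE : r ∈ E ∧ r ≠ 1 ∧ r ≠ v := by
    rcases hr with rfl | rfl | rfl
    · exact ⟨hk, k1, kv⟩
    · exact ⟨hk', k1', kv'⟩
    · exact ⟨mul_mem hk hk', kk1, kkv⟩
  refine ⟨r, hr, fun u hu => ?_⟩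
  have hs' := hs.resolve_left (hv.ntr h hE rE.1 rE.2.1 rE.2.2)
  obtain ⟨d, rfl⟩ := hq.Vup u hu
  have := hq.conj_up (kN r rE.1) (c := -1) (σ := RingEquiv.refl F) (by simpa using hs') d
  rw [this, eq_inv_iff_mul_eq_one, ← map_mul]
  have e1 : up (((-1 : Fˣ) : F) * RingEquiv.refl F d) * up d = 1 := by
    have := up_neg (-d)
    simpa using this
  rw [e1, map_one]

omit [Finite Ω] in
theorem kill (h : Cb U) {u r : G} (hu : u ∈ U a) (h1 : r * u * r⁻¹ = u⁻¹) (h2 : u * r = r * u) :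
    u = 1 := by
  refine sq_one h hu ?_
  have : r * u * r⁻¹ = u := by rw [← h2]; group
  rw [this] at h1
  exact mul_eq_one_iff_eq_inv.2 h1

/-- an element of `U` centralised by a four-group and by a maximal `v` -/
theorem Mx.mem (h : Cx U) (h3 : Ty3 U) (hE : El a b E) (hv : Mx U a E v) {k k' u : G} (hk : k ∈ E)
    (hk' : k' ∈ E) (k1 : k ≠ 1) (k1' : k' ≠ 1) (kk1 : k * k' ≠ 1) (hu : u ∈ UY U {v} a)
    (u1 : u ≠ 1) (c1 : u * k = k * u) (c2 : u * k' = k' * u) : v = k ∨ v = k' ∨ v = k * k' := by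
  by_contra hn
  push Not at hn
  obtain ⟨-, r, hr, hi⟩ := hv.neg h h3 hE hk hk' k1 hn.1.symm k1' hn.2.1.symm kk1 hn.2.2.symm
  refine u1 (kill h.toCb (mem_UY1.1 hu).1 (hi u hu) ?_)
  rcases hr with rfl | rfl | rfl
  · exact c1
  · exact c2
  · rw [← mul_assoc, c1, mul_assoc, c2, mul_assoc]

/-- no three collinear characters -/
theorem no3 (h : Cx U) (h3 : Ty3 U) (hE : El a b E) {e k k' u₁ u₂ u₃ : G} (he : e ∈ E)
    (hk : k ∈ E) (hk' : k' ∈ E) (e1 : e ≠ 1) (k1 : k ≠ 1) (ke : k ≠ e) (k1' : k' ≠ 1)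
    (ke' : k' ≠ e) (kk1 : k * k' ≠ 1) (kke : k * k' ≠ e) (h1 : u₁ ∈ UY U {e} a)
    (h2 : u₂ ∈ UY U {e} a) (h4 : u₃ ∈ UY U {e} a) (n1 : u₁ ≠ 1) (n2 : u₂ ≠ 1) (n3 : u₃ ≠ 1)
    (c1 : u₁ * k = k * u₁) (c2 : u₂ * k' = k' * u₂) (c3 : u₃ * (k * k') = k * k' * u₃) : False := by
  obtain ⟨v, hv, hle⟩ := exMx (U := U) a he e1
  have a1 := hv.mem h h3 hE he hk e1 k1 (hE.mul_ne hk ke.symm) (hle h1) n1 (mem_UY1.1 h1).2 c1
  have a2 := hv.mem h h3 hE he hk' e1 k1' (hE.mul_ne hk' ke'.symm) (hle h2) n2 (mem_UY1.1 h2).2 c2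
  have hve : v = e := by
    rcases a1 with a1 | a1 | a1
    · exact a1
    · rcases a2 with a2 | a2 | a2
      · exact a2
      · exact absurd (by rw [← a1, ← a2]; exact hE.sq v hv.1) kk1
      · exfalso
        apply kke
        rw [← a1, a2, mul_assoc, hE.sq k' hk', mul_one]
    · rcases a2 with a2 | a2 | a2
      · exact a2
      · exfalso
        apply kke
        rw [← a2, a1, hE.cm e he k hk, ← mul_assoc, hE.sq k hk, one_mul]
      · exfalso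
        apply kk1
        rw [mul_left_cancel (a1.symm.trans a2)]
        exact hE.sq k' hk'
  subst hve
  obtain ⟨-, r, hr, hi⟩ := hv.neg h h3 hE hk hk' k1 ke k1' ke' kk1 kke
  rcases hr with rfl | rfl | rfl
  · exact n1 (kill h.toCb (mem_UY1.1 h1).1 (hi _ h1) c1)
  · exact n2 (kill h.toCb (mem_UY1.1 h2).1 (hi _ h2) c2)
  · exact n3 (kill h.toCb (mem_UY1.1 h4).1 (hi _ h4) c3)

omit [Finite Ω] in
/-- an eigenvector: `A` is an abelian subgroup of `U a` normalised by the involution `f` -/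
theorem eig (h : Cb U) {A : Set G} (hA : ∀ u ∈ A, u ∈ U a)
    (hm : ∀ u ∈ A, ∀ w ∈ A, u * w ∈ A) (hi : ∀ u ∈ A, u⁻¹ ∈ A)
    (hc : ∀ u ∈ A, ∀ w ∈ A, u * w = w * u) {f : G} (f2 : f * f = 1)
    (hf : ∀ u ∈ A, f * u * f⁻¹ ∈ A) {u : G} (hu : u ∈ A) (u1 : u ≠ 1) :
    ∃ w ∈ A, w ≠ 1 ∧ (f * w * f⁻¹ = w ∨ f * w * f⁻¹ = w⁻¹) := by
  have ff : f * (f * u * f⁻¹) * f⁻¹ = u := by
    calc f * (f * u * f⁻¹) * f⁻¹ = (f * f) * u * (f * f)⁻¹ := by group
      _ = u := by rw [f2]; simp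
  by_cases h1 : u * (f * u * f⁻¹) = 1
  · exact ⟨u, hu, u1, Or.inr (eq_inv_of_mul_eq_one_right h1)⟩
  · refine ⟨_, hm u hu _ (hf u hu), h1, Or.inl ?_⟩
    calc f * (u * (f * u * f⁻¹)) * f⁻¹ = (f * u * f⁻¹) * (f * (f * u * f⁻¹) * f⁻¹) := by group
      _ = u * (f * u * f⁻¹) := by rw [ff, hc _ (hf u hu) u hu]

omit [Finite G] [Finite Ω] in
theorem cj_eq {f w : G} : f * w * f⁻¹ = w ↔ w * f = f * w := by
  rw [mul_inv_eq_iff_eq_mul, eq_comm]

omit [Finite G] [Finite Ω] in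
theorem cm_mul {w f g : G} (h1 : w * f = f * w) (h2 : w * g = g * w) : w * (f * g) = f * g * w := by
  rw [← mul_assoc, h1, mul_assoc, h2, mul_assoc]

theorem cjY (h : Cb U) (hE : El a b E) {e g u : G} (he : e ∈ E) (hg : g ∈ E)
    (hu : u ∈ UY U {e} a) : g * u * g⁻¹ ∈ UY U {e} a := by
  obtain ⟨hu, hc⟩ := mem_UY1.1 hu
  refine mem_UY1.2 ⟨cj_mem h (hE.fa hg) hu, ?_⟩
  have := hE.cm g hg e he
  calc g * u * g⁻¹ * e = g * u * (g⁻¹ * e * g) * g⁻¹ := by group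
    _ = g * u * e * g⁻¹ := by rw [mul_assoc g⁻¹, ← this, inv_mul_cancel_left]
    _ = e * (g * u * g⁻¹) := by rw [mul_assoc g, hc, ← mul_assoc, this]; group

/-- if `U_e` is abelian and meets `U_g` trivially then `g` inverts `U_e` -/
theorem invY (h : Cb U) (hE : El a b E) {e g : G} (he : e ∈ E) (hg : g ∈ E)
    (hc : ∀ u ∈ UY U {e} a, ∀ w ∈ UY U {e} a, u * w = w * u)
    (h0 : ∀ u ∈ UY U {e} a, u * g = g * u → u = 1) {u : G} (hu : u ∈ UY U {e} a) :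
    g * u * g⁻¹ = u⁻¹ := by
  have h1 := cjY h hE he hg hu
  refine eq_inv_of_mul_eq_one_right (h0 _ (mul_mem hu h1) (cj_eq.1 ?_))
  have ff : g * (g * u * g⁻¹) * g⁻¹ = u := by
    calc g * (g * u * g⁻¹) * g⁻¹ = (g * g) * u * (g * g)⁻¹ := by group
      _ = u := by rw [hE.sq g hg]; simp
  calc g * (u * (g * u * g⁻¹)) * g⁻¹ = (g * u * g⁻¹) * (g * (g * u * g⁻¹) * g⁻¹) := by group
    _ = u * (g * u * g⁻¹) := by rw [ff, hc _ h1 u hu]

/-- elements of `E` outside `⟨v, x⟩` -/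
def Gd (E : Subgroup G) (v x g : G) : Prop := g ∈ E ∧ g ≠ 1 ∧ g ≠ v ∧ g ≠ x ∧ g ≠ v * x

theorem Gd.mv (hE : El a b E) {x g : G} (hv : v ∈ E) (hx : x ∈ E) (h : Gd E v x g) :
    Gd E v x (g * v) := by
  obtain ⟨hg, h1, h2, h3, h4⟩ := h
  have v2 := hE.sq v hv
  refine ⟨mul_mem hg hv, hE.mul_ne hv h2, fun e => h1 (by simpa using e), fun e => h4 ?_,
    fun e => h3 ?_⟩
  · rw [← e, hE.cm g hg v hv, ← mul_assoc, v2, one_mul]
  · rw [hE.cm g hg v hv] at e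
    exact mul_left_cancel e

theorem Gd.mx (hE : El a b E) {x g : G} (hv : v ∈ E) (hx : x ∈ E) (h : Gd E v x g) :
    Gd E v x (g * x) := by
  obtain ⟨hg, h1, h2, h3, h4⟩ := h
  have x2 := hE.sq x hx
  refine ⟨mul_mem hg hx, hE.mul_ne hx h3, fun e => h4 ?_, fun e => h1 (by simpa using e),
    fun e => h2 (mul_right_cancel e)⟩
  rw [← e, mul_assoc, x2, mul_one]

theorem main (h : Cx U) (h3 : Ty3 U) (hE : El a b E)
    (r3 : ∀ v ∈ E, ∃ k ∈ E, ∃ k' ∈ E, k ≠ 1 ∧ k ≠ v ∧ k' ≠ 1 ∧ k' ≠ v ∧ k * k' ≠ 1 ∧ k * k' ≠ v) :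
    False := by
  have hab := hE.ne
  -- all `U_e` are abelian
  have ab : ∀ e ∈ E, e ≠ 1 → ∀ u ∈ UY U {e} a, ∀ w ∈ UY U {e} a, u * w = w * u := by
    intro e he e1 u hu w hw
    obtain ⟨v, hv, hle⟩ := exMx (U := U) a he e1
    obtain ⟨k, hk, k', hk', k1, kv, k1', kv', kk1, kkv⟩ := r3 v hv.1
    exact (hv.neg h h3 hE hk hk' k1 kv k1' kv' kk1 kkv).1 u (hle hu) w (hle hw)
  obtain ⟨s, hs, -, -, s1, -⟩ := r3 1 (one_mem _)
  obtain ⟨v, hv, -⟩ := exMx (U := U) a hs s1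
  have vE := hv.1
  have v1 := hv.2.1
  obtain ⟨k, hk, k', hk', k1, kv, k1', kv', kk1, kkv⟩ := r3 v vE
  have hL := hv.tl h h3 hE hk hk' k1 kv k1' kv' kk1 kkv
  obtain ⟨x, xE, x1, xv, f, hf, hx⟩ : ∃ x ∈ E, x ≠ 1 ∧ x ≠ v ∧ ∃ f, Gd E v x f ∧
      ∀ u ∈ UY U {v} a, x * u * x⁻¹ = u⁻¹ := by
    obtain ⟨-, r, hr, hi⟩ := hv.neg h h3 hE hk hk' k1 kv k1' kv' kk1 kkv
    have kk : k ≠ k' := fun e => kk1 (by rw [e]; exact hE.sq k' hk')
    rcases hr with rfl | rfl | rfl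
    · refine ⟨r, hk, k1, kv, k', ⟨hk', k1', kv', kk.symm, fun e => kkv ?_⟩, hi⟩
      rw [e, hE.cm v vE r hk, ← mul_assoc, hE.sq r hk, one_mul]
    · refine ⟨r, hk', k1', kv', k, ⟨hk, k1, kv, kk, fun e => kkv ?_⟩, hi⟩
      rw [e, mul_assoc, hE.sq r hk', mul_one]
    · refine ⟨k * k', mul_mem hk hk', kk1, kkv, k, ⟨hk, k1, kv, fun e => k1' (by simpa using e),
        fun e => kv' ?_⟩, hi⟩
      rw [hE.cm v vE _ (mul_mem hk hk'), mul_assoc, left_eq_mul] at e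
      rw [eq_inv_of_mul_eq_one_left e, hE.inv vE]
  have vx1 : v * x ≠ 1 := hE.mul_ne xE xv.symm
  have vxE : v * x ∈ E := mul_mem vE xE
  -- the elements outside `⟨v, x⟩` centralise an element of `U_v`
  have cA : ∀ g, Gd E v x g → ∃ u ∈ UY U {v} a, u ≠ 1 ∧ u * g = g * u := by
    intro g hg
    by_contra hn
    have h0 : ∀ u ∈ UY U {v} a, u * g = g * u → u = 1 := fun u hu hc => by
      by_contra u1
      exact hn ⟨u, hu, u1, hc⟩
    have hg' := hg.mx hE vE xE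
    refine hv.cent h hE hg'.1 hg'.2.1 hg'.2.2.1 fun u hu => cj_eq.1 ?_
    have := invY h.toCb hE vE hg.1 (ab v vE v1) h0 (inv_mem hu)
    calc g * x * u * (g * x)⁻¹ = g * (x * u * x⁻¹) * g⁻¹ := by group
      _ = u := by rw [hx u hu, this, inv_inv]
  -- eigenvectors in `U_x` and `U_{vx}`
  have cB : ∀ y ∈ E, y ≠ 1 → (∀ u ∈ UY U {v} a, y * u * y⁻¹ = u⁻¹) → ∀ u ∈ UY U {y} a, u ≠ 1 →
      ∃ w ∈ UY U {y} a, w ≠ 1 ∧ (w * f = f * w ∨ w * (f * v) = f * v * w) := by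
    intro y yE y1 hy u hu u1
    obtain ⟨w, hw, w1, hc⟩ := eig h.toCb (A := UY U {y} a) (fun u hu => (mem_UY1.1 hu).1)
      (fun u hu w hw => mul_mem hu hw) (fun u hu => inv_mem hu) (ab y yE y1) (hE.sq f hf.1)
      (fun u hu => cjY h.toCb hE yE hf.1 hu) hu u1
    refine ⟨w, hw, w1, hc.imp cj_eq.1 fun hc => cj_eq.1 ?_⟩
    have := invY h.toCb hE yE vE (ab y yE y1) (fun u hu hc => kill h.toCb (mem_UY1.1 hu).1
      (hy u (mem_UY1.2 ⟨(mem_UY1.1 hu).1, hc⟩)) (mem_UY1.1 hu).2) hw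
    calc f * v * w * (f * v)⁻¹ = f * (v * w * v⁻¹) * f⁻¹ := by group
      _ = (f * w * f⁻¹)⁻¹ := by rw [this]; group
      _ = w := by rw [hc, inv_inv]
  obtain ⟨z, zE, hz⟩ : ∃ z ∈ E, ∀ u ∈ U a, u * z = z * u → u = 1 := by
    by_contra hn
    have ex : ∀ z ∈ E, ∃ u ∈ UY U {z} a, u ≠ 1 := fun z zE => by
      by_contra hn'
      refine hn ⟨z, zE, fun u hu hc => ?_⟩
      by_contra u1
      exact hn' ⟨u, mem_UY1.2 ⟨hu, hc⟩, u1⟩
    obtain ⟨u₁, hu₁, n1⟩ := ex x xE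
    obtain ⟨u₂, hu₂, n2⟩ := ex _ vxE
    obtain ⟨w₁, hw₁, m1, c1⟩ := cB x xE x1 hx u₁ hu₁ n1
    obtain ⟨w₂, hw₂, m2, c2⟩ := cB _ vxE vx1 (fun u hu => by
      calc v * x * u * (v * x)⁻¹ = v * (x * u * x⁻¹) * v⁻¹ := by group
        _ = (v * u * v⁻¹)⁻¹ := by rw [hx u hu]; group
        _ = u⁻¹ := by rw [cj_eq.2 (mem_UY1.1 hu).2]) u₂ hu₂ n2
    have d1 := (mem_UY1.1 hw₁).2
    have d2 := (mem_UY1.1 hw₂).2
    obtain ⟨e, he, e1, e2⟩ : ∃ e, Gd E v x e ∧ w₁ * e = e * w₁ ∧ w₂ * e = e * w₂ := by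
      rcases c1 with c1 | c1 <;> rcases c2 with c2 | c2
      · exact ⟨f, hf, c1, c2⟩
      · refine ⟨f * x, hf.mx hE vE xE, cm_mul c1 d1, ?_⟩
        have : f * x = f * v * (v * x) := by
          rw [mul_assoc, ← mul_assoc v, hE.sq v vE, one_mul]
        rw [this]
        exact cm_mul c2 d2
      · refine ⟨f * v * x, (hf.mv hE vE xE).mx hE vE xE, cm_mul c1 d1, ?_⟩
        rw [mul_assoc f v x]
        exact cm_mul c2 d2
      · exact ⟨f * v, hf.mv hE vE xE, c1, c2⟩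
    obtain ⟨u, hu, u1, hc⟩ := cA e he
    exact no3 h h3 hE he.1 vE xE he.2.1 v1 he.2.2.1.symm x1 he.2.2.2.1.symm vx1 he.2.2.2.2.symm
      (mem_UY1.2 ⟨(mem_UY1.1 hu).1, hc⟩) (mem_UY1.2 ⟨(mem_UY1.1 hw₁).1, e1⟩)
      (mem_UY1.2 ⟨(mem_UY1.1 hw₂).1, e2⟩) u1 m1 m2 (mem_UY1.1 hu).2 d1 d2
  have Uab := (inverts h.toCb (hE.sq z zE) (hE.fa zE) hz).2
  have fz : Fx Ω {z} = {a, b} := by
    ext c
    rw [mem_Fx1]
    constructor
    · intro hc
      by_cases ca : c = a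
      · exact Or.inl ca
      · obtain ⟨u, hu, rfl⟩ := h.ld.tr a (Set.mem_univ _) b (Set.mem_univ _) c (Set.mem_univ _)
          hab.symm ca
        rw [hz u hu ((h.fix_iff hab (hE.le zE) hu).1 hc).symm, one_smul]
        exact Or.inr rfl
    · rintro (rfl | rfl)
      · exact hE.fa zE
      · exact hE.fb zE
  -- an eigenvector inverted by `v`
  obtain ⟨u₀, hu₀, n0⟩ : ∃ u ∈ U a, v * u ≠ u * v := by
    by_contra hn
    push Not at hn
    exact v1 (h.toCb.eq_one hab (hE.le vE) hn)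
  obtain ⟨w, ⟨hw, wv⟩, w1, wf⟩ := eig h.toCb (A := {u | u ∈ U a ∧ v * u * v⁻¹ = u⁻¹})
    (fun u hu => hu.1)
    (fun u hu w hw => ⟨mul_mem hu.1 hw.1, by
      calc v * (u * w) * v⁻¹ = (v * u * v⁻¹) * (v * w * v⁻¹) := by group
        _ = (u * w)⁻¹ := by rw [hu.2, hw.2, Uab u hu.1 w hw.1, _root_.mul_inv_rev]⟩)
    (fun u hu => ⟨inv_mem hu.1, by
      calc v * u⁻¹ * v⁻¹ = (v * u * v⁻¹)⁻¹ := by group
        _ = u⁻¹⁻¹ := by rw [hu.2]⟩)
    (fun u hu w hw => Uab u hu.1 w hw.1) (hE.sq f hf.1)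
    (fun u hu => ⟨cj_mem h.toCb (hE.fa hf.1) hu.1, by
      have := hE.cm v vE f hf.1
      calc v * (f * u * f⁻¹) * v⁻¹ = (v * f) * u * (v * f)⁻¹ := by group
        _ = f * (v * u * v⁻¹) * f⁻¹ := by rw [this]; group
        _ = (f * u * f⁻¹)⁻¹ := by rw [hu.2]; group⟩)
    (u := u₀ * (v * u₀ * v⁻¹)⁻¹)
    ⟨mul_mem hu₀ (inv_mem (cj_mem h.toCb (hE.fa vE) hu₀)), by
      calc v * (u₀ * (v * u₀ * v⁻¹)⁻¹) * v⁻¹ = v * u₀ * v⁻¹ * ((v * v) * u₀⁻¹ * (v * v)⁻¹) := by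
            group
        _ = _ := by rw [hE.sq v vE]; group⟩
    (fun e => n0 (cj_eq.1 (mul_inv_eq_one.1 e).symm).symm)
  have cd : w • b ≠ w⁻¹ • b := fun e => w1 (sq_one h.toCb hw (h.reg a b hab.symm _ (mul_mem hw hw)
    (by rw [mul_smul, e, smul_inv_smul])))
  obtain ⟨g, ga, gb⟩ := h.toCb.pair hab cd
  have fy : Fx Ω {g * z * g⁻¹} = {w • b, w⁻¹ • b} := by
    ext c
    have := Fx_conj g z (g⁻¹ • c)
    rw [smul_inv_smul, fz] at this
    rw [this, ← ga, ← gb]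
    simp [inv_smul_eq_iff]
  have y2 : g * z * g⁻¹ * (g * z * g⁻¹) = 1 := by
    calc g * z * g⁻¹ * (g * z * g⁻¹) = g * (z * z) * g⁻¹ := by group
      _ = 1 := by rw [hE.sq z zE]; simp
  generalize g * z * g⁻¹ = y at fy y2
  have act : ∀ m ∈ E, ∀ u : G, m • u • b = (m * u * m⁻¹) • b := fun m hm u => by
    rw [mul_smul, mul_smul, hE.inv hm, hE.fb hm]
  have cy : ∀ m ∈ E, (m * w * m⁻¹ = w ∨ m * w * m⁻¹ = w⁻¹) → m * y * m⁻¹ = y := by
    intro m hm hc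
    refine uniq2 h cd ?_ y2 ?_ fy
    · calc m * y * m⁻¹ * (m * y * m⁻¹) = m * (y * y) * m⁻¹ := by group
        _ = 1 := by rw [y2]; simp
    · have e2 : m * w⁻¹ * m⁻¹ = (m * w * m⁻¹)⁻¹ := by group
      ext c
      have := Fx_conj m y (m⁻¹ • c)
      rw [smul_inv_smul, fy] at this
      rw [this]
      simp only [Set.mem_insert_iff, Set.mem_singleton_iff, inv_smul_eq_iff, act m hm, e2]
      rcases hc with hc | hc <;> rw [hc]
      rw [inv_inv, or_comm]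
  have yv := cy v vE (Or.inr wv)
  have yf := cy f hf.1 wf
  have ha : a ∈ Fx Ω {v} := mem_Fx1.2 (hE.fa vE)
  have hb : b ∈ Fx Ω {v} := mem_Fx1.2 (hE.fb vE)
  obtain ⟨F, _, _, e, π, hq⟩ := hL a ha b hb hab
  have t1 : Tr (Fx Ω {v}) (1 : G) := fun y _ => one_smul _ _
  obtain ⟨u, hu, u1, uf⟩ := cA f hf
  obtain ⟨hu, uv⟩ := mem_UY1.1 hu
  refine hq.toL2P.ll1 (h.ldY _) (y := y) (s := f) (mem_norm1.2 (cj_eq.1 yv))
    (mem_norm1.2 (hE.cm f hf.1 v vE)) (by rw [y2]; exact t1) (by rw [hE.sq f hf.1]; exact t1)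
    (fun c hc e => ?_) (hv.ntr h hE hf.1 hf.2.1 hf.2.2.1)
    (three_of h hab hu u1 ⟨ha, hE.fa hf.1⟩ ⟨hb, hE.fb hf.1⟩
      ⟨mem_Fx1.2 ((h.fix_iff hab (hE.le vE) hu).2 uv.symm),
        (h.fix_iff hab (hE.le hf.1) hu).2 uf.symm⟩)
    (by rw [commutatorElement_eq_one_iff_mul_comm.2 (cj_eq.1 yf)]; exact t1)
  have h1 : c ∈ Fx Ω {y} := mem_Fx1.2 e
  rw [fy] at h1
  have h2 := mem_Fx1.1 hc
  rcases h1 with rfl | rfl
  · rw [act v vE, wv] at h2
    exact cd h2.symm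
  · rw [act v vE, show v * w⁻¹ * v⁻¹ = (v * w * v⁻¹)⁻¹ by group, wv, inv_inv] at h2
    exact cd h2

theorem eqns_RK : True := by
  have := @Mx.eq_1.{0, 0}
  have := @Gd.eq_1.{0}
  trivial

end RK

theorem rk (h : Cx U) (h3 : Ty3 U) : Rk2 G Ω := by
  intro a b hab s hs t ht r hr si ti st r2 cst csr ctr
  by_contra hn
  push Not at hn
  obtain ⟨r1, rs, rt, rst⟩ := hn
  have c1 : closure {s, t, r} ≤ centralizer ({s, t, r} : Set G) := by
    rw [closure_le]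
    rintro x (rfl | rfl | rfl) y (rfl | rfl | rfl) <;> simp [cst, csr, ctr]
  have c2 : ∀ x ∈ closure ({s, t, r} : Set G), ∀ y ∈ closure ({s, t, r} : Set G), x * y = y * x := by
    intro x hx y hy
    have : closure {s, t, r} ≤ centralizer ({y} : Set G) := by
      rw [closure_le]
      intro z hz w hw
      rw [Set.mem_singleton_iff.1 hw]
      exact (c1 hy z hz).symm
    exact (this hx y rfl).symm
  have hE : RK.El a b (closure ({s, t, r} : Set G)) := by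
    refine ⟨hab, ?_, fun x hx => ?_, c2⟩
    · rw [closure_le]
      rintro x (rfl | rfl | rfl) <;> assumption
    · induction hx using closure_induction with
      | mem x hx =>
        rcases hx with rfl | rfl | rfl
        · exact si.1
        · exact ti.1
        · exact r2
      | one => simp
      | mul x y hx hy h1 h2 =>
        calc x * y * (x * y) = x * (y * x) * y := by group
          _ = x * x * (y * y) := by rw [← c2 x hx y hy]; group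
          _ = 1 := by rw [h1, h2, one_mul]
      | inv x hx h1 => rw [← _root_.mul_inv_rev, h1, inv_one]
  have sE : s ∈ closure ({s, t, r} : Set G) := subset_closure (by simp)
  have tE : t ∈ closure ({s, t, r} : Set G) := subset_closure (by simp)
  have rE : r ∈ closure ({s, t, r} : Set G) := subset_closure (by simp)
  refine RK.main h h3 hE fun v _ => ?_
  have sr : s * r ≠ 1 := hE.mul_ne rE rs.symm
  by_cases v1 : v = s
  · refine ⟨t, tE, r, rE, ti.2, v1 ▸ st.symm, r1, v1 ▸ rs, hE.mul_ne rE rt.symm, fun e => rst ?_⟩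
    rw [← v1, ← e, ctr, mul_assoc, ti.1, mul_one]
  by_cases v2 : v = t
  · refine ⟨s, sE, r, rE, si.2, v2 ▸ st, r1, v2 ▸ rt, sr, fun e => rst ?_⟩
    rw [← v2, ← e, ← mul_assoc, si.1, one_mul]
  by_cases v3 : v = s * t
  · refine ⟨s, sE, r, rE, si.2, fun e => v1 e.symm, r1, v3 ▸ rst, sr, fun e => rt ?_⟩
    exact mul_left_cancel (e.trans v3)
  · exact ⟨s, sE, t, tE, si.2, fun e => v1 e.symm, ti.2, fun e => v2 e.symm, hE.mul_ne tE st,
      fun e => v3 e.symm⟩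

end H51.HK
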