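import Cfsg.Agent.Lib.HK.SP1b

/-! SP1: the product of two commuting two point involutions (blueprint/HKS2.md). -/

set_option autoImplicit false

namespace H51.HK

open MulAction Subgroup Matrix H69
open scoped MatrixGroups Classical commutatorElement

variable {G Ω : Type*} [Group G] [MulAction G Ω] [Finite G] [Finite Ω]

variable {U : Ω → Subgroup G}

/-- a set normalised by a two point involution that fixes two of its fixed points has type `L₂` -/
theorem sp1_Y (h : Cx U) {z : G} (hz : z * z = 1) (h2 : (Fx Ω {z}).ncard = 2) {a b : Ω}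
    (hab : a ≠ b) (za : z • a = a) (zb : z • b = b) {Y : Set G} (hY : ∃ y ∈ Y, y ≠ 1)
    (h3 : 3 ≤ (Fx Ω Y).ncard) (ha : a ∈ Fx Ω Y) (hb : b ∈ Fx Ω Y) (zN : z ∈ normalizer Y) :
    TL U Y := by
  have hd := h.ldY Y
  have hle : {x | x ∈ Fx Ω Y ∧ z • x = x}.ncard ≤ 2 := sp1_le_two h2
  have ntr : ¬ Tr (Fx Ω Y) z := by
    intro ht
    have : {x | x ∈ Fx Ω Y ∧ z • x = x} = Fx Ω Y :=
      Set.ext fun x => ⟨fun hx => hx.1, fun hx => ⟨hx, ht x hx⟩⟩
    rw [this] at hle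
    omega
  rcases h.ih Y hY h3 with h1 | h1 | h1 | h1
  · exact h1
  · exfalso
    obtain ⟨⟨p, q, hq⟩, -⟩ := h1
    have h4 := hq.blk a ha b hb hab
    have h5 : Fx Ω Y ⊆ Blk (Fx Ω Y) (UY U Y) a b := by
      intro x hx
      by_cases hxa : x = a
      · exact Or.inl hxa
      · obtain ⟨u, hu, hux⟩ := hd.tr a ha b hb x hx hab.symm hxa
        refine Or.inr ⟨u, ⟨hu, fun v hv y _ => ?_⟩, hux⟩
        rw [commutatorElement_eq_one_iff_mul_comm.2 ((sp1_inv h hz za h2).2 u hu.1 v hv.1),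
          one_smul]
    have h6 := Set.ncard_le_ncard h5 (Set.toFinite _)
    rw [h4, hq.card] at h6
    obtain ⟨k, hk, rfl⟩ := hq.pw
    have h7 : 1 < p ^ k := Nat.one_lt_pow hk.ne' hq.pr.one_lt
    have h8 := Nat.pow_lt_pow_right h7 (show 1 < 3 by norm_num)
    rw [pow_one] at h8
    omega
  · exfalso
    obtain ⟨⟨q, hq⟩, -⟩ := h1
    obtain ⟨j, hj⟩ := hq.ex a ha b hb hab
    have h4 := hq.fx a ha b hb hab j hj
    obtain ⟨m, hm⟩ := hq.pw
    have h5 : 3 ≤ q := by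
      rw [hm, pow_succ]
      have := Nat.pow_pos (n := 2 * m) (show 0 < 3 by norm_num)
      omega
    rcases hq.two a ha b hb hab j hj z zN za zb 1
      (fun x _ => by rw [pow_one, pow_two, hz, one_smul]) with h6 | h6
    · exact ntr h6
    · have h7 : {x | x ∈ Fx Ω Y ∧ j • x = x} ⊆ {x | x ∈ Fx Ω Y ∧ z • x = x} := by
        intro x hx
        refine ⟨hx.1, ?_⟩
        have := h6 x hx.1
        rw [mul_smul, inv_smul_eq_iff] at this
        rw [this, hx.2]
      have := Set.ncard_le_ncard h7 (Set.toFinite _)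
      omega
  · exfalso
    obtain ⟨F, _, _, e, hP⟩ := h1.1 a ha b hb hab
    haveI := hP.two
    obtain ⟨c, d, σ, -, hσ⟩ := hP.Naf z zN
    have hd0 : d = 0 := by
      have := hσ a ha
      rw [za, hP.ea, map_zero, mul_zero, zero_add] at this
      exact this.symm
    have hc1 : c = 1 := by
      have := hσ b hb
      rw [zb, hP.eb, map_one, mul_one, hd0, add_zero] at this
      exact this.symm
    simp only [hd0, hc1, one_mul, add_zero] at hσ
    have s2 : ∀ y : F, σ (σ y) = y := by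
      intro y
      obtain ⟨x, hx, rfl⟩ := hP.bij.surjOn (Set.mem_univ y)
      rw [← hσ x hx, ← hσ _ (hd.inv z zN x hx), ← mul_smul, hz, one_smul]
    have fx : ∀ y : F, σ y = y → y = 0 ∨ y = 1 := by
      intro y hy
      obtain ⟨x, hx, rfl⟩ := hP.bij.surjOn (Set.mem_univ y)
      rw [← hσ x hx] at hy
      rcases sp1_fix hab za zb h2 (hP.bij.injOn (hd.inv z zN x hx) hx hy) with rfl | rfl
      · exact Or.inl hP.ea
      · exact Or.inr hP.eb
    have all : ∀ y : F, y ^ 4 = y := by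
      intro y
      have h22 : (2 : F) = 0 := CharTwo.two_eq_zero
      rcases fx (y + σ y) (by rw [map_add, s2, add_comm]) with h4 | h4
      · have h5 : σ y = y := by linear_combination h4 - y * h22
        rcases fx y h5 with rfl | rfl <;> simp
      · rcases fx (y * σ y) (by rw [map_mul, s2, mul_comm]) with h5 | h5
        · rcases mul_eq_zero.1 h5 with h6 | h6
          · rw [h6]; simp
          · rw [(map_eq_zero σ).1 h6]; simp
        · have h6 : y ^ 2 - y + 1 = 0 := by linear_combination y * h4 - h5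
          linear_combination (y ^ 2 + y) * h6 - y * h22
    have h4 : (Polynomial.X ^ 4 - Polynomial.X : Polynomial F) ≠ 0 :=
      FiniteField.X_pow_card_sub_X_ne_zero F (by norm_num)
    have h5 : (Finset.univ : Finset F).val ⊆ (Polynomial.X ^ 4 - Polynomial.X : Polynomial F).roots := by
      intro y _
      rw [Polynomial.mem_roots h4]
      simp [all y]
    have h6 := Polynomial.card_le_degree_of_subset_roots h5
    rw [FiniteField.X_pow_card_sub_X_natDegree_eq F (by norm_num), Finset.card_univ] at h6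
    have := hP.big
    omega

/-- the final count -/
theorem sp1_count (h : Cx U) (h3 : Ty3 U) (hn : Nat.card Ω % 4 = 2) {z s y : G} (hz : Inv z)
    (h2 : (Fx Ω {z}).ncard = 2) {a b : Ω} (hab : a ≠ b) (za : z • a = a) (zb : z • b = b)
    (hs : Inv s) (sz : s ≠ z) (sa : s • a = a) (sb : s • b = b) (ya : y • a = a) (yb : y • b = b)
    (sy : s * y * s = y⁻¹) (st : Tr (Fx Ω {y}) s) (y4 : (Fx Ω {y}).ncard % 4 = 0)
    {r j : ℕ} (hr : r.Prime) (r2 : r ≠ 2) (yr : y ^ r ^ j = 1) {q : ℕ} (q1 : 1 < q)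
    (hq : q ∣ Nat.card (U a)) (rq : r ∣ q + 1) : False := by
  obtain ⟨zi, cm⟩ := sp1_inv h hz.1 za h2
  have zs : s * z = z * s := sp1_comm h hz.1 hab za zb h2 (Or.inl ⟨sa, sb⟩)
  have zy : y * z = z * y := sp1_comm h hz.1 hab za zb h2 (Or.inl ⟨ya, yb⟩)
  have sinv : s⁻¹ = s := inv_eq_of_mul_eq_one_right hs.1
  have aY : a ∈ Fx Ω {y} := mem_Fx1.2 ya
  have bY : b ∈ Fx Ω {y} := mem_Fx1.2 yb
  -- `s ~ s y` by a power of `y`
  obtain ⟨i, hi⟩ : Odd (r ^ j) := (hr.odd_of_ne_two r2).pow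
  have sc : ∀ k : ℕ, (y ^ k)⁻¹ * s = s * y ^ k := by
    intro k
    have h1 : SemiconjBy s y y⁻¹ := by
      rw [SemiconjBy, ← sy, mul_assoc, hs.1, mul_one]
    rw [← inv_pow]
    exact (h1.pow_right k).eq.symm
  have cj1 : (y ^ (i + 1))⁻¹ * s * ((y ^ (i + 1))⁻¹)⁻¹ = s * y := by
    rw [sc, inv_inv, mul_assoc, ← pow_add, show i + 1 + (i + 1) = r ^ j + 1 by omega, pow_succ,
      yr, one_mul]
  have cj2 : (y ^ (i + 1))⁻¹ * (s * z) * ((y ^ (i + 1))⁻¹)⁻¹ = s * y * z := by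
    have h1 : Commute z (y ^ (i + 1)) := Commute.pow_right zy.symm _
    rw [← cj1, inv_inv, mul_assoc _ _ z, ← h1.eq]
    group
  have n1 := Fx_ncard_conj (Ω := Ω) (isConj_iff.2 ⟨_, cj1⟩)
  have n2 := Fx_ncard_conj (Ω := Ω) (isConj_iff.2 ⟨_, cj2⟩)
  have sya : (s * y) • a = a := by rw [mul_smul, ya, sa]
  have cH : ∀ g : G, g • a = a → g • b = b →
      Nat.card (UY U {g} a) + 1 = (Fx Ω {g}).ncard := fun g ga gb =>
    h.cardY (mem_Fx1.2 ga) ((Set.one_lt_ncard_iff (Set.toFinite _)).2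
      ⟨a, b, mem_Fx1.2 ga, mem_Fx1.2 gb, hab⟩)
  have syb : (s * y) • b = b := by rw [mul_smul, yb, sb]
  have c1 := cH s sa sb
  have c2 := cH _ sya syb
  have c3 := cH (s * z) (by rw [mul_smul, za, sa]) (by rw [mul_smul, zb, sb])
  have c4 := cH (s * y * z) (by rw [mul_smul, za, sya]) (by rw [mul_smul, zb, syb])
  have c5 := cH y ya yb
  have c6 := cH z za zb
  have p1 := h.toC0.parity hs.1
  have p3 := h.toC0.parity (t := s * z) (by
    calc s * z * (s * z) = s * (z * s) * z := by group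
      _ = s * s * (z * z) := by rw [← zs]; group
      _ = 1 := by rw [hs.1, hz.1, one_mul])
  have bw := h.toCb.bw hs hz sz zs sa za
  have c7 : Nat.card (UY U {s, z} a) = 1 := by
    have h1 : UY U {s, z} a ≤ UY U {z} a := fun u hu =>
      mem_UY1.2 ⟨(mem_UY2.1 hu).1, (mem_UY2.1 hu).2.2⟩
    have h4 := card_dvd_of_le h1
    rw [show Nat.card (UY U {z} a) = 1 by omega] at h4
    exact Nat.dvd_one.1 h4
  rw [c7, show Nat.card (UY U {z} a) = 1 by omega, one_pow, mul_one, mul_one] at bw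
  -- the abstract count
  obtain ⟨σ, hσ⟩ := sp1_cj h.toCb sa
  obtain ⟨τ, hτ⟩ := sp1_cj h.toCb sya
  have hστ : ∀ u : U a, (σ (τ u) : G) = y * u * y⁻¹ := by
    intro u
    rw [hσ, hτ]
    calc s * (s * y * u * (s * y)⁻¹) * s⁻¹ = (s * s) * y * u * y⁻¹ * (s * s)⁻¹ := by group
      _ = y * u * y⁻¹ := by rw [hs.1]; group
  have mP : ∀ (g : G) (φ : U a →* U a), (∀ u : U a, (φ u : G) = g * u * g⁻¹) → ∀ u : U a,
      u ∈ (UY U {g} a).subgroupOf (U a) ↔ φ u = u := by
    intro g φ hφ u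
    rw [mem_subgroupOf, mem_UY1, Subtype.ext_iff, hφ, mul_inv_eq_iff_eq_mul]
    exact ⟨fun h1 => h1.2.symm, fun h1 => ⟨u.2, h1.symm⟩⟩
  have mM : ∀ (g : G) (φ : U a →* U a), (∀ u : U a, (φ u : G) = g * u * g⁻¹) → ∀ u : U a,
      u ∈ (UY U {g * z} a).subgroupOf (U a) ↔ φ u = u⁻¹ := by
    intro g φ hφ u
    rw [mem_subgroupOf, mem_UY1, Subtype.ext_iff, hφ, coe_inv]
    have h1 : g * z * u = g * (u : G)⁻¹ * z := by rw [← zi u u.2]; group
    rw [h1]
    constructor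
    · rintro ⟨-, h4⟩
      have h5 : (u : G) * g = g * (u : G)⁻¹ := mul_right_cancel (b := z) (by rw [← h4]; group)
      calc g * u * g⁻¹ = (u : G)⁻¹ * (u * g) * u * g⁻¹ := by group
        _ = (u : G)⁻¹ := by rw [h5]; group
    · intro h4
      refine ⟨u.2, ?_⟩
      calc (u : G) * (g * z) = ((u : G)⁻¹)⁻¹ * g * z := by group
        _ = (g * u * g⁻¹)⁻¹ * g * z := by rw [h4]
        _ = g * (u : G)⁻¹ * z := by group
  have cd : ∀ g : G, Nat.card ((UY U {g} a).subgroupOf (U a)) = Nat.card (UY U {g} a) :=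
    fun g => Nat.card_congr (subgroupOfEquivOfLe inf_le_left).toEquiv
  have oddU := h.ld.odd a (Set.mem_univ a)
  letI : CommGroup (U a) :=
    { (inferInstance : Group (U a)) with mul_comm := fun u v => Subtype.ext (cm u u.2 v v.2) }
  obtain ⟨k1, k2, k3⟩ := sp1_abs (A := U a) (fun u hu => by
      have h1 : orderOf u ∣ 2 := orderOf_dvd_of_pow_eq_one (by rw [pow_two, hu])
      have h4 : orderOf u ∣ Nat.card (U a) := orderOf_dvd_natCard u
      exact orderOf_eq_one_iff.1 (Nat.eq_one_of_dvd_coprimes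
        (Nat.coprime_two_left.2 oddU) h1 h4)) σ τ (fun u => by
      ext
      rw [hσ, hσ]
      calc s * (s * u * s⁻¹) * s⁻¹ = (s * s) * u * (s * s)⁻¹ := by group
        _ = u := by rw [hs.1]; group)
    ((UY U {s} a).subgroupOf (U a)) ((UY U {s * y} a).subgroupOf (U a))
    ((UY U {s * z} a).subgroupOf (U a)) ((UY U {s * y * z} a).subgroupOf (U a))
    ((UY U {y} a).subgroupOf (U a)) (mP s σ hσ) (mP _ τ hτ) (mM s σ hσ) (mM _ τ hτ)
    (mP y (σ.comp τ) hστ) (fun u hu => by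
      rw [mem_subgroupOf] at hu ⊢
      have h1 := (h.ldY {y}).inv u ((h.ldY {y}).le a aY hu) b bY
      exact mem_UY1.2 ⟨u.2, ((h.fix_iff hab (mem_Hb.2 ⟨sa, sb⟩) u.2).1 (st _ h1)).symm⟩)
  simp only [cd] at k1 k2 k3
  -- `U a` is a `p`-group
  have y1 : Fx Ω {y} ⊆ Fx Ω {s} := fun x hx => mem_Fx1.2 (st x hx)
  have y2 := Set.ncard_le_ncard y1 (Set.toFinite _)
  have y3 := Nat.card_pos (α := UY U {y} a)
  obtain ⟨F, _, _, e, π, hQ⟩ := sp1_TL h h3 hn hs (by omega) a (mem_Fx1.2 sa) b (mem_Fx1.2 sb) hab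
  obtain ⟨p, hp⟩ := CharP.exists F
  obtain ⟨m, pp, hm⟩ := FiniteField.card F p
  have cA : Nat.card (UY U {s} a) = p ^ (m : ℕ) := by
    have := hQ.toL2P.card
    omega
  have e1 : Nat.card (UY U {s * y * z} a) = Nat.card (UY U {s * z} a) := by omega
  have e2 : Nat.card (UY U {s * y} a) = Nat.card (UY U {s} a) := by omega
  rw [e1] at k1 k3
  rw [e2] at k2
  have dU : Nat.card (U a) ∣ p ^ (m + m : ℕ) := by
    rw [bw, pow_add, ← cA]
    exact Nat.mul_dvd_mul_left _ k1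
  have pq : p ∣ q := by
    obtain ⟨l, -, hl⟩ := (Nat.dvd_prime_pow pp).1 (hq.trans dU)
    rw [hl]
    refine dvd_pow_self p ?_
    rintro rfl
    rw [pow_zero] at hl
    omega
  have rp : r ≠ p := by
    rintro rfl
    exact hr.one_lt.ne' (Nat.dvd_one.1 ((Nat.dvd_add_right pq).1 rq))
  have k4 := k3 (fun u v hv huv => by
    have h1 : y * u * y⁻¹ = u * v := by rw [← hστ, huv]; rfl
    have h4 : (v : G) * y = y * v := (mem_UY1.1 (mem_subgroupOf.1 hv)).2
    have h5 : ∀ k : ℕ, y ^ k * u * (y ^ k)⁻¹ = u * (v : G) ^ k := by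
      intro k
      induction k with
      | zero => simp
      | succ k ih =>
        have h6 : (v : G) ^ k * y⁻¹ = y⁻¹ * (v : G) ^ k :=
          ((Commute.inv_right h4).pow_left k).eq
        calc y ^ (k + 1) * u * (y ^ (k + 1))⁻¹ = y * (y ^ k * u * (y ^ k)⁻¹) * y⁻¹ := by
              rw [pow_succ']; group
          _ = y * u * ((v : G) ^ k * y⁻¹) := by rw [ih]; group
          _ = y * u * y⁻¹ * (v : G) ^ k := by rw [h6]; group
          _ = u * (v : G) ^ (k + 1) := by rw [h1, pow_succ']; group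
    have h6 := h5 (r ^ j)
    rw [yr, one_mul, inv_one, mul_one, left_eq_mul] at h6
    have h7 : orderOf v ∣ r ^ j := orderOf_dvd_of_pow_eq_one (Subtype.ext h6)
    have h8 : orderOf v ∣ p ^ (m + m : ℕ) := (orderOf_dvd_natCard v).trans dU
    exact orderOf_eq_one_iff.1 (Nat.eq_one_of_dvd_coprimes
      (Nat.coprime_pow_primes _ _ hr pp rp) h7 h8))
  have k5 : Nat.card (UY U {s} a) = Nat.card (UY U {y} a) * Nat.card (UY U {s * z} a) := by
    rw [mul_comm] at k4
    omega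
  have m1 : Nat.card (UY U {y} a) % 4 = 3 := by omega
  have m2 : Nat.card (UY U {s * z} a) % 4 = 1 := by omega
  have m3 : Nat.card (UY U {s} a) % 4 = 1 := by omega
  rw [k5, Nat.mul_mod, m1, m2] at m3
  omega

theorem sp1 (h : Cx U) (h3 : Ty3 U) (hn : Nat.card Ω % 4 = 2) {z : G} (hz : Inv z)
    (h2 : (Fx Ω {z}).ncard = 2) : PrJ z := by
  intro z1 hc1 hm1 hne1
  by_contra hw
  obtain ⟨a, b, hab, hF⟩ := Set.ncard_eq_two.1 h2
  have za : z • a = a := mem_Fx1.1 (by rw [hF]; simp)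
  have zb : z • b = b := mem_Fx1.1 (by rw [hF]; simp)
  have two : ∀ t, IsConj z t → (Fx Ω {t}).ncard = 2 := fun t hc => by
    rw [← Fx_ncard_conj hc, h2]
  -- conjugates commuting with `z` swap `a` and `b`
  have swap : ∀ t, IsConj z t → z * t = t * z → t ≠ z → t • a = b ∧ t • b = a := by
    intro t hc hm hne
    have ta := sp1_fix hab za zb h2 (x := t • a) (by rw [← mul_smul, hm, mul_smul, za])
    have tb := sp1_fix hab za zb h2 (x := t • b) (by rw [← mul_smul, hm, mul_smul, zb])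
    have inj : t • a ≠ t • b := fun e => hab (MulAction.injective t e)
    rcases ta with ta | ta
    · rcases tb with tb | tb
      · exact absurd (ta.trans tb.symm) inj
      · exact absurd (sp1_uniq h hz.1 (sp1_sq hz.1 hc) hab za zb ta tb h2 (two t hc)) hne
    · rcases tb with tb | tb
      · exact ⟨ta, tb⟩
      · exact absurd (ta.trans tb.symm) inj
  have q1 := sp1_sq hz.1 hc1
  obtain ⟨z1a, z1b⟩ := swap z1 hc1 hm1 hne1
  obtain ⟨w, hwdef⟩ : ∃ w, w = z * z1 := ⟨_, rfl⟩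
  rw [← hwdef] at hw
  have wa : w • a = b := by rw [hwdef, mul_smul, z1a, zb]
  have wb : w • b = a := by rw [hwdef, mul_smul, z1b, za]
  have w2 : w * w = 1 := by
    calc w * w = z * (z1 * z) * z1 := by rw [hwdef]; group
      _ = z * z * (z1 * z1) := by rw [← hm1]; group
      _ = 1 := by rw [hz.1, q1, one_mul]
  have wi : Inv w := ⟨w2, fun e => hab (by rw [← wa, e, one_smul])⟩
  have zw : z * w = w * z := by rw [hwdef, mul_assoc, ← hm1]
  have pw := h.toC0.parity w2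
  have w3 : 3 ≤ (Fx Ω {w}).ncard := by
    by_contra h4
    exact hw (sp1_conj h hz.1 h2 w2 (by omega))
  have TLw := sp1_TL h h3 hn wi w3
  have hd := h.ldY {w}
  have zN : z ∈ normalizer ({w} : Set G) := mem_norm1.2 zw
  have zf : ∀ x ∈ Fx Ω {w}, z • x ≠ x := by
    intro x hx e
    have h4 := mem_Fx1.1 hx
    rcases sp1_fix hab za zb h2 e with rfl | rfl
    · exact hab (h4.symm.trans wa)
    · exact hab (wb.symm.trans h4)
  -- the involutions `z_β`
  have exb : ∀ β ∈ Fx Ω {w}, ∃ t, IsConj z t ∧ t • β = β ∧ z * t = t * z ∧ w * t = t * w ∧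
      t • a = b ∧ t • b = a ∧ ∀ x : Ω, t • x = x → x = β ∨ x = z • β := by
    intro β hβ
    have hne := (zf β hβ).symm
    obtain ⟨t, hc, t1, t2⟩ := sp1_ex h h2 hne
    have e1 : z * t = t * z := sp1_comm h (sp1_sq hz.1 hc) hne t1 t2 (two t hc)
      (Or.inr ⟨rfl, by rw [← mul_smul, hz.1, one_smul]⟩)
    have e2 : w * t = t * w := sp1_comm h (sp1_sq hz.1 hc) hne t1 t2 (two t hc)
      (Or.inl ⟨mem_Fx1.1 hβ, mem_Fx1.1 (hd.inv z zN β hβ)⟩)
    have e3 := swap t hc e1 (by rintro rfl; exact zf β hβ t1)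
    exact ⟨t, hc, t1, e1, e2, e3.1, e3.2, fun x hx => sp1_fix hne t1 t2 (two t hc) hx⟩
  obtain ⟨β, hβ⟩ : (Fx Ω {w}).Nonempty := Set.nonempty_of_ncard_ne_zero (by omega)
  obtain ⟨γ, hγ, hγ'⟩ : ∃ γ ∈ Fx Ω {w}, γ ∉ ({β, z • β} : Set Ω) :=
    Set.exists_mem_notMem_of_ncard_lt_ncard (by rw [Set.ncard_pair (zf β hβ).symm]; omega)
      (Set.toFinite _)
  obtain ⟨t, tc, tβ, zt, wt, ta, tb, tf⟩ := exb β hβ
  obtain ⟨t', tc', tγ, zt', wt', ta', tb', tf'⟩ := exb γ hγ
  have t2 := sp1_sq hz.1 tc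
  have t2' := sp1_sq hz.1 tc'
  obtain ⟨r, k, j, hr, r2, rq, yr, yf⟩ := sp1_T (fun c hc d hd' hcd => by
      obtain ⟨F, i1, i2, e, π, hQ⟩ := TLw c hc d hd' hcd
      exact ⟨F, i1, i2, e, hQ.toL2P⟩) hd (by omega) zN (mem_norm1.2 wt.symm)
    (mem_norm1.2 wt'.symm) hz.1 t2 t2' zf (sp1_le_two (two t tc)) (sp1_le_two (two t' tc')) hβ tβ
    hγ tγ zt zt' (by
      intro x _ e1 e2
      apply hγ'
      have zz : ∀ x : Ω, z • z • x = x := fun x => by rw [← mul_smul, hz.1, one_smul]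
      rcases tf' x e2 with rfl | rfl
      · exact tf _ e1
      · rcases tf _ e1 with e3 | e3
        · exact Or.inr (show γ = z • β by rw [← e3, zz])
        · exact Or.inl (MulAction.injective z e3))
  obtain ⟨y, hy⟩ : ∃ y, y = (t * t') ^ k := ⟨_, rfl⟩
  rw [← hy] at yr yf
  have zy : Commute z y := hy ▸ (Commute.mul_right zt zt').pow_right k
  have wy : Commute w y := hy ▸ (Commute.mul_right wt wt').pow_right k
  have z1e : z1 = z * w := by rw [hwdef, ← mul_assoc, hz.1, one_mul]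
  have z1y : Commute z1 y := by rw [z1e]; exact zy.mul_left wy
  have ty : t * y * t⁻¹ = y⁻¹ := by
    have h4 : SemiconjBy t (t * t') (t * t')⁻¹ := by
      rw [SemiconjBy, _root_.mul_inv_rev, inv_eq_of_mul_eq_one_right t2,
        inv_eq_of_mul_eq_one_right t2', mul_assoc t' t t, ← mul_assoc, t2, one_mul, mul_one]
    rw [hy, (h4.pow_right k).eq, inv_pow, mul_inv_cancel_right]
  have yH : y ∈ Hb G a b :=
    hy ▸ pow_mem (mem_Hb.2 ⟨by rw [mul_smul, ta', tb], by rw [mul_smul, tb', ta]⟩) k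
  obtain ⟨ya, yb⟩ := mem_Hb.1 yH
  -- `y` fixes the fixed points of `z1`
  obtain ⟨c, d, hcd, hF1⟩ := Set.ncard_eq_two.1 (two z1 hc1)
  have z1c : z1 • c = c := mem_Fx1.1 (by rw [hF1]; simp)
  have z1d : z1 • d = d := mem_Fx1.1 (by rw [hF1]; simp)
  have yc : y • c = c := by
    rcases sp1_fix hcd z1c z1d (two z1 hc1) (x := y • c)
      (by rw [← mul_smul, z1y.eq, mul_smul, z1c]) with e | e
    · exact e
    · exfalso
      have e' : y • d = c := by
        rcases sp1_fix hcd z1c z1d (two z1 hc1) (x := y • d)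
          (by rw [← mul_smul, z1y.eq, mul_smul, z1d]) with e' | e'
        · exact e'
        · exact absurd (MulAction.injective y (e.trans e'.symm)) hcd
      obtain ⟨i, hi⟩ : Odd (r ^ j) := (hr.odd_of_ne_two r2).pow
      have e2 : (y ^ 2) ^ i • d = d := by
        refine mem_stabilizer_iff.1 (pow_mem (mem_stabilizer_iff.2 ?_) i)
        rw [pow_two, mul_smul, e', e]
      apply hcd
      calc c = y ^ r ^ j • c := by rw [yr, one_smul]
        _ = d := by rw [hi, pow_succ, mul_smul, e, pow_mul, e2]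
  have ca : c ≠ a := by rintro rfl; exact hab (z1c.symm.trans z1a)
  have cb : c ≠ b := by rintro rfl; exact hab (z1b.symm.trans z1c)
  have FY : Fx Ω ({y, y⁻¹} : Set G) = Fx Ω {y} := by
    ext x
    rw [mem_Fx2, mem_Fx1]
    exact ⟨fun e => e.1, fun e => ⟨e, inv_smul_eq_iff.2 e.symm⟩⟩
  have aY : a ∈ Fx Ω ({y, y⁻¹} : Set G) := by rw [FY]; exact mem_Fx1.2 ya
  have bY : b ∈ Fx Ω ({y, y⁻¹} : Set G) := by rw [FY]; exact mem_Fx1.2 yb
  have cY : c ∈ Fx Ω ({y, y⁻¹} : Set G) := by rw [FY]; exact mem_Fx1.2 yc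
  have cN : ∀ g, Commute g y → g ∈ normalizer ({y, y⁻¹} : Set G) := fun g hg =>
    mem_norm2 hg.eq hg.inv_right.eq
  have tN : t ∈ normalizer ({y, y⁻¹} : Set G) := by
    have e : t * y⁻¹ * t⁻¹ = y := by
      calc t * y⁻¹ * t⁻¹ = (t * y * t⁻¹)⁻¹ := by group
        _ = y := by rw [ty, inv_inv]
    intro n
    constructor
    · rintro (rfl | rfl)
      · exact Or.inr ty
      · exact Or.inl e
    · rintro (e1 | e1)
      · exact Or.inr (by rw [← e] at e1; exact mul_left_cancel (mul_right_cancel e1))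
      · exact Or.inl (by rw [← ty] at e1; exact mul_left_cancel (mul_right_cancel e1))
  have y3 : 3 ≤ (Fx Ω ({y, y⁻¹} : Set G)).ncard :=
    (Set.two_lt_ncard_iff (Set.toFinite _)).2 ⟨a, b, c, aY, bY, cY, hab, ca.symm, cb.symm⟩
  have TLy := sp1_Y h hz.1 h2 hab za zb
    ⟨y, Or.inl rfl, fun e => yf β hβ (by rw [e, one_smul])⟩ y3 aY bY (cN z zy)
  have hd' := h.ldY ({y, y⁻¹} : Set G)
  obtain ⟨F, _, _, e, π, hQ⟩ := TLy a aY b bY hab
  have hP := hQ.toL2P
  have dis : ∀ x ∈ Fx Ω ({y, y⁻¹} : Set G), w • x ≠ x := fun x hx e =>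
    yf x (mem_Fx1.2 e) (mem_Fx2.1 hx).1
  have tf0 : ∀ x ∈ Fx Ω ({y, y⁻¹} : Set G), t • x ≠ x := by
    intro x hx e
    apply dis x hx
    rcases tf x e with rfl | rfl
    · exact mem_Fx1.1 hβ
    · exact mem_Fx1.1 (hd.inv z zN β hβ)
  obtain ⟨-, zi, -⟩ := sp1_he hP hd' (cN z zy) hz.1 (sp1_le_two h2)
  obtain ⟨z1l, z1i, -⟩ := sp1_he hP hd' (cN z1 z1y) q1 (sp1_le_two (two z1 hc1))
  obtain ⟨-, -, wi'⟩ := sp1_he hP hd' (cN w wy) w2 (sp1_le_zero dis)
  obtain ⟨tl, -, -⟩ := sp1_he hP hd' tN t2 (sp1_le_zero tf0)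
  have y4 : (Fx Ω ({y, y⁻¹} : Set G)).ncard % 4 = 0 := by
    by_contra h4
    have h5 : (Fx Ω ({y, y⁻¹} : Set G)).ncard % 4 = 2 := by
      obtain ⟨l, hl⟩ := hd'.even (by omega)
      omega
    exact h4 ((wi' dis).1
      (hwdef ▸ sp1_inn_mul hd' ((zi ⟨a, aY, za⟩).2 h5) ((z1i ⟨c, cY, z1c⟩).2 h5)))
  -- `w t` is trivial on the fixed points of `y`
  have sc : ∀ g ∈ normalizer ({y, y⁻¹} : Set G), g ∈ Hb G a b → g * g = 1 →
      ¬ Tr (Fx Ω ({y, y⁻¹} : Set G)) g →
      (∃ A : GL (Fin 2) F, Act e (Fx Ω ({y, y⁻¹} : Set G)) g A (RingEquiv.refl F)) →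
      Sc e (Fx Ω ({y, y⁻¹} : Set G)) g (-1) (RingEquiv.refl F) := by
    rintro g gN gH g2 g1 ⟨A, hA⟩
    rcases hP.tri hd' aY bY gN gH (fun x _ => by rw [g2, one_smul]) with h4 | h4 | h4
    · exact absurd h4 g1
    · exact h4.1
    · obtain ⟨-, -, -, -, c', σ, s1, -, hS⟩ := h4
      obtain ⟨A', -, hA'⟩ := hS.act
      exact absurd (hP.uniq hA' hA).1 s1
  have z1t : z1 * t = t * z1 := by
    rw [z1e, mul_assoc, wt, ← mul_assoc, zt, mul_assoc]
  have S1 := sc z (cN z zy) (mem_Hb.2 ⟨za, zb⟩) hz.1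
    (fun e => (sp1_fix hab za zb h2 (e c cY)).elim ca cb)
    (sp1_he hP hd' (cN z zy) hz.1 (sp1_le_two h2)).1
  have S2 := sc (z1 * t) (mul_mem (cN z1 z1y) tN)
    (mem_Hb.2 ⟨by rw [mul_smul, ta, z1b], by rw [mul_smul, tb, z1a]⟩) (by
      calc z1 * t * (z1 * t) = z1 * (t * z1) * t := by group
        _ = z1 * z1 * (t * t) := by rw [← z1t]; group
        _ = 1 := by rw [q1, t2, one_mul])
    (fun e => tf0 c cY (by
      have e1 := e c cY
      rwa [z1t, mul_smul, z1c] at e1))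
    (sp1_lin_mul hd' tN z1l tl)
  have S3 := sp1_sc_tr hP hd' (mul_mem (cN z zy) (mul_mem (cN z1 z1y) tN)) (by simp)
    (Sc.mul hd' (mul_mem (cN z1 z1y) tN) S1 S2)
  rw [← mul_assoc, ← hwdef, FY] at S3
  rw [FY] at y4 y3
  have cw := h.cardY hβ (by omega)
  have cU := h.card_U β
  refine sp1_count h h3 hn hz h2 hab za zb (s := w * t) (y := y) ⟨?_, ?_⟩ ?_ ?_ ?_ ya yb ?_ S3 y4
    hr r2 yr (q := Nat.card (UY U {w} β)) (by omega) ?_ (by rw [cw]; exact rq)
  · calc w * t * (w * t) = w * (t * w) * t := by group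
      _ = w * w * (t * t) := by rw [← wt]; group
      _ = 1 := by rw [w2, t2, one_mul]
  · intro e1
    have e2 : w = t := by
      rw [eq_inv_of_mul_eq_one_left e1, inv_eq_of_mul_eq_one_right t2]
    rw [e2, two t tc] at w3
    omega
  · intro e1
    rw [e1] at S3
    exact (sp1_fix hab za zb h2 (S3 c (mem_Fx1.2 yc))).elim ca cb
  · rw [mul_smul, ta, wb]
  · rw [mul_smul, tb, wa]
  · calc w * t * y * (w * t) = w * (t * y * t⁻¹) * (t * w * t) := by group
      _ = y⁻¹ * (w * w) * (t * t) := by rw [ty, ← wt, wy.inv_right.eq]; group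
      _ = y⁻¹ := by rw [w2, t2, mul_one, mul_one]
  · rw [h.toCb.card_U a β]
    exact card_dvd_of_le inf_le_left

end H51.HK
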