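import Cfsg.Agent.Lib.HK.Defs2

/-! HKS2, package SP3: the transfer argument of the special case. -/

set_option autoImplicit false

namespace H51.HK

open Subgroup H69

namespace SP3

variable {G : Type*} [Group G]

theorem dec [Finite G] {M : Subgroup G} {y x : G} (hy : ∀ m ∈ M, y * m * y⁻¹ ∈ M)
    (hx : x ∈ M ⊔ zpowers y) : ∃ m ∈ M, ∃ j : ℤ, x = m * y ^ j := by
  have : x ∈ ((M ⊔ zpowers y : Subgroup G) : Set G) := hx
  rw [coe_mul_of_right_le_normalizer_left M (zpowers y)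
    (zpowers_le.2 (mem_normalizer_fintype hy))] at this
  obtain ⟨m, hm, _, ⟨j, rfl⟩, rfl⟩ := this
  exact ⟨m, hm, j, rfl⟩

theorem dec2 [Finite G] {M : Subgroup G} {y x : G} (hy : ∀ m ∈ M, y * m * y⁻¹ ∈ M)
    (h2 : y * y ∈ M) (hx : x ∈ M ⊔ zpowers y) : x ∈ M ∨ x * y⁻¹ ∈ M := by
  obtain ⟨m, hm, j, rfl⟩ := dec hy hx
  obtain ⟨i, rfl | rfl⟩ := Int.even_or_odd' j
  · exact .inl (by rw [zpow_mul, zpow_two]; exact mul_mem hm (zpow_mem h2 _))
  · exact .inr (by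
      rw [zpow_add_one, ← mul_assoc, mul_inv_cancel_right, zpow_mul, zpow_two]
      exact mul_mem hm (zpow_mem h2 _))

theorem odd_gen {x : G} {n : ℕ} (hx : x ^ 2 ^ n = 1) {j : ℤ} (hj : Odd j) :
    x ∈ zpowers (x ^ j) := by
  obtain ⟨u, v, h⟩ := (Int.isCoprime_two_right.2 hj).pow_right (n := n)
  refine ⟨u, ?_⟩
  have e : x ^ ((2 : ℤ) ^ n) = 1 := by exact_mod_cast hx
  calc (x ^ j) ^ u = x ^ (u * j) * (x ^ ((2 : ℤ) ^ n)) ^ v := by
        rw [e, one_zpow, mul_one, ← zpow_mul, mul_comm]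
    _ = x := by rw [← zpow_mul, ← zpow_add, mul_comm _ v, h, zpow_one]

theorem ab {S M : Subgroup G} {f e : G} (Mn : ∀ x ∈ S, ∀ m ∈ M, x * m * x⁻¹ ∈ M) (MS : M ≤ S)
    (fS : f ∈ S) (eS : e ∈ S) (hS : S ≤ M ⊔ zpowers f ⊔ zpowers e)
    (h : e * f * e⁻¹ * f⁻¹ ∈ M) : ∀ x ∈ S, ∀ y ∈ S, x * y * x⁻¹ * y⁻¹ ∈ M := by
  have gen : ∀ y ∈ S, f * y * f⁻¹ * y⁻¹ ∈ M → e * y * e⁻¹ * y⁻¹ ∈ M →
      ∀ x ∈ S, x * y * x⁻¹ * y⁻¹ ∈ M := fun y hy h1 h2 x hx => by
    let K : Subgroup G :=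
      { carrier := {x | x ∈ S ∧ x * y * x⁻¹ * y⁻¹ ∈ M}
        one_mem' := ⟨one_mem _, by simp⟩
        mul_mem' := fun {a b} ha hb => ⟨mul_mem ha.1 hb.1, by
          convert mul_mem (Mn a ha.1 _ hb.2) ha.2 using 1; group⟩
        inv_mem' := fun {a} ha => ⟨inv_mem ha.1, by
          convert Mn _ (inv_mem ha.1) _ (inv_mem ha.2) using 1; group⟩ }
    have : M ⊔ zpowers f ⊔ zpowers e ≤ K := sup_le (sup_le (fun m hm => ⟨MS hm, by
      convert mul_mem hm (Mn y hy _ (inv_mem hm)) using 1; group⟩) (zpowers_le.2 ⟨fS, h1⟩))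
      (zpowers_le.2 ⟨eS, h2⟩)
    exact (this (hS hx)).2
  have sy : ∀ x y : G, x * y * x⁻¹ * y⁻¹ ∈ M → y * x * y⁻¹ * x⁻¹ ∈ M := fun x y k => by
    convert inv_mem k using 1; group
  have h1 := gen f fS (by simp) h
  have h2 := gen e eS (sy _ _ h) (by simp)
  exact fun x hx y hy => gen y hy (sy _ _ (h1 y hy)) (sy _ _ (h2 y hy)) x hx

end SP3

open SP3

variable {G Ω : Type*} [Group G] [MulAction G Ω] [Finite G] [Finite Ω]

omit [MulAction G Ω] [Finite Ω] in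
/-- the transfer argument of the special case -/
theorem sp3
    (tr : ∀ S M : Subgroup G, IsSylowIn 2 S ⊤ → M ≤ S → (∀ s ∈ S, ∀ m ∈ M, s * m * s⁻¹ ∈ M) →
      ∀ f ∈ S, S ≤ M ⊔ zpowers f → ∀ t : G, t * t = 1 → ∃ m ∈ M, IsConj t m)
    {S T : Subgroup G} (hS : IsSylowIn 2 S ⊤) (hT : T ≤ S) (hi : T.relIndex S = 2)
    {z s μ g f : G} {k : ℕ} (hg : orderOf g = 2 ^ (k + 2)) (hz : z = g ^ 2 ^ (k + 1))
    (gT : g ∈ T) (sT : s ∈ T) (fT : f ∈ T) (μS : μ ∈ S) (μT : μ ∉ T) (μ2 : μ * μ = 1)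
    (μg : μ * g * μ = g⁻¹) (si : Inv s) (sg : s * g = g * s) (sμ : s * μ = μ * s)
    (fμ : f * μ = μ * f) (sf : s ∈ zpowers f) (fz : z ∉ zpowers f)
    (nA : ∀ x ∈ S, x * g * x⁻¹ ∈ zpowers g) (nM : ∀ x ∈ S, μ * (x * μ * x⁻¹) ∈ zpowers g)
    (cJ : ¬ IsConj s z ∧ ∀ x ∈ zpowers g, ¬ IsConj s (μ * x))
    (hP : ∀ x ∈ T, x * s = s * x → x ∈ zpowers g ⊔ zpowers f)
    (hf : ∀ x ∈ zpowers f, x * g = g * x → x = 1 ∨ x = s)
    (hV : ∀ x ∈ S, x * s * x⁻¹ = s ∨ x * s * x⁻¹ = s * z)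
    (hsw : ∀ x ∈ S, x * s * x⁻¹ = s * z → ∀ y ∈ zpowers (g * g), x * μ * x⁻¹ ≠ μ * y) : False := by
  have g0 : g ^ 2 ^ (k + 2) = 1 := by rw [← hg, pow_orderOf_eq_one]
  have z2 : z * z = 1 := by rw [hz, ← pow_add, ← two_mul, ← pow_succ', g0]
  have z1 : z ≠ 1 := by
    rw [hz]
    exact pow_ne_one_of_lt_orderOf (by positivity)
      (by rw [hg]; exact Nat.pow_lt_pow_right (by norm_num) (by omega))
  have zB : z ∈ zpowers (g * g) :=
    ⟨(2 ^ k : ℕ), by simp only [zpow_natCast]; rw [hz, ← pow_two, ← pow_mul, pow_succ']⟩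
  have zA : z ∈ zpowers g := hz ▸ pow_mem (mem_zpowers g) _
  have zo : ∀ v : ℤ, z ^ (2 * v) = 1 := fun v => by rw [zpow_mul, zpow_two, z2, one_zpow]
  have μi : μ⁻¹ = μ := inv_eq_of_mul_eq_one_right μ2
  have uq : ∀ x ∈ zpowers g, x * x = 1 → x = 1 ∨ x = z := by
    rintro _ ⟨i, rfl⟩ h
    simp only at h ⊢
    rw [← zpow_add, ← orderOf_dvd_iff_zpow_eq_one, hg] at h
    obtain ⟨c, hc⟩ := h
    have e : g ^ i = z ^ c := by
      rw [hz, ← zpow_natCast, ← zpow_mul]; congr 1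
      push_cast at hc ⊢
      rw [pow_succ] at hc; linarith
    obtain ⟨v, rfl | rfl⟩ := Int.even_or_odd' c
    · exact .inl (e.trans (zo v))
    · exact .inr (by rw [e, zpow_add_one, zo, one_mul])
  have cm : ∀ a ∈ zpowers g, ∀ b ∈ zpowers g, a * b = b * a := by
    rintro _ ⟨i, rfl⟩ _ ⟨j, rfl⟩; exact zpow_mul_comm g i j
  have hc : ∀ x ∈ S, ∃ v : ℤ, ∀ a ∈ zpowers g, x * a * x⁻¹ = a ^ (2 * v + 1) := fun x hx => by
    obtain ⟨r, hr⟩ := nA x hx
    have k : ∀ a ∈ zpowers g, x * a * x⁻¹ = a ^ r := by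
      rintro _ ⟨i, rfl⟩
      simp only at hr ⊢
      rw [← conj_zpow, ← hr, ← zpow_mul, ← zpow_mul, mul_comm]
    obtain ⟨v, rfl | rfl⟩ := Int.even_or_odd' r
    · exact absurd (by simpa [zo] using k z zA) z1
    · exact ⟨v, k⟩
  have An : ∀ x ∈ S, ∀ a ∈ zpowers g, x * a * x⁻¹ ∈ zpowers g := fun x hx a ha => by
    obtain ⟨v, hv⟩ := hc x hx
    exact hv a ha ▸ zpow_mem ha _
  have zc : ∀ x ∈ S, x * z = z * x := fun x hx => by
    obtain ⟨v, hv⟩ := hc x hx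
    rw [← mul_inv_eq_iff_eq_mul, hv z zA, zpow_add_one, zo, one_mul]
  have μa : ∀ a ∈ zpowers g, a * μ = μ * a⁻¹ := by
    rintro _ ⟨i, rfl⟩
    have := conj_zpow (i := i) (a := μ) (b := g)
    rw [μi, μg, inv_zpow] at this
    simp only
    rw [this, ← mul_assoc, ← mul_assoc, μ2, one_mul]
  have sa : ∀ a ∈ zpowers g, s * a = a * s := by
    rintro _ ⟨i, rfl⟩; exact (Commute.zpow_right sg i).eq
  have fs : f * s = s * f := by
    obtain ⟨i, rfl⟩ := sf; exact (Commute.self_zpow f i).eq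
  have AS : zpowers g ≤ S := zpowers_le.2 (hT gT)
  obtain ⟨M, hM0⟩ : ∃ M, M = zpowers g ⊔ zpowers μ := ⟨_, rfl⟩
  have AM : zpowers g ≤ M := hM0 ▸ le_sup_left
  have μM : μ ∈ M := hM0 ▸ mem_sup_right (mem_zpowers μ)
  have MS : M ≤ S := hM0 ▸ sup_le AS (zpowers_le.2 μS)
  have hM : ∀ x ∈ M, x ∈ zpowers g ∨ ∃ a ∈ zpowers g, x = μ * a := fun x hx =>
    (dec2 (An μ μS) (μ2 ▸ one_mem _) (hM0 ▸ hx)).imp_right fun k =>
      ⟨_, inv_mem k, by rw [← μa _ k, inv_mul_cancel_right]⟩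
  have cμ : ∀ x ∈ S, ∃ a ∈ zpowers g, x * μ * x⁻¹ = μ * a := fun x hx =>
    ⟨_, nM x hx, by rw [← mul_assoc μ μ, μ2, one_mul]⟩
  have Mn : ∀ x ∈ S, ∀ m ∈ M, x * m * x⁻¹ ∈ M := fun x hx m hm => by
    obtain k | ⟨a, ha, rfl⟩ := hM m hm
    · exact AM (An x hx m k)
    · obtain ⟨b, hb, e⟩ := cμ x hx
      rw [← conj_mul, e]
      exact mul_mem (mul_mem μM (AM hb)) (AM (An x hx a ha))
  have i2 : ∀ m, IsConj s m → m * m = 1 ∧ m ≠ 1 := fun m hm => by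
    obtain ⟨c, rfl⟩ := isConj_iff.1 hm
    exact ⟨by rw [conj_mul, si.1, mul_one, mul_inv_cancel], by simpa using si.2⟩
  have ns : ∀ m ∈ M, ¬ IsConj s m := fun m hm k => by
    obtain h | ⟨a, ha, rfl⟩ := hM m hm
    · obtain h | h := uq m h (i2 m k).1
      · exact (i2 m k).2 h
      · exact cJ.1 (h ▸ k)
    · exact cJ.2 a ha k
  have sM : ∀ m ∈ M, s * m = m * s := fun m hm => by
    obtain h | ⟨a, ha, rfl⟩ := hM m hm
    · exact sa m h
    · rw [← mul_assoc, sμ, mul_assoc, sa a ha, mul_assoc]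
  have TS : ∀ x ∈ S, x ∈ T ∨ x * μ ∈ T := fun x hx => or_iff_not_imp_left.2 fun k =>
    (mul_mem_iff_of_index_two (H := T.subgroupOf S) hi (a := ⟨x, hx⟩) (b := ⟨μ, μS⟩)).2
      (iff_of_false k μT)
  have Cs : ∀ x ∈ S, x * s = s * x → x ∈ M ⊔ zpowers f := fun x hx k => by
    obtain h | h := TS x hx
    · exact sup_le_sup_right AM _ (hP x h k)
    · have := sup_le_sup_right AM _ (hP _ h (by rw [mul_assoc, ← sμ, ← mul_assoc, k, mul_assoc]))
      exact (mul_mem_cancel_right (mem_sup_left μM)).1 this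
  have t1 : ∀ y ∈ S, ¬ S ≤ M ⊔ zpowers y := fun y hy k => by
    obtain ⟨m, hm, h⟩ := tr S M hS MS Mn y hy k s si.1
    exact ns m hm h
  obtain ⟨e, eT, he⟩ : ∃ e ∈ T, e * s * e⁻¹ = s * z := by
    by_contra! n
    refine t1 f (hT fT) fun x hx => Cs x hx (mul_inv_eq_iff_eq_mul.1 ((hV x hx).resolve_right
      fun k => ?_))
    obtain h | h := TS x hx
    · exact n x h k
    · exact n _ h (by rw [← k, mul_assoc x μ, ← sμ]; group)
  have eS := hT eT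
  have fS := hT fT
  have he' : e⁻¹ * s * e = s * z := by
    calc _ = e⁻¹ * (s * z) * (z * e) := by rw [mul_assoc _ _ (z * e), mul_assoc s,
            ← mul_assoc z z, z2, one_mul, mul_assoc]
      _ = e⁻¹ * (e * s * e⁻¹) * (e * z) := by rw [he, zc e eS]
      _ = _ := by group
  have hS0 : S ≤ M ⊔ zpowers f ⊔ zpowers e := fun x hx => by
    obtain h | h := hV x hx
    · exact mem_sup_left (Cs x hx (mul_inv_eq_iff_eq_mul.1 h))
    · have := Cs _ (mul_mem (inv_mem eS) hx) (by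
        rw [mul_assoc, mul_inv_eq_iff_eq_mul.1 h, ← he]; group)
      exact (mul_mem_cancel_left (mem_sup_right (inv_mem (mem_zpowers e)))).1 (mem_sup_left this)
  obtain ⟨α, hα, j, E1⟩ := dec (An f fS) (hP (e * f * e⁻¹) (mul_mem (mul_mem eT fT) (inv_mem eT))
    (by
      calc _ = e * (f * (e⁻¹ * s * e)) * e⁻¹ := by group
        _ = e * (e⁻¹ * s * e * f) * e⁻¹ := by
            rw [he', ← mul_assoc f, fs, mul_assoc s, zc f fS, mul_assoc s]
        _ = _ := by group))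
  obtain ⟨β, hβ, l, E3⟩ := dec (An f fS) (hP (e * e) (mul_mem eT eT) (by
    calc _ = e * (e * s * e⁻¹) * e := by group
      _ = e * s * e⁻¹ * (e * z * e) := by nth_rw 1 [he]; group
      _ = s * (z * z) * (e * e) := by rw [he, zc e eS]; group
      _ = _ := by rw [z2, mul_one]))
  obtain ⟨v, hv⟩ := hc f fS
  obtain ⟨w, hw⟩ := hc e eS
  have E0 : e * f * e⁻¹ = α * f := by
    have a1 : f ^ j * g * (f ^ j)⁻¹ = f * g * f⁻¹ := by
      have b1 := An _ (inv_mem eS) g (mem_zpowers g)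
      calc _ = α * (f ^ j * g * (f ^ j)⁻¹) * α⁻¹ := by
            rw [cm α hα _ (An _ (zpow_mem fS j) g (mem_zpowers g)), mul_inv_cancel_right]
        _ = (α * f ^ j) * g * (α * f ^ j)⁻¹ := by group
        _ = e * (f * (e⁻¹ * g * e⁻¹⁻¹) * f⁻¹) * e⁻¹ := by rw [← E1]; group
        _ = _ := by rw [hv _ b1, ← conj_zpow, hv g (mem_zpowers g)]; congr 1; group
    obtain h | h := hf (f⁻¹ * f ^ j) (mul_mem (inv_mem (mem_zpowers f)) (zpow_mem (mem_zpowers f) j))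
      (by
        calc _ = f⁻¹ * (f ^ j * g * (f ^ j)⁻¹) * f ^ j := by group
          _ = _ := by rw [a1]; group)
    · rw [E1, ← inv_mul_eq_one.1 h]
    exfalso
    rw [inv_mul_eq_iff_eq_mul.1 h] at E1
    obtain ⟨γ, hγ, E2⟩ := cμ e eS
    have r1 : α * α = γ ^ (2 * v) := by
      have b1 : μ * (α⁻¹ * γ ^ (2 * v + 1)) * (f * s) = μ * (γ * α) * (f * s) := by
        calc _ = α * μ * (f * γ * f⁻¹) * (f * s) := by rw [μa α hα, hv γ hγ]; group
          _ = α * (μ * f) * (γ * s) := by group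
          _ = α * f * (μ * s) * γ := by rw [← fμ, ← sa γ hγ]; group
          _ = e * f * e⁻¹ * (e * μ * e⁻¹) := by rw [← sμ, E1, E2]; group
          _ = e * μ * e⁻¹ * (e * f * e⁻¹) := by rw [conj_mul, conj_mul, fμ]
          _ = _ := by rw [E1, E2]; group
      have b2 := inv_mul_eq_iff_eq_mul.1 (mul_left_cancel (mul_right_cancel b1))
      rw [zpow_add_one, cm γ hγ α hα, ← mul_assoc] at b2
      exact (mul_right_cancel b2).symm
    have r2 : β⁻¹ * β⁻¹ = γ ^ (2 * w + 2) := by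
      refine mul_left_cancel (a := μ) ?_
      calc _ = β * (f ^ l * μ) * (β * f ^ l)⁻¹ := by
            rw [(Commute.zpow_left fμ l).eq, ← mul_assoc μ, ← μa β hβ]; group
        _ = e * (e * μ * e⁻¹) * e⁻¹ := by rw [← mul_assoc β, ← E3]; group
        _ = _ := by rw [E2, ← conj_mul, E2, hw γ hγ]; group
    have r3 : α ^ (2 * w + 1) * α * z = β * β⁻¹ ^ (2 * v + 1) := by
      refine mul_right_cancel (b := f) ?_
      calc _ = α ^ (2 * w + 1) * (α * (f * s) * (s * z)) := by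
            rw [mul_assoc α, mul_assoc f, ← mul_assoc s s, si.1, one_mul, zc f fS]; group
        _ = e * (α * (f * s)) * e⁻¹ := by rw [← conj_mul (b := e), ← conj_mul (a := f), hw α hα, E1, he]
        _ = (e * e) * f * (e * e)⁻¹ := by rw [← E1]; group
        _ = _ := by rw [E3, ← hv _ (inv_mem hβ)]; group
    have r4 : α ^ (2 * w + 1) * α = β * β⁻¹ ^ (2 * v + 1) := by
      calc _ = (α * α) ^ (w + 1) := by rw [← zpow_two]; group
        _ = (β⁻¹ * β⁻¹) ^ v := by rw [r1, r2]; group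
        _ = _ := by rw [← zpow_two]; group
    exact z1 (mul_left_cancel (r3.trans (r4.symm.trans (mul_one _).symm)))
  have hab := ab Mn MS fS eS hS0 (by rw [E0, mul_inv_cancel_right]; exact AM hα)
  obtain ⟨i, rfl | rfl⟩ := Int.even_or_odd' l
  swap
  · obtain ⟨n, hn⟩ := hS.isP ⟨f, fS⟩
    have fe : f ∈ M ⊔ zpowers e := zpowers_le.2 (by
      rw [← mul_mem_cancel_left (mem_sup_left (AM hβ)), ← E3]
      exact mem_sup_right (mul_mem (mem_zpowers e) (mem_zpowers e)))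
      (odd_gen (congrArg Subtype.val hn) (odd_two_mul_add_one i))
    exact t1 e eS (hS0.trans (sup_le (sup_le le_sup_left (zpowers_le.2 fe)) le_sup_right))
  have key : ∀ y ∈ S, y * y ∈ M → e ∈ M ⊔ zpowers y ⊔ zpowers f →
      ∃ m, IsConj s m ∧ m * y⁻¹ ∈ M := fun y hy y2 ye => by
    have l1 : M ⊔ zpowers y ≤ S := sup_le MS (zpowers_le.2 hy)
    obtain ⟨m, hm, h⟩ := tr S _ hS l1 (fun x hx m hm => by
      have := mul_mem (mem_sup_left (hab x hx m (l1 hm))) hm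
      rwa [inv_mul_cancel_right] at this) f fS (hS0.trans (sup_le (sup_le_sup_right le_sup_left _)
        (zpowers_le.2 ye))) s si.1
    exact ⟨m, h, (dec2 (Mn y hy) y2 hm).resolve_left fun k => ns m k h⟩
  obtain ⟨y, hy⟩ : ∃ y, y = e * (f ^ i)⁻¹ := ⟨_, rfl⟩
  have fi := zpow_mem (mem_zpowers f) i
  have fiS := zpow_mem fS i
  have yS : y ∈ S := hy ▸ mul_mem eS (inv_mem fiS)
  have y2 : y * y ∈ M := by
    convert mul_mem (Mn e eS _ (hab _ (inv_mem fiS) e eS)) (AM hβ) using 1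
    rw [hy, eq_mul_inv_of_mul_eq E3.symm]; group
  have ys : y * s * y⁻¹ = s * z := by
    rw [hy, ← he, mul_assoc e, (Commute.zpow_left fs i).inv_left.eq]; group
  obtain ⟨m1, c1, k1⟩ := key y yS y2 (by
    rw [eq_mul_of_mul_inv_eq hy.symm]
    exact mul_mem (mem_sup_left (mem_sup_right (mem_zpowers y))) (mem_sup_right fi))
  obtain ⟨m2, c2, k2⟩ := key (y * s) (mul_mem yS (hT sT)) (by
      convert mul_mem (Mn y yS _ (hab s (hT sT) y yS)) y2 using 1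
      rw [← mul_one (_ * (y * y)), ← si.1]; group) (by
    rw [eq_mul_of_mul_inv_eq hy.symm]
    refine mul_mem ?_ (mem_sup_right fi)
    exact (mul_mem_cancel_right (mem_sup_right sf)).1
      (mem_sup_left (mem_sup_right (mem_zpowers _))))
  have m1S : m1 ∈ S := (mul_mem_cancel_right (inv_mem yS)).1 (MS k1)
  have i1 : m1⁻¹ = m1 := inv_eq_of_mul_eq_one_right (i2 m1 c1).1
  have m1s : m1 * s * m1⁻¹ = s * z := by
    calc _ = m1 * y⁻¹ * (y * s * y⁻¹) * (m1 * y⁻¹)⁻¹ := by group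
      _ = _ := by rw [ys, ← mul_assoc, ← sM _ k1, mul_assoc s, zc _ (MS k1)]; group
  obtain ⟨m, hm, rfl⟩ : ∃ m ∈ M, m2 = m1 * m * s :=
    ⟨_, Mn _ (inv_mem yS) _ (mul_mem (inv_mem k1) k2), by group⟩
  have e2 : m1 * m * m1⁻¹ * z * m = 1 := by
    calc _ = m1 * m * m1⁻¹ * (z * m * (s * s)) := by rw [si.1]; group
      _ = m1 * m * m1⁻¹ * (s * z * (m1 * m1) * m * s) := by
          rw [(i2 m1 c1).1, mul_one, zc s (hT sT), mul_assoc z s, sM m hm]; group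
      _ = _ := by rw [← m1s, ← (i2 _ c2).1]; group
  obtain ⟨_, ⟨c, rfl⟩, E2⟩ := cμ m1 m1S
  simp only at E2
  have nb := hsw m1 m1S m1s
  have co : Odd c := by
    obtain ⟨u, rfl | rfl⟩ := Int.even_or_odd' c
    · exact absurd E2 (nb _ ⟨u, by simp only; rw [zpow_mul, zpow_two]⟩)
    · exact odd_two_mul_add_one u
  have iv : ∀ a ∈ zpowers g, m1 * a * m1⁻¹ = a⁻¹ := fun a ha => by
    obtain ⟨n, rfl⟩ := zpowers_le.2 (odd_gen g0 co) ha
    have : m1 * g ^ c * m1⁻¹ = (g ^ c)⁻¹ := by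
      refine eq_inv_of_mul_eq_one_right (mul_left_cancel (a := μ) ?_)
      rw [← mul_assoc, ← E2, conj_mul, ← E2, i1, ← mul_assoc, ← mul_assoc, (i2 m1 c1).1, one_mul,
        mul_assoc, (i2 m1 c1).1]
    simp only
    rw [← conj_zpow, this, inv_zpow]
  obtain h | ⟨_, ⟨n, rfl⟩, rfl⟩ := hM m hm
  · rw [iv m h, mul_assoc, ← zc m (MS hm), inv_mul_cancel_left] at e2
    exact z1 e2
  · simp only at e2
    have ha := zpow_mem (mem_zpowers g) n
    have hb := mul_mem (mul_mem (zpow_mem (mem_zpowers g) c) (inv_mem ha)) zA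
    refine nb ((g * g) ^ n * z⁻¹) (mul_mem (zpow_mem (mem_zpowers _) n) (inv_mem zB)) ?_
    rw [← conj_mul, E2, iv _ ha] at e2
    have e3 : (g ^ c * (g ^ n)⁻¹ * z)⁻¹ * g ^ n = 1 := by
      calc _ = μ * (μ * (g ^ c * (g ^ n)⁻¹ * z)⁻¹) * g ^ n := by
            rw [← mul_assoc μ μ, μ2, one_mul]
        _ = _ := by rw [← μa _ hb, ← e2]; group
    rw [inv_mul_eq_one, mul_assoc, cm _ (inv_mem ha) z zA] at e3
    rw [E2]; congr 1
    calc _ = g ^ c * (z * (g ^ n)⁻¹) * g ^ n * z⁻¹ := by group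
      _ = _ := by rw [e3, ← zpow_two g]; group

end H51.HK
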