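import Cfsg.Agent.Lib.HK.SP2a
import Cfsg.Agent.Lib.HK.SP3

/-! The special case: the structure of a Sylow 2-subgroup. -/

set_option autoImplicit false
set_option linter.unusedSectionVars false

namespace H38.SP2

open MulAction Subgroup H69 H51.HK

variable {G Ω : Type*} [Group G] [MulAction G Ω] [Finite G] [Finite Ω]

variable {a b p p' : Ω} {z y g k s μ : G}

theorem nrm {A : Subgroup G} (h : ∀ r ∈ A, g * r * g⁻¹ ∈ A) : g ∈ normalizer (A : Set G) :=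
  mem_normalizer_of_cj_le fun x hx => by
    obtain ⟨r, hr, rfl⟩ := mem_cj'.1 hx
    exact h r hr

theorem Ctx.exfix (h : Ctx a b z) (sH : s ∈ Hb G a b) (s2 : s * s = 1) (n : s ≠ z) :
    ∃ p : Ω, s • p = p ∧ z • p ≠ p := by
  by_contra! e
  refine n (h.uq _ _ a b h.ne ⟨s2, fun x => ⟨fun hx => (h.tz.2 x).1 (e x hx), ?_⟩⟩ h.tz)
  rintro (rfl | rfl)
  exacts [(mem_Hb.1 sH).1, (mem_Hb.1 sH).2]

theorem Ctx.exW (h : Ctx a b z) (ex : ∀ c d : Ω, c ≠ d → ∃ y : G, Tw y c d) (n : z • p ≠ p) :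
    ∃ y : G, WW a b y ∧ y • p = p := by
  obtain ⟨y, t⟩ := ex _ _ n.symm
  have c := h.cm n.symm t (Or.inr ⟨rfl, h.zz p⟩)
  have j : JJ Ω y := ⟨_, _, n.symm, t⟩
  rcases h.cases c.symm.eq with e | ⟨e1, e2⟩
  · exact absurd (h.eq_z j e ▸ t.l) n
  · exact ⟨y, ⟨j, e1, e2⟩, t.l⟩

theorem Ctx.rel (h : Ctx a b z) (w : WW a b μ) {K : Subgroup G} (hK : K ≤ centralizer {z})
    (m : μ ∈ K) : (Hb G a b).relIndex K = 2 := by
  refine relIndex_eq_two_iff.2 ⟨μ, m, fun x hx => ?_⟩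
  rcases h.cases (mem_centralizer_singleton_iff.1 (hK hx)) with e | ⟨e1, e2⟩
  · exact Or.inr ⟨e, fun e' => h.ne (by
      have := (mem_Hb.1 e').1
      rwa [mul_smul, w.l, (mem_Hb.1 e).2, eq_comm] at this)⟩
  · exact Or.inl ⟨mem_Hb.2 ⟨by rw [mul_smul, w.l, e2], by rw [mul_smul, w.r, e1]⟩,
      fun e' => h.ne ((mem_Hb.1 e').1.symm.trans e1)⟩

/-- the centraliser of `μ` and `g` in `T` -/
theorem Ctx.four (h : Ctx a b z) (hr : Rk2 G Ω) {T : Subgroup G} (hT : IsPGroup 2 T)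
    (hH : T ≤ Hb G a b) (zT : z ∈ T) (sT : s ∈ T) (si : Inv s) (sz : s ≠ z) (w : WW a b μ)
    (w' : WW a b y) (e : μ • p = p) (e' : y • p' = p') (sp : s • p = p) (sp' : (s * z) • p' = p')
    (kT : k ∈ T) (c : Commute k μ) (c' : Commute k y) : k = 1 ∨ k = s ∨ k = z ∨ k = s * z := by
  haveI : Fact (Nat.Prime 2) := ⟨Nat.prime_two⟩
  have n := h.zne w e
  have n' := h.zne w' e'
  have cs := h.cmH (hH sT)
  have s1 : s • p' = z • p' := by
    rw [cs.eq, mul_smul] at sp'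
    rw [← h.zz (s • p'), sp']
  have mv : ∀ {x y : G} {q : Ω}, WW a b y → y • q = q → x ∈ T → Commute x y → ∀ r ∈ T, r • q = q →
      (x * r * x⁻¹) • q = q := fun {x y q} w e hx c r hr f => by
    rw [mul_smul, mul_smul, smul_eq_iff_eq_inv_smul]
    rcases (h.twW w e).mv c.inv_left.eq with e1 | e1 <;> rw [e1]
    · exact f
    · rw [← mul_smul, (h.cmH (hH hr)).eq, mul_smul, f]
  have c0 : T ⊓ (stabilizer G p ⊓ stabilizer G p') = ⊥ := by
    by_contra ne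
    have := inf_centralizer_ne_bot (T := T ⊓ centralizer {μ, y}) (hT.to_le inf_le_left)
      (hT.to_le inf_le_left) (fun x hx => nrm (fun r hr => by
        have c1 := mem_centralizer_iff.1 hx.2 μ (by simp)
        have c2 := mem_centralizer_iff.1 hx.2 y (by simp)
        exact mem_inf.2 ⟨T.mul_mem (T.mul_mem hx.1 hr.1) (T.inv_mem hx.1), mem_inf.2
          ⟨mv w e hx.1 c1.symm r hr.1 hr.2.1, mv w' e' hx.1 c2.symm r hr.1 hr.2.2⟩⟩)) ne
    obtain ⟨r, hr', o⟩ := exists_orderOf_eq_prime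
      ((hT.to_le inf_le_left).to_le inf_le_left) this
    have r2 : r * r = 1 := by rw [← pow_two, ← o, pow_orderOf_eq_one]
    have f1 : r • p = p := hr'.1.2.1
    have f2 : r • p' = p' := hr'.1.2.2
    have sm : s ∈ T ⊓ centralizer {μ, y} := mem_inf.2 ⟨sT, mem_centralizer_iff.2 (by
      rintro _ (rfl | rfl)
      · exact (h.cm_fix w e (hH sT) sp).symm
      · have := (h.cm_fix w' e' (hH (mul_mem sT zT)) sp').mul_left (h.cmW w').symm
        rw [mul_assoc, h.tz.1, mul_one] at this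
        exact this.symm)⟩
    rcases hr a b h.ne s (hH sT) z h.zH r (hH hr'.1.1) si ⟨h.tz.1, h.z1⟩ sz r2 cs
      (mem_centralizer_iff.1 hr'.2 s sm) (h.cmH (hH hr'.1.1)).symm with rfl | rfl | rfl | rfl
    · simp at o
    · exact n' (s1.symm.trans f2)
    · exact n f1
    · rw [cs.eq, mul_smul, sp] at f1
      exact n f1
  have k0 : ∀ r ∈ T, r • k • p = p → r • k • p' = p' → k = r⁻¹ := fun r hr f1 f2 =>
    eq_inv_of_mul_eq_one_right (mem_bot.1 (c0 ▸ mem_inf.2 ⟨mul_mem hr kT, mem_inf.2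
      ⟨by rwa [mem_stabilizer_iff, mul_smul], by rwa [mem_stabilizer_iff, mul_smul]⟩⟩))
  have i1 := inv_eq_of_mul_eq_one_right si.1
  have i2 := inv_eq_of_mul_eq_one_right h.tz.1
  rcases (h.twW w e).mv c.eq with e1 | e1 <;> rcases (h.twW w' e').mv c'.eq with e2 | e2
  · exact Or.inl (by simpa using k0 1 (one_mem _) (by simpa using e1) (by simpa using e2))
  · exact Or.inr (Or.inl (i1 ▸ k0 s sT (by rw [e1, sp]) (by rw [e2, ← mul_smul, sp'])))
  · refine Or.inr (Or.inr (Or.inr ?_))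
    rw [k0 _ (mul_mem sT zT) (by rw [e1, mul_smul, h.zz, sp]) (by rw [e2, sp']), mul_inv_rev, i1, i2,
      cs.eq]
  · exact Or.inr (Or.inr (Or.inl (i2 ▸ k0 z zT (by rw [e1, h.zz]) (by rw [e2, h.zz]))))

theorem Ctx.main (h : Ctx a b z) (hr : Rk2 G Ω)
    (tr : ∀ S M : Subgroup G, IsSylowIn 2 S ⊤ → M ≤ S → (∀ s ∈ S, ∀ m ∈ M, s * m * s⁻¹ ∈ M) →
      ∀ f ∈ S, S ≤ M ⊔ zpowers f → ∀ t : G, t * t = 1 → ∃ m ∈ M, IsConj t m)
    (ex : ∀ c d : Ω, c ≠ d → ∃ y : G, Tw y c d)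
    (odd : (Hb G a b).relIndex (centralizer {z}) = 2 → ¬ 2 ∣ (centralizer ({z} : Set G)).index)
    (sH : s ∈ Hb G a b) (si : Inv s) (sz : s ≠ z)
    (c1 : ∀ μ, WW a b μ → WW a b (μ * z) → Commute s μ → Fs Ω s μ → Fs Ω s (μ * z))
    (c2 : ∀ p : Ω, z • p ≠ p → s • p = p → ∀ P : Subgroup G,
      (∀ x ∈ P, x ∈ Hb G a b ∧ Commute x s ∧ x • p = p) →
        ∃ f ∈ P, ∀ x ∈ P, ∃ n : ℤ, ∀ c : Ω, s • c = c → (x * (f ^ n)⁻¹) • c = c) : False := by
  haveI : Fact (Nat.Prime 2) := ⟨Nat.prime_two⟩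
  have cs := h.cmH sH
  have szH := mul_mem sH h.zH
  have sz2 : s * z * (s * z) = 1 := by
    rw [mul_assoc, ← mul_assoc z, ← cs.eq, mul_assoc, h.tz.1, mul_one, si.1]
  obtain ⟨p, sp, zp⟩ := h.exfix sH si.1 sz
  obtain ⟨p₀, sp₀, zp₀⟩ := h.exfix szH sz2 (by simpa using si.2)
  obtain ⟨μ, w, e⟩ := h.exW ex zp
  obtain ⟨ν, w₀, e₀⟩ := h.exW ex zp₀
  have sμ := h.cm_fix w e sH sp
  have sν : Commute s ν := by
    have := (h.cm_fix w₀ e₀ szH sp₀).mul_left (h.cmW w₀).symm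
    rwa [mul_assoc, h.tz.1, mul_one] at this
  have fμ := h.fs_of w e sH sp
  have wz : WW a b (μ * z) := Ctx.mulW w h.zH (h.pr _ _ w.j ⟨a, b, h.ne, h.tz⟩ (h.cmW w).eq
    fun q => zp (q ▸ e))
  -- the 2-element `η`
  obtain ⟨η, ηH, ⟨i₀, η2⟩, jη, fη, sη⟩ : ∃ η ∈ Hb G a b, (∃ i : ℕ, η ^ 2 ^ i = 1) ∧ JJ Ω (μ * η) ∧
      Fs Ω (s * z) (μ * η) ∧ Commute s η := by
    obtain ⟨i, m, ⟨m, rfl⟩, hm⟩ := Nat.exists_eq_two_pow_mul_odd (orderOf_pos (μ * ν)).ne'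
    have q : μ * (μ * ν) = ν := by rw [← mul_assoc, w.j.sq, one_mul]
    have q' := zpow_odd w.j.sq (inv_of_sq (g := μ * ν) w.j.sq (by rw [q, w₀.j.sq])) m
    rw [q] at q'
    refine ⟨(μ * ν) ^ (2 * (m : ℤ) + 1), zpow_mem (Ctx.mulH w w₀) _, ⟨i, ?_⟩, q' ▸ w₀.j.conj _,
      q' ▸ (h.fs_of w₀ e₀ szH sp₀).conj' (Commute.zpow_left ((sμ.mul_right sν).symm.mul_right
        (h.cmH (Ctx.mulH w w₀))) _), (sμ.mul_right sν).zpow_right _⟩
    rw [show 2 * (m : ℤ) + 1 = ((2 * m + 1 : ℕ) : ℤ) by push_cast; ring, zpow_natCast, ← pow_mul,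
      mul_comm, ← hm, pow_orderOf_eq_one]
  have η1 : η ≠ 1 := fun q => h.not_both w fμ (by simpa [q] using fη)
  have ηz : η ≠ z := fun q => h.not_both wz (c1 μ w wz sμ fμ) (q ▸ fη)
  have μη := inv_of_sq w.j.sq jη.sq
  have μi : μ⁻¹ = μ := inv_eq_of_mul_eq_one_right w.j.sq
  -- the Sylow subgroup
  have pz : ∀ {x : G} {i : ℕ}, x ^ 2 ^ i = 1 → IsPGroup 2 (zpowers x) := fun {x i} hx => by
    rintro ⟨_, n, rfl⟩
    exact ⟨i, Subtype.ext (by
      change (x ^ n) ^ 2 ^ i = 1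
      rw [← zpow_natCast, ← zpow_mul, mul_comm, zpow_mul, zpow_natCast, hx, one_zpow])⟩
  have pR : IsPGroup 2 (zpowers s ⊔ (zpowers μ ⊔ zpowers η) : Subgroup G) := by
    refine IsPGroup.to_sup_of_normal_left' (pz (i := 1) (by rw [pow_one, pow_two, si.1]))
      (IsPGroup.to_sup_of_normal_right' (pz (i := 1) (by rw [pow_one, pow_two, w.j.sq])) (pz η2)
        (zpowers_le.2 (nrm ?_))) ((sup_le (zpowers_le.2 ?_)
          (zpowers_le.2 ?_)).trans (centralizer_le_normalizer _))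
    · rintro _ ⟨n, rfl⟩
      rw [← conj_zpow, μi, μη]
      exact zpow_mem (inv_mem (mem_zpowers η)) n
    · rintro _ ⟨n, rfl⟩
      exact sμ.zpow_left n
    · rintro _ ⟨n, rfl⟩
      exact sη.zpow_left n
  have mc : ∀ {x : G}, Commute x z → x ∈ centralizer ({z} : Set G) := fun c =>
    mem_centralizer_singleton_iff.2 c
  obtain ⟨S, hS, hR⟩ := exists_isSylowIn_le (L := centralizer {z}) pR (sup_le (zpowers_le.2 (mc cs))
    (sup_le (zpowers_le.2 (mc (h.cmW w))) (zpowers_le.2 (mc (h.cmH ηH)))))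
  have sS : s ∈ S := hR (mem_sup_left (mem_zpowers s))
  have μS : μ ∈ S := hR (mem_sup_right (mem_sup_left (mem_zpowers μ)))
  have ηS : η ∈ S := hR (mem_sup_right (mem_sup_right (mem_zpowers η)))
  have hS' : IsSylowIn 2 S ⊤ := hS.trans_of_not_dvd le_top (by
    rw [relIndex_top_right]; exact odd (h.rel w le_rfl (mc (h.cmW w))))
  have cz : ∀ x ∈ S, x * z = z * x := fun x hx => mem_centralizer_singleton_iff.1 (hS.le hx)
  obtain ⟨T, hTd⟩ : ∃ T, T = Hb G a b ⊓ S := ⟨_, rfl⟩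
  have hH : T ≤ Hb G a b := hTd ▸ inf_le_left
  have TS : T ≤ S := hTd ▸ inf_le_right
  have mT : ∀ {x}, x ∈ Hb G a b → x ∈ S → x ∈ T := fun h1 h2 => hTd ▸ mem_inf.2 ⟨h1, h2⟩
  have hT : IsPGroup 2 T := hS.isP.to_le TS
  have sT := mT sH sS
  obtain ⟨g, gT, jg, hc⟩ := h.k3 hT hH w
  have ηg := hc η (mT ηH ηS) jη
  obtain ⟨i₁, g2⟩ := Ctx.two hT gT
  obtain ⟨k, og, zg⟩ := h.ord4 w.j (hH gT) g2 jg
    (fun q => η1 (by simpa [q] using ηg)) fun q => (mem_zp2 h.tz.1 (q ▸ ηg)).elim η1 ηz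
  have zA : z ∈ zpowers g := zg ▸ pow_mem (mem_zpowers g) _
  have zT : z ∈ T := zpowers_le.2 gT zA
  have sg : Commute s g := by
    obtain ⟨l, -, zl⟩ := h.ord4 w.j ηH η2 jη η1 ηz
    exact h.k4 hT hH w sT si.1 sμ (pow_mem (mT ηH ηS) (2 ^ l))
      (w.j.of_mem jη (pow_mem (mem_zpowers η) _)) (by rw [zl, ← pow_add, pow_succ, mul_two])
      (sη.pow_right _) gT jg
  have μg := inv_of_sq w.j.sq jg.sq
  have gz := h.cmH (hH gT)
  have wA : ∀ x ∈ zpowers g, WW a b (μ * x) := fun x hx =>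
    Ctx.mulW w (hH (zpowers_le.2 gT hx)) (w.j.of_mem jg hx)
  have fe : ∀ m : ℤ, Fs Ω s (μ * g ^ (2 * m)) := fun m =>
    zpow_even w.j.sq μg m ▸ fμ.conj' (sg.symm.zpow_left _)
  have fg : Fs Ω (s * z) (μ * g) := by
    obtain ⟨n, rfl⟩ := ηg
    obtain ⟨m, rfl | rfl⟩ := Int.even_or_odd' n
    · exact (h.not_both (wA _ (zpow_mem (mem_zpowers g) _)) (fe m) fη).elim
    · have := fη.conj' ((sg.symm.mul_right gz).zpow_left m)
      simp only at this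
      rwa [zpow_odd w.j.sq μg, show g ^ m * (g ^ (-m) * (μ * g) * (g ^ (-m))⁻¹) * (g ^ m)⁻¹ = μ * g by
        group] at this
  have fo : ∀ m : ℤ, Fs Ω (s * z) (μ * g ^ (2 * m + 1)) := fun m =>
    zpow_odd w.j.sq μg m ▸ fg.conj' ((sg.symm.mul_right gz).zpow_left _)
  have wg := wA g (mem_zpowers g)
  obtain ⟨p', _, -, t'⟩ := id jg
  have xA : ∀ x ∈ S, ∀ y ∈ S, WW a b y → μ * (x * y * x⁻¹) ∈ zpowers g := fun x hx y hy wy => by
    have w1 := h.conjW wy (cz x hx)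
    exact hc _ (mT (Ctx.mulH w w1) (mul_mem μS (mul_mem (mul_mem hx hy) (inv_mem hx))))
      (by rw [← mul_assoc, w.j.sq, one_mul]; exact w1.j)
  have nM := fun x hx => xA x hx μ μS w
  have nA : ∀ x ∈ S, x * g * x⁻¹ ∈ zpowers g := fun x hx => by
    have := mul_mem (inv_mem (nM x hx)) (xA x hx _ (mul_mem μS (TS gT)) wg)
    rwa [show (μ * (x * μ * x⁻¹))⁻¹ * (μ * (x * (μ * g) * x⁻¹)) = x * g * x⁻¹ by group] at this
  have four : ∀ x ∈ T, Commute x μ → Commute x g → x = 1 ∨ x = s ∨ x = z ∨ x = s * z :=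
    fun x hx c c' => h.four hr hT hH zT sT si sz w wg e t'.l sp (fg _ t'.l) hx c (c.mul_right c')
  have szp : (s * z) • p ≠ p := by rwa [cs.eq, mul_smul, sp]
  have two : ∀ x ∈ T, x • p = p → Commute x g → x = 1 ∨ x = s := fun x hx f c => by
    rcases four x hx (h.cm_fix w e (hH hx) f) c with q | q | rfl | rfl
    exacts [Or.inl q, Or.inr q, absurd f zp, absurd f szp]
  -- the cyclic group `P`
  obtain ⟨P, mP⟩ : ∃ P : Subgroup G, ∀ x, x ∈ P ↔ x ∈ T ∧ Commute x s ∧ x • p = p :=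
    ⟨T ⊓ (centralizer {s} ⊓ stabilizer G p), fun x =>
      and_congr_right fun _ => and_congr_left fun _ => mem_centralizer_singleton_iff⟩
  have sP : s ∈ P := (mP s).2 ⟨sT, rfl, sp⟩
  obtain ⟨f, fP, sf, hf⟩ : ∃ f ∈ P, s ∈ zpowers f ∧ ∀ x ∈ P, x ∈ zpowers f := by
    obtain ⟨f, fP, hf⟩ := c2 p zp sp P fun x hx => ⟨hH ((mP x).1 hx).1, ((mP x).1 hx).2⟩
    have k1 : ∀ x ∈ P, x ∈ zpowers f ∨ ∃ y ∈ zpowers f, x = s * y := fun x hx => by
      obtain ⟨n, hn⟩ := hf x hx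
      obtain ⟨m1, -, m3⟩ := (mP _).1 (mul_mem hx (inv_mem (zpow_mem fP n)))
      have c : Commute (x * (f ^ n)⁻¹) g := by
        generalize x * (f ^ n)⁻¹ = u at *
        by_contra nc
        have m4 := mul_mem (nA u (TS m1)) (inv_mem (mem_zpowers g))
        obtain ⟨l, hl⟩ := Ctx.two hT (zpowers_le.2 gT m4)
        have m5 := h.k1 w.j (hH (zpowers_le.2 gT m4)) hl (w.j.of_mem jg m4) fun q =>
          nc (mul_inv_eq_iff_eq_mul.1 (mul_inv_eq_one.1 q))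
        refine zp (zpowers_le.2 (show _ ∈ stabilizer G p from ?_) m5)
        have m6 : s • g⁻¹ • p = g⁻¹ • p := by rw [← mul_smul, sg.inv_right.eq, mul_smul, sp]
        rw [mem_stabilizer_iff, mul_smul, mul_smul, inv_smul_eq_iff.2 (hn _ m6).symm, mul_smul,
          smul_inv_smul, m3]
      rcases two _ m1 m3 c with q | q
      · exact Or.inl (mul_inv_eq_one.1 q ▸ zpow_mem (mem_zpowers f) n)
      · exact Or.inr ⟨_, zpow_mem (mem_zpowers f) n, mul_inv_eq_iff_eq_mul.1 q⟩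
    by_cases f1 : f = 1
    · refine ⟨s, sP, mem_zpowers s, fun x hx => ?_⟩
      rcases k1 x hx with q | ⟨y, q, rfl⟩ <;> rw [f1, zpowers_one_eq_bot, mem_bot] at q <;> rw [q]
      exacts [one_mem _, mul_mem (mem_zpowers s) (one_mem _)]
    · obtain ⟨l, hl⟩ := Ctx.two hT ((mP f).1 fP).1
      obtain ⟨r, r1, r2, r3⟩ := ex_inv hl f1
      obtain ⟨m1, m2, m3⟩ := (mP r).1 (zpowers_le.2 fP r1)
      have sf : s ∈ zpowers f := by
        rcases hr a b h.ne s sH z h.zH r (hH m1) si ⟨h.tz.1, h.z1⟩ sz r2 cs m2.symm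
          (h.cmH (hH m1)).symm with q | rfl | rfl | rfl
        exacts [absurd q r3, r1, absurd m3 zp, absurd m3 szp]
      refine ⟨f, fP, sf, fun x hx => ?_⟩
      rcases k1 x hx with q | ⟨y, q, rfl⟩
      exacts [q, mul_mem sf q]
  have fP' := fun x (hx : x ∈ zpowers f) => (mP x).1 (zpowers_le.2 fP hx)
  have nj : ∀ y, JJ Ω y → ¬ IsConj s y := fun y j c => sz (h.eq_z (j.of_isConj c.symm) sH)
  refine sp3 tr hS' TS (by rw [hTd, inf_relIndex_right]; exact h.rel w hS.le μS) og zg gT sT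
    ((mP f).1 fP).1 μS (fun q => h.ne ((mem_Hb.1 (hH q)).1.symm.trans w.l)) w.j.sq μg si sg sμ
    (h.cm_fix w e (hH ((mP f).1 fP).1) ((mP f).1 fP).2.2) sf (fun q => zp (fP' z q).2.2) nA nM
    ⟨nj z ⟨a, b, h.ne, h.tz⟩, fun x hx => nj _ (wA x hx).j⟩ (fun x hx c => ?_)
    (fun x hx c => two x (fP' x hx).1 (fP' x hx).2.2 c) (fun x hx => ?_) fun x hx c y hy q => ?_
  · obtain ⟨n, hn⟩ := nM x (TS hx)
    simp only at hn
    have q : x * μ * x⁻¹ = μ * g ^ n := by rw [hn, ← mul_assoc, w.j.sq, one_mul]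
    obtain ⟨m, rfl | rfl⟩ := Int.even_or_odd' n
    · rw [zpow_even w.j.sq μg] at q
      have m1 := mul_mem (zpow_mem gT m) hx
      have m2 : Commute (g ^ m * x) s := (sg.symm.zpow_left m).mul_left c
      have m3 : g ^ m * x * μ = μ * (g ^ m * x) := by
        calc _ = g ^ m * (x * μ * x⁻¹) * x := by group
          _ = _ := by rw [q]; group
      have m4 := mem_sup_left (T := zpowers f) (zpow_mem (mem_zpowers g) m)
      rcases (h.twW w e).mv m3 with e1 | e1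
      · exact (mul_mem_cancel_left m4).1 (mem_sup_right (hf _ ((mP _).2 ⟨m1, m2, e1⟩)))
      · refine (mul_mem_cancel_left m4).1 ((mul_mem_cancel_left (mem_sup_left zA)).1
          (mem_sup_right (hf _ ((mP _).2 ⟨mul_mem zT m1, cs.symm.mul_left m2, ?_⟩))))
        rw [mul_smul, e1, h.zz]
    · exact (h.not_both (wA _ (zpow_mem (mem_zpowers g) _)) (q ▸ fμ.conj' c) (fo m)).elim
  · have cA : ∀ y ∈ zpowers g, Commute s y := by
      rintro _ ⟨n, rfl⟩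
      exact sg.zpow_right n
    have cj : ∀ y, Commute s (x⁻¹ * y * x⁻¹⁻¹) → Commute (x * s * x⁻¹) y := fun y c => by
      calc _ = x * (s * (x⁻¹ * y * x⁻¹⁻¹)) * x⁻¹ := by group
        _ = _ := by rw [c.eq]; group
    have m1 : x * s * x⁻¹ ∈ Hb G a b := by
      have k : ∀ {c d : Ω}, x • c = d → s • c = c → (x * s * x⁻¹) • d = d := fun e e' => by
        rw [mul_smul, mul_smul, inv_smul_eq_iff.2 e.symm, e', e]
      obtain ⟨s1, s2⟩ := mem_Hb.1 sH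
      rcases h.cases (cz x hx) with e1 | ⟨e1, e2⟩
      · exact mem_Hb.2 ⟨k (mem_Hb.1 e1).1 s1, k (mem_Hb.1 e1).2 s2⟩
      · exact mem_Hb.2 ⟨k e2 s2, k e1 s1⟩
    rcases four _ (mT m1 (mul_mem (mul_mem hx sS) (inv_mem hx))) (cj _ (by
      have := sμ.mul_right (cA _ (nM _ (inv_mem hx)))
      rwa [← mul_assoc, w.j.sq, one_mul] at this)) (cj _ (cA _ (nA _ (inv_mem hx)))) with q | q | q | q
    · exact absurd (conj_eq_one_iff.1 q) si.2
    · exact Or.inl q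
    · exact absurd (isConj_iff.2 ⟨x, q⟩) (nj z ⟨a, b, h.ne, h.tz⟩)
    · exact Or.inr q
  · obtain ⟨m, rfl⟩ := hy
    simp only at q
    rw [← zpow_two, ← zpow_mul] at q
    exact h.not_both (wA _ (zpow_mem (mem_zpowers g) _)) (fe m) (q ▸ c ▸ fμ.conj x)

end H38.SP2
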