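import Cfsg.Agent.Lib.HK.LQ
import Cfsg.Agent.Lib.HK.SP3
import Cfsg.Agent.Lib.HK.SP2b
import Cfsg.Agent.Lib.AutCl.Galois

set_option autoImplicit false
set_option linter.unusedSectionVars false

namespace H38.SP2

open MulAction Subgroup H69 H51.HK

variable {G Ω : Type*} [Group G] [MulAction G Ω] [Finite G] [Finite Ω]

variable {U : Ω → Subgroup G} {a b c d : Ω} {z y y' s : G}

theorem Tw.inverts (h : Cx U) (n : c ≠ d) (t : Tw y c d) {u : G} (hu : u ∈ U c) :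
    y * u * y⁻¹ = u⁻¹ := by
  have m : ∀ u ∈ U c, y * u * y⁻¹ ∈ U c := fun u hu => by
    have := h.ld.cj y trivial c trivial u hu
    rwa [t.l] at this
  let φ : U c →* U c := MonoidHom.mk' (fun u => ⟨y * u * y⁻¹, m u u.2⟩) fun u v =>
    Subtype.ext (conj_mul ..).symm
  have h1 : MonoidHom.FixedPointFree φ := fun u e => by
    have e1 : y * u = u * y := mul_inv_eq_iff_eq_mul.1 (congrArg Subtype.val e)
    rcases (t.2 _).1 ((h.fix_iff n (mem_Hb.2 ⟨t.l, t.r⟩) u.2).2 e1) with q | q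
    · exact absurd (MulAction.injective (u : G) (q.trans (h.ld.fix c trivial u u.2).symm)) n.symm
    · exact Subtype.ext (h.reg c d n.symm u u.2 q)
  have h2 : Function.Involutive φ := fun u => Subtype.ext (by
    change y * (y * u * y⁻¹) * y⁻¹ = u
    calc _ = y * y * u * (y * y)⁻¹ := by group
      _ = _ := by rw [t.1]; simp)
  exact congrArg Subtype.val (congrFun (h1.coe_eq_inv_of_involutive h2) ⟨u, hu⟩)

theorem uq (h : Cx U) (y y' : G) (c d : Ω) (n : c ≠ d) (t : Tw y c d) (t' : Tw y' c d) : y = y' := by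
  refine (inv_mul_eq_one.1 (h.toCb.eq_one n (mul_mem (inv_mem (mem_Hb.2 ⟨t.l, t.r⟩))
    (mem_Hb.2 ⟨t'.l, t'.r⟩)) fun u hu => ?_))
  calc _ = y⁻¹ * (y' * u * y'⁻¹) * y' := by group
    _ = _ := by rw [t'.inverts h n hu, ← t.inverts h n hu]; group

/-- an involution with three fixed points has type `L₂(q)`, `q ≡ 1 (4)` -/
theorem coord (h : Cx U) (h3 : Ty3 U) (hn : Nat.card Ω % 4 = 2) (si : Inv s)
    (s3 : 3 ≤ (Fx Ω {s}).ncard) (ha : a ∈ Fx Ω {s}) (hb : b ∈ Fx Ω {s}) (n : a ≠ b) :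
    ∃ (F : Type) (_ : Field F) (_ : Fintype F) (e : Ω → OnePoint F),
      L2P (normalizer ({s} : Set G)) (Fx Ω {s}) (UY U {s}) a b F e ∧ Fintype.card F % 4 = 1 := by
  have p := (h.toC0.parity si.1).trans hn
  rcases h3 s si s3 with t | ⟨⟨q, t⟩, -⟩ | ⟨t, -⟩
  · obtain ⟨F, _, _, e, π, t⟩ := t a ha b hb n
    have := t.toL2P.card
    exact ⟨F, _, _, e, t.toL2P, by omega⟩
  · obtain ⟨m, rfl⟩ := t.pw
    rw [t.card, ← pow_mul, show (2 * m + 1) * 3 = 2 * (3 * m + 1) + 1 by ring, pow_succ, pow_mul,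
      Nat.add_mod, Nat.mul_mod, Nat.pow_mod] at p
    simp at p
  · obtain ⟨F, _, _, e, t⟩ := t a ha b hb n
    haveI := t.two
    obtain ⟨k, -, hk⟩ := FiniteField.card F 2
    have h8 := t.big
    rw [← t.bij.injOn.ncard_image, t.bij.image_eq, Set.ncard_univ, Nat.card_eq_fintype_card, hk] at p
    rw [hk] at h8
    have h9 : 3 ≤ (k : ℕ) := (Nat.pow_le_pow_iff_right one_lt_two).1 h8
    have := pow_dvd_pow 2 (show 2 ≤ (k : ℕ) by omega)
    omega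

theorem key (h : Cx U) (h3 : Ty3 U) (hr : Rk2 G Ω) (hn : Nat.card Ω % 4 = 2) (c : Ctx a b z)
    (ex : ∀ c d : Ω, c ≠ d → ∃ y : G, Tw y c d) (sH : s ∈ Hb G a b) (si : Inv s) : s = z := by
  by_contra sz
  have ha : a ∈ Fx Ω {s} := mem_Fx1.2 (mem_Hb.1 sH).1
  have hb : b ∈ Fx Ω {s} := mem_Fx1.2 (mem_Hb.1 sH).2
  have pa : ∀ {p : Ω}, z • p ≠ p → p ≠ a ∧ p ≠ b := fun n =>
    ⟨fun e => n (e ▸ c.tz.l), fun e => n (e ▸ c.tz.r)⟩
  have s3 : 3 ≤ (Fx Ω {s}).ncard := by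
    obtain ⟨p, sp, zp⟩ := c.exfix sH si.1 sz
    rw [← Set.ncard_eq_three.2 ⟨a, b, p, c.ne, (pa zp).1.symm, (pa zp).2.symm, rfl⟩]
    refine Set.ncard_le_ncard ?_
    rintro _ (rfl | rfl | rfl)
    exacts [ha, hb, mem_Fx1.2 sp]
  obtain ⟨F, _, _, e, t, q⟩ := coord h h3 hn si s3 ha hb c.ne
  have ld := h.ldY ({s} : Set G)
  refine c.main hr (fun S M h1 h2 h3 f h4 h5 t h6 => h.toC0.transfer h1 h2 h3 h4 h5 h6) ex
    (fun r ⟨m, hm⟩ => ?_) sH si sz (fun μ w wz sμ fμ => ?_) fun p zp sp P hP => ?_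
  · have k1 := h.ld.card (by rw [Set.ncard_univ]; exact h.three) (M := ⊤) le_top le_rfl
      (Set.mem_univ a) (Set.mem_univ b) c.ne
    have k2 := (centralizer ({z} : Set G)).index_mul_card
    have k3 := ((Hb G a b).subgroupOf (centralizer {z})).index_mul_card
    rw [Nat.card_congr (subgroupOfEquivOfLe fun x hx =>
      mem_centralizer_singleton_iff.2 (c.cmH hx)).toEquiv] at k3
    change (Hb G a b).relIndex _ * _ = _ at k3
    rw [top_inf_eq, card_top, Set.ncard_univ, ← k2, ← k3, r, hm, ← mul_assoc] at k1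
    have k4 := congrArg (· % 4) (Nat.eq_of_mul_eq_mul_right Nat.card_pos k1)
    rw [Nat.mul_mod (Nat.card Ω), hn, show (Nat.card Ω - 1) % 4 = 1 by omega] at k4
    omega
  · have k : ∀ y, JJ Ω y → Commute s y → ({x | x ∈ Fx Ω {s} ∧ y • x = x}.ncard = 2 ∧
        Inn (Fx Ω {s}) (UY U {s}) y) ∨ ((∀ x ∈ Fx Ω {s}, y • x ≠ x) ∧
          ¬ Inn (Fx Ω {s}) (UY U {s}) y) := fun y j cy => by
      have m := mem_norm1.2 cy.symm.eq
      have y2 : Tr (Fx Ω {s}) (y * y) := fun x _ => by rw [j.sq, one_smul]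
      obtain ⟨A, hA⟩ := t.lin ld m y2 (j.ncard _)
      refine (t.hyp_ell ld m y2 (fun tr => ?_) hA).imp (fun o => ⟨o.1, o.2.2 q⟩)
        fun o => ⟨o.1, fun i => by have := o.2.1 i; omega⟩
      have u : Fx Ω {s} ⊆ {x | x ∈ Fx Ω {s} ∧ y • x = x} := fun x hx => ⟨hx, tr x hx⟩
      have := (Set.ncard_le_ncard u).trans (j.ncard (Fx Ω {s}))
      omega
    have cs := c.cmH sH
    obtain ⟨p, _, -, tp⟩ := w.j
    obtain ⟨-, l, hl, i1⟩ := (k μ w.j sμ).resolve_right fun o => o.1 p (mem_Fx1.2 (fμ p tp.l)) tp.l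
    obtain ⟨-, l', hl', i2⟩ := (k z ⟨a, b, c.ne, c.tz⟩ cs).resolve_right fun o => o.1 a ha c.tz.l
    obtain ⟨o, -⟩ := (k _ wz.j (sμ.mul_right cs)).resolve_right fun o =>
      o.2 ⟨l * l', mul_mem hl hl', fun x hx => by
        rw [mul_inv_rev, mul_assoc, ← mul_assoc l⁻¹, mul_smul, mul_smul,
          i1 _ (ld.inv z (mem_norm1.2 cs.symm.eq) x hx), ← mul_smul, i2 x hx]⟩
    obtain ⟨x, hx⟩ := Set.nonempty_of_ncard_ne_zero (o.trans_ne two_ne_zero)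
    exact c.fs_of wz hx.2 sH (mem_Fx1.1 hx.1)
  · have m : ∀ x ∈ P, x ∈ normalizer ({s} : Set G) := fun x hx => mem_norm1.2 (hP x hx).2.1.eq
    choose γ σ hσ using fun x : P => t.sc ha hb (m x x.2) (hP x x.2).1
    let φ : P →* RingAut F := MonoidHom.mk' σ fun x y =>
      (t.sc_uniq (γ (x * y)).ne_zero (hσ (x * y)) (Sc.mul ld (m y y.2) (hσ x) (hσ y))).2
    obtain ⟨⟨_, f, rfl⟩, hf⟩ := IsCyclic.exists_generator (α := φ.range)
    refine ⟨f, f.2, fun x hx => ?_⟩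
    obtain ⟨n, hn⟩ := hf ⟨_, ⟨x, hx⟩, rfl⟩
    have k1 : σ (⟨x, hx⟩ * (f ^ n)⁻¹) = RingEquiv.refl F := by
      change φ _ = 1
      rw [map_mul, map_inv, map_zpow, mul_inv_eq_one]
      exact (congrArg Subtype.val hn).symm
    have k2 := hσ (⟨x, hx⟩ * (f ^ n)⁻¹)
    have k3 := (hP _ (⟨x, hx⟩ * (f ^ n)⁻¹ : P).2).2.2
    have hp := mem_Fx1.2 sp
    have k4 := k2 p hp
    rw [k3, k1] at k4
    refine ⟨n, fun y hy => (t.sc_tr ld (m _ (⟨x, hx⟩ * (f ^ n)⁻¹ : P).2)).2 ?_ y (mem_Fx1.2 hy)⟩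
    rw [k1] at k2
    suffices k5 : (γ (⟨x, hx⟩ * (f ^ n)⁻¹) : F) = 1 by rwa [k5] at k2
    rcases o : e p with _ | v
    · exact absurd (t.bij.injOn hp ha (o.trans t.ea.symm)) (pa zp).1
    · have v0 : v ≠ 0 := fun v0 => (pa zp).2 (t.bij.injOn hp hb (by rw [o, t.eb, v0]; rfl))
      rw [o] at k4
      exact (mul_eq_right₀ v0).1 (Option.some.inj k4).symm

end H38.SP2

namespace H51.HK

open MulAction Subgroup Matrix H69 H38.SP2
open scoped MatrixGroups Classical commutatorElement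

variable {G Ω : Type*} [Group G] [MulAction G Ω] [Finite G] [Finite Ω]

variable {U : Ω → Subgroup G}

theorem sp2 (h : Cx U) (h3 : Ty3 U) (hr : Rk2 G Ω) (hn : Nat.card Ω % 4 = 2) {z : G} (hz : Inv z)
    (h2 : (Fx Ω {z}).ncard = 2) (hJ : PrJ z) : Rk1 G Ω := by
  obtain ⟨a₀, b₀, n₀, e₀⟩ := Set.ncard_eq_two.1 h2
  have t₀ : Tw z a₀ b₀ := ⟨hz.1, fun x => mem_Fx1.symm.trans (by rw [e₀]; rfl)⟩
  have ex : ∀ c d : Ω, c ≠ d → ∃ g : G, Tw (g * z * g⁻¹) c d := fun c d n => by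
    obtain ⟨g, rfl, rfl⟩ := h.toCb.pair n₀ n
    exact ⟨g, t₀.conj g⟩
  have cj : ∀ y : G, JJ Ω y → ∃ g : G, y = g * z * g⁻¹ := fun y ⟨c, d, n, t⟩ =>
    (ex c d n).imp fun g t' => uq h _ _ c d n t t'
  intro a b n s sH t tH si ti _
  obtain ⟨g, tz⟩ := ex a b n
  have c : Ctx a b (g * z * g⁻¹) := ⟨n, fun e => hz.2 (conj_eq_one_iff.1 e), tz, uq h,
    fun y y' j j' cm ne => by
      obtain ⟨k, rfl⟩ := cj y j
      obtain ⟨l, hl⟩ := cj _ (j'.conj k⁻¹)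
      have := (JJ.of_isConj ⟨a₀, b₀, n₀, t₀⟩ (hJ (k⁻¹ * y' * k⁻¹⁻¹) (isConj_iff.2 ⟨l, hl.symm⟩) (by
        calc _ = k⁻¹ * (k * z * k⁻¹ * y') * k := by group
          _ = _ := by rw [cm]; group) fun e => ne (by rw [← e]; group))).conj k
      rwa [show k * (z * (k⁻¹ * y' * k⁻¹⁻¹)) * k⁻¹ = k * z * k⁻¹ * y' by group] at this⟩
  have ex' : ∀ c d : Ω, c ≠ d → ∃ y : G, Tw y c d := fun c d n => (ex c d n).elim fun _ t => ⟨_, t⟩
  exact (key h h3 hr hn c ex' sH si).trans (key h h3 hr hn c ex' tH ti).symm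

end H51.HK
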