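import Cfsg.Agent.Lib.HK.EL
import Cfsg.Agent.Lib.HKS0.Chi
import Cfsg.Agent.Lib.Deg.FS
import Cfsg.Agent.Lib.Suzuki.Partition
import Cfsg.Agent.Lib.Suzuki.LieModel
import Cfsg.Agent.Lib.NGrp.L2Min
import Cfsg.Agent.S3726
import Cfsg.Agent.S4446

/-! HKS2, package ZO: two point stabilisers of odd order. -/

set_option autoImplicit false
set_option linter.unusedSectionVars false

namespace H51.HK

open MulAction Subgroup Matrix H69
open scoped MatrixGroups Classical commutatorElement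

variable {G Ω : Type*} [Group G] [MulAction G Ω] [Finite G] [Finite Ω]

variable {U : Ω → Subgroup G}

namespace ZO

/-- involutions have no fixed points -/
def Fpf (G Ω : Type*) [Group G] [MulAction G Ω] : Prop := ∀ t : G, Inv t → ∀ c : Ω, t • c ≠ c

theorem fpf (h : Cx U) {a b : Ω} (hab : a ≠ b) (ho : Odd (Nat.card (Hb G a b))) : Fpf G Ω := by
  intro t ht c tc
  obtain ⟨d, hd, hdc⟩ := Set.exists_ne_of_one_lt_ncard (h.toCb.two_le_Fx1 ht.1 tc) c
  obtain ⟨g, g1, g2⟩ := h.toCb.pair hdc.symm hab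
  have hm : g * t * g⁻¹ ∈ Hb G a b := mem_Hb.2
    ⟨by rw [← g1, mul_smul, inv_smul_smul, mul_smul, tc],
      by rw [← g2, mul_smul, inv_smul_smul, mul_smul, mem_Fx1.1 hd]⟩
  have hi := ht.conj (isConj_iff.2 ⟨g, rfl⟩)
  have := (Hb G a b).orderOf_dvd_natCard hm
  rw [orderOf_eq_prime (by rw [pow_two]; exact hi.1) hi.2] at this
  exact (Nat.not_even_iff_odd.2 ho) (even_iff_two_dvd.2 this)

theorem Fpf.odd_card (hf : Fpf G Ω) {K : Subgroup G} {c : Ω} (hK : ∀ g ∈ K, g • c = c) :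
    Odd (Nat.card K) := by
  rw [← Nat.not_even_iff_odd, even_iff_two_dvd]
  intro h2
  have : Fact (Nat.Prime 2) := ⟨Nat.prime_two⟩
  obtain ⟨g, hg⟩ := exists_prime_orderOf_dvd_card' 2 h2
  have h1 : orderOf (g : G) = 2 := (Subgroup.orderOf_coe g).trans hg
  refine hf g ⟨by rw [← pow_two, ← h1, pow_orderOf_eq_one], fun e => ?_⟩ c (hK g g.2)
  rw [e, orderOf_one] at h1
  omega

theorem Fpf.od (hf : Fpf G Ω) {g : G} {c : Ω} (hg : g • c = c) : Odd (orderOf g) := by
  rw [← Nat.card_zpowers]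
  exact hf.odd_card (c := c) fun y hy => (zpowers_le (H := stabilizer G c)).2 hg hy

/-- the data of the Hecke algebra argument -/
noncomputable def dat (h : Cx U) {a b : Ω} (hab : a ≠ b) {w : G} (wa : w • a = b) (ww : w * w = 1)
    (N : Subgroup G) (HN : Hb G a b ≤ N) (wN : w ∈ N) {ι : Type} [Fintype ι] [DecidableEq ι]
    (Φ : N →* Matrix ι ι ℂ) : H26.HK.Dat G Ω ι where
  a := a
  b := b
  w := w
  U := U a
  N := N
  φ := fun g => if hg : g ∈ N then Φ ⟨g, hg⟩ else 0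
  ne := hab.symm
  wa := wa
  ww := ww
  Ua := fun _ hu => h.toCb.fix hu
  Un := fun g hg u hu => by have := (h.toCb.cj g u a).2 hu; rwa [hg] at this
  Ut := fun _ hy => h.toCb.tr hab.symm hy
  HN := fun _ h1 h2 => HN (mem_Hb.2 ⟨h1, h2⟩)
  wN := wN
  φmul := fun x hx y hy => by
    rw [dif_pos hx, dif_pos hy, dif_pos (mul_mem hx hy), ← map_mul]; rfl
  φone := by rw [dif_pos (one_mem _)]; exact map_one Φ
  φU := fun u hu hb => by
    rw [h.reg a b hab.symm u hu hb, dif_pos (one_mem _)]; exact map_one Φ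

theorem nc_top (h : Cx U) (a : Ω) (g : G) : g ∈ normalClosure (U a : Set G) := by
  have : Lt Set.univ U ≤ normalClosure (U a : Set G) := Lt_le_iff.2 fun c _ u hu => by
    obtain ⟨k, rfl⟩ := h.toCb.trans a c
    have h1 : k⁻¹ * u * k⁻¹⁻¹ ∈ U a := by
      have := (h.toCb.cj k⁻¹ u (k • a)).2 hu
      rwa [inv_smul_smul] at this
    have := (normalClosure_normal (s := (U a : Set G))).conj_mem _ (subset_normalClosure h1) k
    simpa [mul_assoc] using this
  exact this (h.gen ▸ mem_top g)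

theorem ex_lin {C : Type*} [Group C] [Finite C] [Nontrivial C] (hs : Group.IsSolvable C) :
    ∃ (θ : C →* ℂˣ) (c : C), θ c ≠ 1 := by
  have h1 : commutator C ≠ ⊤ := (Group.IsSolvable.commutator_lt_top_of_nontrivial C).ne
  obtain ⟨c, hc⟩ : ∃ c, c ∉ commutator C := by
    by_contra hh
    push Not at hh
    exact h1 (eq_top_iff.2 fun c _ => hh c)
  have h2 : Abelianization.of c ≠ 1 := fun e => hc (by
    rw [← Abelianization.ker_of]; exact e)
  have : Finite (Abelianization C) := Finite.of_surjective _ (QuotientGroup.mk_surjective)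
  have : NeZero ((Monoid.exponent (Abelianization C) : ℕ) : ℂ) :=
    ⟨Nat.cast_ne_zero.2 Monoid.exponent_ne_zero_of_finite⟩
  obtain ⟨φ, hφ⟩ := CommGroup.exists_apply_ne_one_of_hasEnoughRootsOfUnity (Abelianization C) ℂ h2
  exact ⟨φ.comp Abelianization.of, c, hφ⟩

/-- an involution swapping `a` and `b` centralises no element of `G_{ab}` -/
theorem cent (h : Cx U) (hf : Fpf G Ω) {a b : Ω} (hab : a ≠ b) {w : G} (wa : w • a = b)
    (ww : w * w = 1) {g : G} (gH : g ∈ Hb G a b) (gw : g * w = w * g) : g = 1 := by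
  by_contra g1
  have wb : w • b = a := by rw [← wa, smul_smul, ww, one_smul]
  have wi : w⁻¹ = w := inv_eq_of_mul_eq_one_right ww
  have w1 : w ≠ 1 := fun e => hab (by rw [← wa, e, one_smul])
  set N := Hb G a b ⊔ zpowers w with hN
  have HN : Hb G a b ≤ N := le_sup_left
  have wN : w ∈ N := mem_sup_right (mem_zpowers w)
  have := Fintype.ofFinite N
  have := Fintype.ofFinite G
  have := Fintype.ofFinite Ω
  let w' : N := ⟨w, wN⟩
  let H' := (Hb G a b).subgroupOf N
  let S := zpowers w'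
  have := Fintype.ofFinite H'
  let C := H' ⊓ centralizer (S : Set N)
  have := Fintype.ofFinite C
  have ow : orderOf w' = 2 :=
    orderOf_eq_prime (Subtype.ext (by rw [pow_two]; exact ww)) fun e => w1 (congrArg Subtype.val e)
  have oddH : Odd (Nat.card H') := by
    rw [Nat.card_congr (subgroupOfEquivOfLe HN).toEquiv]
    exact hf.odd_card (c := a) fun y hy => (mem_Hb.1 hy).1
  have nrm : S ≤ normalizer (H' : Set N) := by
    rw [zpowers_le]
    have key : ∀ y : N, y ∈ H' → w' * y * w'⁻¹ ∈ H' := fun y hy => by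
      obtain ⟨y1, y2⟩ := mem_Hb.1 (mem_subgroupOf.1 hy)
      refine mem_subgroupOf.2 (mem_Hb.2 ⟨?_, ?_⟩)
      · show (w * y * w⁻¹) • a = a
        rw [wi, mul_smul, mul_smul, wa, y2, wb]
      · show (w * y * w⁻¹) • b = b
        rw [wi, mul_smul, mul_smul, wb, y1, wa]
    rw [mem_normalizer_iff]
    refine fun y => ⟨key y, fun hy => ?_⟩
    have := key _ hy
    have e : w' * w' = 1 := Subtype.ext ww
    rwa [show w' * (w' * y * w'⁻¹) * w'⁻¹ = (w' * w') * y * (w' * w')⁻¹ by group, e, one_mul,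
      inv_one, mul_one] at this
  have top : H' ⊔ S = ⊤ := by
    apply Subgroup.map_injective N.subtype_injective
    rw [Subgroup.map_sup, map_subgroupOf_eq_of_le HN, MonoidHom.map_zpowers,
      ← MonoidHom.range_eq_map, range_subtype]
    rfl
  have gC : (⟨g, HN gH⟩ : N) ∈ C := mem_inf.2 ⟨gH, by
    rw [show (S : Set N) = (closure {w'} : Subgroup N) by rw [← zpowers_eq_closure],
      centralizer_closure, mem_centralizer_singleton_iff]
    exact Subtype.ext gw⟩
  have : Nontrivial C := ⟨⟨⟨_, gC⟩, 1, fun e => g1 (congrArg (fun y : C => ((y : N) : G)) e)⟩⟩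
  obtain ⟨θ, c, hc⟩ := ex_lin (C := C) (Cfsg.Agent.S0205.result
    (oddH.of_dvd_nat (card_dvd_of_le inf_le_left)))
  obtain ⟨χ, χh, ε, -, res, -, hε, val⟩ := (Cfsg.Agent.S4446.result H' S
    (fun s hs y hy => (mem_normalizer_iff.1 (nrm hs) y).1 hy)
    (by rw [Nat.card_zpowers, ow]; exact Nat.coprime_two_right.2 oddH) top inferInstance C rfl
    inf_le_left).2.2 ⟨_, H6.isIrrCharacter_hom θ⟩
  obtain ⟨n, Φ, -, hΦ⟩ := H87.exists_irr_matrix χh.2
  have irr := H87.isIrreducible_of_trace (Φ := Φ.comp H'.subtype) (by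
    have : (fun y : H' => ((Φ.comp H'.subtype) y).trace) = χ := by
      funext y; rw [← res y, hΦ]; rfl
    rw [this]; exact χ.2)
  let D := dat h hab wa ww N HN wN Φ
  have φH : ∀ y (hy : y ∈ N), D.φ y = Φ ⟨y, hy⟩ := fun y hy => dif_pos hy
  have v1 := val 1 w' rfl
  have v2 := val c w' rfl
  simp only [OneMemClass.coe_one, one_mul, map_one, Units.val_one, mul_one, hΦ] at v1 v2
  have key := D.main (fun y hy => hf.od hy) (fun m hm => H87.schur_matrix _ irr fun y => by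
      obtain ⟨y1, y2⟩ := mem_Hb.1 (mem_subgroupOf.1 y.2)
      have := hm _ y1 y2
      rwa [φH _ (y : N).2] at this)
    (by
      have : D.ω = Φ w' := φH w wN
      rw [this, v1]
      rcases hε with e | e <;> simp [e])
    (h.toCb.nil a) (g := ((c : N) : G)) (nc_top h a _)
    (mem_Hb.1 (mem_subgroupOf.1 (mem_inf.1 c.2).1)).1
    (mem_Hb.1 (mem_subgroupOf.1 (mem_inf.1 c.2).1)).2
  rw [φH _ (c : N).2] at key
  rw [map_mul, show Φ (c : N) = 1 from key, one_mul, v1] at v2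
  have e0 : (ε : ℂ) ≠ 0 := by rcases hε with e | e <;> simp [e]
  exact hc (Units.val_eq_one.1 (mul_right_eq_self₀.1 v2.symm |>.resolve_right e0))

theorem ex_swap (h : Cx U) (hf : Fpf G Ω) {a b : Ω} (hab : a ≠ b) :
    ∃ w : G, w • a = b ∧ w * w = 1 := by
  obtain ⟨g, g1, g2⟩ := h.toCb.pair hab hab.symm
  obtain ⟨m, hm⟩ := hf.od (g := g * g) (c := a) (by rw [mul_smul, g1, g2])
  refine ⟨g ^ (2 * m + 1), ?_, ?_⟩
  · have : (g * g) ^ m ∈ stabilizer G a :=
      pow_mem (by rw [mem_stabilizer_iff, mul_smul, g1, g2]) m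
    rw [pow_succ', pow_mul, pow_two, mul_smul, this, g1]
  · rw [← pow_two, ← pow_mul, mul_comm, pow_mul, pow_two g, ← hm, pow_orderOf_eq_one]

/-- the centraliser of an involution is transitive -/
theorem cent_trans (h : Cx U) (hf : Fpf G Ω) {a b : Ω} (hab : a ≠ b) {w : G} (wa : w • a = b)
    (ww : w * w = 1) (y : Ω) : ∃ c : G, c * w = w * c ∧ c • a = y := by
  let D := dat h hab wa ww ⊤ le_top (mem_top w) (1 : (⊤ : Subgroup G) →* Matrix Unit Unit ℂ)
  have od : D.Od := fun y hy => hf.od hy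
  have w1 : w ≠ 1 := fun e => hab (by rw [← wa, e, one_smul])
  obtain ⟨g, rfl⟩ := h.toCb.trans a y
  have hi : Inv (g⁻¹ * w * g⁻¹⁻¹) := Inv.conj ⟨ww, w1⟩ (isConj_iff.2 ⟨g⁻¹, rfl⟩)
  obtain ⟨u, hu, ub⟩ := h.toCb.tr (hf _ hi a) hab.symm
  have ua := h.toCb.fix hu
  have ua' : u⁻¹ • a = a := by rw [inv_smul_eq_iff, ua]
  obtain ⟨k, ka, -, hk⟩ := od.swap D (v := u * (g⁻¹ * w * g⁻¹⁻¹) * u⁻¹)
    (hi.conj (isConj_iff.2 ⟨u, rfl⟩)).1 (by
      show (u * (g⁻¹ * w * g⁻¹⁻¹) * u⁻¹) • a = b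
      rw [mul_smul, ua', mul_smul, ub])
  have hk' : u * (g⁻¹ * w * g⁻¹⁻¹) * u⁻¹ = k * w * k⁻¹ := hk
  have ka' : k • a = a := ka
  refine ⟨g * u⁻¹ * k, ?_, by rw [mul_smul, mul_smul, ka', ua']⟩
  calc g * u⁻¹ * k * w = g * u⁻¹ * (k * w * k⁻¹) * k := by group
    _ = w * (g * u⁻¹ * k) := by rw [← hk']; group

theorem not_sz (h : Cx U) (hf : Fpf G Ω) {a b : Ω} (hab : a ≠ b) : ¬ Cfsg.Lie.IsoSuzuki G := by
  rintro ⟨F, _, _, m, hm, hF, ⟨e⟩⟩
  have : H14.Sz.SzF F m := ⟨hm, hF⟩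
  have : Fact (Nat.Prime 2) := ⟨Nat.prime_two⟩
  let S := (H14.Sz.lieModel F m).comap e
  obtain ⟨w, wa, ww⟩ := ex_swap h hf hab
  have w1 : w ≠ 1 := fun e => hab (by rw [← wa, e, one_smul])
  set C := centralizer ({w} : Set G) with hC
  have Cp : IsPGroup 2 C := by
    intro c
    obtain ⟨k, r, hr, ho⟩ := Nat.exists_eq_two_pow_mul_odd (orderOf_pos (c : G)).ne'
    refine ⟨k, Subtype.ext ?_⟩
    by_contra hne
    refine w1 (S.eq_one_of_commute_of_odd ww (g := (c : G) ^ 2 ^ k) ?_ hne ?_)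
    · refine hr.of_dvd_nat (orderOf_dvd_of_pow_eq_one ?_)
      rw [← pow_mul, ← ho, pow_orderOf_eq_one]
    · exact mem_centralizer_singleton_iff.1 (pow_mem c.2 _)
  obtain ⟨k, hk⟩ := Cp.index (stabilizer C a)
  rw [MulAction.index_stabilizer] at hk
  have ho : orbit C a = Set.univ := Set.eq_univ_iff_forall.2 fun y => by
    obtain ⟨c, c1, c2⟩ := cent_trans h hf hab wa ww y
    exact ⟨⟨c, mem_centralizer_singleton_iff.2 c1⟩, c2⟩
  rw [ho, Set.ncard_univ] at hk
  have h1 := (stabilizer G a).index_mul_card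
  have ho' : orbit G a = Set.univ := Set.eq_univ_iff_forall.2 fun y => h.toCb.trans a y
  rw [MulAction.index_stabilizer, ho', Set.ncard_univ, hk, S.card_G, hF] at h1
  have h2 : Odd (Nat.card (stabilizer G a)) := hf.odd_card (c := a) fun g hg => hg
  have h3 : Odd (((2 ^ (2 * m + 1)) ^ 2 + 1) * (2 ^ (2 * m + 1) - 1)) := by
    refine Odd.mul (Even.add_one (Nat.even_pow.2 ⟨Nat.even_pow.2 ⟨even_two, by omega⟩, by omega⟩))
      (Nat.Even.sub_odd Nat.one_le_two_pow (Nat.even_pow.2 ⟨even_two, by omega⟩) odd_one)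
  have h4 : k = (2 * m + 1) * 2 := by
    rw [mul_assoc, ← pow_mul] at h1
    rw [← pow_mul] at h3
    apply le_antisymm
    · refine (Nat.pow_dvd_pow_iff_le_right (by norm_num : 1 < 2)).1 ?_
      exact ((Nat.coprime_two_left.2 h3).pow_left k).dvd_of_dvd_mul_right (h1 ▸ dvd_mul_right _ _)
    · refine (Nat.pow_dvd_pow_iff_le_right (by norm_num : 1 < 2)).1 ?_
      exact ((Nat.coprime_two_left.2 h2).pow_left _).dvd_of_dvd_mul_right (h1 ▸ dvd_mul_right _ _)
  have h5 := h.card_U a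
  rw [hk, h4, mul_comm, pow_mul] at h5
  have h6 : (2 ^ 2) ^ (2 * m + 1) % 3 = 1 := by rw [Nat.pow_mod]; simp
  exact S.not_three_dvd_card ((show 3 ∣ Nat.card (U a) by omega).trans (card_subgroup_dvd_card _))

end ZO

open ZO in
theorem zo (h : Cx U) {a b : Ω} (hab : a ≠ b) (ho : Odd (Nat.card (Hb G a b))) : Gl G Ω := by
  have hf := fpf h hab ho
  obtain ⟨w, wa, ww⟩ := ex_swap h hf hab
  have w1 : w ≠ 1 := fun e => hab (by rw [← wa, e, one_smul])
  have := Fintype.ofFinite Ω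
  have : FaithfulSMul G Ω := ⟨fun {g g'} e => by
    rw [← mul_inv_eq_one]
    exact h.faith _ fun y => by rw [mul_smul, e, smul_inv_smul]⟩
  obtain ⟨M, hM⟩ := h.toC0.soc
  have e0 : ∀ g : G, (∀ c : Ω, g • c ≠ c) → Nat.card {x : Ω // g • x = x} = 0 := fun g hg => by
    have : IsEmpty {x : Ω // g • x = x} := ⟨fun y => hg y y.2⟩
    exact Nat.card_of_isEmpty
  rcases Cfsg.Agent.S3726.result h.toCb.two 0 w (orderOf_eq_prime (by rw [pow_two, ww]) w1)
    (e0 w (hf w ⟨ww, w1⟩)) (fun g gw g1 => e0 g fun c gc => g1 (cent h hf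
      (hf w ⟨ww, w1⟩ c).symm rfl ww (mem_Hb.2 ⟨gc, by rw [← mul_smul, gw.eq, mul_smul, gc]⟩)
        gw.eq)) with ⟨F, _, _, ⟨e⟩⟩ | hs | ⟨R, Rn, Rt, Rs⟩
  · by_cases h4 : 4 ≤ Fintype.card F
    · have := H3.NG.simple_l2 h4
      have : IsSimpleGroup G := e.isSimpleGroup
      have hT : M = ⊤ := (hM.normal.eq_bot_or_eq_top).resolve_left fun e1 =>
        hM.meet a (by rw [e1, inf_bot_eq])
      exact el h.toC0 hM (((MulEquiv.subgroupCongr hT).trans topEquiv).trans e)
    · have := H3.NG.solv_l2_small (F := F) (by omega)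
      have hs : Group.IsSolvable (⊤ : Subgroup G) :=
        Group.isSolvable_of_isSolvable_injective (f := (topEquiv.trans e).toMonoidHom)
          (topEquiv.trans e).injective
      have := h.nosolv ⊤ inferInstance hs
      exact absurd (mem_bot.1 (this ▸ mem_top w)) w1
  · exact absurd hs (not_sz h hf hab)
  · have h1 : M ≤ R := hM.min R Rn fun e1 => by
      obtain ⟨r, hr, ra⟩ := Rt a b
      rw [e1, mem_bot] at hr
      exact hab (by rw [← ra, hr, one_smul])
    refine absurd (eq_bot_iff.2 fun u hu => ?_) (hM.meet a)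
    exact mem_bot.2 (Rs a u (h1 (mem_inf.1 hu).2) (h.toCb.fix (mem_inf.1 hu).1))

end H51.HK
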