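import Cfsg.Agent.Lib.HK.LQ

/-! Translations in the affine type, and two counting lemmas. -/

set_option autoImplicit false
set_option linter.unusedSectionVars false

namespace H71.NA

open MulAction Subgroup H51.HK
open scoped Classical commutatorElement

variable {G Ω : Type*} [Group G] [MulAction G Ω] [Finite G] [Finite Ω]

theorem card_dvd_mul {k : ℕ} (h : ∀ x : Ω, Nat.card (stabilizer G x) ∣ k) :
    Nat.card G ∣ k * Nat.card Ω := by
  have := Fintype.ofFinite (orbitRel.Quotient G Ω)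
  rw [Nat.card_congr (selfEquivSigmaOrbits' G Ω), Nat.card_sigma, Finset.mul_sum]
  refine Finset.dvd_sum fun ω _ => ?_
  induction ω using Quotient.inductionOn' with
  | h x =>
    obtain ⟨m, hm⟩ := h x
    have h1 : Nat.card (orbitRel.Quotient.orbit (G := G) (Quotient.mk'' x)) =
        (stabilizer G x).index := by
      rw [index_stabilizer]; rfl
    rw [h1, hm, ← (stabilizer G x).card_mul_index]
    exact ⟨m, by ring⟩

theorem burn (A : Subgroup G) {ι : Type} [Fintype ι] (f : ι ≃ A) :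
    Fintype.card ι ∣ ∑ i, (Fx Ω {(f i : G)}).ncard := by
  have := Fintype.ofFinite A
  have := Fintype.ofFinite Ω
  have := Fintype.ofFinite (orbitRel.Quotient A Ω)
  have h1 := sum_card_fixedBy_eq_card_orbits_mul_card_group A Ω
  have h2 : ∑ i, (Fx Ω {(f i : G)}).ncard = ∑ a : A, Fintype.card (fixedBy Ω a) := by
    refine Fintype.sum_equiv f _ _ fun i => ?_
    rw [← Nat.card_eq_fintype_card, Nat.card_coe_set_eq]
    congr 1
    ext x
    rw [mem_Fx1]; rfl
  rw [h2, h1, Fintype.card_congr f]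
  exact dvd_mul_left _ _

section Af

variable {N : Subgroup G} {Δ : Set Ω} {V : Ω → Subgroup G} {a b : Ω} {F : Type} [Field F]
  [Fintype F] {e : Ω → F}

theorem af_card (h : AfP N Δ V a b F e) : Δ.ncard = Fintype.card F := by
  rw [← h.bij.injOn.ncard_image, h.bij.image_eq, Set.ncard_univ, Nat.card_eq_fintype_card]

theorem af_ex (h : AfP N Δ V a b F e) (y : F) : ∃ x ∈ Δ, e x = y := h.bij.surjOn (Set.mem_univ y)

theorem af_ext (h : AfP N Δ V a b F e) (hd : LD N Δ V) (hk : TrivK Δ V) {g g' : G}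
    (hg : g ∈ Lt Δ V) (hg' : g' ∈ Lt Δ V) (H : ∀ x ∈ Δ, e (g • x) = e (g' • x)) : g = g' := by
  have := hk (g'⁻¹ * g) (mul_mem (inv_mem hg') hg) fun x hx => by
    rw [mul_smul, inv_smul_eq_iff]
    exact h.bij.injOn (hd.inv g (hd.Lt_le hg) x hx) (hd.inv g' (hd.Lt_le hg') x hx) (H x hx)
  exact (inv_mul_eq_one.1 this).symm

/-- the translations -/
structure Tau (Δ : Set Ω) (V : Ω → Subgroup G) (e : Ω → F) (τ : F → G) : Prop where
  mem : ∀ d, τ d ∈ Lt Δ V
  act : ∀ d, ∀ x ∈ Δ, e (τ d • x) = e x + d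

theorem af_tau (h : AfP N Δ V a b F e) : ∃ τ : F → G, Tau Δ V e τ := by
  choose τ h1 h2 using h.trL
  exact ⟨τ, h1, h2⟩

variable {τ : F → G} (T : Tau Δ V e τ) (h : AfP N Δ V a b F e) (hd : LD N Δ V) (hk : TrivK Δ V)

include T h hd hk in
theorem Tau.add (d d' : F) : τ (d + d') = τ d * τ d' :=
  af_ext h hd hk (T.mem _) (mul_mem (T.mem _) (T.mem _)) fun x hx => by
    rw [mul_smul, T.act _ _ (hd.inv _ (hd.Lt_le (T.mem _)) x hx), T.act _ _ hx, T.act _ _ hx]
    ring

include T h hd hk in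
theorem Tau.zero : τ 0 = 1 :=
  af_ext h hd hk (T.mem _) (one_mem _) fun x hx => by rw [T.act _ _ hx, one_smul, add_zero]

include T h hd hk in
theorem Tau.sq (d : F) : τ d * τ d = 1 := by
  have := h.two
  rw [← T.add h hd hk, CharTwo.add_self_eq_zero, T.zero h hd hk]

include T in
theorem Tau.fix {d : F} {x : Ω} (hx : x ∈ Δ) (hf : τ d • x = x) : d = 0 := by
  have := T.act d x hx
  rw [hf] at this
  simpa using this

include T h in
theorem Tau.inj {d d' : F} (H : τ d = τ d') : d = d' := by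
  obtain ⟨x, hx, -⟩ := af_ex h 0
  have := T.act d x hx
  rw [H, T.act d' x hx] at this
  simpa using this.symm

include T h hd hk in
theorem Tau.conj {g : G} (hg : g ∈ N) {c d₀ : F} {σ : F ≃+* F}
    (H : ∀ x ∈ Δ, e (g • x) = c * σ (e x) + d₀) (d : F) : g * τ d * g⁻¹ = τ (c * σ d) :=
  af_ext h hd hk (hd.Lt_conj hg (T.mem _)) (T.mem _) fun x hx => by
    have h1 := hd.inv _ (inv_mem hg) x hx
    have h2 := H _ h1
    rw [smul_inv_smul] at h2
    rw [mul_smul, mul_smul, H _ (hd.inv _ (hd.Lt_le (T.mem _)) _ h1), T.act _ _ h1, T.act _ _ hx,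
      h2, map_add]
    ring

include h hd in
theorem af_inv (ha : a ∈ Δ) (hb : b ∈ Δ) {s : G} (hN : s ∈ N) (sa : s • a = a) (sb : s • b = b)
    (s2 : s * s = 1) (s1 : ¬ Tr Δ s) :
    ∃ (σ : F ≃+* F) (r : ℕ), (∀ x ∈ Δ, e (s • x) = 1 * σ (e x) + 0) ∧ σ ≠ RingEquiv.refl F ∧
      (∀ y, σ (σ y) = y) ∧ Fintype.card F = r ^ 2 ∧ {x | x ∈ Δ ∧ s • x = x}.ncard = r := by
  obtain ⟨c, d, σ, -, H⟩ := h.Naf s hN
  have h1 := H a ha
  rw [sa, h.ea, map_zero, mul_zero, zero_add] at h1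
  have h2 := H b hb
  rw [sb, h.eb, map_one, mul_one, ← h1, add_zero] at h2
  subst h1 h2
  have h3 : σ ≠ RingEquiv.refl F := by
    rintro rfl
    exact s1 fun x hx => h.bij.injOn (hd.inv _ hN x hx) hx (by simpa using H x hx)
  have h4 : ∀ y, σ (σ y) = y := by
    intro y
    obtain ⟨x, hx, rfl⟩ := af_ex h y
    have := H _ (hd.inv _ hN x hx)
    rw [← mul_smul, s2, one_smul, H x hx] at this
    simpa using this.symm
  obtain ⟨r, h5, -, h6⟩ := LL.inv_aut h3 h4
  refine ⟨σ, r, H, h3, h4, h5, ?_⟩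
  rw [← h6, ← (h.bij.injOn.mono (fun x hx => hx.1 :
    {x | x ∈ Δ ∧ s • x = x} ⊆ Δ)).ncard_image]
  congr 1
  ext y
  constructor
  · rintro ⟨x, ⟨hx, hf⟩, rfl⟩
    have := H x hx
    rw [hf] at this
    simpa using this.symm
  · intro hy
    obtain ⟨x, hx, rfl⟩ := af_ex h y
    exact ⟨x, ⟨hx, h.bij.injOn (hd.inv _ hN x hx) hx (by simpa [H x hx] using hy)⟩, rfl⟩

include h hd hk in
theorem af_conj {t : G} (hN : t ∈ N) {σ : F ≃+* F} (H : ∀ x ∈ Δ, e (t • x) = 1 * σ (e x) + 0)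
    (h1 : σ ≠ RingEquiv.refl F) (h2 : ∀ y, σ (σ y) = y) {l : G} (hl : l ∈ Lt Δ V)
    (l2 : l * l = 1) (lt : l * t = t * l) : IsConj t (l * t) := by
  have := h.two
  obtain ⟨τ, T⟩ := af_tau h
  obtain ⟨c, d, -, hc⟩ := h.Laf l hl
  have h3 : ∀ x ∈ Δ, e x = c * (c * e x + d) + d := by
    intro x hx
    have := hc _ (hd.inv _ (hd.Lt_le hl) x hx)
    rwa [← mul_smul, l2, one_smul, hc x hx] at this
  obtain ⟨x0, hx0, e0⟩ := af_ex h 0
  obtain ⟨x1, hx1, e1⟩ := af_ex h 1
  have h4 := h3 x0 hx0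
  have h5 := h3 x1 hx1
  rw [e0] at h4
  rw [e1] at h5
  have h6 : c = 1 := by
    have h7 : (c + 1) ^ 2 = 0 := by
      rw [CharTwo.add_sq]
      linear_combination h4 - h5 + CharTwo.add_self_eq_zero (1 : F)
    have := pow_eq_zero_iff (two_ne_zero) |>.1 h7
    linear_combination this - CharTwo.add_self_eq_zero (1 : F)
  have h7 : l = τ d := af_ext h hd hk hl (T.mem d) fun x hx => by
    rw [hc x hx, T.act d x hx, h6, one_mul]
  have h8 : σ d = d := by
    have := T.conj h hd hk hN H d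
    rw [← h7, ← lt, mul_inv_cancel_right, h7, one_mul] at this
    exact (T.inj h this).symm
  obtain ⟨z, hz⟩ : ∃ z, σ z ≠ z := by
    by_contra hc
    push Not at hc
    exact h1 (RingEquiv.ext hc)
  have h9 : z + σ z ≠ 0 := fun e => hz (by
    linear_combination e - CharTwo.add_self_eq_zero z)
  have h10 : d * z / (z + σ z) + 1 * σ (d * z / (z + σ z)) = d := by
    rw [map_div₀, map_mul, map_add, h2, h8, add_comm (σ z)]
    field_simp
  refine isConj_iff.2 ⟨τ (d * z / (z + σ z)), ?_⟩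
  rw [h7, ← h10, T.add h hd hk, ← T.conj h hd hk hN H, h10,
    inv_eq_of_mul_eq_one_right (T.sq h hd hk _)]
  group

end Af

end H71.NA
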