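import Cfsg.Agent.Lib.HK.LQ

/-! Involutions of type `L₂(q)`, `q ≡ 3 (4)`, with `L ≅ PSL₂(q)`: the local facts (helper22). -/

set_option autoImplicit false
set_option linter.unusedSectionVars false

namespace H51.HK.N0X

open MulAction Subgroup Matrix H69
open scoped MatrixGroups Classical commutatorElement

section grp
variable {G : Type*} [Group G]

theorem mc {x y : G} : x ∈ centralizer ({y} : Set G) ↔ x * y = y * x :=
  mem_centralizer_singleton_iff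

theorem pw {x : G} (h : x * x = 1) : x ^ 2 ^ 1 = 1 := by rw [pow_one, pow_two, h]

theorem inv_eq {x : G} (h : x * x = 1) : x⁻¹ = x := inv_eq_of_mul_eq_one_right h

theorem cmul {g a b : G} (h : g * a = a * g) (h' : g * b = b * g) : g * (a * b) = a * b * g :=
  Commute.mul_right h h'

theorem mulc {g a b : G} (h : a * g = g * a) (h' : b * g = g * b) : a * b * g = g * (a * b) :=
  Commute.mul_left h h'

theorem invc {g a : G} (h : g * a = a * g) : g⁻¹ * a = a * g⁻¹ := Commute.inv_left h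

theorem powc {g a : G} (h : g * a = a * g) (n : ℕ) : g ^ n * a = a * g ^ n := Commute.pow_left h n

theorem cjc (g : G) {a b : G} (h : a * b = b * a) :
    g * a * g⁻¹ * (g * b * g⁻¹) = g * b * g⁻¹ * (g * a * g⁻¹) := by rw [conj_mul, conj_mul, h]

theorem sq_mul {a b : G} (ha : a * a = 1) (hb : b * b = 1) (h : a * b = b * a) :
    a * b * (a * b) = 1 := by
  rw [mul_assoc, ← mul_assoc b, ← h, mul_assoc, hb, mul_one, ha]

theorem inv_mul' {s t : G} (hs : Inv s) (ht : Inv t) (hne : s ≠ t) (hc : s * t = t * s) :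
    Inv (s * t) :=
  ⟨sq_mul hs.1 ht.1 hc, fun c => hne (by rw [eq_inv_of_mul_eq_one_left c, inv_eq ht.1])⟩

theorem inv_cj {s : G} (hs : Inv s) (g : G) : Inv (g * s * g⁻¹) :=
  ⟨by rw [conj_mul, hs.1]; simp, fun c => hs.2 (conj_eq_one_iff.1 c)⟩

theorem ic (g s : G) : IsConj s (g * s * g⁻¹) := isConj_iff.2 ⟨g, rfl⟩

theorem ic' {g s t : G} (h : g * s * g⁻¹ = t) : IsConj s t := isConj_iff.2 ⟨g, h⟩

theorem zp2 {x : G} {k : ℕ} (h : x ^ 2 ^ k = 1) : IsPGroup 2 (zpowers x) := by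
  rintro ⟨_, j, rfl⟩
  exact ⟨k, Subtype.ext (by
    show (x ^ j) ^ 2 ^ k = 1
    rw [← zpow_natCast, ← _root_.zpow_mul, mul_comm, _root_.zpow_mul, zpow_natCast, h,
      _root_.one_zpow])⟩

theorem two_of {T : Subgroup G} (h : IsPGroup 2 T) {g : G} (hg : g ∈ T) : ∃ i, g ^ 2 ^ i = 1 :=
  let ⟨k, e⟩ := h ⟨g, hg⟩
  ⟨k, congrArg Subtype.val e⟩

theorem mem_zp {z x : G} (h : z * z = 1) (hx : x ∈ zpowers z) : x = 1 ∨ x = z := by
  obtain ⟨k, rfl⟩ := hx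
  have h2 : z ^ (2 : ℤ) = 1 := by rw [zpow_two, h]
  obtain ⟨j, rfl | rfl⟩ := Int.even_or_odd' k
  · left
    show z ^ (2 * j) = 1
    rw [_root_.zpow_mul, h2, _root_.one_zpow]
  · right
    show z ^ (2 * j + 1) = z
    rw [_root_.zpow_add, _root_.zpow_mul, h2, _root_.one_zpow, one_mul, zpow_one]

/-- a non-trivial 2-element has a power that is an involution -/
theorem exists_inv {g : G} : ∀ {k : ℕ}, g ^ 2 ^ k = 1 → g ≠ 1 → ∃ j : ℕ, Inv (g ^ 2 ^ j)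
  | 0, h, h1 => absurd (by simpa using h) h1
  | k + 1, h, h1 => by
    by_cases c : g ^ 2 ^ k = 1
    · exact exists_inv c h1
    · exact ⟨k, by rw [← pow_two, ← pow_mul, ← pow_succ, h], c⟩

/-- a 2-group normalising a non-trivial 2-subgroup centralises an involution in it -/
theorem exists_cent [Finite G] {R T : Subgroup G} (hR : IsPGroup 2 R) (hT : IsPGroup 2 T)
    (hn : T ≤ 𝐍(R)) (h : R ≠ ⊥) : ∃ z ∈ R, Inv z ∧ ∀ s ∈ T, s * z = z * s := by
  obtain ⟨⟨z, hz⟩, z1⟩ := (ne_bot_iff_exists_ne_one).1 (inf_centralizer_ne_bot hR hT hn h)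
  obtain ⟨k, hk⟩ := two_of hR hz.1
  obtain ⟨j, hj⟩ := exists_inv hk fun c => z1 (Subtype.ext c)
  exact ⟨_, pow_mem hz.1 _, hj, fun s hs => (powc (hz.2 s hs).symm _).symm⟩

/-- Burnside's fusion lemma -/
theorem burn [Finite G] {S : Subgroup G} (hS : IsSylowIn 2 S ⊤) {x y : G}
    (hx : ∀ s ∈ S, s * x = x * s) (hy : ∀ s ∈ S, s * y = y * s) (hc : IsConj x y) :
    ∃ n ∈ 𝐍(S), n * x * n⁻¹ = y ∧ ∃ m, Odd m ∧ ∀ z, (∀ s ∈ S, s * z = z * s) →
      n ^ m * z = z * n ^ m := by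
  obtain ⟨c, rfl⟩ := isConj_iff.1 hc
  have h1 : S ^ᶜ c ≤ centralizer {c * x * c⁻¹} := by
    rw [← cj_centralizer_singleton]
    exact cj_mono c fun s hs => mc.2 (hx s hs)
  obtain ⟨k, hk, e⟩ := ((hS.cj_of_mem (mem_top c)).mono h1 le_top).conj
    (hS.mono (fun s hs => mc.2 (hy s hs)) le_top)
  have hn : k * c ∈ 𝐍(S) := cj_eq_self_iff.1 (by rw [← cj_cj, e])
  refine ⟨k * c, hn, ?_, ?_⟩
  · rw [show k * c * x * (k * c)⁻¹ = k * (c * x * c⁻¹) * k⁻¹ by group, mc.1 hk, mul_inv_cancel_right]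
  · generalize k * c = n at hn
    obtain ⟨i, m, hm, o⟩ := Nat.exists_eq_two_pow_mul_odd (orderOf_pos n).ne'
    refine ⟨m, hm, fun z hz => hz _ (hS.le_of_le_normalizer' (zp2 (k := i) ?_) le_top
      (zpowers_le.2 (pow_mem hn m)) (mem_zpowers _))⟩
    rw [← pow_mul, mul_comm, ← o, pow_orderOf_eq_one]

end grp

variable {G Ω : Type*} [Group G] [MulAction G Ω] [Finite G] [Finite Ω]

theorem tr1 {Δ : Set Ω} {g : G} (h : g = 1) : Tr Δ g := h ▸ Tr.one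

theorem tr_self (t : G) : Tr (Fx Ω {t}) t := fun _ hx => mem_Fx1.1 hx

theorem inn_mem {Δ : Set Ω} {V : Ω → Subgroup G} {l : G} (hl : l ∈ Lt Δ V) : Inn Δ V l :=
  ⟨l, hl, tr1 (inv_mul_cancel l)⟩

theorem inn_tr {Δ : Set Ω} {V : Ω → Subgroup G} {y k : G} (hy : Inn Δ V y) (hk : Tr Δ k) :
    Inn Δ V (y * k) :=
  let ⟨l, hl, h⟩ := hy
  ⟨l, hl, by rw [← mul_assoc]; exact h.mul hk⟩

theorem inn_left {Δ : Set Ω} {V : Ω → Subgroup G} {y l : G} (hl : l ∈ Lt Δ V) (hy : Inn Δ V y) :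
    Inn Δ V (l * y) :=
  let ⟨m, hm, h⟩ := hy
  ⟨l * m, mul_mem hl hm, by rwa [show (l * m)⁻¹ * (l * y) = m⁻¹ * y by group]⟩

/-- the local facts -/
structure PL (U : Ω → Subgroup G) (a b : Ω) (t : G) : Prop where
  inv : Inv t
  tH : t ∈ Hb G a b
  big : 4 ≤ (Fx Ω {t}).ncard
  lk : ∀ g ∈ LY U {t}, Tr (Fx Ω {t}) g → g = 1
  uk : ∀ k, k * t = t * k → Tr (Fx Ω {t}) k → k * k = 1 → k = 1 ∨ k = t
  ell : ∀ y, y * t = t * y → y * y = 1 → ¬ Tr (Fx Ω {t}) y → Inn (Fx Ω {t}) (UY U {t}) y →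
    ∀ x ∈ Fx Ω {t}, y • x ≠ x
  hyp : ∀ y, y * t = t * y → y * y = 1 → ¬ Inn (Fx Ω {t}) (UY U {t}) y →
    {x | x ∈ Fx Ω {t} ∧ y • x = x}.ncard = 2
  om : ∀ y y', y * t = t * y → y' * t = t * y' → (∃ i, y ^ 2 ^ i = 1) → (∃ i, y' ^ 2 ^ i = 1) →
    ¬ Inn (Fx Ω {t}) (UY U {t}) y → ¬ Inn (Fx Ω {t}) (UY U {t}) y' →
      Inn (Fx Ω {t}) (UY U {t}) (y * y')
  cj : ∀ s ∈ LY U {t}, ∀ s' ∈ LY U {t}, Inv s → Inv s' → ∃ m ∈ LY U {t}, m * s * m⁻¹ = s'
  oc : ∀ y y', y * t = t * y → y' * t = t * y' → y * y = 1 → y' * y' = 1 →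
    ¬ Inn (Fx Ω {t}) (UY U {t}) y → ¬ Inn (Fx Ω {t}) (UY U {t}) y' →
      ∃ m ∈ LY U {t}, Tr (Fx Ω {t}) (y'⁻¹ * (m * y * m⁻¹))
  sq : ∀ x ∈ LY U {t}, ∀ x' ∈ LY U {t}, Inv x → Inv x' → x ≠ x' → ∀ s, s * t = t * s →
    s * x' = x' * s → s * s ≠ x
  four : ∃ x ∈ LY U {t}, ∃ x' ∈ LY U {t}, Inv x ∧ Inv x' ∧ x ≠ x' ∧ x * x' = x' * x
  pm : ∀ g ∈ Hb G a b, ∀ g' ∈ Hb G a b, g * t = t * g → g' * t = t * g' → (∃ i, g ^ 2 ^ i = 1) →
    (∃ i, g' ^ 2 ^ i = 1) → ¬ Tr (Fx Ω {t}) g → ¬ Tr (Fx Ω {t}) g' → Tr (Fx Ω {t}) (g * g')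

variable {U : Ω → Subgroup G} {t : G} {a b : Ω} {F : Type} [Field F] [Fintype F]
  {e : Ω → OnePoint F} {π : SL(2, F) →* G}

theorem q3 (h : Cx U) (hn : Nat.card Ω % 4 = 0) (ht : t * t = 1)
    (q : L2P (normalizer ({t} : Set G)) (Fx Ω {t}) (UY U {t}) a b F e) :
    Fintype.card F % 4 = 3 := by
  have h1 := h.parity ht
  rw [q.card] at h1
  omega

theorem big3 (h3 : Fintype.card F % 4 = 3)
    (q : L2P (normalizer ({t} : Set G)) (Fx Ω {t}) (UY U {t}) a b F e) :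
    4 ≤ (Fx Ω {t}).ncard := by
  rw [q.card]
  omega

theorem neg_ne (ho : Odd (Fintype.card F)) : (-1 : SL(2, F)) ≠ 1 := fun c => by
  have h1 : (-1 : F) = 1 := by simpa using congrArg (fun B : SL(2, F) => B.1 0 0) c
  have h2 : ringChar F = 2 := by
    by_contra d
    exact Ring.neg_one_ne_one_of_char_ne_two d h1
  have := FiniteField.even_card_of_char_two h2
  rw [Nat.odd_iff] at ho
  omega

theorem ad_sq (c : Fˣ) : ad c * ad c = (-1 : SL(2, F)) := by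
  rw [ad_mul_ad, mul_inv_cancel, dg_neg_one]

theorem sq_neg {N : Subgroup G} {Δ : Set Ω} {V : Ω → Subgroup G} (q : L2Q N Δ V a b F e π)
    (h1 : π (-1) = 1) {B : SL(2, F)} (hB : Inv (π B)) : B * B = -1 := by
  refine ((q.eq_iff h1 (B' := 1)).1 (by rw [map_mul, hB.1, map_one])).resolve_left fun c => hB.2 ?_
  rcases sl2_sq q.odd c with rfl | rfl
  · exact map_one π
  · exact h1

theorem inv_pi {N : Subgroup G} {Δ : Set Ω} {V : Ω → Subgroup G} (q : L2Q N Δ V a b F e π)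
    (h1 : π (-1) = 1) {B : SL(2, F)} (hB : B * B = -1) : Inv (π B) := by
  refine ⟨by rw [← map_mul, hB, h1], fun c => neg_ne q.odd ?_⟩
  rcases (q.eq_iff h1 (B' := 1)).1 (c.trans (map_one π).symm) with rfl | rfl <;> rw [← hB] <;> simp

theorem pl_of (h : Cx U) (hn : Nat.card Ω % 4 = 0) (ht : Inv t) (tH : t ∈ Hb G a b)
    (q : L2Q (normalizer ({t} : Set G)) (Fx Ω {t}) (UY U {t}) a b F e π) (h1 : π (-1) = 1)
    (uk : ∀ k, k * t = t * k → Tr (Fx Ω {t}) k → k * k = 1 → k = 1 ∨ k = t) : PL U a b t := by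
  have hd := h.ldY {t}
  have h3 := q3 h hn ht.1 q.toL2P
  have ha := mem_Fx1.2 (mem_Hb.1 tH).1
  have hb := mem_Fx1.2 (mem_Hb.1 tH).2
  have lin : ∀ {y}, y * t = t * y → ∀ {i}, y ^ 2 ^ i = 1 →
      ∃ A : GL (Fin 2) F, Act e (Fx Ω {t}) y A (RingEquiv.refl F) :=
    fun c _ d => q.lin3 hd h3 (mem_norm1.2 c) (tr1 d)
  refine ⟨ht, tH, big3 h3 q.toL2P, fun g hg c => (q.ker hg c).elim id (·.trans h1), uk,
    fun y c y2 y1 i => ?_, fun y c y2 i => ?_, fun y y' c c' ⟨_, d⟩ ⟨_, d'⟩ => ?_,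
    fun s hs s' hs' => q.psl_conj h1 hs hs', fun y y' c c' y2 y2' => ?_,
    fun x hx x' hx' i i' ne s c c' d => ne ?_, ?_, fun g hg g' hg' c c' ⟨_, d⟩ ⟨_, d'⟩ n n' => ?_⟩
  · obtain ⟨A, hA⟩ := lin c (pw y2)
    rcases q.hyp_ell hd (mem_norm1.2 c) (tr1 y2) y1 hA with ⟨-, d⟩ | ⟨d, -⟩
    · have := d.1 i
      omega
    · exact d
  · obtain ⟨A, hA⟩ := lin c (pw y2)
    rcases q.hyp_ell hd (mem_norm1.2 c) (tr1 y2) (fun d => i ⟨1, one_mem _, by simpa using d⟩) hA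
      with ⟨d, -⟩ | ⟨-, d⟩
    · exact d
    · exact absurd (d.2 h3) i
  · obtain ⟨A, hA⟩ := lin c d
    obtain ⟨A', hA'⟩ := lin c' d'
    exact q.out_mul hd (mem_norm1.2 c) (mem_norm1.2 c') hA hA'
  · obtain ⟨A, hA⟩ := lin c (pw y2)
    obtain ⟨A', hA'⟩ := lin c' (pw y2')
    exact q.out_conj hd (mem_norm1.2 c) (mem_norm1.2 c') (tr1 y2) (tr1 y2') hA hA'
  · obtain ⟨B, rfl⟩ : x ∈ π.range := q.range ▸ hx
    obtain ⟨C, rfl⟩ : x' ∈ π.range := q.range ▸ hx'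
    obtain ⟨A, hA⟩ := lin c (i := 2) (by
      rw [show 2 ^ 2 = 2 * 2 from rfl, pow_mul, pow_two, pow_two, d, i.1])
    obtain ⟨C', k⟩ := Lq.exists_conj A C
    have k1 := Lq.conj_lin q (mem_norm1.2 c) hA k
    rw [conj_eq_iff.2 c'] at k1
    have k2 := Act.mul_lin hd (mem_norm1.2 c) hA hA
    rw [d] at k2
    obtain ⟨-, l, k3⟩ := q.uniq k2 (q.act B)
    have k4 : B.1 = l • (A.1 * A.1) := k3
    have k5 : A.1 * A.1 * C.1 = C.1 * (A.1 * A.1) := by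
      rcases (q.eq_iff h1).1 k1 with r | r
      · rw [← r] at k
        rw [Matrix.mul_assoc, ← k, ← Matrix.mul_assoc, ← k, Matrix.mul_assoc]
      · have r' : C'.1 = -C.1 := by rw [r]; simp
        rw [r', Matrix.neg_mul] at k
        rw [Matrix.mul_assoc, ← k, Matrix.mul_neg, ← Matrix.mul_assoc, ← k, Matrix.neg_mul, neg_neg,
          Matrix.mul_assoc]
    have k6 : B * C = C * B := Subtype.ext (by
      show B.1 * C.1 = C.1 * B.1
      rw [k4, Matrix.smul_mul, Matrix.mul_smul, k5])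
    have k7 : B * C⁻¹ * (B * C⁻¹) = 1 := by
      rw [mul_assoc, ← mul_assoc C⁻¹, invc k6.symm, mul_assoc, ← _root_.mul_inv_rev, ← mul_assoc,
        sq_neg q h1 i, sq_neg q h1 i', mul_inv_cancel]
    rw [← mul_inv_eq_one, ← map_inv, ← map_mul]
    rcases sl2_sq q.odd k7 with r | r <;> rw [r]
    · exact map_one π
    · exact h1
  · obtain ⟨C, c1, c2⟩ := sl2_inv4 q.odd (ad_sq (1 : Fˣ))
    have c3 : C * ad 1 = -(ad 1 * C) := by
      rw [mul_inv_eq_iff_eq_mul.1 c2, Lq.neg_eq_inv (ad_sq 1), neg_mul]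
    refine ⟨_, q.mem (ad 1), _, q.mem C, inv_pi q h1 (ad_sq 1), inv_pi q h1 c1, fun c => ?_, ?_⟩
    · refine neg_ne q.odd ?_
      have c4 : C * ad 1 = ad 1 * C := by
        rcases (q.eq_iff h1).1 c with r | r <;> rw [r] <;> simp
      rw [c4, ← neg_one_mul] at c3
      exact (mul_eq_right.1 c3.symm)
    · rw [← map_mul, ← map_mul]
      exact (q.eq_iff h1).2 (Or.inr (by rw [c3, neg_neg]))
  · have s1 := (q.pm3 hd ha hb h3 (mem_norm1.2 c) hg (tr1 d)).resolve_left n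
    have s2 := (q.pm3 hd ha hb h3 (mem_norm1.2 c') hg' (tr1 d')).resolve_left n'
    have s3 := Sc.mul hd (mem_norm1.2 c') s1 s2
    refine (q.sc_tr hd (mem_norm1.2 (mulc c c'))).2 ?_
    have s4 : Sc e (Fx Ω {t}) (g * g') (-1 * -1) (RingEquiv.refl F) := s3
    simpa using s4

namespace PL
variable (h : Cx U) (P : PL U a b t)
include P

theorem tL : t ∉ LY U {t} := fun c => P.inv.2 (P.lk t c (tr_self t))

omit P in
theorem Lc {l : G} (hl : l ∈ LY U {t}) : l * t = t * l := mc.1 (LY_le U {t} hl)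

include h

theorem ck {k l : G} (c : k * t = t * k) (hk : Tr (Fx Ω {t}) k) (hl : l ∈ LY U {t}) :
    k * l = l * k :=
  (h.ldY {t}).commK (h.faithY (by have := P.big; omega)) (mem_norm1.2 c) hk hl

omit P in
theorem Ln {g l : G} (c : g * t = t * g) (hl : l ∈ LY U {t}) : g * l * g⁻¹ ∈ LY U {t} :=
  (h.ldY {t}).Lt_conj (mem_norm1.2 c) hl

/-- inner involutions -/
theorem dec {y : G} (c : y * t = t * y) (y2 : y * y = 1) (i : Inn (Fx Ω {t}) (UY U {t}) y) :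
    y ∈ LY U {t} ∨ y * t ∈ LY U {t} := by
  obtain ⟨l, hl, hk⟩ := i
  have c1 := mulc (invc (Lc hl)) c
  have c2 := P.ck h c1 hk hl
  generalize hk' : l⁻¹ * y = k at hk c1 c2
  obtain rfl : y = l * k := by rw [← hk', mul_inv_cancel_left]
  have c3 : l * l * (k * k) = 1 :=
    calc l * l * (k * k) = l * (l * k) * k := by group
      _ = l * (k * l) * k := by rw [c2]
      _ = l * k * (l * k) := by group
      _ = 1 := y2
  have c4 : l * l = 1 := P.lk _ (mul_mem hl hl) (by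
    rw [eq_inv_of_mul_eq_one_left c3]; exact (hk.mul hk).inv)
  rw [c4, one_mul] at c3
  rcases P.uk k c1 hk c3 with rfl | rfl
  · exact Or.inl (by rwa [mul_one])
  · exact Or.inr (by rwa [mul_assoc, c3, mul_one])

/-- outer involutions in the same coset of `L` are conjugate -/
theorem oc' {y y' : G} (c : y * t = t * y) (y2 : y * y = 1) (y2' : y' * y' = 1)
    (i : ¬ Inn (Fx Ω {t}) (UY U {t}) y) (hl : y' * y ∈ LY U {t}) : IsConj y y' := by
  have e1 : y' = y' * y * y := by rw [mul_assoc, y2, mul_one]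
  have c' : y' * t = t * y' := e1 ▸ mulc (Lc hl) c
  obtain ⟨m, hm, k⟩ := P.oc y y' c c' y2 y2' i fun d => i (by
    have := inn_left (inv_mem hl) d
    rwa [_root_.mul_inv_rev, inv_mul_cancel_right, inv_eq y2] at this)
  refine ic' (g := m) (inv_mul_eq_one.1 (P.lk _ ?_ k)).symm
  have := mul_mem (mul_mem hl (Ln h c hm)) (inv_mem hm)
  rwa [show y' * y * (y * m * y⁻¹) * m⁻¹ = y' * (y * y) * m * y⁻¹ * m⁻¹ by group, y2, mul_one,
    inv_eq y2, ← inv_eq y2', mul_assoc, mul_assoc, ← mul_assoc m] at this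

omit h in
theorem out {y : G} (hy : Inv y) (yt : y ≠ t) (c : y * t = t * y) {x : Ω} (hx : x ∈ Fx Ω {t})
    (yx : y • x = x) : ¬ Inn (Fx Ω {t}) (UY U {t}) y := fun i =>
  P.ell y c hy.1 (fun d => (P.uk y c d hy.1).elim hy.2 yt) i x hx yx

/-- elements centralising an outer involution permute its two fixed points -/
theorem sq_fix {z : G} (c : z * t = t * z) (z2 : z * z = 1) (i : ¬ Inn (Fx Ω {t}) (UY U {t}) z) :
    ∃ x ∈ Fx Ω {t}, ∀ s s', s * t = t * s → s' * t = t * s' → s * z = z * s → s' * z = z * s' →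
      s • x = x ∨ s' • x = x ∨ (s * s') • x = x := by
  obtain ⟨x, y, xy, k⟩ := Set.ncard_eq_two.1 (P.hyp z c z2 i)
  have m : ∀ s, s * t = t * s → s * z = z * s → ∀ u ∈ ({x, y} : Set Ω), s • u ∈ ({x, y} : Set Ω) := by
    intro s c1 c2 u hu
    rw [← k] at hu ⊢
    exact ⟨(h.ldY {t}).inv s (mem_norm1.2 c1) u hu.1, by rw [← mul_smul, ← c2, mul_smul, hu.2]⟩
  have hx : x ∈ ({x, y} : Set Ω) := Or.inl rfl
  refine ⟨x, (k ▸ hx : x ∈ {x | x ∈ Fx Ω {t} ∧ z • x = x}).1, fun s s' c1 c1' c2 c2' => ?_⟩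
  rcases m s c1 c2 x hx with r | r
  · exact Or.inl r
  rcases m s' c1' c2' x hx with r' | r'
  · exact Or.inr (Or.inl r')
  refine Or.inr (Or.inr ?_)
  rw [mul_smul, show s' • x = y from r']
  rcases m s c1 c2 y (Or.inr rfl) with r2 | r2
  · exact r2
  · exact absurd (smul_left_cancel s ((show s • x = y from r).trans r2.symm)) xy

theorem ellL {l : G} (hl : l ∈ LY U {t}) (i : Inv l) : ∀ x ∈ Fx Ω {t}, l • x ≠ x :=
  P.ell l (Lc hl) i.1 (fun d => i.2 (P.lk l hl d)) (inn_mem hl)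

/-- an outer involution centralises no four-group of `L` -/
theorem no4 {z l l' : G} (c : z * t = t * z) (z2 : z * z = 1) (i : ¬ Inn (Fx Ω {t}) (UY U {t}) z)
    (hl : l ∈ LY U {t}) (hl' : l' ∈ LY U {t}) (li : Inv l) (li' : Inv l') (cc : l * l' = l' * l)
    (c1 : l * z = z * l) (c1' : l' * z = z * l') : l = l' := by
  by_contra ne
  obtain ⟨x, hx, k⟩ := P.sq_fix h c z2 i
  rcases k l l' (Lc hl) (Lc hl') c1 c1' with r | r | r
  · exact P.ellL h hl li x hx r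
  · exact P.ellL h hl' li' x hx r
  · exact P.ellL h (mul_mem hl hl') (inv_mul' li li' ne cc) x hx r

/-- an involution of `L` is not the square of an element centralising an outer involution -/
theorem nosq {z s : G} (c : z * t = t * z) (z2 : z * z = 1) (i : ¬ Inn (Fx Ω {t}) (UY U {t}) z)
    (st : s * t = t * s) (sz : s * z = z * s) (hl : s * s ∈ LY U {t}) : ¬ Inv (s * s) := fun li => by
  obtain ⟨x, hx, k⟩ := P.sq_fix h c z2 i
  refine P.ellL h hl li x hx ?_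
  rcases k s s st st sz sz with r | r | r
  · rw [mul_smul, r, r]
  · rw [mul_smul, r, r]
  · exact r

end PL

end H51.HK.N0X
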