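import Cfsg.Agent.Lib.HK.N0Ba

/-! The Sylow analysis for a 2-central involution of type `L₂(q)`, `q ≡ 3 (4)` (helper22). -/

set_option autoImplicit false
set_option linter.unusedSectionVars false

namespace H51.HK.N0X

open MulAction Subgroup H69

variable {G Ω : Type*} [Group G] [MulAction G Ω] [Finite G] [Finite Ω]
variable {U : Ω → Subgroup G} {t : G} {a b : Ω}

theorem trc (h : Cx U) {g k : G} (c : g * t = t * g) (hk : Tr (Fx Ω {t}) k) :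
    Tr (Fx Ω {t}) (g * k * g⁻¹) := fun x hx => by
  rw [mul_smul, mul_smul, hk _ ((h.ldY {t}).inv _ (mem_norm1.2 (invc c)) x hx), smul_inv_smul]

theorem normL (h : Cx U) : normalizer ({t} : Set G) ≤ 𝐍(LY U {t}) :=
  le_normalizer_of_cj_le fun _ hg _ hl =>
    let ⟨_, hm, e⟩ := mem_cj'.1 hl
    e ▸ PL.Ln h (mem_norm1.1 hg) hm

theorem normK (h : Cx U) : normalizer ({t} : Set G) ≤ 𝐍(KY Ω ({t} : Set G)) :=
  le_normalizer_of_cj_le fun _ hg _ hl =>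
    let ⟨_, hm, e⟩ := mem_cj'.1 hl
    e ▸ mem_KY1.2 ⟨mulc (mulc (mem_norm1.1 hg) (mem_KY1.1 hm).1) (invc (mem_norm1.1 hg)),
      trc h (mem_norm1.1 hg) (mem_KY1.1 hm).2⟩

theorem mem_sup2 {D : Subgroup G} {u x : G} (u2 : u * u = 1) (hu : u ∈ 𝐍(D))
    (hx : x ∈ D ⊔ zpowers u) : x ∈ D ∨ x * u ∈ D := by
  obtain ⟨d, hd, y, hy, rfl⟩ := (mem_sup_of_le_normalizer_left (zpowers_le.2 hu)).1 hx
  rcases mem_zp u2 hy with rfl | rfl
  · exact Or.inl (by rwa [mul_one])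
  · exact Or.inr (by rwa [mul_assoc, u2, mul_one])

namespace PL
variable (h : Cx U) (P : PL U a b t)
include h P

/-- inner elements of a Sylow subgroup split -/
theorem split {S : Subgroup G} (hS : IsSylowIn 2 S ⊤) (hc : ∀ s ∈ S, s * t = t * s) {s : G}
    (hs : s ∈ S) (i : Inn (Fx Ω {t}) (UY U {t}) s) :
    ∃ l ∈ S, l ∈ LY U {t} ∧ ∃ k ∈ S, Tr (Fx Ω {t}) k ∧ s = l * k := by
  have ck : ∀ l ∈ LY U {t}, ∀ s ∈ S, Tr (Fx Ω {t}) (l⁻¹ * s) → ∀ m ∈ LY U {t},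
      l⁻¹ * s * m = m * (l⁻¹ * s) := fun l hl s hs k m hm =>
    P.ck h (mulc (invc (Lc hl)) (hc s hs)) k hm
  let R : Subgroup G :=
    { carrier := {l | l ∈ LY U {t} ∧ ∃ s ∈ S, Tr (Fx Ω {t}) (l⁻¹ * s)}
      one_mem' := ⟨one_mem _, 1, one_mem _, tr1 (by simp)⟩
      mul_mem' := fun {l m} ⟨hl, s, hs, k⟩ ⟨hm, s', hs', k'⟩ => ⟨mul_mem hl hm, _, mul_mem hs hs', by
        have := k.mul k'
        rwa [← mul_assoc, ck l hl s hs k _ (inv_mem hm),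
          show m⁻¹ * (l⁻¹ * s) * s' = (l * m)⁻¹ * (s * s') by group] at this⟩
      inv_mem' := fun {l} ⟨hl, s, hs, k⟩ => ⟨inv_mem hl, _, inv_mem hs, by
        have := (trc h (Lc hl) k).inv
        rwa [show (l * (l⁻¹ * s) * l⁻¹)⁻¹ = l⁻¹⁻¹ * s⁻¹ by group] at this⟩ }
  have pR : IsPGroup 2 R := by
    rintro ⟨l, hl, s, hs, k⟩
    obtain ⟨j, hj⟩ := two_of hS.isP hs
    refine ⟨j, Subtype.ext (P.lk _ (pow_mem hl _) ?_)⟩
    have e : l ^ 2 ^ j * (l⁻¹ * s) ^ 2 ^ j = 1 := by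
      rw [← Commute.mul_pow (ck l hl s hs k l hl).symm, mul_inv_cancel_left, hj]
    show Tr _ (l ^ 2 ^ j)
    rw [eq_inv_of_mul_eq_one_left e]
    exact (k.pow _).inv
  have nR : S ≤ 𝐍(R) := le_normalizer_of_cj_le fun g hg x hx => by
    obtain ⟨l, ⟨hl, s, hs, k⟩, rfl⟩ := mem_cj'.1 hx
    refine ⟨Ln h (hc g hg) hl, _, mul_mem (mul_mem hg hs) (inv_mem hg), ?_⟩
    have := trc h (hc g hg) k
    rwa [show g * (l⁻¹ * s) * g⁻¹ = (g * l * g⁻¹)⁻¹ * (g * s * g⁻¹) by group] at this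
  obtain ⟨l, hl, k⟩ := i
  have lS : l ∈ S := hS.le_of_le_normalizer pR le_top nR ⟨hl, s, hs, k⟩
  exact ⟨l, lS, hl, _, mul_mem (inv_mem lS) hs, k, by group⟩

theorem cls {z y : G} (zL : z ∈ LY U {t}) (zi : Inv z) (hy : Inv y)
    (i : y ∈ LY U {t} ∨ y * t ∈ LY U {t}) : y = t ∨ IsConj y z ∨ IsConj y (z * t) := by
  rcases i with i | i
  · obtain ⟨m, -, e⟩ := P.cj y i z zL hy zi
    exact Or.inr (Or.inl (ic' e))
  · by_cases c : y = t
    · exact Or.inl c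
    have e1 : y = y * t * t := by rw [mul_assoc, P.inv.1, mul_one]
    obtain ⟨m, hm, e⟩ := P.cj _ i z zL (inv_mul' hy P.inv c (e1 ▸ mulc (Lc i) rfl)) zi
    refine Or.inr (Or.inr (ic' (g := m) ?_))
    rw [← e, mul_assoc _ m⁻¹, invc (Lc hm), ← mul_assoc, mul_assoc m _ t, ← e1]

end PL

/-- the Sylow configuration -/
structure SY (U : Ω → Subgroup G) (t u : G) (S : Subgroup G) (z x : G) : Prop where
  syl : IsSylowIn 2 S ⊤
  cen : ∀ s ∈ S, s * t = t * s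
  tS : t ∈ S
  uS : u ∈ S
  u2 : u * u = 1
  uo : ¬ Inn (Fx Ω {t}) (UY U {t}) u
  zS : z ∈ S
  zL : z ∈ LY U {t}
  zi : Inv z
  zc : ∀ s ∈ S, s * z = z * s
  xS : x ∈ S
  xL : x ∈ LY U {t}
  xi : Inv x
  xz : x ≠ z

theorem exists_SY (h : Cx U) (P : PL U a b t) {S : Subgroup G} (hS : IsSylowIn 2 S ⊤)
    (hc : ∀ s ∈ S, s * t = t * s) (tS : t ∈ S) {u : G} (uS : u ∈ S) (u2 : u * u = 1)
    (uo : ¬ Inn (Fx Ω {t}) (UY U {t}) u) : ∃ z x, SY U t u S z x := by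
  have l : S ≤ normalizer ({t} : Set G) := fun s hs => mem_norm1.2 (hc s hs)
  have sD := (hS.mono l le_top).inf_normal (h.ldY {t}).Lt_le (normL h)
  obtain ⟨x, hx, y, hy, xi, yi, xy, c⟩ := P.four
  obtain ⟨g, -, hg⟩ := sD.exists_cj_le (R := zpowers x ⊔ zpowers y)
    ((zp2 (pw xi.1)).to_sup_of_normal_left' (zp2 (pw yi.1)) (zpowers_le.2
      (centralizer_le_normalizer _ (by rw [centralizer_zpowers]; exact mc.2 c.symm))))
    (sup_le (zpowers_le.2 hx) (zpowers_le.2 hy))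
  have x1 := hg (cj_mem g (mem_sup_left (mem_zpowers x)))
  have y1 := hg (cj_mem g (mem_sup_right (mem_zpowers y)))
  obtain ⟨z, hz, zi, zc⟩ := exists_cent sD.isP hS.isP
    (le_normalizer_inf le_normalizer (l.trans (normL h)))
    fun e => (inv_cj xi g).2 (mem_bot.1 (e ▸ x1))
  by_cases e : g * x * g⁻¹ = z
  · exact ⟨z, _, hS, hc, tS, uS, u2, uo, hz.1, hz.2, zi, zc, y1.1, y1.2, inv_cj yi g,
      fun d => xy ((MulAut.conj g).injective (e.trans d.symm))⟩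
  · exact ⟨z, _, hS, hc, tS, uS, u2, uo, hz.1, hz.2, zi, zc, x1.1, x1.2, inv_cj xi g, e⟩

namespace SY
variable (h : Cx U) (P : PL U a b t) {u z x : G} {S : Subgroup G} (Y : SY U t u S z x)
include h P Y

theorem eqz {l : G} (hl : l ∈ LY U {t}) (li : Inv l) (lS : l ∈ S) (c : l * u = u * l) : l = z :=
  P.no4 h (Y.cen u Y.uS) Y.u2 Y.uo hl Y.zL li Y.zi (Y.zc l lS) c (Y.zc u Y.uS).symm

theorem cent {y : G} (hy : y ∈ S) (yi : Inv y) (c : ∀ s ∈ S, s * y = y * s) :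
    y = t ∨ y = z ∨ y = z * t := by
  by_cases i : Inn (Fx Ω {t}) (UY U {t}) y
  · rcases P.dec h (Y.cen y hy) yi.1 i with d | d
    · exact Or.inr (Or.inl (Y.eqz h P d yi hy (c u Y.uS).symm))
    · refine or_iff_not_imp_left.2 fun e => Or.inr ?_
      rw [← Y.eqz h P d (inv_mul' yi P.inv e (Y.cen y hy)) (mul_mem hy Y.tS)
        (mulc (c u Y.uS).symm (Y.cen u Y.uS).symm), mul_assoc, P.inv.1, mul_one]
  · exact absurd (P.no4 h (Y.cen y hy) yi.1 i Y.xL Y.zL Y.xi Y.zi (Y.zc x Y.xS) (c x Y.xS)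
      (c z Y.zS)) Y.xz

theorem root : ∃ r ∈ S, r * r = z := by
  have wS := mul_mem Y.xS Y.uS
  have e1 : x * u * (x * u) = x * (u * x * u⁻¹) := by rw [inv_eq Y.u2]; group
  have wL : x * u * (x * u) ∈ LY U {t} := e1 ▸ mul_mem Y.xL (PL.Ln h (Y.cen u Y.uS) Y.xL)
  have e2 : u * (x * u) * u⁻¹ = (x * u)⁻¹ := by
    rw [mul_inv_rev, inv_eq Y.u2, inv_eq Y.xi.1, mul_assoc, mul_assoc, Y.u2, mul_one]
  have w1 : x * u * (x * u) ≠ 1 := fun c => Y.xz (Y.eqz h P Y.xL Y.xi Y.xS (by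
    rw [eq_inv_of_mul_eq_one_left c, mul_inv_rev, inv_eq Y.u2, inv_eq Y.xi.1]))
  generalize x * u = w at wS wL e2 w1
  obtain ⟨k, hk⟩ := two_of Y.syl.isP (mul_mem wS wS)
  obtain ⟨j, hj⟩ := exists_inv hk w1
  refine ⟨w ^ 2 ^ j, pow_mem wS _, ?_⟩
  rw [← Commute.mul_pow rfl]
  refine Y.eqz h P (pow_mem wL _) hj (pow_mem (mul_mem wS wS) _) (conj_eq_iff.1 ?_).symm
  rw [← conj_pow, ← conj_mul, e2, ← mul_inv_rev, inv_pow, inv_eq hj.1]

theorem dec {s : G} (hs : s ∈ S) : ∃ l ∈ S, l ∈ LY U {t} ∧ ∃ k ∈ S, Tr (Fx Ω {t}) k ∧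
    (s = l * k ∨ s = l * k * u) := by
  by_cases i : Inn (Fx Ω {t}) (UY U {t}) s
  · obtain ⟨l, h1, h2, k, h3, h4, e⟩ := P.split h Y.syl Y.cen hs i
    exact ⟨l, h1, h2, k, h3, h4, Or.inl e⟩
  · obtain ⟨l, h1, h2, k, h3, h4, e⟩ := P.split h Y.syl Y.cen (mul_mem hs Y.uS)
      (P.om s u (Y.cen s hs) (Y.cen u Y.uS) (two_of Y.syl.isP hs) ⟨1, pw Y.u2⟩ i Y.uo)
    exact ⟨l, h1, h2, k, h3, h4, Or.inr (by rw [← e, mul_assoc, Y.u2, mul_one])⟩

theorem rootK {s : G} (hs : s ∈ S) (e : s * s = t) : ∃ k ∈ S, Tr (Fx Ω {t}) k ∧ k * k = t := by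
  by_contra c
  obtain ⟨l, h1, h2, k, h3, h4, d⟩ := Y.dec h P hs
  have k2 : k * k = 1 := by
    by_contra k1
    obtain ⟨i, hi⟩ := two_of Y.syl.isP (mul_mem h3 h3)
    obtain ⟨j, hj⟩ := exists_inv hi k1
    refine c ⟨k ^ 2 ^ j, pow_mem h3 _, h4.pow _, ?_⟩
    rw [← Commute.mul_pow rfl]
    exact (P.uk _ (Y.cen _ (pow_mem (mul_mem h3 h3) _)) ((h4.mul h4).pow _) hj.1).resolve_left hj.2
  have kc : ∀ g ∈ S, g * k = k * g := fun g hg => by
    rcases P.uk k (Y.cen k h3) h4 k2 with rfl | rfl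
    · simp
    · exact Y.cen g hg
  refine P.tL ?_
  have e1 : ∀ g ∈ S, g * k * (g * k) = g * g := fun g hg => by
    rw [mul_assoc, ← mul_assoc k, ← kc g hg, mul_assoc, k2, mul_one]
  rcases d with rfl | rfl
  · have := mul_mem h2 h2
    rwa [← e1 l h1, e] at this
  · have := mul_mem h2 (PL.Ln h (Y.cen u Y.uS) h2)
    rwa [inv_eq Y.u2, show l * (u * l * u) = l * u * (l * u) by group, ← e1 _ (mul_mem h1 Y.uS),
      mul_assoc l u k, kc u Y.uS, ← mul_assoc l k u, e] at this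

theorem not1 : ¬ IsConj t z := by
  intro c
  obtain ⟨n, hn, e, -⟩ := burn Y.syl Y.cen Y.zc c
  obtain ⟨r, hr, er⟩ := Y.root h P
  obtain ⟨k, kS, hk, k2⟩ := Y.rootK h P (conj_mem_of_mem_normalizer (inv_mem hn) hr) (by
    rw [conj_mul, er, ← e]; group)
  have sS := conj_mem_of_mem_normalizer hn kS
  have yS := conj_mem_of_mem_normalizer hn Y.xS
  have s2 : n * k * n⁻¹ * (n * k * n⁻¹) = z := by rw [conj_mul, k2, e]
  have sy := cjc n (P.ck h (Y.cen k kS) hk Y.xL)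
  have yi := inv_cj Y.xi n
  have nc : ¬ ∀ s ∈ S, s * (n * x * n⁻¹) = n * x * n⁻¹ * s := fun d =>
    Y.xz (Y.eqz h P Y.xL Y.xi Y.xS
      ((conj_comm_iff n u x).1 (d _ (conj_mem_of_mem_normalizer hn Y.uS))).symm)
  generalize n * k * n⁻¹ = s at sS s2 sy
  generalize n * x * n⁻¹ = y at yS sy yi nc
  by_cases i : Inn (Fx Ω {t}) (UY U {t}) y
  · rcases P.dec h (Y.cen y yS) yi.1 i with d | d
    · exact P.sq z Y.zL y d Y.zi yi (fun d => nc (d ▸ Y.zc)) s (Y.cen s sS) sy s2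
    · refine P.sq z Y.zL _ d Y.zi (inv_mul' yi P.inv (fun d => nc (d ▸ Y.cen)) (Y.cen y yS))
        (fun d => nc fun g hg => ?_) s (Y.cen s sS) (cmul sy (Y.cen s sS)) s2
      have := cmul (Y.zc g hg) (Y.cen g hg)
      rwa [d, mul_assoc y, P.inv.1, mul_one] at this
  · exact P.nosq h (Y.cen y yS) yi.1 i (Y.cen s sS) sy (s2 ▸ Y.zL) (s2 ▸ Y.zi)

theorem not2 : ¬ IsConj t (z * t) := by
  intro c
  obtain ⟨n, hn, e, m, ⟨j, rfl⟩, hm⟩ := burn Y.syl Y.cen (fun s hs => cmul (Y.zc s hs) (Y.cen s hs)) c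
  rcases Y.cent h P (conj_mem_of_mem_normalizer hn Y.zS) (inv_cj Y.zi n) (fun s hs => by
    have := cjc n (Y.zc _ (conj_mem_of_mem_normalizer' hn hs))
    rwa [show n * (n⁻¹ * s * n) * n⁻¹ = s by group] at this) with d | d | d
  · exact Y.not1 h P (ic' d).symm
  · have e2 : n * n * t = t * (n * n) := conj_eq_iff.1 (by
      rw [show n * n * t * (n * n)⁻¹ = n * (n * t * n⁻¹) * n⁻¹ by group, e, ← conj_mul, d, e,
        ← mul_assoc, Y.zi.1, one_mul])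
    have e3 := mulc (invc (powc e2 j)) (hm t Y.cen)
    rw [pow_succ, pow_mul, pow_two, inv_mul_cancel_left, ← conj_eq_iff, e] at e3
    exact Y.zi.2 (mul_eq_right.1 e3)
  · exact P.tL ((MulAut.conj n).injective (d.trans e.symm) ▸ Y.zL)

theorem all {y : G} (hy : Inv y) : IsConj y t ∨ IsConj y z ∨ IsConj y (z * t) := by
  have l : S ≤ normalizer ({t} : Set G) := fun s hs => mem_norm1.2 (Y.cen s hs)
  have n1 := le_normalizer_inf (le_normalizer (H := S)) (l.trans (normL h))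
  have n2 := le_normalizer_inf (le_normalizer (H := S)) (l.trans (normK h))
  obtain ⟨m, hm, c⟩ := h.transfer Y.syl (M := S ⊓ LY U {t} ⊔ S ⊓ KY Ω {t})
    (sup_le inf_le_left inf_le_left)
    (fun s hs m hm => conj_mem_of_mem_normalizer (le_normalizer_sup n1 n2 hs) hm) Y.uS
    (fun s hs => by
      obtain ⟨l, h1, h2, k, h3, h4, d⟩ := Y.dec h P hs
      have : l * k ∈ S ⊓ LY U {t} ⊔ S ⊓ KY Ω {t} :=
        mul_mem_sup ⟨h1, h2⟩ ⟨h3, mem_KY1.2 ⟨Y.cen k h3, h4⟩⟩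
      rcases d with rfl | rfl
      · exact mem_sup_left this
      · exact mul_mem_sup this (mem_zpowers u)) hy.1
  obtain ⟨l, hl, k, hk, rfl⟩ := (mem_sup_of_le_normalizer_right (inf_le_left.trans n2)).1 hm
  have mi := hy.conj c
  rcases P.cls h Y.zL Y.zi mi (P.dec h (Y.cen _ (mul_mem hl.1 hk.1)) mi.1
    (inn_tr (inn_mem hl.2) (mem_KY1.1 hk.2).2)) with d | d | d
  · exact Or.inl (d ▸ c)
  · exact Or.inr (Or.inl (c.trans d))
  · exact Or.inr (Or.inr (c.trans d))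

theorem small (hK : ∀ k ∈ S, Tr (Fx Ω {t}) k → k = 1 ∨ k = t) : IsConj t u := by
  have l : S ≤ normalizer ({t} : Set G) := fun s hs => mem_norm1.2 (Y.cen s hs)
  have n1 := le_normalizer_inf (le_normalizer (H := S)) (l.trans (normL h))
  have uM : u ∈ S ⊓ LY U {t} ⊔ zpowers u := mem_sup_right (mem_zpowers u)
  have dec : ∀ s ∈ S, ∃ l ∈ S ⊓ LY U {t}, ∃ k, (k = 1 ∨ k = t) ∧ (s = l * k ∨ s = l * u * k) :=
    fun s hs => by
      obtain ⟨l, h1, h2, k, h3, h4, d⟩ := Y.dec h P hs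
      refine ⟨l, ⟨h1, h2⟩, k, hK k h3 h4, d.imp id fun d => ?_⟩
      rcases hK k h3 h4 with rfl | rfl
      · simpa using d
      · rw [d, mul_assoc, mul_assoc, Y.cen u Y.uS]
  obtain ⟨m, hm, c⟩ := h.transfer Y.syl (M := S ⊓ LY U {t} ⊔ zpowers u)
    (sup_le inf_le_left (zpowers_le.2 Y.uS)) (fun s hs m hm => by
      have mS : m ∈ S := sup_le inf_le_left (zpowers_le.2 Y.uS) hm
      obtain ⟨l, hl, k, hk, d⟩ := dec s hs
      have e : k * m * k⁻¹ = m := by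
        rcases hk with rfl | rfl
        · simp
        · exact conj_eq_iff.2 (Y.cen m mS).symm
      have q : ∀ g ∈ S ⊓ LY U {t} ⊔ zpowers u, g * k * m * (g * k)⁻¹ ∈ S ⊓ LY U {t} ⊔ zpowers u :=
        fun g hg => by
          rw [show g * k * m * (g * k)⁻¹ = g * (k * m * k⁻¹) * g⁻¹ by group, e]
          exact mul_mem (mul_mem hg hm) (inv_mem hg)
      rcases d with rfl | rfl
      · exact q _ (mem_sup_left hl)
      · exact q _ (mul_mem (mem_sup_left hl) uM)) Y.tS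
    (fun s hs => by
      obtain ⟨l, hl, k, hk, d⟩ := dec s hs
      have e : k ∈ zpowers t := by
        rcases hk with rfl | rfl
        exacts [one_mem _, mem_zpowers _]
      rcases d with rfl | rfl
      · exact mul_mem_sup (mem_sup_left hl) e
      · exact mul_mem_sup (mul_mem (mem_sup_left hl) uM) e) P.inv.1
  have mi := P.inv.conj c
  rcases mem_sup2 Y.u2 (n1 Y.uS) hm with d | d
  · obtain ⟨g, -, e⟩ := P.cj m d.2 z Y.zL mi Y.zi
    exact absurd (c.trans (ic' e)) (Y.not1 h P)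
  · exact c.trans (P.oc' h (Y.cen u Y.uS) Y.u2 mi.1 Y.uo d.2).symm

theorem mul_t : SY U t (t * u) S z x :=
  { Y with
    uS := mul_mem Y.tS Y.uS
    u2 := sq_mul P.inv.1 Y.u2 (Y.cen u Y.uS).symm
    uo := fun i => Y.uo (by
      have := inn_tr i (tr_self t)
      rwa [← Y.cen u Y.uS, mul_assoc, P.inv.1, mul_one] at this) }

theorem fin (P' : PL U a b u) (ne : t ≠ u) (c1 : IsConj t u) (c2 : IsConj t (t * u)) : False := by
  have Y' := Y.mul_t h P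
  have ut := Y.cen u Y.uS
  have zu := (Y.zc u Y.uS).symm
  have zt := (Y.zc t Y.tS).symm
  have k : ∀ {v}, SY U t v S z x → IsConj v (z * v) := fun Y => P.oc' h (Y.cen _ Y.uS) Y.u2
    (sq_mul Y.zi.1 Y.u2 (Y.zc _ Y.uS).symm) Y.uo (by rw [mul_assoc, Y.u2, mul_one]; exact Y.zL)
  obtain ⟨y, y1, y2, y3⟩ : ∃ y, IsConj t y ∧ y ≠ u ∧ (y ∈ LY U {u} ∨ y * u ∈ LY U {u}) := by
    by_cases i : Inn (Fx Ω {u}) (UY U {u}) z
    · refine ⟨z * u, c1.trans (k Y), fun d => Y.zi.2 (mul_eq_right.1 d), ?_⟩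
      rw [mul_assoc, Y.u2, mul_one]
      exact (P'.dec h zu Y.zi.1 i).symm
    · refine ⟨z * (t * u), c2.trans (k Y'), fun d => P.tL ?_, ?_⟩
      · rw [← mul_assoc] at d
        have := inv_mem Y.zL
        rwa [inv_eq_of_mul_eq_one_right (mul_eq_right.1 d)] at this
      · rw [← mul_assoc, mul_assoc (z * t), Y.u2, mul_one]
        exact (P'.dec h (mulc zu ut.symm) (sq_mul Y.zi.1 P.inv.1 zt) (P'.om z t zu ut.symm
          ⟨1, pw Y.zi.1⟩ ⟨1, pw P.inv.1⟩ i (P'.out P.inv ne ut.symm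
            (mem_Fx1.2 (mem_Hb.1 P'.tH).1) (mem_Hb.1 P.tH).1))).symm
  obtain ⟨g, rfl⟩ := isConj_iff.1 c1
  obtain ⟨w, rfl⟩ : ∃ w, y = g * w * g⁻¹ := ⟨g⁻¹ * y * g, by group⟩
  have y4 := y1.trans (ic g w).symm
  rw [conj_mul, h.mem_LY_conj, h.mem_LY_conj] at y3
  rcases P.cls h Y.zL Y.zi (P.inv.conj y4) y3 with d | d | d
  · exact y2 (by rw [d])
  · exact Y.not1 h P (y4.trans d)
  · exact Y.not2 h P (y4.trans d)

end SY

end H51.HK.N0X
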