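import Cfsg.Agent.Lib.HK.N0Ca
import Cfsg.Agent.Lib.Cyc2.Hk

/-! Two point stabilisers of 2-rank one, `n ≡ 0 (4)`: the Sylow 2-subgroups are abelian
(helper22). -/

set_option autoImplicit false
set_option linter.unusedSectionVars false

namespace H51.HK

open MulAction Subgroup Matrix H69
open scoped MatrixGroups Classical commutatorElement

variable {G Ω : Type*} [Group G] [MulAction G Ω] [Finite G] [Finite Ω]

variable {U : Ω → Subgroup G}

namespace N0X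

variable {t w : G} {a b : Ω} {m : ℕ}

theorem LC.dec (h : Cx U) (hr : Rk1 G Ω) (ht : Inv t) (tH : t ∈ Hb G a b) (P : LC U a b t m)
    {y : G} (yi : Inv y) (c : y * t = t * y) : y = t ∨ y ∈ LY U {t} ∨ y * t ∈ LY U {t} := by
  by_cases f : ∀ x ∈ Fx Ω {t}, y • x ≠ x
  · exact Or.inr (P.inn y c yi.1 f)
  push Not at f
  obtain ⟨x, hx, yx⟩ := f
  obtain ⟨d, hd, dx, yd⟩ := (h.ldY {t}).second (h.two_le_Fx1 ht.1 (mem_Hb.1 tH).1) (zp2 (pw yi.1))
    (zpowers_le.2 (mem_norm1.2 c)) hx fun s hs => (zpowers_le (H := stabilizer G x)).2 yx hs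
  exact Or.inl (hr x d dx.symm y (mem_Hb.2 ⟨yx, yd y (mem_zpowers y)⟩) t
    (mem_Hb.2 ⟨mem_Fx1.1 hx, mem_Fx1.1 hd⟩) yi ht c)

theorem LC.cls (h : Cx U) (hr : Rk1 G Ω) (ht : Inv t) (tH : t ∈ Hb G a b) (P : LC U a b t m)
    (wL : w ∈ LY U {t}) (wi : Inv w) {y : G} (yi : Inv y) (c : y * t = t * y) :
    y = t ∨ (y ∈ LY U {t} ∧ IsConj y w) ∨ IsConj y (w * t) := by
  by_cases ne : y = t
  · exact Or.inl ne
  rcases (P.dec h hr ht tH yi c).resolve_left ne with i | i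
  · obtain ⟨k, -, e⟩ := P.cj y i w wL yi wi
    exact Or.inr (Or.inl ⟨i, ic' e⟩)
  · obtain ⟨k, hk, e⟩ := P.cj _ i w wL (inv_mul' yi ht ne c) wi
    refine Or.inr (Or.inr (ic' (g := k) ?_))
    rw [← e, mul_assoc _ k⁻¹, invc (PL.Lc hk), ← mul_assoc, mul_assoc k _ t, mul_assoc y, ht.1,
      mul_one]

/-- a Sylow subgroup of the two point stabiliser -/
theorem exists_T (hr : Rk1 G Ω) (hab : a ≠ b) (ht : Inv t) (tH : t ∈ Hb G a b) :
    ∃ T, IsSylowIn 2 T (Hb G a b) ∧ (∀ s ∈ T, s * t = t * s) ∧ ∀ s ∈ T, Inv s → s = t := by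
  obtain ⟨T, hT, tT⟩ := exists_isSylowIn_le (zp2 (pw ht.1)) (zpowers_le.2 tH)
  obtain ⟨z, zT, zi, zc⟩ := exists_cent hT.isP hT.isP le_normalizer fun c =>
    ht.2 (by simpa [c] using tT (mem_zpowers t))
  obtain rfl := hr a b hab t tH z (hT.le zT) ht zi (zc t (tT (mem_zpowers t)))
  exact ⟨T, hT, zc, fun s hs si => hr a b hab s (hT.le hs) t tH si ht (zc s hs)⟩

theorem fix_conj (h : Cx U) (hab : a ≠ b) {T : Subgroup G} (hT : IsSylowIn 2 T (Hb G a b))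
    (u : ∀ s ∈ T, Inv s → s = t) {y : G} (yi : Inv y) {x : Ω} (yx : y • x = x) : IsConj y t := by
  obtain ⟨d, -, dx, yd⟩ := h.ld.second (by have := h.three; rw [Set.ncard_univ]; omega)
    (zp2 (pw yi.1)) le_top (Set.mem_univ x) fun s hs => (zpowers_le (H := stabilizer G x)).2 yx hs
  obtain ⟨g, rfl, rfl⟩ := h.pair dx.symm hab
  obtain ⟨k, -, hk⟩ := hT.exists_cj_le (zp2 (pw (inv_cj yi g).1)) (zpowers_le.2 (mem_Hb.2
    ⟨by simp [mul_smul, yx], by simp [mul_smul, yd y (mem_zpowers y)]⟩))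
  exact (ic g y).trans (ic' (u _ (hk (cj_mem k (mem_zpowers _))) (inv_cj (inv_cj yi g) k)))

theorem caseA (h : Cx U) (hr : Rk1 G Ω) (ht : Inv t) (tH : t ∈ Hb G a b) (P : LC U a b t m)
    (hm : 4 ≤ m) (wL : w ∈ LY U {t}) (wi : Inv w) (c1 : IsConj w t) : IsConj (w * t) t := by
  by_contra c2
  have k : ∀ y, IsConj y t → y * t = t * y → y ≠ t → y ∈ LY U {t} := fun y i c ne => by
    rcases P.cls h hr ht tH wL wi (ht.conj i.symm) c with r | r | r
    exacts [absurd r ne, r.1, absurd (r.symm.trans i) c2]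
  obtain ⟨E, EL, E2, cE, x, xE, x1, -⟩ := P.E
  have kE : ∀ g ∈ E, g ≠ 1 → IsConj g t := fun g hg g1 =>
    let ⟨_, _, e⟩ := P.cj g (EL hg) w wL ⟨E2 g hg, g1⟩ wi
    (ic' e).trans c1
  obtain ⟨y, yE, yx⟩ : ∃ y ∈ E, y ∉ zpowers x := SetLike.not_le_iff_exists.1 fun l => by
    have := card_le_of_le l
    rw [Nat.card_zpowers, orderOf_eq_prime (p := 2) (by rw [pow_two, E2 x xE]) x1] at this
    omega
  have y1 : y ≠ 1 := fun c => yx (c ▸ one_mem _)
  have ne : y ≠ x := fun c => yx (c ▸ mem_zpowers _)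
  have cm : y * x = x * y := by
    rw [← inv_eq (E2 _ (mul_mem yE xE)), _root_.mul_inv_rev, inv_eq (E2 x xE), inv_eq (E2 y yE)]
  obtain ⟨g, rfl⟩ := isConj_iff.1 (kE x xE x1)
  have k1 := k _ ((ic g y).symm.trans (kE y yE y1)) (cjc g cm) fun c => ne (by simpa using c)
  have k2 := k _ ((ic g (y * x)).symm.trans (kE _ (mul_mem yE xE) fun c => ne (by
    rw [eq_inv_of_mul_eq_one_left c, inv_eq (E2 x xE)]))) (cjc g (mulc cm rfl)) fun c =>
      y1 (by simpa using c)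
  have := mul_mem k1 k2
  rw [conj_mul, ← mul_assoc y, E2 y yE, one_mul] at this
  exact P.tL this

theorem caseB (h : Cx U) (hr : Rk1 G Ω) (hab : a ≠ b) (ht : Inv t) (tH : t ∈ Hb G a b)
    (P : LC U a b t m) (wL : w ∈ LY U {t}) (wi : Inv w) (wa : w • a = b)
    (wc : ∀ g ∈ Hb G a b, g * t = t * g → (∃ i, g ^ 2 ^ i = 1) → g * w = w * g)
    (c2 : IsConj (w * t) t) : IsConj w t := by
  by_contra c1
  obtain ⟨T, hT, Tt, Tu⟩ := exists_T hr hab ht tH
  have Tw : ∀ s ∈ T, s * w = w * s := fun s hs => wc s (hT.le hs) (Tt s hs) (two_of hT.isP hs)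
  have fpf : ∀ y, IsConj y w → ∀ x : Ω, y • x ≠ x := fun y i x c =>
    c1 (i.symm.trans (fix_conj h hab hT Tu (wi.conj i.symm) c))
  have Tc : ∀ s ∈ T, ∀ s' ∈ T, s * s' = s' * s := fun s hs s' hs' => by
    obtain ⟨g, e⟩ := isConj_iff.1 c2
    have l : ∀ x ∈ T ^ᶜ g, x * t = t * x := fun x hx => by
      obtain ⟨r, hr, rfl⟩ := mem_cj'.1 hx
      rw [← e]
      exact cjc g (cmul (Tw r hr) (Tt r hr))
    have u : ∀ x ∈ T ^ᶜ g, Inv x → x = g * t * g⁻¹ := fun x hx i => by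
      obtain ⟨r, hr, rfl⟩ := mem_cj'.1 hx
      rw [Tu r hr (i.conj (ic g r).symm)]
    have := P.ab (T ^ᶜ g) (isPGroup_cj hT.isP g) (fun x hx => mem_norm1.2 (l x hx))
      (fun x hx k => ?_) (fun x hx y hy i j => (u x hx i).trans (u y hy j).symm) _ (cj_mem g hs) _
      (cj_mem g hs')
    · exact (conj_comm_iff g s s').1 this
    by_contra x1
    obtain ⟨i, hi⟩ := two_of (isPGroup_cj hT.isP g) hx
    obtain ⟨j, hj⟩ := exists_inv hi x1
    have k1 := (uk1 hr hab ht tH _ (powc (l x hx) _) (k.pow _) hj.1).resolve_left hj.2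
    rw [u _ (pow_mem hx _) hj] at k1
    exact wi.2 (by simpa using e.trans k1.symm)
  have wb : w • b = a := by rw [← wa, ← mul_smul, wi.1, one_smul]
  have wH : w ∈ 𝐍(Hb G a b) := mem_normalizer_of_cj_le fun x hx => by
    obtain ⟨k, hk, rfl⟩ := mem_cj'.1 hx
    rw [inv_eq wi.1]
    exact mem_Hb.2 ⟨by rw [mul_smul, mul_smul, wa, (mem_Hb.1 hk).2, wb],
      by rw [mul_smul, mul_smul, wb, (mem_Hb.1 hk).1, wa]⟩
  have wT : w ∈ 𝐍(T) := centralizer_le_normalizer _ fun s hs => Tw s hs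
  set N := Hb G a b ⊔ zpowers w
  set S := T ⊔ zpowers w
  have wS : w ∈ S := mem_sup_right (mem_zpowers w)
  have wN : w ∈ N := mem_sup_right (mem_zpowers w)
  have inf : ∀ R, S ≤ R → IsPGroup 2 R → ∀ r ∈ R, r ∈ Hb G a b → r ∈ T := fun R l p r h1 h2 =>
    (hT.max (R ⊓ Hb G a b) (le_inf (le_sup_left.trans l) hT.le) inf_le_right p.to_inf_left).le
      ⟨h1, h2⟩
  have pS : IsPGroup 2 S := hT.isP.to_sup_of_normal_left' (zp2 (pw wi.1)) (zpowers_le.2 wT)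
  have hS : IsSylowIn 2 S N := ⟨sup_le_sup_right hT.le _, pS, fun R l l' p =>
    le_antisymm (fun r hr => by
      rcases mem_sup2 wi.1 wH (l' hr) with c | c
      · exact mem_sup_left (inf R l p r hr c)
      · exact (mul_mem_cancel_right wS).1 (mem_sup_left (inf R l p _ (mul_mem hr (l wS)) c))) l⟩
  have cT : ∀ s ∈ S, (∀ r ∈ T, s * r = r * s) ∧ s * w = w * s := fun s hs => by
    rcases mem_sup2 wi.1 wT hs with c | c
    · exact ⟨Tc s c, Tw s c⟩
    · have e : s = s * w * w := by rw [mul_assoc, wi.1, mul_one]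
      exact ⟨fun r hr => e ▸ mulc (Tc _ c r hr) (Tw r hr).symm, e ▸ mulc (Tw _ c) rfl⟩
  have cS : ∀ s ∈ S, ∀ r ∈ S, s * r = r * s := fun s hs r hr =>
    (mc.1 ((sup_le (fun r hr => mc.2 ((cT s hs).1 r hr).symm)
      (zpowers_le.2 (mc.2 (cT s hs).2.symm)) : S ≤ centralizer {s}) hr)).symm
  let : CommGroup (S.subgroupOf N) := { (inferInstance : Group (S.subgroupOf N)) with
    mul_comm := fun x y => Subtype.ext (Subtype.ext (cS _ x.2 _ y.2)) }
  have nH : N ≤ 𝐍(Hb G a b) := sup_le le_normalizer (zpowers_le.2 wH)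
  have tT : t ∈ T := inf _ le_sup_left (pS.to_sup_of_normal_left' (zp2 (pw ht.1)) (zpowers_le.2
    (centralizer_le_normalizer _ fun s hs => mc.1 ((sup_le (fun r hr => mc.2 (Tt r hr))
      (zpowers_le.2 (mc.2 (PL.Lc wL))) : S ≤ centralizer {t}) hs)))) t
    (mem_sup_right (mem_zpowers t)) tH
  have tN : t ∈ N := mem_sup_left tH
  let V := MonoidHom.transfer (MonoidHom.id (S.subgroupOf N))
  have tV : V ⟨t, tN⟩ = ⟨⟨t, tN⟩, mem_sup_left tT⟩ :=
    transfer_inv _ (Nat.not_even_iff_odd.1 fun e => hS.not_dvd_relIndex e.two_dvd) _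
      (Subtype.ext ht.1) (Subtype.ext (Subtype.ext ht.1)) fun g hg => Subtype.ext (Subtype.ext
        (Tu _ (inf S le_rfl pS _ hg (conj_mem_of_mem_normalizer' (nH g.2) tH))
          (by simpa using inv_cj ht (g : G)⁻¹)))
  suffices k : t ∈ V.ker.map N.subtype by
    obtain ⟨⟨t', t'N⟩, k, rfl⟩ := k
    exact ht.2 (congrArg (fun x : S.subgroupOf N => ((x : N) : G)) (tV.symm.trans k))
  refine H46.C2.hk_sub (U := U a) (N := N) (I := V.ker.map N.subtype) hab.symm wa wi.1 (fun u hu => h.fix hu)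
    (fun g ga u hu => by have := (h.cj g u a).2 hu; rwa [ga] at this)
    (fun y hy => h.tr hab.symm hy) (h.nil a) (fpf w (IsConj.refl w)) (fun g e => ?_)
    (fun k ka kb => mem_sup_left (mem_Hb.2 ⟨ka, kb⟩)) wN
    (fun x hx y hy => ⟨⁅(⟨x, hx⟩ : N), ⟨y, hy⟩⁆, by
      rw [SetLike.mem_coe, MonoidHom.mem_ker, map_commutatorElement,
        commutatorElement_eq_one_iff_mul_comm, mul_comm], rfl⟩)
    (fun u hu c => h.reg a b hab.symm u hu c ▸ one_mem _) (g := t)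
    ((h.gen.ge.trans (Lt_le_iff.2 fun c _ u hu => ?_)) (mem_top t)) (mem_Hb.1 tH).1 (mem_Hb.1 tH).2
  · have vi := inv_cj wi g
    have cw := (ic g w).symm
    generalize g * w * g⁻¹ = v at e vi cw
    have vb : v • b = a := by rw [← e, ← mul_smul, vi.1, one_smul]
    have vN : v ∈ N := (mul_mem_cancel_right wN).1 (mem_sup_left (mem_Hb.2
      ⟨by rw [mul_smul, wa, vb], by rw [mul_smul, wb, e]⟩))
    obtain ⟨n, nN, hn⟩ := hS.exists_cj_le (zp2 (pw vi.1)) (zpowers_le.2 vN)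
    have yS := hn (cj_mem n (mem_zpowers v))
    have yw := (ic n v).symm.trans cw
    have e1 : n * v * n⁻¹ = w := by
      have yi := inv_cj vi n
      generalize n * v * n⁻¹ = y at yS yw yi
      by_contra ne
      have := Tu _ ((mem_sup2 wi.1 wT yS).resolve_left fun c =>
        fpf y yw a (mem_Hb.1 (hT.le c)).1) (inv_mul' yi wi ne (cT y yS).2)
      refine c1 (yw.symm.trans ?_)
      rwa [← this, ← mul_assoc, ← (cT y yS).2, mul_assoc, wi.1, mul_one, this] at c2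
    have e2 : v = n⁻¹ * w * n⁻¹⁻¹ := by rw [← e1]; group
    rcases mem_sup2 wi.1 wH (inv_mem nN) with c | c
    · exact ⟨_, (mem_Hb.1 c).1, (mem_Hb.1 c).2, e2⟩
    · exact ⟨_, (mem_Hb.1 c).1, (mem_Hb.1 c).2, by rw [e2]; group⟩
  · obtain ⟨g, rfl⟩ := h.trans a c
    have e : u = g * (g⁻¹ * u * g) * g⁻¹ := by group
    rw [e] at hu ⊢
    exact normalClosure_normal.conj_mem _ (subset_normalClosure ((h.cj g _ a).1 hu)) g

theorem caseC (h : Cx U) (hr : Rk1 G Ω) (ht : Inv t) (tH : t ∈ Hb G a b) (P : LC U a b t m)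
    (all : ∀ y, Inv y → y * t = t * y → IsConj y t) :
    ∃ S : Subgroup G, IsSylowIn 2 S ⊤ ∧ IsMulCommutative S ∧ 2 * m ≤ Nat.card S := by
  obtain ⟨E, EL, E2, cE, x, xE, x1, hx⟩ := P.E
  obtain ⟨S0, h0, t0⟩ := exists_isSylowIn_le (zp2 (pw ht.1)) (le_top (a := zpowers t))
  obtain ⟨z, -, zi, zc⟩ := exists_cent h0.isP h0.isP le_normalizer fun c =>
    ht.2 (by simpa [c] using t0 (mem_zpowers t))
  obtain ⟨g, e⟩ := isConj_iff.1 (all z zi (zc t (t0 (mem_zpowers t))).symm)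
  have pE : IsPGroup 2 E := fun g => ⟨1, Subtype.ext (pw (E2 g g.2))⟩
  obtain ⟨S, h1, l⟩ := exists_isSylowIn_le (L := centralizer {t})
    (pE.to_sup_of_normal_left' (zp2 (pw ht.1)) (zpowers_le.2
      (centralizer_le_normalizer _ fun s hs => PL.Lc (EL hs))))
    (sup_le (fun s hs => mc.2 (PL.Lc (EL hs))) (zpowers_le.2 (mc.2 rfl)))
  have hS : IsSylowIn 2 S ⊤ := h1.of_parabolic (h0.cj_of_mem (mem_top g)) (by
    rw [← e, ← cj_centralizer_singleton]
    exact cj_mono g fun s hs => mc.2 (zc s hs)) le_top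
  have St : ∀ s ∈ S, s * t = t * s := fun s hs => mc.1 (h1.le hs)
  have tS : t ∈ S := l (mem_sup_right (mem_zpowers t))
  have ES : E ≤ S := le_sup_left.trans l
  let R : Subgroup G :=
    { carrier := {r | r ∈ S ∧ ∀ n ∈ 𝐍(S), n * r * n⁻¹ ∈ LY U {t}}
      one_mem' := ⟨one_mem _, fun n _ => by simp⟩
      mul_mem' := fun ⟨k1, k2⟩ ⟨k3, k4⟩ => ⟨mul_mem k1 k3, fun n hn => by
        rw [← conj_mul]; exact mul_mem (k2 n hn) (k4 n hn)⟩
      inv_mem' := fun ⟨k1, k2⟩ => ⟨inv_mem k1, fun n hn => by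
        rw [← conj_inv]; exact inv_mem (k2 n hn)⟩ }
  have R0 : R = ⊥ := by
    by_contra c
    obtain ⟨z, zR, zi, zc⟩ := exists_cent (hS.isP.to_le (fun r hr => hr.1 : R ≤ S)) hS.isP
      (le_normalizer_of_cj_le fun s hs y hy => by
        obtain ⟨r, hr, rfl⟩ := mem_cj'.1 hy
        refine ⟨mul_mem (mul_mem hs hr.1) (inv_mem hs), fun n hn => ?_⟩
        have := hr.2 _ (mul_mem hn (le_normalizer hs))
        rwa [show n * s * r * (n * s)⁻¹ = n * (s * r * s⁻¹) * n⁻¹ by group] at this) c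
    obtain ⟨n, hn, e, -⟩ := burn hS zc St (all z zi (zc t tS).symm)
    exact P.tL (e ▸ zR.2 n hn)
  have cL : ∀ v ∈ S, ∀ s ∈ S, v * v = 1 → v * (s * v⁻¹ * s⁻¹) ∈ LY U {t} := fun v hv s hs v2 => by
    by_cases v1 : v = 1
    · simp [v1]
    rcases P.dec h hr ht tH ⟨v2, v1⟩ (St v hv) with c | c | c
    · rw [c, ← invc (St s hs).symm]
      simp
    · exact mul_mem c (PL.Ln h (St s hs) (inv_mem c))
    · have := mul_mem c (PL.Ln h (St s hs) (inv_mem c))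
      rwa [_root_.mul_inv_rev, ← mul_assoc s, ← invc (St s hs).symm,
        show v * t * (t⁻¹ * s * v⁻¹ * s⁻¹) = v * (s * v⁻¹ * s⁻¹) by group] at this
  have cen : ∀ v ∈ S, v * v = 1 → ∀ s ∈ S, s * v = v * s := fun v hv v2 s hs => by
    have : v * (s * v⁻¹ * s⁻¹) ∈ R := ⟨mul_mem hv (mul_mem (mul_mem hs (inv_mem hv)) (inv_mem hs)),
      fun n hn => by
        have := cL _ (conj_mem_of_mem_normalizer hn hv) _ (conj_mem_of_mem_normalizer hn hs)
          (by rw [conj_mul, v2]; simp)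
        rwa [show n * v * n⁻¹ * (n * s * n⁻¹ * (n * v * n⁻¹)⁻¹ * (n * s * n⁻¹)⁻¹) =
          n * (v * (s * v⁻¹ * s⁻¹)) * n⁻¹ by group] at this⟩
    rw [R0, mem_bot, ← mul_assoc, ← mul_assoc, mul_inv_eq_one, mul_inv_eq_iff_eq_mul] at this
    exact this.symm
  have ex2 : ∀ s ∈ S, s * s = 1 := fun s hs => by
    by_contra c
    obtain ⟨i, hi⟩ := two_of hS.isP (mul_mem hs hs)
    obtain ⟨j, hj⟩ := exists_inv hi c
    have yS := pow_mem (mul_mem hs hs) (2 ^ j)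
    obtain ⟨n, hn, e, -⟩ := burn hS (cen _ yS hj.1) (cen x (ES xE) (E2 x xE))
      ((all _ hj (St _ yS)).trans (all x ⟨E2 x xE, x1⟩ (St x (ES xE))).symm)
    have rS := conj_mem_of_mem_normalizer hn (pow_mem hs (2 ^ j))
    refine hx _ (St _ rS) (fun g hg => cen g (ES hg) (E2 g hg) _ rS) ?_
    rw [conj_mul, ← e, (Commute.refl s).mul_pow]
  refine ⟨S, hS, ⟨⟨fun u v => Subtype.ext (cen v v.2 (ex2 v v.2) u u.2)⟩⟩, ?_⟩
  have := two_mul_le (lt_of_le_of_ne ES fun c => P.tL (EL (c ▸ tS)))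
  omega

theorem lc_main (h : Cx U) (hr : Rk1 G Ω) (hab : a ≠ b) (ht : Inv t) (tH : t ∈ Hb G a b)
    (P : LC U a b t m) (hm : 4 ≤ m) :
    ∃ S : Subgroup G, IsSylowIn 2 S ⊤ ∧ IsMulCommutative S ∧ 2 * m ≤ Nat.card S := by
  obtain ⟨w, wL, wi, wa, wc⟩ := P.w
  obtain ⟨y, i, c, ne⟩ := h.zstar ht
  have k : IsConj w t ∧ IsConj (w * t) t := by
    rcases (P.cls h hr ht tH wL wi (ht.conj i) c.symm).resolve_left ne with r | r
    · have := (i.trans r.2).symm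
      exact ⟨this, caseA h hr ht tH P hm wL wi this⟩
    · have := (i.trans r).symm
      exact ⟨caseB h hr hab ht tH P wL wi wa wc this, this⟩
  refine caseC h hr ht tH P fun y yi c => ?_
  rcases P.cls h hr ht tH wL wi yi c with r | r | r
  exacts [r ▸ IsConj.refl y, r.2.trans k.1, r.trans k.2]

end N0X

theorem n0c (h : Cx U) (hn : Nat.card Ω % 4 = 0) (hr : Rk1 G Ω) {t : G} {a b : Ω} (hab : a ≠ b)
    (ht : Inv t) (tH : t ∈ Hb G a b) (hT : (TL U {t} ∧ t ∉ LY U {t}) ∨ TA U {t}) :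
    ∃ S : Subgroup G, IsSylowIn 2 S ⊤ ∧ IsMulCommutative S ∧ 8 ≤ Nat.card S ∧
      (Nat.card S = 8 → TL U {t} ∧ t ∉ LY U {t}) := by
  rcases hT with hT | hT
  · obtain ⟨S, h1, h2, h3⟩ := N0X.lc_main h hr hab ht tH (N0X.lc_L h hn hr hab ht tH hT.1 hT.2) le_rfl
    exact ⟨S, h1, h2, h3, fun _ => hT⟩
  · obtain ⟨S, h1, h2, h3⟩ := N0X.lc_main h hr hab ht tH (N0X.lc_A h hr hab ht tH hT) (by omega)
    exact ⟨S, h1, h2, by omega, fun _ => by omega⟩

end H51.HK
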