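import Cfsg.Agent.Lib.HK.N0B

/-! The local facts for an involution of type `L₂(q)` or of affine type when two point stabilisers
have 2-rank one (helper22). -/

set_option autoImplicit false
set_option linter.unusedSectionVars false

namespace H51.HK.N0X

open MulAction Subgroup Matrix H69
open scoped MatrixGroups Classical

variable {G Ω : Type*} [Group G] [MulAction G Ω] [Finite G] [Finite Ω]
variable {U : Ω → Subgroup G} {t : G} {a b : Ω}

theorem two_mul_le {A B : Subgroup G} (h : A < B) : 2 * Nat.card A ≤ Nat.card B := by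
  obtain ⟨k, hk⟩ := card_dvd_of_le h.le
  have k0 : k ≠ 0 := fun c => Nat.card_pos.ne' (by rw [hk, c, mul_zero])
  have k1 : k ≠ 1 := fun c => h.ne (eq_of_le_of_card_ge h.le (by rw [hk, c, mul_one]))
  rw [hk, mul_comm]
  exact Nat.mul_le_mul_left _ (by omega)

/-- the local facts -/
structure LC (U : Ω → Subgroup G) (a b : Ω) (t : G) (m : ℕ) : Prop where
  tL : t ∉ LY U {t}
  inn : ∀ y, y * t = t * y → y * y = 1 → (∀ x ∈ Fx Ω {t}, y • x ≠ x) →
    y ∈ LY U {t} ∨ y * t ∈ LY U {t}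
  cj : ∀ s ∈ LY U {t}, ∀ s' ∈ LY U {t}, Inv s → Inv s' → ∃ m ∈ LY U {t}, m * s * m⁻¹ = s'
  ab : ∀ T : Subgroup G, IsPGroup 2 T → T ≤ normalizer ({t} : Set G) →
    (∀ g ∈ T, Tr (Fx Ω {t}) g → g = 1) → (∀ s ∈ T, ∀ s' ∈ T, Inv s → Inv s' → s = s') →
      ∀ g ∈ T, ∀ g' ∈ T, g * g' = g' * g
  w : ∃ w ∈ LY U {t}, Inv w ∧ w • a = b ∧ ∀ g ∈ Hb G a b, g * t = t * g → (∃ i, g ^ 2 ^ i = 1) →
    g * w = w * g
  E : ∃ E ≤ LY U {t}, (∀ g ∈ E, g * g = 1) ∧ m ≤ Nat.card E ∧ ∃ x ∈ E, x ≠ 1 ∧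
    ∀ s, s * t = t * s → (∀ g ∈ E, s * g = g * s) → s * s ≠ x

theorem uk1 (hr : Rk1 G Ω) (hab : a ≠ b) (ht : Inv t) (tH : t ∈ Hb G a b) (k : G)
    (c : k * t = t * k) (hk : Tr (Fx Ω {t}) k) (k2 : k * k = 1) : k = 1 ∨ k = t :=
  or_iff_not_imp_left.2 fun k1 => hr a b hab k (mem_Hb.2 ⟨hk a (mem_Fx1.2 (mem_Hb.1 tH).1),
    hk b (mem_Fx1.2 (mem_Hb.1 tH).2)⟩) t tH ⟨k2, k1⟩ ht c

theorem lc_L (h : Cx U) (hn : Nat.card Ω % 4 = 0) (hr : Rk1 G Ω) (hab : a ≠ b) (ht : Inv t)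
    (tH : t ∈ Hb G a b) (hT : TL U {t}) (tL : t ∉ LY U {t}) : LC U a b t 4 := by
  have ha := mem_Fx1.2 (mem_Hb.1 tH).1
  have hb := mem_Fx1.2 (mem_Hb.1 tH).2
  obtain ⟨F, _, _, e, π, q⟩ := hT a ha b hb hab
  have uk := uk1 hr hab ht tH
  have h1 : π (-1) = 1 := (uk _ (PL.Lc (q.mem _)) (neg_tr h q) neg_sq).resolve_right
    fun d => tL (by have := q.mem (-1); rwa [d] at this)
  have P := pl_of h hn ht tH q h1 uk
  have h3 := q3 h hn ht.1 q.toL2P
  refine ⟨tL, fun y c y2 f => P.dec h c y2 ?_, P.cj, fun T hT l f u g hg g' hg' => ?_,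
    ⟨π (ad 1), q.mem _, inv_pi q h1 (ad_sq 1), ((q.mem_swap (h.ldY {t}) ha hb).2 ⟨1, rfl⟩).2.1,
      fun g gH c ⟨_, d⟩ => ad_comm h h3 tH q h1 P gH c d 1⟩, ?_⟩
  · by_contra i
    obtain ⟨x, hx⟩ := Set.nonempty_of_ncard_ne_zero ((P.hyp y c y2 i).trans_ne two_ne_zero)
    exact f x hx.1 hx.2
  · have := q.cyc (h.ldY {t}) hT l (fun g hg =>
      let ⟨_, d⟩ := two_of hT hg
      q.lin3 (h.ldY {t}) h3 (l hg) (tr1 d)) f u
    exact congrArg Subtype.val (IsCyclic.commGroup.mul_comm (⟨g, hg⟩ : T) ⟨g', hg'⟩)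
  · obtain ⟨x, hx, y, hy, xi, yi, xy, c⟩ := P.four
    refine ⟨zpowers x ⊔ zpowers y, sup_le (zpowers_le.2 hx) (zpowers_le.2 hy), fun g hg => ?_, ?_,
      x, mem_sup_left (mem_zpowers x), xi.2, fun s st sc =>
        P.sq x hx y hy xi yi xy s st (sc y (mem_sup_right (mem_zpowers y)))⟩
    · rcases memV xi.1 yi.1 c hg with rfl | rfl | rfl | rfl
      exacts [mul_one 1, xi.1, yi.1, sq_mul xi.1 yi.1 c]
    · have k1 := two_mul_le (A := ⊥) (B := zpowers x) (bot_lt_iff_ne_bot.2 (zpowers_ne_bot.2 xi.2))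
      have k2 := two_mul_le (A := zpowers x) (B := zpowers x ⊔ zpowers y) (left_lt_sup.2 fun d =>
        (mem_zp xi.1 (d (mem_zpowers y))).elim yi.2 xy.symm)
      rw [card_bot] at k1
      omega

theorem cyc_aut (K : Type*) [Field K] [CharP K 2] [Finite K] : IsCyclic (K ≃+* K) := by
  have : Fact (Nat.Prime 2) := ⟨Nat.prime_two⟩
  let := ZMod.algebra K 2
  let A : (K ≃+* K) →* (K ≃ₐ[ZMod 2] K) :=
    { toFun := fun σ => AlgEquiv.ofRingEquiv (f := σ) fun x => DFunLike.congr_fun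
        (RingHom.ext_zmod ((σ : K →+* K).comp (algebraMap _ _)) (algebraMap _ _)) x
      map_one' := rfl
      map_mul' := fun _ _ => rfl }
  exact isCyclic_of_injective A fun σ τ e => RingEquiv.ext fun a => DFunLike.congr_fun e a

theorem lc_A (h : Cx U) (hr : Rk1 G Ω) (hab : a ≠ b) (ht : Inv t) (tH : t ∈ Hb G a b)
    (hT : TA U {t}) : LC U a b t 8 := by
  have ha := mem_Fx1.2 (mem_Hb.1 tH).1
  have hb := mem_Fx1.2 (mem_Hb.1 tH).2
  obtain ⟨F, _, _, e, q⟩ := hT.1 a ha b hb hab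
  have := q.two
  have hd := h.ldY {t}
  have LN := hd.Lt_le
  have two : ∀ z : F, z + z = 0 := CharTwo.add_self_eq_zero
  have sur : ∀ z : F, ∃ x ∈ Fx Ω {t}, e x = z := fun z => q.bij.surjOn (Set.mem_univ z)
  have tr : ∀ g ∈ normalizer ({t} : Set G), ∀ g' ∈ normalizer ({t} : Set G),
      (∀ x ∈ Fx Ω {t}, e (g • x) = e (g' • x)) → Tr (Fx Ω {t}) (g'⁻¹ * g) :=
    fun g hg g' hg' k x hx => by
      rw [mul_smul, q.bij.injOn (hd.inv g hg x hx) (hd.inv g' hg' x hx) (k x hx), inv_smul_smul]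
  have eqL : ∀ g ∈ normalizer ({t} : Set G), ∀ g' ∈ normalizer ({t} : Set G),
      g'⁻¹ * g ∈ LY U {t} → (∀ x ∈ Fx Ω {t}, e (g • x) = e (g' • x)) → g = g' :=
    fun g hg g' hg' l k => (inv_mul_eq_one.1 (hT.2 _ l (tr g hg g' hg' k))).symm
  have sq1 : ∀ c : F, c * c = 1 → c = 1 := fun c k => by
    rcases mul_self_eq_one_iff.1 k with r | r
    · exact r
    · rw [r, CharTwo.neg_eq]
  have tsq : ∀ g ∈ normalizer ({t} : Set G), ∀ d : F, (∀ x ∈ Fx Ω {t}, e (g • x) = e x + d) →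
      Tr (Fx Ω {t}) (g * g) := fun g hg d k => by
    have := tr (g * g) (mul_mem hg hg) 1 (one_mem _) fun x hx => by
      rw [mul_smul, k _ (hd.inv g hg x hx), k x hx, one_smul, add_assoc, two, add_zero]
    simpa using this
  have tl : ∀ l ∈ LY U {t}, Inv l → ∃ d : F, d ≠ 0 ∧ ∀ x ∈ Fx Ω {t}, e (l • x) = e x + d :=
    fun l hl li => by
      obtain ⟨c, d, -, k⟩ := q.Laf l hl
      have k2 : ∀ x ∈ Fx Ω {t}, e x = c * (c * e x + d) + d := fun x hx => by
        rw [← k x hx, ← k _ (hd.inv l (LN hl) x hx), ← mul_smul, li.1, one_smul]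
      have k3 := k2 a ha
      have k4 := k2 b hb
      rw [q.ea] at k3
      rw [q.eb] at k4
      obtain rfl := sq1 c (by linear_combination k3 - k4)
      refine ⟨d, fun d0 => li.2 (eqL l (LN hl) 1 (one_mem _) (by simpa using hl) fun x hx => ?_),
        fun x hx => by rw [k x hx, one_mul]⟩
      rw [k x hx, one_mul, d0, add_zero, one_smul]
  obtain ⟨w, wL, hw⟩ := q.trL 1
  have wa : w • a = b := q.bij.injOn (hd.inv w (LN wL) a ha) hb (by rw [hw a ha, q.ea, q.eb, zero_add])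
  have w1 : w ≠ 1 := fun c => hab (by rw [← wa, c, one_smul])
  refine ⟨fun c => ht.2 (hT.2 t c (tr_self t)), fun y c y2 f => ?_, fun l hl l' hl' li li' => ?_,
    fun T hT' l f u => ?_, ⟨w, wL, ⟨hT.2 _ (mul_mem wL wL) (tsq w (LN wL) 1 hw), w1⟩, wa,
      fun g gH c _ => ?_⟩, ?_⟩
  · have yN := mem_norm1.2 c
    obtain ⟨γ, d, σ, -, k⟩ := q.Naf y yN
    have k2 : ∀ z, z = γ * σ (γ * σ z + d) + d := fun z => by
      obtain ⟨x, hx, rfl⟩ := sur z
      rw [← k x hx, ← k _ (hd.inv y yN x hx), ← mul_smul, y2, one_smul]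
    have k3 : γ * σ d = d := by
      have := k2 0
      simp only [map_zero, mul_zero, zero_add] at this
      linear_combination -this - two d
    have k4 : ∀ z, γ * σ γ * σ (σ z) = z := fun z => by
      have := k2 z
      rw [map_add, map_mul] at this
      linear_combination -this - k3 - two d
    have k5 : γ * σ γ = 1 := by simpa using k4 1
    by_cases s : ∀ z, σ z = z
    · obtain rfl := sq1 γ (by rwa [s] at k5)
      obtain ⟨l, hl, kl⟩ := q.trL d
      have hk := tr y yN l (LN hl) fun x hx => by rw [k x hx, kl x hx, one_mul, s]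
      have c1 := mulc (invc (PL.Lc hl)) c
      have c2 := hd.commK (h.faithY (h.two_le_Fx1 ht.1 (mem_Hb.1 tH).1)) (mem_norm1.2 c1) hk hl
      have l2 : l * l = 1 := hT.2 _ (mul_mem hl hl) (tsq l (LN hl) d kl)
      have c3 : y * l = l * y := by
        have := mulc rfl c2
        rwa [mul_inv_cancel_left] at this
      rcases uk1 hr hab ht tH _ c1 hk (sq_mul (by rw [inv_eq l2, l2]) y2 (invc c3.symm)) with r | r
      · exact Or.inl (inv_mul_eq_one.1 r ▸ hl)
      · exact Or.inr (by rwa [inv_mul_eq_iff_eq_mul.1 r, mul_assoc, ht.1, mul_one])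
    · push Not at s
      obtain ⟨z, hz⟩ := s
      have z0 : z + σ z ≠ 0 := fun d => hz (by linear_combination d - two z)
      obtain ⟨x, hx, ex⟩ := sur (d * z / (z + σ z))
      refine absurd (q.bij.injOn (hd.inv y yN x hx) hx ?_) (f x hx)
      have k6 := k4 z
      rw [k5, one_mul] at k6
      rw [k x hx, ex, map_div₀, map_mul, map_add, k6, add_comm (σ z), ← mul_div_assoc, ← mul_assoc, k3,
        eq_div_iff z0, add_mul, div_mul_cancel₀ _ z0]
      linear_combination two (d * σ z)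
  · obtain ⟨d, d0, k⟩ := tl l hl li
    obtain ⟨d', d0', k'⟩ := tl l' hl' li'
    obtain ⟨x, hx, rfl⟩ := sur d
    obtain ⟨y, hy, rfl⟩ := sur d'
    obtain ⟨u, hu, uxy⟩ := hd.tr a ha x hx y hy (fun c => d0 (by rw [c, q.ea]))
      fun c => d0' (by rw [c, q.ea])
    obtain ⟨c, ku⟩ := q.Vm u hu
    have uL : u ∈ LY U {t} := le_Lt ha hu
    refine ⟨u, uL, mul_inv_eq_iff_eq_mul.2 (eqL _ (LN (mul_mem uL hl)) _ (LN (mul_mem hl' uL))
      (mul_mem (inv_mem (mul_mem hl' uL)) (mul_mem uL hl)) fun z hz => ?_)⟩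
    rw [mul_smul, mul_smul, ku _ (hd.inv l (LN hl) z hz), k z hz, k' _ (hd.inv u (LN uL) z hz),
      ku z hz, ← uxy, ku x hx, mul_add]
  · have uq : ∀ {g : G} {c d c' d' : F} {σ σ' : F ≃+* F}, c ≠ 0 →
        (∀ x ∈ Fx Ω {t}, e (g • x) = c * σ (e x) + d) →
        (∀ x ∈ Fx Ω {t}, e (g • x) = c' * σ' (e x) + d') → σ = σ' := by
      intro g c d c' d' σ σ' c0 k k'
      have k1 : ∀ z, c * σ z + d = c' * σ' z + d' := fun z => by
        obtain ⟨x, hx, rfl⟩ := sur z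
        rw [← k x hx, k' x hx]
      obtain rfl : d = d' := by simpa using k1 0
      obtain rfl : c = c' := by simpa using k1 1
      exact RingEquiv.ext fun z => mul_left_cancel₀ c0 (add_right_cancel (k1 z))
    choose c d σ c0 k using fun g : T => q.Naf g (l g.2)
    let φ : T →* (F ≃+* F) := MonoidHom.mk' σ fun g g' => uq (c0 _) (k (g * g'))
      (c' := c g * σ g (c g')) (d' := c g * σ g (d g') + d g) fun x hx => by
        rw [coe_mul, mul_smul, k g _ (hd.inv _ (l g'.2) x hx), k g' x hx, map_add, map_mul]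
        show _ = _ * σ g (σ g' (e x)) + _
        ring
    have := cyc_aut F
    intro g hg g' hg'
    refine congrArg Subtype.val (commutative_of_cyclic_center_quotient φ (fun z hz => ?_)
      ⟨g, hg⟩ ⟨g', hg'⟩)
    have s1 : σ z = 1 := hz
    have k1 : ∀ x ∈ Fx Ω {t}, e ((z : G) • x) = c z * e x + d z := fun x hx => by
      rw [k z x hx, s1]; rfl
    have k2 : ∀ n : ℕ, ∃ d', ∀ x ∈ Fx Ω {t}, e ((z : G) ^ n • x) = c z ^ n * e x + d' := fun n => by
      induction n with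
      | zero => exact ⟨0, fun x _ => by simp⟩
      | succ n ih =>
        obtain ⟨d', ih⟩ := ih
        exact ⟨c z ^ n * d z + d', fun x hx => by
          rw [pow_succ, mul_smul, ih _ (hd.inv _ (l z.2) x hx), k1 x hx]; ring⟩
    obtain ⟨i, hi⟩ := two_of hT' z.2
    obtain ⟨d', k3⟩ := k2 (2 ^ i)
    have k4 := k3 a ha
    have k5 := k3 b hb
    rw [hi, one_smul, q.ea] at k4
    rw [hi, one_smul, q.eb] at k5
    have k6 : (c z - 1) ^ 2 ^ i = 0 := by
      rw [sub_pow_char_pow, one_pow]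
      linear_combination k4 - k5
    have k7 : c z = 1 := sub_eq_zero.1 (pow_eq_zero_iff (by positivity) |>.1 k6)
    have z2 : (z : G) * z = 1 := f _ (mul_mem z.2 z.2) (tsq z (l z.2) (d z) fun x hx => by
      rw [k1 x hx, k7, one_mul])
    refine mem_center_iff.2 fun y => Subtype.ext ?_
    by_cases z1 : (z : G) = 1
    · simp [z1]
    · exact conj_eq_iff.1 (u _ (mul_mem (mul_mem y.2 z.2) (inv_mem y.2)) z z.2
        (inv_cj ⟨z2, z1⟩ y) ⟨z2, z1⟩)
  · have gN := mem_norm1.2 c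
    obtain ⟨γ, d, σ, -, k⟩ := q.Naf g gN
    have k1 := k a ha
    have k2 := k b hb
    rw [(mem_Hb.1 gH).1, q.ea, map_zero, mul_zero, zero_add] at k1
    rw [(mem_Hb.1 gH).2, q.eb, map_one, mul_one, ← k1, add_zero] at k2
    refine eqL _ (mul_mem gN (LN wL)) _ (mul_mem (LN wL) gN) ?_ fun x hx => ?_
    · have := mul_mem (hd.Lt_conj (inv_mem gN) (inv_mem wL)) wL
      rwa [show g⁻¹ * w⁻¹ * g⁻¹⁻¹ * w = (w * g)⁻¹ * (g * w) by group] at this
    · rw [mul_smul, mul_smul, k _ (hd.inv w (LN wL) x hx), hw x hx, hw _ (hd.inv g gN x hx), k x hx,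
        ← k1, ← k2, map_add, map_one]
      ring
  · let E : Subgroup G :=
      { carrier := {g | g ∈ LY U {t} ∧ ∃ d : F, ∀ x ∈ Fx Ω {t}, e (g • x) = e x + d}
        one_mem' := ⟨one_mem _, 0, fun x _ => by simp⟩
        mul_mem' := fun {g g'} ⟨hg, d, k⟩ ⟨hg', d', k'⟩ => ⟨mul_mem hg hg', d' + d, fun x hx => by
          rw [mul_smul, k _ (hd.inv g' (LN hg') x hx), k' x hx, add_assoc]⟩
        inv_mem' := fun {g} ⟨hg, d, k⟩ => ⟨inv_mem hg, d, fun x hx => by
          have := k _ (hd.inv g⁻¹ (LN (inv_mem hg)) x hx)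
          rw [smul_inv_smul] at this
          rw [this, add_assoc, two, add_zero]⟩ }
    choose τ τL kτ using q.trL
    refine ⟨E, fun g hg => hg.1, fun g ⟨hg, d, k⟩ => hT.2 _ (mul_mem hg hg) (tsq g (LN hg) d k),
      q.big.trans ?_, w, ⟨wL, 1, hw⟩, w1, fun s st sc c => hab ?_⟩
    · rw [← Nat.card_eq_fintype_card]
      refine Nat.card_le_card_of_injective (fun d => (⟨τ d, τL d, d, kτ d⟩ : E)) fun d d' c => ?_
      have := kτ d a ha
      rw [show τ d = τ d' from congrArg Subtype.val c, kτ d' a ha] at this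
      exact (add_left_cancel this).symm
    · have sN := mem_norm1.2 st
      obtain ⟨γ, d, σ, -, k⟩ := q.Naf s sN
      have k1 : ∀ z, γ * σ z = z := fun z => by
        have := congrArg (fun g : G => e (g • a)) (sc (τ z) ⟨τL z, z, kτ z⟩)
        simp only [mul_smul] at this
        rw [k _ (hd.inv _ (LN (τL z)) a ha), kτ z a ha, kτ z _ (hd.inv s sN a ha), k a ha, q.ea] at this
        simp only [map_zero, mul_zero, zero_add] at this
        linear_combination this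
      rw [← wa, ← c, tsq s sN d (fun x hx => by rw [k x hx, k1]) a ha]

end H51.HK.N0X
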