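import Cfsg.Agent.Lib.HK.SLB

/-! HKS2, package N0I: auxiliary lemmas. -/

set_option autoImplicit false
set_option linter.unusedSectionVars false

namespace H51.HK.N0I

open MulAction Subgroup Matrix H69 H51.HK
open scoped MatrixGroups Classical commutatorElement

/-- a 2-group with an involution outside a subgroup of index two whose centraliser has order
at most four -/
theorem pl {T : Type*} [Group T] [Finite T] (hT : IsPGroup 2 T) {P : Subgroup T}
    (hP : P.index = 2) {t : T} (ht : t ∉ P) (t2 : t * t = 1)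
    (hc : Nat.card (centralizer ({t} : Set T)) ≤ 4) (h4 : 4 ≤ Nat.card T) :
    ∃ T0 : Subgroup T, T0.index = 2 ∧ t ∈ T0 ∧ ∀ y ∈ T0, y ∉ P → IsConj t y := by
  have : Fact (Nat.Prime 2) := ⟨Nat.prime_two⟩
  obtain ⟨n, hn⟩ := IsPGroup.iff_card.1 hT
  have t1 : t ≠ 1 := fun e => ht (e ▸ P.one_mem)
  have ho : orderOf t = 2 := orderOf_eq_prime (by rw [pow_two, t2]) t1
  have hz : Nat.card (zpowers t) = 2 ^ 1 := by rw [Nat.card_zpowers, ho, pow_one]
  have hn2 : 2 ≤ n := by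
    by_contra hlt
    have : n = 0 ∨ n = 1 := by omega
    rcases this with rfl | rfl <;> omega
  obtain ⟨r, rfl⟩ : ∃ r, n = r + 2 := ⟨n - 2, by omega⟩
  obtain ⟨T0, hT0, hle⟩ := Sylow.exists_subgroup_card_pow_prime_le 2 (n := 1) (m := r + 1)
    (by rw [hn]; exact pow_dvd_pow 2 (by omega)) (zpowers t) hz (by omega)
  have hi : T0.index = 2 := by
    have := T0.card_mul_index
    rw [hT0, hn, pow_succ 2 (r + 1)] at this
    exact Nat.eq_of_mul_eq_mul_left (by positivity) this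
  have tT : t ∈ T0 := hle (mem_zpowers t)
  refine ⟨T0, hi, tT, ?_⟩
  have := normal_of_index_eq_two hi
  have := normal_of_index_eq_two hP
  set X : Set T := {y | y ∈ T0 ∧ y ∉ P} with hX
  set C : Set T := {y | IsConj t y} with hC
  have hCX : C ⊆ X := by
    rintro y hy
    obtain ⟨c, rfl⟩ := isConj_iff.1 hy
    refine ⟨Normal.conj_mem inferInstance t tT c, fun hm => ht ?_⟩
    have := Normal.conj_mem (inferInstance : P.Normal) _ hm c⁻¹
    simpa [mul_assoc] using this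
  -- `|X| ≤ 2 ^ r`
  have hXc : X.ncard ≤ 2 ^ r := by
    have h1 : X.ncard ≤ ((T0 ⊓ P : Subgroup T) : Set T).ncard := by
      refine Set.ncard_le_ncard_of_injOn (fun y => y * t) ?_ (fun y _ z _ e => by simpa using e)
      rintro y ⟨y0, y1⟩
      exact ⟨T0.mul_mem y0 tT, (mul_mem_iff_of_index_two hP).2 (by simp [y1, ht])⟩
    have h2 : X.ncard + ((T0 ⊓ P : Subgroup T) : Set T).ncard = (T0 : Set T).ncard := by
      rw [← Set.ncard_union_eq (Set.disjoint_left.2 fun y hy hy' => hy.2 hy'.2)]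
      congr 1
      ext y
      simp only [hX, Set.mem_union, Set.mem_ofPred_eq, SetLike.mem_coe, mem_inf]
      tauto
    have h3 : (T0 : Set T).ncard = 2 ^ (r + 1) := by
      rw [← hT0]; exact (Nat.card_coe_set_eq _).symm
    rw [h3, pow_succ] at h2
    omega
  have hCc : 2 ^ r ≤ C.ncard := by
    have h1 := (stabilizer (ConjAct T) t).index_mul_card
    rw [MulAction.index_stabilizer] at h1
    have h2 : orbit (ConjAct T) t = C := by
      ext y
      rw [ConjAct.mem_orbit_conjAct]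
      exact isConj_comm
    have h3 : Nat.card (stabilizer (ConjAct T) t) = Nat.card (centralizer ({t} : Set T)) := by
      rw [ConjAct.stabilizer_eq_centralizer]
      rfl
    rw [h2, h3] at h1
    have h5 : Nat.card (ConjAct T) = 2 ^ (r + 2) := hn
    rw [h5] at h1
    have : 2 ^ r * 4 ≤ C.ncard * 4 := by
      calc 2 ^ r * 4 = 2 ^ (r + 2) := by ring
        _ = _ := h1.symm
        _ ≤ _ := Nat.mul_le_mul_left _ hc
    omega
  have := Set.eq_of_subset_of_ncard_le hCX (hXc.trans hCc)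
  intro y y0 y1
  have hy : y ∈ X := ⟨y0, y1⟩
  rw [← this] at hy
  exact hy

variable {G Ω : Type*} [Group G] [MulAction G Ω] [Finite G] [Finite Ω] {U : Ω → Subgroup G}

omit [Finite G] [Finite Ω] in
theorem tr_mul {Δ : Set Ω} {g g' : G} (h : Tr Δ g) (h' : Tr Δ g') : Tr Δ (g * g') :=
  fun y hy => by rw [mul_smul, h' y hy, h y hy]

omit [Finite G] [Finite Ω] in
theorem tr_pow {Δ : Set Ω} {g : G} {i : ℕ} (h : g ^ 2 ^ i = 1) : Tr Δ (g ^ 2 ^ i) :=
  fun y _ => by rw [h, one_smul]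

theorem coord (h : Cx U) (hn : Nat.card Ω % 4 = 0) {x : G} (hx : SLt U x) {a b : Ω}
    (hab : a ≠ b) (xH : x ∈ Hb G a b) :
    ∃ (F : Type) (_ : Field F) (_ : Fintype F) (e : Ω → OnePoint F) (π : SL(2, F) →* G),
      L2Q (normalizer ({x} : Set G)) (Fx Ω {x}) (UY U {x}) a b F e π ∧
        Fintype.card F % 4 = 3 := by
  obtain ⟨F, iF, fF, e, π, hq⟩ := hx.2.2 a (mem_Fx1.2 (mem_Hb.1 xH).1) b
    (mem_Fx1.2 (mem_Hb.1 xH).2) hab
  refine ⟨F, iF, fF, e, π, hq, ?_⟩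
  have h1 := hq.toL2P.card
  have h2 := h.toC0.parity hx.1.1
  omega

theorem kk (h : Cx U) (hV : NV G Ω) {x t : G} (hx : SLt U x) (ht : SLt U t) (tx : t ≠ x) {g : G}
    (gx : g ∈ KY Ω ({x} : Set G)) (gt : g ∈ KY Ω ({t} : Set G)) {i : ℕ} (hg : g ^ 2 ^ i = 1) :
    g = 1 := by
  induction i with
  | zero => simpa using hg
  | succ i ih =>
    apply ih
    have h2 : g ^ 2 ^ i * g ^ 2 ^ i = 1 := by rw [← pow_two, ← pow_mul, ← pow_succ, hg]
    have h3 := hx.three h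
    have h4 := ht.three h
    rcases hV.uniq hx.1 (by omega) (pow_mem gx _) h2 with e | e
    · exact e
    · rcases hV.uniq ht.1 (by omega) (pow_mem gt _) h2 with e' | e'
      · exact e'
      · exact absurd (e'.symm.trans e) tx

theorem K_le_H {x : G} {a b : Ω} (xH : x ∈ Hb G a b) {k : G} (hk : k ∈ KY Ω ({x} : Set G)) :
    k ∈ Hb G a b :=
  mem_Hb.2 ⟨(mem_KY1.1 hk).2 a (mem_Fx1.2 (mem_Hb.1 xH).1),
    (mem_KY1.1 hk).2 b (mem_Fx1.2 (mem_Hb.1 xH).2)⟩

/-- the 2-elements of `K` that commute with `t` -/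
theorem cK (h : Cx U) (hn : Nat.card Ω % 4 = 0) (hV : NV G Ω) {x t : G} {a b : Ω} (hx : SLt U x)
    (ht : SLt U t) (hab : a ≠ b) (xH : x ∈ Hb G a b) (tH : t ∈ Hb G a b) (tx : t ≠ x) {k : G}
    (hk : k ∈ KY Ω ({x} : Set G)) {i : ℕ} (ki : k ^ 2 ^ i = 1) (kt : k * t = t * k) :
    k = 1 ∨ k = x := by
  obtain ⟨F, iF, fF, e, π, hq, h3⟩ := coord h hn ht hab tH
  have ld := h.ldY ({t} : Set G)
  have kN : k ∈ normalizer ({t} : Set G) := mem_norm1.2 kt
  have h2 : Tr (Fx Ω {t}) (k * k) := by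
    rcases hq.toL2P.pm3 ld (mem_Fx1.2 (mem_Hb.1 tH).1) (mem_Fx1.2 (mem_Hb.1 tH).2) h3 kN
      (K_le_H xH hk) (tr_pow ki) with h1 | h1
    · exact tr_mul h1 h1
    · have := Sc.mul ld kN h1 h1
      rw [hq.toL2P.sc_tr ld (mul_mem kN kN)]
      rw [show (RingEquiv.refl F).trans (RingEquiv.refl F) = RingEquiv.refl F from rfl] at this
      simpa using this
  have h4 : k * k = 1 := by
    refine kk h hV hx ht tx (mul_mem hk hk) (mem_KY1.2 ⟨?_, h2⟩) (i := i) ?_
    · rw [mul_assoc, kt, ← mul_assoc, kt, mul_assoc]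
    · rw [← pow_two, ← pow_mul, mul_comm, pow_mul, ki, one_pow]
  have h5 := hx.three h
  exact hV.uniq hx.1 (by omega) hk h4

theorem K_conj {x g k : G} (hg : g * x = x * g) (hk : k ∈ KY Ω ({x} : Set G)) :
    g * k * g⁻¹ ∈ KY Ω ({x} : Set G) := by
  obtain ⟨k1, k2⟩ := mem_KY1.1 hk
  have hg' : g⁻¹ * x = x * g⁻¹ := by
    rw [inv_mul_eq_iff_eq_mul, ← mul_assoc, hg, mul_assoc, mul_inv_cancel, mul_one]
  refine mem_KY1.2 ⟨?_, fun y hy => ?_⟩
  · rw [mul_assoc, hg', ← mul_assoc, mul_assoc g, k1, ← mul_assoc, hg]; group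
  · have : g⁻¹ • y ∈ Fx Ω {x} := by
      rw [mem_Fx1] at hy ⊢
      rw [← mul_smul, ← hg', mul_smul, hy]
    rw [mul_smul, mul_smul, k2 _ this, smul_inv_smul]

theorem comm_inv {g x : G} (hg : g * x = x * g) : g⁻¹ * x = x * g⁻¹ :=
  ((show Commute g x from hg).inv_left).eq

theorem comm_mul {g g' x : G} (hg : g * x = x * g) (hg' : g' * x = x * g') :
    g * g' * x = x * (g * g') :=
  ((show Commute g x from hg).mul_left hg').eq

theorem two_elt {S : Subgroup G} (hS : IsPGroup 2 S) {g : G} (hg : g ∈ S) :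
    ∃ i : ℕ, g ^ 2 ^ i = 1 := by
  obtain ⟨i, hi⟩ := hS ⟨g, hg⟩
  exact ⟨i, by simpa using congrArg Subtype.val hi⟩

section Q
variable {x t : G} {a b : Ω} {F : Type} [Field F] [Fintype F] {e : Ω → OnePoint F}
  {π : SL(2, F) →* G}

/-- the 2-elements of `C_H(x)` -/
theorem split (h : Cx U) (hV : NV G Ω) (hx : SLt U x) (xH : x ∈ Hb G a b) (tH : t ∈ Hb G a b)
    (ti : Inv t) (tx : t ≠ x) (cm : x * t = t * x)
    (hq : L2Q (normalizer ({x} : Set G)) (Fx Ω {x}) (UY U {x}) a b F e π)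
    (h3 : Fintype.card F % 4 = 3) {g : G} (gx : g * x = x * g) (gH : g ∈ Hb G a b) {i : ℕ}
    (gi : g ^ 2 ^ i = 1) : g ∈ KY Ω ({x} : Set G) ∨ g * t ∈ KY Ω ({x} : Set G) := by
  have ld := h.ldY ({x} : Set G)
  rcases hq.toL2P.pm3 ld (mem_Fx1.2 (mem_Hb.1 xH).1) (mem_Fx1.2 (mem_Hb.1 xH).2) h3
    (mem_norm1.2 gx) gH (tr_pow gi) with h1 | h1
  · exact Or.inl (mem_KY1.2 ⟨gx, h1⟩)
  · refine Or.inr (mem_KY1.2 ⟨comm_mul gx cm.symm, ?_⟩)
    have h2 := hV.neg h hx.1 xH hq.toL2P ti tx cm.symm tH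
    have := Sc.mul ld (mem_norm1.2 cm.symm) h1 h2
    rw [hq.toL2P.sc_tr ld (mul_mem (mem_norm1.2 gx) (mem_norm1.2 cm.symm))]
    rw [show (RingEquiv.refl F).trans (RingEquiv.refl F) = RingEquiv.refl F from rfl] at this
    simpa using this

/-- `t` is outer -/
theorem t_out (h : Cx U) (hV : NV G Ω) (hx : SLt U x) (xH : x ∈ Hb G a b) (tH : t ∈ Hb G a b)
    (ti : Inv t) (tx : t ≠ x) (cm : x * t = t * x)
    (hq : L2Q (normalizer ({x} : Set G)) (Fx Ω {x}) (UY U {x}) a b F e π)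
    (h3 : Fintype.card F % 4 = 3) : ¬ Inn (Fx Ω {x}) (UY U {x}) t := by
  have h2 := hV.neg h hx.1 xH hq.toL2P ti tx cm.symm tH
  have h4 : Sc e (Fx Ω {x}) t (((-1 : Fˣ)) : F) (RingEquiv.refl F) := by simpa using h2
  rw [hq.toL2P.sc_inn (h.ldY _) (mem_norm1.2 cm.symm) h4]
  simp only [Units.val_neg, Units.val_one]
  rw [FiniteField.isSquare_neg_one_iff]
  simpa using h3

theorem K_inn {k : G} (hk : k ∈ KY Ω ({x} : Set G)) : Inn (Fx Ω {x}) (UY U {x}) k :=
  ⟨1, one_mem _, by simpa using (mem_KY1.1 hk).2⟩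

theorem KL (h : Cx U) (hx : SLt U x) {k l : G} (hk : k ∈ KY Ω ({x} : Set G)) (hl : l ∈ LY U {x}) :
    k * l = l * k := by
  have h4 := hx.three h
  exact (h.ldY {x}).commK (h.faithY (by omega)) (mem_norm1.2 (mem_KY1.1 hk).1) (mem_KY1.1 hk).2 hl

theorem L_comm {l : G} (hl : l ∈ LY U {x}) : l * x = x * l :=
  (LY_le U {x} hl x rfl).symm

theorem LK (hx : SLt U x)
    (hq : L2Q (normalizer ({x} : Set G)) (Fx Ω {x}) (UY U {x}) a b F e π) {g : G}
    (hl : g ∈ LY U {x}) (hk : g ∈ KY Ω ({x} : Set G)) : g = 1 ∨ g = x := by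
  have := hq.ker hl (mem_KY1.1 hk).2
  rwa [hx.neg hq] at this

/-- an inner element of a Sylow subgroup of `C(x)` -/
theorem inn_split (h : Cx U) (hx : SLt U x)
    (hq : L2Q (normalizer ({x} : Set G)) (Fx Ω {x}) (UY U {x}) a b F e π) {S : Subgroup G}
    (hS : IsSylowIn 2 S (centralizer ({x} : Set G))) {s : G} (hs : s ∈ S)
    (hi : Inn (Fx Ω {x}) (UY U {x}) s) :
    ∃ k ∈ S, k ∈ KY Ω ({x} : Set G) ∧ ∃ l ∈ LY U {x}, s = k * l := by
  have : Fact (Nat.Prime 2) := ⟨Nat.prime_two⟩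
  obtain ⟨l, hl, ht⟩ := hi
  have sx : s * x = x * s := (hS.le hs x rfl).symm
  have hk : l⁻¹ * s ∈ KY Ω ({x} : Set G) :=
    mem_KY1.2 ⟨comm_mul (comm_inv (L_comm hl)) sx, ht⟩
  set k := l⁻¹ * s with hkd
  have kl := KL h hx hk hl
  have es : s = k * l := by rw [kl, hkd]; group
  obtain ⟨i, hi⟩ := two_elt hS.isP hs
  have h1 : k ^ 2 ^ i * l ^ 2 ^ i = 1 := by
    rw [← (show Commute k l from kl).mul_pow, ← es, hi]
  have h2 : k ^ 2 ^ (i + 1) = 1 := by
    have : k ^ 2 ^ i ∈ LY U {x} := by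
      rw [eq_inv_of_mul_eq_one_left h1]; exact inv_mem (pow_mem hl _)
    rw [pow_succ, pow_mul, pow_two]
    rcases LK hx hq this (pow_mem hk _) with e1 | e1
    · rw [e1, one_mul]
    · rw [e1, hx.1.1]
  have KC : KY Ω ({x} : Set G) ≤ centralizer ({x} : Set G) := fun g hg y hy => by
    rw [Set.mem_singleton_iff.1 hy]; exact (mem_KY1.1 hg).1.symm
  have hP : IsSylowIn 2 (S ⊓ KY Ω ({x} : Set G)) (KY Ω ({x} : Set G)) := by
    refine hS.inf_normal KC fun g hg => ?_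
    have gx : g * x = x * g := (hg x rfl).symm
    rw [mem_normalizer_iff]
    intro y
    refine ⟨fun hy => K_conj gx hy, fun hy => ?_⟩
    have := K_conj (comm_inv gx) hy
    simpa [mul_assoc] using this
  have hz : IsPGroup 2 (zpowers k) := by
    rintro ⟨y, hy⟩
    obtain ⟨n, rfl⟩ := mem_zpowers_iff.1 hy
    refine ⟨i + 1, Subtype.ext ?_⟩
    show (k ^ n) ^ 2 ^ (i + 1) = 1
    rw [← _root_.zpow_natCast, ← _root_.zpow_mul, mul_comm, _root_.zpow_mul, _root_.zpow_natCast,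
      h2, _root_.one_zpow]
  have hn : k ∈ normalizer ((S ⊓ KY Ω ({x} : Set G) : Subgroup G) : Set G) := by
    have key : ∀ y ∈ KY Ω ({x} : Set G), k * y * k⁻¹ = s * y * s⁻¹ := by
      intro y hy
      have := KL h hx hy hl
      rw [es, mul_assoc k l y, ← this]; group
    rw [mem_normalizer_iff]
    intro y
    constructor
    · intro hy
      obtain ⟨y1, y2⟩ := mem_inf.1 hy
      refine mem_inf.2 ⟨?_, mul_mem (mul_mem hk y2) (inv_mem hk)⟩
      rw [key y y2]; exact mul_mem (mul_mem hs y1) (inv_mem hs)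
    · intro hy
      obtain ⟨y1, y2⟩ := mem_inf.1 hy
      have y3 : y ∈ KY Ω ({x} : Set G) := by
        have := mul_mem (mul_mem (inv_mem hk) y2) hk
        simpa [mul_assoc] using this
      refine mem_inf.2 ⟨?_, y3⟩
      have y1' : k * y * k⁻¹ ∈ S := y1
      rw [key y y3] at y1'
      have := mul_mem (mul_mem (inv_mem hs) y1') hs
      simpa [mul_assoc] using this
  have := hP.le_of_le_normalizer' hz (zpowers_le.2 hk) (zpowers_le.2 hn) (mem_zpowers k)
  exact ⟨k, (mem_inf.1 this).1, hk, l, hl, es⟩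

end Q

end H51.HK.N0I
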