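import Cfsg.Agent.Lib.HK.SLB
import Cfsg.Agent.Lib.H4.TL1

/-! The case `n ≡ 2 (4)` with an `SL₂` involution without hyperbolic conjugates: preliminaries. -/

set_option autoImplicit false
set_option linter.unusedSectionVars false

namespace H51.HK.N2C

open MulAction Subgroup Matrix H69
open H4.YM (adj Idx idx_adj adj_le le_adj self_mem_adj adj_le_comap)
open H4.TL (pg_idx pg_pow pg_of_pow pg_le)
open scoped MatrixGroups Classical commutatorElement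

variable {G Ω : Type*} [Group G] [MulAction G Ω] [Finite G] [Finite Ω]

theorem grow {T A : Subgroup G} {y : G} (hT : IsPGroup 2 T) (y2 : y * y = 1) (yT : y ∉ T)
    (nT : ∀ k ∈ T, y * k * y⁻¹ ∈ T) (hA : A ≤ T) (nA : ∀ k ∈ A, y * k * y⁻¹ ∈ A) {k0 : G}
    (h0 : k0 ∈ T) (h1 : k0 ∉ A) : ∃ k ∈ T, k ∉ A ∧ k * y * k⁻¹ * y⁻¹ ∈ A := by
  haveI : Fact (Nat.Prime 2) := ⟨Nat.prime_two⟩
  have I : Idx T (adj T y) y := idx_adj yT nT (y2 ▸ one_mem _)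
  have J : Idx A (adj A y) y := idx_adj (fun e => yT (hA e)) nA (y2 ▸ one_mem _)
  have m : ∀ k ∈ T, k ∈ adj A y → k ∈ A := fun k hk e => (J.dich k e).resolve_right fun e' =>
    yT (inv_mem_iff.1 ((mul_mem_cancel_right hk).1 (hA e')))
  obtain ⟨u, ⟨u1, u2⟩, u3⟩ := SetLike.exists_of_lt (lt_inf_normalizer_of_lt (pg_idx I hT)
    (lt_of_le_of_ne (adj_le (hA.trans I.le) I.mem) fun e => h1 (m _ h0 (e ▸ I.le h0))))
  have key : ∀ k ∈ T, k ∈ 𝐍(adj A y) → k ∉ adj A y → ∃ k ∈ T, k ∉ A ∧ k * y * k⁻¹ * y⁻¹ ∈ A :=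
    fun k hk hn hk' => ⟨k, hk, fun e => hk' (J.le e), m _ (by
      simpa only [mul_assoc] using mul_mem hk (nT _ (inv_mem hk)))
      (mul_mem ((mem_normalizer_iff.1 hn y).1 J.mem) (inv_mem J.mem))⟩
  rcases I.dich u u1 with e | e
  · exact key u e u2 u3
  · exact key _ e (mul_mem (inv_mem (le_normalizer J.mem)) u2) fun e' =>
      u3 ((mul_mem_cancel_left (inv_mem J.mem)).1 e')

theorem inv_conj {x y : G} (hx : Inv x) (h : IsConj x y) : Inv y := by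
  obtain ⟨g, rfl⟩ := isConj_iff.1 h
  exact ⟨by rw [conj_mul, hx.1]; group, fun e => hx.2 (conj_eq_one_iff.1 e)⟩

theorem nohyp_conj {x y : G} (hy : NoHyp Ω x) (h : IsConj x y) : NoHyp Ω y := by
  obtain ⟨g, rfl⟩ := isConj_iff.1 h
  rintro z h1 h2 ⟨c, h3, h4⟩
  have := hy (g⁻¹ * z * g⁻¹⁻¹) ((h.trans h1).trans (isConj_iff.2 ⟨_, rfl⟩)) (by
    calc x * (g⁻¹ * z * g⁻¹⁻¹) = g⁻¹ * (g * x * g⁻¹ * z) * g := by group
      _ = _ := by rw [h2]; group) ⟨g⁻¹ • c, by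
        rw [← mul_smul]; nth_rewrite 2 [← h3]; rw [← mul_smul]; congr 1; group, by
        rw [← mul_smul, inv_inv, mul_assoc, mul_inv_cancel, mul_one, mul_smul, h4]⟩
  rw [← this]; group

theorem tr_one {Δ : Set Ω} {g : G} (h : g = 1) : Tr Δ g := fun _ _ => by rw [h, one_smul]

theorem tr_mul {Δ : Set Ω} {g k : G} (h : Tr Δ g) (h' : Tr Δ k) : Tr Δ (g * k) := fun c hc => by
  rw [mul_smul, h' c hc, h c hc]

theorem tr_inv {Δ : Set Ω} {g : G} (h : Tr Δ g) : Tr Δ g⁻¹ := fun c hc => by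
  rw [inv_smul_eq_iff, h c hc]

theorem act_tr {Δ : Set Ω} {F : Type} [Field F] {e : Ω → OnePoint F} {g k : G} {A : GL (Fin 2) F}
    {σ : F ≃+* F} (h : Act e Δ g A σ) (h' : Tr Δ k) : Act e Δ (g * k) A σ := fun c hc => by
  rw [mul_smul, h' c hc, h c hc]

theorem inn_tr {Δ : Set Ω} {V : Ω → Subgroup G} {l k : G} (h : l ∈ Lt Δ V) (h' : Tr Δ k) :
    Inn Δ V (l * k) := ⟨l, h, by rwa [inv_mul_cancel_left]⟩

theorem mem_z2 {s x : G} (h : s * s = 1) : x ∈ zpowers s ↔ x = 1 ∨ x = s := by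
  refine ⟨?_, by rintro (rfl | rfl); exacts [one_mem _, mem_zpowers _]⟩
  rintro ⟨n, rfl⟩
  have h2 : s ^ (2 : ℤ) = 1 := by rw [zpow_two, h]
  rcases Int.emod_two_eq_zero_or_one n with e | e <;> simp only [zpow_eq_zpow_emod n h2, e] <;> simp

theorem mem_z4 {c x k : G} (h : c * c = x) (x2 : x * x = 1) (hk : k ∈ zpowers c) :
    k = 1 ∨ k = x ∨ k = c ∨ k = c * x := by
  obtain ⟨n, rfl⟩ := hk
  have h4 : c ^ (4 : ℤ) = 1 := by
    rw [show (4 : ℤ) = 2 + 2 from rfl, _root_.zpow_add, zpow_two, h, x2]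
  have h3 : c ^ (3 : ℤ) = c * x := by
    rw [show (3 : ℤ) = 1 + 2 from rfl, _root_.zpow_add, zpow_two, h, zpow_one]
  have : n % 4 = 0 ∨ n % 4 = 1 ∨ n % 4 = 2 ∨ n % 4 = 3 := by omega
  rcases this with e | e | e | e <;> simp only [zpow_eq_zpow_emod n h4, e]
  · simp
  · simp
  · exact Or.inr (Or.inl (by rw [zpow_two, h]))
  · simp [h3]

variable {U : Ω → Subgroup G}

theorem coord (h : Cx U) (hn : Nat.card Ω % 4 = 2) {x : G} (hx : SLt U x) :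
    ∃ (a b : Ω) (F : Type) (_ : Field F) (_ : Fintype F) (e : Ω → OnePoint F) (π : SL(2, F) →* G),
      a ∈ Fx Ω {x} ∧ b ∈ Fx Ω {x} ∧ a ≠ b ∧
      L2Q (normalizer ({x} : Set G)) (Fx Ω {x}) (UY U {x}) a b F e π ∧ Fintype.card F % 4 = 1 := by
  obtain ⟨a, b, ha, hb, hab⟩ := (Set.one_lt_ncard_iff (Set.toFinite _)).1
    (lt_of_lt_of_le (by norm_num) (hx.three h))
  obtain ⟨F, _, _, e, π, q⟩ := hx.2.2 a ha b hb hab
  have h1 := h.toC0.parity hx.1.1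
  rw [q.toL2P.card, hn] at h1
  exact ⟨a, b, F, _, _, e, π, ha, hb, hab, q, by omega⟩

variable {x : G} {a b : Ω} {F : Type} [Field F] [Fintype F] {e : Ω → OnePoint F}
  {π : SL(2, F) →* G}

theorem ntr (h : Cx U) (hx : SLt U x) {y : G} (hy : ∀ c ∈ Fx Ω {x}, y • c ≠ c) :
    ¬ Tr (Fx Ω {x}) y := fun e => by
  obtain ⟨c, hc⟩ := Set.nonempty_of_ncard_ne_zero (s := Fx Ω ({x} : Set G))
    (by have := hx.three h; omega)
  exact hy c hc (e c hc)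

theorem outer (h : Cx U) (hV : NV G Ω) (hx : SLt U x) (hy : NoHyp Ω x)
    (q : L2P (normalizer ({x} : Set G)) (Fx Ω {x}) (UY U {x}) a b F e) (q1 : Fintype.card F % 4 = 1)
    {y : G} (h1 : IsConj x y) (h2 : y * x = x * y) (h3 : y ≠ x) :
    (∃ A : GL (Fin 2) F, Act e (Fx Ω {x}) y A (RingEquiv.refl F)) ∧
      ¬ Inn (Fx Ω {x}) (UY U {x}) y ∧ ¬ Tr (Fx Ω {x}) y := by
  have ff : ∀ c ∈ Fx Ω {x}, y • c ≠ c := fun c hc e => h3 (hy y h1 h2.symm ⟨c, mem_Fx1.1 hc, e⟩)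
  have y2 := (inv_conj hx.1 h1).1
  obtain ⟨A, hA⟩ := hV.lin h hx.1 q y2 h2
  refine ⟨⟨A, hA⟩, fun i => ?_, ntr h hx ff⟩
  rcases q.hyp_ell (h.ldY _) (mem_norm1.2 h2) (tr_one y2) (ntr h hx ff) hA with ⟨e, -⟩ | ⟨-, e⟩
  · obtain ⟨c, hc⟩ := Set.nonempty_of_ncard_ne_zero (e ▸ two_ne_zero)
    exact ff c hc.1 hc.2
  · have := e.1 i
    omega

theorem three_out (h : Cx U) (hn : Nat.card Ω % 4 = 2) (hV : NV G Ω) (hx : SLt U x) (hy : NoHyp Ω x)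
    {u v : G} (u1 : IsConj x u) (u2 : u * x = x * u) (u3 : u ≠ x) (v1 : IsConj x v)
    (v2 : v * x = x * v) (v3 : v ≠ x) (w1 : IsConj x (u * v)) (w3 : u * v ≠ x) : False := by
  obtain ⟨a, b, F, _, _, e, π, -, -, -, q, q1⟩ := coord h hn hx
  obtain ⟨⟨A, hA⟩, i1, -⟩ := outer h hV hx hy q.toL2P q1 u1 u2 u3
  obtain ⟨⟨A', hA'⟩, i2, -⟩ := outer h hV hx hy q.toL2P q1 v1 v2 v3
  exact (outer h hV hx hy q.toL2P q1 w1 (by rw [mul_assoc, v2, ← mul_assoc, u2, mul_assoc]) w3).2.1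
    (q.toL2P.out_mul (h.ldY _) (mem_norm1.2 u2) (mem_norm1.2 v2) hA hA' i1 i2)

theorem nsq (h : Cx U) (hn : Nat.card Ω % 4 = 2) (hV : NV G Ω) (hx : SLt U x) (hy : NoHyp Ω x)
    {k : G} (u1 : IsConj x (k * k)) (u2 : k * x = x * k) : k * k = x := by
  by_contra u3
  obtain ⟨a, b, F, _, _, e, π, -, -, -, q, q1⟩ := coord h hn hx
  obtain ⟨⟨A, hA⟩, i1, -⟩ := outer h hV hx hy q.toL2P q1 u1
    (by rw [mul_assoc, u2, ← mul_assoc, u2, mul_assoc]) u3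
  exact i1 (q.toL2P.sq_inn (h.ldY _) (mem_norm1.2 u2) hA)

theorem commK (h : Cx U) (hx : SLt U x) {k l : G} (hk : k ∈ KY Ω ({x} : Set G)) (hl : l ∈ LY U {x}) :
    k * l = l * k :=
  (h.ldY _).commK (h.faithY (by have := hx.three h; omega)) hk.1 (mem_KY1.1 hk).2 hl

theorem L_comm {l : G} (hl : l ∈ LY U {x}) : l * x = x * l :=
  mem_centralizer_singleton_iff.1 (LY_le U _ hl)

theorem xK : x ∈ KY Ω ({x} : Set G) := mem_KY1.2 ⟨rfl, fun _ hc => mem_Fx1.1 hc⟩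

/-- a 2-element of `K` commuting with a conjugate `y` of `x` -/
theorem cenK (h : Cx U) (hn : Nat.card Ω % 4 = 2) (hV : NV G Ω) (hx : SLt U x) (hy : NoHyp Ω x)
    {y : G} (h1 : IsConj x y) (h3 : y ≠ x) (j : ℕ) : ∀ k ∈ KY Ω ({x} : Set G),
      k ^ 2 ^ j = 1 → k * y = y * k → k = 1 ∨ k = x := by
  have x3 : 3 ≤ (Fx Ω ({x} : Set G)).ncard := by have := hx.three h; omega
  induction j with
  | zero => exact fun k _ e _ => Or.inl (by simpa using e)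
  | succ j ih =>
    intro k hk e c
    rcases ih _ (mul_mem hk hk) (by rw [← pow_two, ← pow_mul, ← pow_succ', e])
      (by rw [mul_assoc, c, ← mul_assoc, c, mul_assoc]) with e1 | e1
    · exact hV.uniq hx.1 x3 hk e1
    · exact absurd ((nsq h hn hV (h.toCb.SLt_conj h1 hx) (nohyp_conj hy h1) (e1 ▸ h1.symm) c).symm.trans
        e1) h3

/-- `y c` is not conjugate to `x` -/
theorem ncy (h : Cx U) (hn : Nat.card Ω % 4 = 2) (hV : NV G Ω) (hx : SLt U x) (hy : NoHyp Ω x)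
    {y c : G} (h1 : IsConj x y) (h2 : y * x = x * y) (h3 : y ≠ x) (hc : c ∈ KY Ω ({x} : Set G))
    (c2 : c * c = x) (cy : y * c * y⁻¹ = c⁻¹) : ¬ IsConj x (y * c) := fun h4 => by
  obtain ⟨a, b, F, _, _, e, π, -, -, -, q, q1⟩ := coord h hn hx
  obtain ⟨⟨A, hA⟩, -, i2⟩ := outer h hV hx hy q.toL2P q1 h1 h2 h3
  have y2 := (inv_conj hx.1 h1).1
  have x2 := hx.1.1
  have n1 := hx.neg q
  obtain ⟨B, hB, hg⟩ := q.inv4 (h.ldY _) (mem_norm1.2 h2) (tr_one y2) i2 hA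
  have g2 : π B * π B = x := by rw [← map_mul, hB, n1]
  have gL := q.mem B
  rw [map_inv] at hg
  generalize π B = g at g2 gL hg
  have cg := commK h hx hc gL
  have key : ∀ g ∈ LY U {x}, y * g * y⁻¹ = g⁻¹ → IsConj x (y * g * c) := fun g gL hg => by
    obtain ⟨m, hm, e⟩ := q.ll4 (h.ldY _) (n1 ▸ hx.1.2) (mem_norm1.2 h2) y2 i2 hA gL (by
      rw [inv_eq_of_mul_eq_one_right y2] at hg
      rw [← mul_assoc, hg, inv_mul_cancel])
    refine h4.trans (isConj_iff.2 ⟨m, ?_⟩)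
    rw [← e, ← mul_assoc, mul_assoc _ c, commK h hx hc (inv_mem hm), ← mul_assoc]
  have gi : g⁻¹ = g * x := by rw [inv_eq_iff_mul_eq_one, ← mul_assoc, g2, x2]
  have ci : c⁻¹ = c * x := by rw [inv_eq_iff_mul_eq_one, ← mul_assoc, c2, x2]
  have cx := (mem_KY1.1 hc).1
  have gx := L_comm gL
  have yg : y * (g * c) = g * c * y := by
    rw [← mul_inv_eq_iff_eq_mul, ← conj_mul, hg, cy, ← _root_.mul_inv_rev, inv_eq_iff_mul_eq_one, cg,
      mul_assoc, ← mul_assoc c, cg, mul_assoc, c2, ← mul_assoc, g2, x2]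
  have nt : ∀ k ∈ KY Ω ({x} : Set G), g * k ≠ 1 := fun k hk e => by
    have hg' : g ∈ KY Ω ({x} : Set G) := eq_inv_of_mul_eq_one_left e ▸ inv_mem hk
    rcases q.ker gL (mem_KY1.1 hg').2 with e1 | e1
    · exact hx.1.2 (by rw [← g2, e1, one_mul])
    · exact hx.1.2 (by rw [← g2, e1, n1, x2])
  refine three_out h hn hV (h.toCb.SLt_conj h1 hx) (nohyp_conj hy h1) (u := x) (v := y * (g * c))
    h1.symm h2.symm h3.symm (h1.symm.trans (mul_assoc y g c ▸ key g gL hg))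
    (by rw [mul_assoc, ← yg]) (fun e => nt c hc (mul_eq_left.1 e)) (h1.symm.trans ?_) fun e => ?_
  · have := key g⁻¹ (inv_mem gL) (by rw [← conj_inv, hg])
    rwa [gi, gx, ← mul_assoc, h2, mul_assoc, mul_assoc] at this
  · rw [← mul_assoc, ← h2, mul_assoc, mul_eq_left, ← mul_assoc, ← gx, mul_assoc] at e
    exact nt _ (mul_mem xK hc) e

end H51.HK.N2C
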