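import Cfsg.Agent.Lib.HK.N2Ca

/-! The case `n ≡ 2 (4)` without hyperbolic conjugates: the Sylow subgroup of `C(x)`. -/

set_option autoImplicit false
set_option linter.unusedSectionVars false

namespace H51.HK.N2C

open MulAction Subgroup Matrix H69
open H4.YM (adj Idx idx_adj adj_le le_adj self_mem_adj adj_le_comap mem_adj)
open H4.TL (pg_idx pg_pow pg_of_pow pg_le pg_of_sq pg_zpowers)
open scoped MatrixGroups Classical commutatorElement

variable {G Ω : Type*} [Group G] [MulAction G Ω] [Finite G] [Finite Ω]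

theorem fact2 {n : ℕ} (h : n % 4 = 2) : n.factorization 2 = 1 := by
  have h0 : n ≠ 0 := by omega
  have h1 := (Nat.prime_two.pow_dvd_iff_le_factorization h0 (k := 1)).1 (by omega)
  have h2 := (Nat.prime_two.pow_dvd_iff_le_factorization h0 (k := 2)).2
  by_contra e
  have := h2 (by omega)
  omega

theorem le_norm {S A : Subgroup G} (h : ∀ s ∈ S, ∀ a ∈ A, s * a * s⁻¹ ∈ A) : S ≤ 𝐍(A) :=
  le_normalizer_of_cj_le fun g hg _ hx => by
    obtain ⟨a, ha, rfl⟩ := mem_cj'.1 hx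
    exact h g hg a ha

theorem pg4 {s t : G} (s2 : s * s = 1) (t2 : t * t = 1) (c : s * t = t * s) :
    IsPGroup 2 (adj (zpowers s) t) := by
  have ti : t⁻¹ = t := inv_eq_of_mul_eq_one_right t2
  refine pg_of_sq fun x hx => ?_
  rw [mem_adj (fun k hk => ?_) (t2 ▸ one_mem _), mem_z2 s2, mem_z2 s2, inv_mul_eq_one,
    inv_mul_eq_iff_eq_mul] at hx
  · rcases hx with (rfl | rfl) | rfl | rfl
    exacts [one_mul _, s2, t2, by rw [mul_assoc, ← mul_assoc s, c, mul_assoc, s2, mul_one, t2]]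
  · rcases (mem_z2 s2).1 hk with rfl | rfl
    · exact (mem_z2 s2).2 (Or.inl (by simp [H4.YM.cj]))
    · exact (mem_z2 s2).2 (Or.inr (by rw [H4.YM.cj, ← c, mul_inv_cancel_right]))

variable {U : Ω → Subgroup G} {x : G}

theorem caseA (h : Cx U) (hn : Nat.card Ω % 4 = 2) (hV : NV G Ω) (hx : SLt U x)
    (hK : ∀ k ∈ KY Ω ({x} : Set G), k * k ≠ x) : Rk1 G Ω := by
  haveI : Fact (Nat.Prime 2) := ⟨Nat.prime_two⟩
  obtain ⟨a, b, F, _, _, e, π, ha, hb, hab, q, q1⟩ := coord h hn hx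
  have x3 : 3 ≤ (Fx Ω ({x} : Set G)).ncard := by have := hx.three h; omega
  have xH : x ∈ Hb G a b := mem_Hb.2 ⟨mem_Fx1.1 ha, mem_Fx1.1 hb⟩
  have u : ∀ s ∈ centralizer ({x} : Set G) ⊓ Hb G a b, Inv s → s = x := fun s hs si => by
    by_contra ne
    have sx := mem_centralizer_singleton_iff.1 hs.1
    obtain ⟨A, hA⟩ := hV.lin h hx.1 q.toL2P si.1 sx
    rcases q.toL2P.hyp_ell (h.ldY _) (mem_norm1.2 sx) (tr_one si.1)
      (fun e => (hV.uniq hx.1 x3 (mem_KY1.2 ⟨sx, e⟩) si.1).elim si.2 ne) hA with ⟨-, e⟩ | ⟨e, -⟩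
    · obtain ⟨l, -, k, hk, -, -, -, k2⟩ := hx.inn h hV si ne sx (e.2 q1)
      exact hK k hk k2
    · exact e a ha (mem_Hb.1 hs.2).1
  obtain ⟨T, hT⟩ := exists_isSylowIn 2 (centralizer ({x} : Set G) ⊓ Hb G a b)
  have hT' := hx.sylH h hV hab xH
    (by rw [fact2 hn, fact2 ((h.toC0.parity hx.1.1).trans hn)]) hT
  intro a' b' hab' s hs t ht si ti st
  obtain ⟨g, g1, g2⟩ := h.toCb.pair hab' hab
  have cH : ∀ s ∈ Hb G a' b', g * s * g⁻¹ ∈ Hb G a b := fun s hs => by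
    rw [mem_Hb, ← g1, ← g2]
    simp only [mul_smul, inv_smul_smul, (mem_Hb.1 hs).1, (mem_Hb.1 hs).2, and_self]
  have ci : ∀ (g : G) {s : G}, Inv s → Inv (g * s * g⁻¹) := fun g _ hs =>
    inv_conj hs (isConj_iff.2 ⟨g, rfl⟩)
  obtain ⟨g', -, hg'⟩ := hT'.exists_cj_le (pg4 (ci g si).1 (ci g ti).1 (by rw [conj_mul, st, conj_mul]))
    (adj_le (zpowers_le.2 (cH s hs)) (cH t ht))
  have e1 := u _ (hT.le (hg' (cj_mem g' (le_adj (mem_zpowers _))))) (ci _ (ci g si))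
  have e2 := u _ (hT.le (hg' (cj_mem g' self_mem_adj))) (ci _ (ci g ti))
  simpa using e1.trans e2.symm

theorem K_conj (h : Cx U) {g k : G} (hg : g * x = x * g) (hk : k ∈ KY Ω ({x} : Set G)) :
    g * k * g⁻¹ ∈ KY Ω ({x} : Set G) := by
  have gN := mem_norm1.2 hg
  refine mem_KY1.2 ⟨mem_norm1.1 (mul_mem (mul_mem gN hk.1) (inv_mem gN)), fun c hc => ?_⟩
  rw [mul_smul, mul_smul, (mem_KY1.1 hk).2 _ ((h.ldY _).inv _ (inv_mem gN) c hc), smul_inv_smul]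

theorem K_le : KY Ω ({x} : Set G) ≤ centralizer ({x} : Set G) := fun _ hk =>
  mem_centralizer_singleton_iff.2 (mem_KY1.1 hk).1

/-- the Sylow subgroup of `K` is cyclic of order four -/
theorem exC (h : Cx U) (hn : Nat.card Ω % 4 = 2) (hV : NV G Ω) (hx : SLt U x) (hy : NoHyp Ω x)
    {y : G} (h1 : IsConj x y) (h3 : y ≠ x) {S : Subgroup G}
    (hS : IsSylowIn 2 S (centralizer ({x} : Set G))) (xS : x ∈ S) (yS : y ∈ S) {k0 : G}
    (hk0 : k0 ∈ KY Ω ({x} : Set G)) (k2 : k0 * k0 = x) :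
    ∃ c ∈ S, c ∈ KY Ω ({x} : Set G) ∧ c * c = x ∧ y * c * y⁻¹ = c⁻¹ ∧
      ∀ k ∈ S, k ∈ KY Ω ({x} : Set G) → k = 1 ∨ k = x ∨ k = c ∨ k = c * x := by
  haveI : Fact (Nat.Prime 2) := ⟨Nat.prime_two⟩
  have x3 : 3 ≤ (Fx Ω ({x} : Set G)).ncard := by have := hx.three h; omega
  have x2 := hx.1.1
  have y2 := (inv_conj hx.1 h1).1
  have sx : ∀ s ∈ S, s * x = x * s := fun s hs => mem_centralizer_singleton_iff.1 (hS.le hs)
  have h2 := sx y yS
  have hT := hS.inf_normal K_le (le_norm fun g hg k hk =>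
    K_conj h (mem_centralizer_singleton_iff.1 hg) hk)
  have cen : ∀ k ∈ S ⊓ KY Ω ({x} : Set G), k * y * k⁻¹ = y → k = 1 ∨ k = x := fun k hk e => by
    obtain ⟨j, hj⟩ := pg_pow hS.isP hk.1
    exact cenK h hn hV hx hy h1 h3 j k hk.2 hj (mul_inv_eq_iff_eq_mul.1 e)
  have yT : y ∉ S ⊓ KY Ω ({x} : Set G) := fun e =>
    (hV.uniq hx.1 x3 e.2 y2).elim (inv_conj hx.1 h1).2 h3
  have nT : ∀ k ∈ S ⊓ KY Ω ({x} : Set G), y * k * y⁻¹ ∈ S ⊓ KY Ω ({x} : Set G) := fun k hk =>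
    mem_inf.2 ⟨mul_mem (mul_mem yS (mem_inf.1 hk).1) (inv_mem yS), K_conj h h2 hk.2⟩
  have nz : ∀ c : G, y * c * y⁻¹ ∈ zpowers c → ∀ k ∈ zpowers c, y * k * y⁻¹ ∈ zpowers c := by
    rintro c hc _ ⟨n, rfl⟩
    exact conj_zpow (α := G) ▸ zpow_mem hc n
  obtain ⟨g, hg, hg'⟩ := hT.exists_cj_le (pg_zpowers (x := k0) (k := 2) (by
    rw [show 2 ^ 2 = 2 * 2 from rfl, pow_mul, pow_two, pow_two, k2, x2])) (zpowers_le.2 hk0)
  obtain ⟨c, cT, c1, c2⟩ := grow hT.isP y2 yT nT (zpowers_le.2 ⟨xS, xK⟩)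
    (nz x (by rw [h2, mul_inv_cancel_right]; exact mem_zpowers x)) (hg' (cj_mem g (mem_zpowers _)))
    (fun e => hx.1.2 (by
      have : g * k0 * g⁻¹ * (g * k0 * g⁻¹) = x := by
        rw [conj_mul, k2, (mem_KY1.1 hg).1, mul_inv_cancel_right]
      rcases (mem_z2 x2).1 e with e | e <;> rw [e] at this
      exacts [by rw [← this, one_mul], this.symm.trans x2]))
  rw [mem_z2 x2] at c1 c2
  replace c2 : c * y * c⁻¹ = x * y :=
    mul_inv_eq_iff_eq_mul.1 (c2.resolve_left fun e => c1 (cen c cT (mul_inv_eq_one.1 e)))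
  have cx := sx c cT.1
  have c3 : c * c = x := (cen _ (mul_mem cT cT) (by
    rw [_root_.mul_inv_rev, ← mul_assoc, mul_assoc c c, mul_assoc c (c * y), c2, ← mul_assoc, cx,
      mul_assoc x, mul_assoc x, c2, ← mul_assoc, x2, one_mul])).resolve_left fun e =>
    c1 (hV.uniq hx.1 x3 cT.2 e)
  have ci : c⁻¹ = c * x := by rw [inv_eq_iff_mul_eq_one, ← mul_assoc, c3, x2]
  have c4 : y * c⁻¹ * y⁻¹ = c := by
    rw [← mul_right_inj c, c3, ← mul_assoc, ← mul_assoc, c2, mul_inv_cancel_right]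
  have c5 : y * c * y⁻¹ = c⁻¹ := by rw [← _root_.inv_inj, conj_inv, c4, inv_inv]
  refine ⟨c, cT.1, cT.2, c3, c5, fun k kS kK => mem_z4 c3 x2 ?_⟩
  by_contra hk
  have xc : x ∈ zpowers c := c3 ▸ mul_mem (mem_zpowers c) (mem_zpowers c)
  have m : ∀ k, k = 1 ∨ k = x → k ∈ zpowers c := by rintro _ (rfl | rfl); exacts [one_mem _, xc]
  obtain ⟨d, dT, d1, d2⟩ := grow hT.isP y2 yT nT (zpowers_le.2 cT)
    (nz c (c5 ▸ inv_mem (mem_zpowers c))) (k0 := k) ⟨kS, kK⟩ hk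
  have cj : IsConj x (d * y * d⁻¹) := h1.trans (isConj_iff.2 ⟨d, rfl⟩)
  rcases mem_z4 c3 x2 d2 with e | e | e | e <;> rw [mul_inv_eq_iff_eq_mul] at e
  · exact d1 (m _ (cen d dT (by rw [e, one_mul])))
  · refine d1 ((mul_mem_cancel_left (inv_mem (mem_zpowers c))).1 (m _ (cen _ (mul_mem (inv_mem cT) dT) ?_)))
    rw [_root_.mul_inv_rev, ← mul_assoc, mul_assoc _ d, mul_assoc _ (d * y), e, ← c2]
    group
  · refine ncy h hn hV hx hy h1 h2 h3 (inv_mem cT.2)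
      (by rw [← _root_.mul_inv_rev, c3, inv_eq_of_mul_eq_one_right x2]) (by rw [c4, inv_inv]) ?_
    rwa [e, ← c4, inv_mul_cancel_right] at cj
  · refine ncy h hn hV hx hy h1 h2 h3 cT.2 c3 c5 ?_
    rwa [e, ← ci, ← c5, inv_mul_cancel_right] at cj

/-- inner elements of `S` -/
theorem dec (h : Cx U) (hn : Nat.card Ω % 4 = 2) (hx : SLt U x) {S : Subgroup G}
    (hS : IsSylowIn 2 S (centralizer ({x} : Set G))) {z : G} (zS : z ∈ S)
    (hz : Inn (Fx Ω {x}) (UY U {x}) z) :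
    ∃ l ∈ S ⊓ LY U {x}, ∃ k ∈ S, k ∈ KY Ω ({x} : Set G) ∧ z = l * k := by
  obtain ⟨a, b, F, _, _, e, π, -, -, -, q, -⟩ := coord h hn hx
  have sx : ∀ s ∈ S, s * x = x * s := fun s hs => mem_centralizer_singleton_iff.1 (hS.le hs)
  let R : Subgroup G :=
    { carrier := {l | l ∈ LY U {x} ∧ ∃ k ∈ KY Ω ({x} : Set G), l * k ∈ S}
      one_mem' := ⟨one_mem _, 1, one_mem _, by simp⟩
      mul_mem' := by
        rintro l l' ⟨hl, k, hk, e⟩ ⟨hl', k', hk', e'⟩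
        refine ⟨mul_mem hl hl', _, mul_mem hk hk', ?_⟩
        rw [mul_assoc, ← mul_assoc l', ← commK h hx hk hl', mul_assoc, ← mul_assoc]
        exact mul_mem e e'
      inv_mem' := by
        rintro l ⟨hl, k, hk, e⟩
        refine ⟨inv_mem hl, _, inv_mem hk, ?_⟩
        rw [← _root_.mul_inv_rev, commK h hx hk hl]
        exact inv_mem e }
  have RS : R ≤ S := hS.le_of_le_normalizer (pg_of_pow ?_) (fun l hl => LY_le U _ hl.1)
    (le_norm ?_)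
  · obtain ⟨l, hl, ht⟩ := hz
    have kK : l⁻¹ * z ∈ KY Ω ({x} : Set G) := mem_KY1.2 ⟨mem_centralizer_singleton_iff.1
      (mul_mem (inv_mem (LY_le U _ hl)) (hS.le zS)), ht⟩
    have lS := RS ⟨hl, _, kK, by rwa [mul_inv_cancel_left]⟩
    exact ⟨l, ⟨lS, hl⟩, _, mul_mem (inv_mem lS) zS, kK, by rw [mul_inv_cancel_left]⟩
  · rintro l ⟨hl, k, hk, e⟩
    obtain ⟨j, hj⟩ := pg_pow hS.isP e
    rw [(show Commute l k from (commK h hx hk hl).symm).mul_pow] at hj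
    have : l ^ 2 ^ j ∈ KY Ω ({x} : Set G) := eq_inv_of_mul_eq_one_left hj ▸ inv_mem (pow_mem hk _)
    refine ⟨j + 1, ?_⟩
    rw [pow_succ, pow_mul, pow_two]
    rcases q.ker (pow_mem hl _) (mem_KY1.1 this).2 with e1 | e1 <;> rw [e1]
    exacts [one_mul _, by rw [hx.neg q, hx.1.1]]
  · rintro s hs l ⟨hl, k, hk, e⟩
    exact ⟨(h.ldY _).Lt_conj (mem_norm1.2 (sx s hs)) hl, _, K_conj h (sx s hs) hk, by
      rw [conj_mul]; exact mul_mem (mul_mem hs e) (inv_mem hs)⟩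

end H51.HK.N2C
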