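import Cfsg.Agent.Lib.HK.SLB
import Cfsg.Agent.Lib.StdW.Basic

/-! The axes of the four-group in the case `n ≡ 2 (4)`: the facts on one axis, without coordinates. -/

set_option autoImplicit false
set_option linter.unusedSectionVars false

namespace H51.HK.N2D

open MulAction Subgroup Matrix H69 H36.SW
open scoped MatrixGroups Classical commutatorElement

theorem fl0 {F : Type} [Field F] [Fintype F] {σ : F ≃+* F} (h2 : σ * σ = 1) (h1 : σ ≠ 1) :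
    ∃ r : ℕ, Fintype.card F = r ^ 2 ∧ ∀ y, σ y = y ^ r := by
  obtain ⟨p, hp⟩ := CharP.exists F
  have : Fact p.Prime := ⟨CharP.char_is_prime F p⟩
  let : Algebra (ZMod p) F := ZMod.algebra F p
  have hr := Module.card_eq_pow_finrank (K := ZMod p) (V := F)
  obtain ⟨a, e⟩ := (FiniteField.bijective_frobeniusAlgEquivOfAlgebraic_pow (ZMod p) F).2
    (AlgEquiv.ofRingEquiv (f := σ) fun x => RingHom.congr_fun (RingHom.ext_zmod
      ((σ : F →+* F).comp (algebraMap (ZMod p) F)) (algebraMap (ZMod p) F)) x)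
  have h3 : ∀ x, (FiniteField.frobeniusAlgEquivOfAlgebraic (ZMod p) F ^ a.1) x = σ x := DFunLike.congr_fun e
  have h4 : Module.finrank (ZMod p) F ∣ a.1 + a.1 := by
    refine (FiniteField.orderOf_frobeniusAlgEquivOfAlgebraic (ZMod p) F).symm.dvd.trans
      (orderOf_dvd_of_pow_eq_one ?_)
    ext x
    rw [pow_add, AlgEquiv.mul_apply, h3, h3]
    exact DFunLike.congr_fun h2 x
  have h5 : a.1 ≠ 0 := fun c => h1 (by ext x; rw [← h3, c]; rfl)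
  obtain ⟨c, hc⟩ := h4
  have h6 : c = 1 := by
    have := a.2
    rcases c with _ | _ | c
    · omega
    · rfl
    · nlinarith
  refine ⟨p ^ a.1, by rw [hr, ZMod.card, ← pow_mul, mul_two, hc, h6, mul_one], fun x => ?_⟩
  have := h3 x
  rw [AlgEquiv.coe_pow, FiniteField.coe_frobeniusAlgEquivOfAlgebraic_iterate, ZMod.card] at this
  exact this.symm

/-- the norm is onto on the 2-parts -/
theorem nrm {M : Type*} [Group M] {l : M} {k r i : ℕ} (ho : orderOf l = 2 ^ k) (h : ¬ 2 ^ (k + 1) ∣ r ^ 2 - 1)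
    (h0 : 2 ^ k ∣ r ^ 2 - 1) (hi : l ^ (i * r) = l ^ i) : ∃ j, l ^ (j * (r + 1)) = l ^ i := by
  obtain _ | r := r
  · simp at h
  have e : (r + 1) ^ 2 - 1 = r * (r + 2) := Nat.sub_eq_of_eq_add (by ring)
  rw [e] at h h0
  have r0 : r ≠ 0 := by rintro rfl; simp at h
  obtain ⟨a, u, hu, e1⟩ := Nat.exists_eq_two_pow_mul_odd r0
  obtain ⟨b, w, hw, e2⟩ := Nat.exists_eq_two_pow_mul_odd (n := r + 2) (by omega)
  have e3 : r * (r + 2) = 2 ^ (a + b) * (u * w) := by rw [e2]; nth_rw 1 [e1]; ring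
  have c : ∀ n, (2 ^ n).Coprime (u * w) := fun n => Nat.Coprime.pow_left n (Nat.coprime_two_left.2 (hu.mul hw))
  rw [e3] at h h0
  have h1 : k = a + b := le_antisymm ((Nat.pow_dvd_pow_iff_le_right (by norm_num)).1 ((c k).dvd_of_dvd_mul_right h0))
    (not_lt.1 fun c => h ((pow_dvd_pow 2 c).mul_right _))
  rw [mul_add, mul_one, pow_add, mul_eq_right, ← orderOf_dvd_iff_pow_eq_one, ho, h1, e1, pow_add, mul_left_comm,
    Nat.mul_dvd_mul_iff_left (by positivity)] at hi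
  obtain ⟨i', rfl⟩ := (Nat.Coprime.pow_left b (Nat.coprime_two_left.2 hu)).dvd_of_dvd_mul_right hi
  obtain ⟨j, hj⟩ := exists_pow_eq_self_of_coprime (x := l) (n := w)
    (ho ▸ Nat.Coprime.pow_right k (Nat.coprime_two_right.2 hw))
  refine ⟨j * i', ?_⟩
  conv_rhs => rw [← hj]
  rw [← pow_mul, ← pow_mul, add_assoc, e2]
  congr 1; ring

theorem exists_inv {M : Type*} [Group M] {g : M} (h : P2 g) (h1 : g ≠ 1) : ∃ n : ℕ, Inv (g ^ n) := by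
  obtain ⟨i, hi⟩ := h
  induction i with
  | zero => exact absurd (by simpa using hi) h1
  | succ i ih =>
    by_cases c : g ^ 2 ^ i = 1
    · exact ih c
    · exact ⟨2 ^ i, by rw [← pow_add, ← two_mul, ← pow_succ', hi], c⟩

section
variable {F : Type} [Field F] [Fintype F] {k : ℕ} {l : Fˣ}

theorem mem_zp (h : ¬ 2 ^ (k + 1) ∣ Fintype.card F - 1) (ho : orderOf l = 2 ^ k) {c : Fˣ} (hc : P2 c) :
    ∃ j : ℕ, c = l ^ j := by
  obtain ⟨i, hi⟩ := hc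
  obtain ⟨j, -, hj⟩ := (Nat.dvd_prime_pow Nat.prime_two).1 (orderOf_dvd_of_pow_eq_one hi)
  have h1 : j ≤ k := not_lt.1 fun c => h ((pow_dvd_pow 2 c).trans (by
    rw [← hj, ← Fintype.card_units]; exact orderOf_dvd_card))
  have h2 : c ∈ zpowers l := by
    have := IsCyclic.card_pow_eq_one_le (α := Fˣ) (n := 2 ^ k) (by positivity)
    have h3 : (zpowers l : Set Fˣ).toFinset = Finset.univ.filter fun a : Fˣ => a ^ 2 ^ k = 1 :=
      Finset.eq_of_subset_of_card_le (fun x hx => by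
        obtain ⟨n, rfl⟩ := Set.mem_toFinset.1 hx
        simp only [Finset.mem_filter, Finset.mem_univ, true_and]
        rw [← zpow_natCast, ← _root_.zpow_mul, mul_comm, _root_.zpow_mul, zpow_natCast, ← ho, pow_orderOf_eq_one,
          _root_.one_zpow])
        (by rw [Set.toFinset_card]; exact this.trans (by rw [← ho, ← Fintype.card_zpowers]; exact le_of_eq (by congr!)))
    refine Set.mem_toFinset.1 (h3 ▸ Finset.mem_filter.2 ⟨Finset.mem_univ _, ?_⟩)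
    rw [← orderOf_dvd_iff_pow_eq_one, hj]; exact pow_dvd_pow 2 h1
  obtain ⟨n, e⟩ := mem_powers_iff_mem_zpowers.2 h2
  exact ⟨n, e.symm⟩

theorem ord_of {c : Fˣ} (h : ¬ 2 ^ (k + 2) ∣ Fintype.card F - 1) (ho : orderOf l = 2 ^ (k + 1)) (hc : P2 c)
    (h1 : c ^ 2 ^ k ≠ 1) : orderOf c = 2 ^ (k + 1) := by
  obtain ⟨j, rfl⟩ := mem_zp h ho hc
  exact orderOf_eq_prime_pow h1 (by rw [← pow_mul, mul_comm, pow_mul, ← ho, pow_orderOf_eq_one, one_pow])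

theorem fl1 (h : ¬ 2 ^ (k + 1) ∣ Fintype.card F - 1) (ho : orderOf l = 2 ^ k) (od : Odd (Fintype.card F)) :
    ∀ (i : ℕ) (σ : F ≃+* F), σ ^ 2 ^ i = 1 → σ l = l → σ = 1
  | 0, σ, h1, _ => by simpa using h1
  | i + 1, σ, h1, h2 => by
    have h3 := fl1 h ho od i (σ * σ) (by rw [← sq, ← pow_mul, ← pow_succ', h1])
      (by rw [RingAut.mul_apply, h2, h2])
    by_contra c
    obtain ⟨r, e, hr⟩ := fl0 h3 c
    rw [e] at od h
    obtain ⟨s, rfl⟩ := (Nat.odd_pow_iff two_ne_zero).1 od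
    have h4 : l ^ (2 * s) = 1 := by
      have : l ^ (2 * s + 1) = l := Units.ext (by rw [Units.val_pow_eq_pow_val, ← hr, h2])
      rwa [pow_succ, mul_eq_right] at this
    rw [← orderOf_dvd_iff_pow_eq_one, ho] at h4
    refine h ?_
    rw [show (2 * s + 1) ^ 2 - 1 = 2 * s * (2 * (s + 1)) from Nat.sub_eq_of_eq_add (by ring), pow_succ]
    exact mul_dvd_mul h4 (dvd_mul_right _ _)

end

variable {G Ω : Type*} [Group G] [MulAction G Ω] [Finite G] [Finite Ω]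

/-- the centraliser of `v` in the two point stabiliser -/
abbrev CH (a b : Ω) (v : G) : Subgroup G := centralizer {v} ⊓ Hb G a b

theorem mem_CH {a b : Ω} {v g : G} : g ∈ CH a b v ↔ g * v = v * g ∧ g ∈ Hb G a b :=
  and_congr_left' mem_centralizer_singleton_iff

/-- an axis `v` and a generator `d` of the Sylow 2-subgroup of the diagonal group -/
structure Ax (U : Ω → Subgroup G) (a b : Ω) (q k : ℕ) (v d : G) : Prop where
  inv : Inv v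
  dL : d ∈ LY U {v}
  dC : d ∈ CH a b v
  ord : orderOf d = 2 ^ (k + 2)
  half : d ^ 2 ^ (k + 1) = v
  num : 2 ^ (k + 2) ∣ q - 1 ∧ ¬ 2 ^ (k + 3) ∣ q - 1
  KC : KY Ω {v} ≤ CH a b v
  KL : ∀ c ∈ KY Ω {v}, ∀ l ∈ LY U {v}, c * l = l * c
  uniq : ∀ y ∈ KY Ω {v}, y * y = 1 → y = 1 ∨ y = v
  gen : ∀ g ∈ LY U {v}, g ∈ Hb G a b → P2 g → ∃ j : ℕ, g = d ^ j
  cL : ∀ g, g * v = v * g → ∀ l ∈ LY U {v}, g * l * g⁻¹ ∈ LY U {v}
  cy : ∀ y ∈ CH a b v, y * y = 1 → y * d = d * y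
  sc : ∀ g ∈ CH a b v, P2 g → g * d = d * g → ∀ d' ∈ LY U {v}, d' ∈ Hb G a b → g * d' = d' * g
  onto : ∀ γ ∈ CH a b v, P2 γ → γ * d = d * γ → γ ^ 2 ^ (k + 1) ∉ KY Ω {v} →
    ¬ Inn (Fx Ω {v}) (UY U {v}) γ ∧ (∀ g ∈ CH a b v, P2 g → g * d = d * g → ∃ j : ℕ, γ ^ j * g ∈ KY Ω {v}) ∧
      ∀ g ∈ CH a b v, P2 g → g * g * d = d * (g * g) → g * d ≠ d * g → ∃ j : ℕ, γ ^ j * g * (γ ^ j * g) ∈ KY Ω {v}
  fld : ∀ g ∈ CH a b v, g * g * d = d * (g * g) → P2 g → g * d ≠ d * g → ∃ r, q = r ^ 2 ∧ g * d * g⁻¹ = d ^ r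
  neg : ∀ y ∈ CH a b v, Inv y → y ≠ v → d ^ 2 ^ k * y ∈ KY Ω {v}
  mu : ∃ μ ∈ LY U {v}, μ • a = b ∧ μ • b = a ∧ ∀ d' ∈ LY U {v}, d' ∈ Hb G a b → d' * μ * (d' * μ) = v

section
variable {U : Ω → Subgroup G} {a b : Ω} {v : G} {F : Type} [Field F] [Fintype F] {e : Ω → OnePoint F}
  {π : SL(2, F) →* G}

theorem sc_pow {N : Subgroup G} {Δ : Set Ω} {V : Ω → Subgroup G} (h : L2P N Δ V a b F e) (hd : LD N Δ V) {g : G}
    (hg : g ∈ N) {c : Fˣ} {σ : F ≃+* F} (s : Sc e Δ g c σ) (n : ℕ) :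
    ∃ c' : Fˣ, Sc e Δ (g ^ n) c' (σ ^ n) ∧ (σ = 1 → c' = c ^ n) := by
  induction n with
  | zero => exact ⟨1, (h.sc_tr hd (by simp)).1 fun x _ => by simp, fun _ => by simp⟩
  | succ n ih =>
    obtain ⟨c', h1, h2⟩ := ih
    refine ⟨c * Units.map (σ : F →* F) c', by rw [pow_succ', pow_succ']; exact Sc.mul hd (pow_mem hg n) s h1, ?_⟩
    rintro rfl
    rw [h2 rfl, pow_succ']; rfl

theorem ax_of (h : Cx U) (hV : NV G Ω) (hv : SLt U v) (vH : v ∈ Hb G a b)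
    (Q : L2Q (normalizer ({v} : Set G)) (Fx Ω {v}) (UY U {v}) a b F e π) {k : ℕ}
    (hk : 2 ^ (k + 2) ∣ Fintype.card F - 1 ∧ ¬ 2 ^ (k + 3) ∣ Fintype.card F - 1) {l : Fˣ}
    (ho : orderOf l = 2 ^ (k + 2)) : Ax U a b (Fintype.card F) k v (π (dg l)) := by
  have hd := h.ldY ({v} : Set G)
  have ha : a ∈ Fx Ω {v} := mem_Fx1.2 (mem_Hb.1 vH).1
  have hb : b ∈ Fx Ω {v} := mem_Fx1.2 (mem_Hb.1 vH).2
  have h4 := SLt.three h hv
  have ng := SLt.neg hv Q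
  have pi := Q.inj (ng ▸ hv.1.2)
  let δ : Fˣ →* G := π.comp (MonoidHom.mk' dg dg_mul)
  have δi : Function.Injective δ := fun c d e => dg_inj (pi e)
  have dp : ∀ (c : Fˣ) (n : ℕ), π (dg c) ^ n = π (dg (c ^ n)) := fun c n => (δ.map_pow c n).symm
  have N : ∀ {g}, g ∈ CH a b v → g ∈ normalizer ({v} : Set G) := fun h => mem_norm1.2 (mem_CH.1 h).1
  have D := fun c => (Q.mem_D hd ha hb).2 ⟨c, rfl⟩
  have dC : ∀ c, π (dg c) ∈ CH a b v := fun c => ⟨LY_le U _ (D c).1, (D c).2⟩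
  have K : ∀ {g}, g ∈ CH a b v → (g ∈ KY Ω {v} ↔ Sc e (Fx Ω {v}) g (1 : Fˣ) 1) := fun hg =>
    mem_KY1.trans ((and_iff_right (mem_CH.1 hg).1).trans (Q.sc_tr hd (N hg)))
  have l1 : l ^ 2 ^ (k + 1) = -1 := by
    have h1 : l ^ 2 ^ (k + 1) * l ^ 2 ^ (k + 1) = 1 := by
      rw [← pow_add, ← two_mul, ← pow_succ', ← ho, pow_orderOf_eq_one]
    refine Units.ext ((mul_self_eq_one_iff.1 (congrArg Units.val h1)).resolve_left fun c => ?_)
    have := orderOf_dvd_of_pow_eq_one (Units.ext c : l ^ 2 ^ (k + 1) = 1)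
    rw [ho, Nat.pow_dvd_pow_iff_le_right (by norm_num)] at this
    omega
  -- the field part
  have fx : ∀ {g c σ}, g ∈ CH a b v → Sc e (Fx Ω {v}) g (c : Fˣ) σ → (g * π (dg l) = π (dg l) * g ↔ σ l = l) :=
    fun hg s => by
      rw [← mul_inv_eq_iff_eq_mul, Q.conj_dg (N hg) s]
      exact ⟨fun e => congrArg Units.val (δi e), fun e => congrArg δ (Units.ext e)⟩
  have p2 : ∀ {g c σ}, g ∈ CH a b v → Sc e (Fx Ω {v}) g (c : Fˣ) σ → P2 g → P2 σ ∧ (σ = 1 → P2 c) :=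
    fun hg s ⟨i, hi⟩ => by
      obtain ⟨c', h1, h2⟩ := sc_pow Q.toL2P hd (N hg) s (2 ^ i)
      rw [hi] at h1
      have := Q.sc_uniq c'.ne_zero h1 ((K (one_mem _)).1 (one_mem _))
      exact ⟨⟨i, this.2⟩, fun c => ⟨i, h2 c ▸ Units.ext this.1⟩⟩
  have lin : ∀ {g}, g ∈ CH a b v → P2 g → g * π (dg l) = π (dg l) * g →
      ∃ c : Fˣ, P2 c ∧ Sc e (Fx Ω {v}) g c 1 := fun hg g2 c => by
    obtain ⟨c', σ, s⟩ := Q.sc ha hb (N hg) hg.2
    obtain ⟨⟨i, hi⟩, h2⟩ := p2 hg s g2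
    obtain rfl := fl1 hk.2 ho Q.odd i σ hi ((fx hg s).1 c)
    exact ⟨c', h2 rfl, s⟩
  have fld : ∀ {g}, g ∈ CH a b v → P2 g → g * g * π (dg l) = π (dg l) * (g * g) → g * π (dg l) ≠ π (dg l) * g →
      ∃ (c : Fˣ) (σ : F ≃+* F) (r : ℕ), Sc e (Fx Ω {v}) g c σ ∧ σ * σ = 1 ∧ Fintype.card F = r ^ 2 ∧
        (∀ y, σ y = y ^ r) ∧ P2 (c ^ (r + 1)) := fun hg g2 c n => by
    obtain ⟨c', σ, s⟩ := Q.sc ha hb (N hg) hg.2
    obtain ⟨c2, h1, h2⟩ := lin (mul_mem hg hg) (g2.mul g2 rfl) c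
    have := Q.sc_uniq c2.ne_zero h2 (Sc.mul hd (N hg) s s)
    obtain ⟨r, e1, e2⟩ := fl0 (σ := σ) this.2.symm (by rintro rfl; exact n ((fx hg s).2 rfl))
    exact ⟨c', σ, r, s, this.2.symm, e1, e2, (show c2 = c' ^ (r + 1) from Units.ext (by
      rw [this.1, e2, Units.val_pow_eq_pow_val, pow_succ'])) ▸ h1⟩
  refine ⟨hv.1, (D l).1, dC l, (orderOf_injective δ δi l).trans ho, by rw [dp, l1, dg_neg_one, ng], hk,
    fun c hc => mem_CH.2 ⟨(mem_KY1.1 hc).1, mem_Hb.2 ⟨(mem_KY1.1 hc).2 a ha, (mem_KY1.1 hc).2 b hb⟩⟩,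
    fun c hc l hl => hd.commK (h.faithY (by omega)) hc.1 (mem_KY1.1 hc).2 hl,
    fun y hy => hV.uniq hv.1 (by omega) hy, fun g hg gH ⟨i, hi⟩ => ?_,
    fun g c l hl => hd.Lt_conj (mem_norm1.2 c) hl, fun y hy y2 => ?_, fun g hg g2 c d' h1 h2 => ?_,
    fun γ hγ γ2 c n => ?_, fun g hg c g2 n => ?_, fun y hy yi yv => ?_, ?_⟩
  · obtain ⟨c, rfl⟩ := (Q.mem_D hd ha hb).1 ⟨hg, gH⟩
    obtain ⟨j, rfl⟩ := mem_zp hk.2 ho (c := c) ⟨i, δi (by rw [map_pow, map_one]; exact hi)⟩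
    exact ⟨j, (dp l j).symm⟩
  · obtain ⟨c, σ, s⟩ := Q.sc ha hb (N hy) hy.2
    obtain ⟨A, -, h1⟩ := s.act
    obtain ⟨A', h2⟩ := hV.lin h hv.1 Q.toL2P y2 (mem_CH.1 hy).1
    obtain rfl := (Q.uniq h1 h2).1
    exact (fx hy s).2 rfl
  · obtain ⟨c, -, s⟩ := lin hg g2 c
    obtain ⟨c', rfl⟩ := (Q.mem_D hd ha hb).1 ⟨h1, h2⟩
    exact mul_inv_eq_iff_eq_mul.1 (Q.conj_dg (N hg) s c')
  · obtain ⟨c, c2, s⟩ := lin hγ γ2 c
    have sp : ∀ j, Sc e (Fx Ω {v}) (γ ^ j) (c ^ j : Fˣ) 1 := fun j => by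
      obtain ⟨c', h1, h2⟩ := sc_pow Q.toL2P hd (N hγ) s j
      rwa [h2 rfl, one_pow] at h1
    have oc := ord_of hk.2 ho c2 fun e => n ((K (pow_mem hγ _)).2 (e ▸ sp _))
    refine ⟨fun i => ?_, fun g hg g2 cg => ?_, fun g hg g2 cg ng => ?_⟩
    · obtain ⟨z, hz⟩ := (Q.sc_inn hd (N hγ) s).1 i
      have z0 : z ≠ 0 := by rintro rfl; simp at hz
      have hz' : c = Units.mk0 z z0 * Units.mk0 z z0 := Units.ext hz
      obtain ⟨j, e⟩ := mem_zp hk.2 ho (c := Units.mk0 z z0) (P2.of_mul_self (hz' ▸ c2))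
      have : c ^ 2 ^ (k + 1) = 1 := by
        rw [hz', e, ← sq, ← pow_mul, ← pow_mul, ← pow_succ', mul_comm, pow_mul, ← ho,
          pow_orderOf_eq_one, one_pow]
      exact n ((K (pow_mem hγ _)).2 (this ▸ sp _))
    · obtain ⟨c', h1, s'⟩ := lin hg g2 cg
      obtain ⟨j, e⟩ := mem_zp hk.2 oc h1.inv
      refine ⟨j, (K (mul_mem (pow_mem hγ _) hg)).2 ?_⟩
      have := Sc.mul hd (N hg) (sp j) s'
      rwa [← e, show ((c'⁻¹ : Fˣ) : F) * (1 : F ≃+* F) c' = (1 : Fˣ) from c'.inv_mul] at this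
    · obtain ⟨c', σ, r, s', σ2, e1, e2, h1⟩ := fld hg g2 cg ng
      obtain ⟨i, e⟩ := mem_zp hk.2 oc h1.inv
      have h2 : (c' ^ (r + 1)) ^ r = c' ^ (r + 1) := Units.ext (by
        have := DFunLike.congr_fun σ2 (c' : F)
        rw [RingAut.mul_apply, e2, e2, RingAut.one_apply] at this
        simp only [Units.val_pow_eq_pow_val]
        rw [pow_succ, mul_pow, this, mul_comm])
      obtain ⟨j, hj⟩ := nrm (i := i) oc (e1 ▸ hk.2) (e1 ▸ hk.1) (by rw [pow_mul, ← e, inv_pow, h2])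
      have m := mul_mem (pow_mem hγ j) hg
      refine ⟨j, (K (mul_mem m m)).2 ?_⟩
      have h3 := Sc.mul hd (N hg) (sp j) s'
      change Sc _ _ _ ((c ^ j * c' : Fˣ) : F) σ at h3
      have := Sc.mul hd (N m) h3 h3
      rwa [show σ.trans σ = 1 from σ2, e2, ← pow_succ', ← Units.val_pow_eq_pow_val, mul_pow, ← pow_mul, hj, ← e,
        inv_mul_cancel] at this
  · obtain ⟨c', σ, r, s', -, e1, e2, -⟩ := fld hg g2 c n
    exact ⟨r, e1, by rw [Q.conj_dg (N hg) s', dp]; exact congrArg δ (Units.ext (e2 _))⟩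
  · refine (K (mul_mem (pow_mem (dC l) _) hy)).2 ?_
    have := Sc.mul hd (N hy) (Q.sc_dg (l ^ 2 ^ k)) (hV.neg h hv.1 vH Q.toL2P yi yv (mem_CH.1 hy).1 hy.2)
    rwa [← dp, ← Units.val_pow_eq_pow_val, ← pow_mul, ← pow_succ, l1,
      show ((-1 : Fˣ) : F) * (RingEquiv.refl F) (-1) = (1 : Fˣ) by simp] at this
  · obtain ⟨h1, h2⟩ := (Q.mem_swap hd ha hb).2 ⟨1, rfl⟩
    refine ⟨_, h1, h2.1, h2.2, fun d' h3 h4 => ?_⟩
    obtain ⟨c, rfl⟩ := (Q.mem_D hd ha hb).1 ⟨h3, h4⟩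
    rw [← map_mul, ← map_mul, dg_mul_ad, ad_mul_ad, mul_inv_cancel, dg_neg_one, ng]

end

theorem exists_ax {U : Ω → Subgroup G} (h : Cx U) (hn : Nat.card Ω % 4 = 2) (hV : NV G Ω) {a b : Ω} (hab : a ≠ b)
    {x : G} (hx : SLt U x) : ∃ q k, ∀ v ∈ Hb G a b, IsConj x v → (∃ d, Ax U a b q k v d) ∧
      ∀ d ∈ LY U {v}, d ∈ Hb G a b → orderOf d = 2 ^ (k + 2) → Ax U a b q k v d := by
  have h1 := h.toC0.parity hx.1.1
  have h4 := SLt.three h hx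
  obtain ⟨k, u, hu, e⟩ := Nat.exists_eq_two_pow_mul_odd (n := (Fx Ω {x}).ncard - 1 - 1) (by omega)
  have h2 : 2 ≤ k := (Nat.pow_dvd_pow_iff_le_right (by norm_num)).1
    ((Nat.Coprime.pow_left 2 (Nat.coprime_two_left.2 hu)).dvd_of_dvd_mul_right (e ▸ by omega))
  obtain ⟨k, rfl⟩ := Nat.exists_eq_add_of_le' h2
  refine ⟨(Fx Ω {x}).ncard - 1, k, fun v vH c => ?_⟩
  have hv := h.toCb.SLt_conj c hx
  obtain ⟨F, _, _, e', π, Q⟩ := hv.2.2 a (mem_Fx1.2 (mem_Hb.1 vH).1) b (mem_Fx1.2 (mem_Hb.1 vH).2) hab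
  have hq : (Fx Ω {x}).ncard - 1 = Fintype.card F := by rw [Fx_ncard_conj c, Q.card]; rfl
  rw [hq] at e ⊢
  have hk : 2 ^ (k + 2) ∣ Fintype.card F - 1 ∧ ¬ 2 ^ (k + 3) ∣ Fintype.card F - 1 := by
    rw [e]
    refine ⟨dvd_mul_right _ _, fun c => ?_⟩
    rw [pow_succ, Nat.mul_dvd_mul_iff_left (by positivity)] at c
    exact hu.not_two_dvd_nat c
  refine ⟨?_, fun d h1 h2 h3 => ?_⟩
  · obtain ⟨g, hg⟩ := IsCyclic.exists_ofOrder_eq_natCard (α := Fˣ)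
    rw [Nat.card_eq_fintype_card, Fintype.card_units] at hg
    exact ⟨_, ax_of h hV hv vH Q hk (orderOf_pow_orderOf_div (orderOf_pos g).ne' (hg ▸ hk.1))⟩
  · obtain ⟨c, rfl⟩ := (Q.mem_D (h.ldY _) (mem_Fx1.2 (mem_Hb.1 vH).1) (mem_Fx1.2 (mem_Hb.1 vH).2)).1 ⟨h1, h2⟩
    refine ax_of h hV hv vH Q hk ((orderOf_injective (π.comp (MonoidHom.mk' dg dg_mul))
      (fun c d e => dg_inj (Q.inj (SLt.neg hv Q ▸ hv.1.2) e)) c).symm.trans h3)

end H51.HK.N2D
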