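import Cfsg.Agent.Lib.HK.N2Da

/-! The Sylow 2-subgroup of the centraliser of the four-group in the two point stabiliser. -/

set_option autoImplicit false
set_option linter.unusedSectionVars false

namespace H51.HK.N2D

open MulAction Subgroup H69 H36.SW

variable {G Ω : Type*} [Group G] [MulAction G Ω] [Finite G] [Finite Ω]

theorem zp_comm {d d' u w : G} (c : d * d' = d' * d) (hu : u ∈ zpowers d) (hw : w ∈ zpowers d') :
    u * w = w * u := by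
  obtain ⟨i, rfl⟩ := hu
  obtain ⟨j, rfl⟩ := hw
  exact Commute.zpow_zpow c i j

theorem zp_nat {d u : G} (hu : u ∈ zpowers d) : ∃ i : ℕ, u = d ^ i :=
  let ⟨i, e⟩ := mem_powers_iff_mem_zpowers.2 hu; ⟨i, e.symm⟩

theorem zp_cj {d u : G} (g : G) (hu : u ∈ zpowers d) : g * u * g⁻¹ ∈ zpowers (g * d * g⁻¹) :=
  cj_zpowers d g ▸ cj_mem g hu

/-- the product of two commuting cyclic groups -/
def PG (d d' : G) (c : d * d' = d' * d) : Subgroup G where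
  carrier := {g | ∃ u ∈ zpowers d, ∃ w ∈ zpowers d', g = u * w}
  one_mem' := ⟨1, one_mem _, 1, one_mem _, (mul_one _).symm⟩
  mul_mem' := by
    rintro _ _ ⟨u, hu, w, hw, rfl⟩ ⟨u', hu', w', hw', rfl⟩
    exact ⟨_, mul_mem hu hu', _, mul_mem hw hw', by
      rw [mul_assoc, ← mul_assoc w, ← zp_comm c hu' hw]; simp only [mul_assoc]⟩
  inv_mem' := by
    rintro _ ⟨u, hu, w, hw, rfl⟩
    exact ⟨_, inv_mem hu, _, inv_mem hw, by rw [zp_comm c hu hw, mul_inv_rev]⟩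

section PG
variable {d d' : G} {c : d * d' = d' * d}

theorem mem_PG {g : G} : g ∈ PG d d' c ↔ ∃ u ∈ zpowers d, ∃ w ∈ zpowers d', g = u * w := Iff.rfl

theorem l_PG {u : G} (h : u ∈ zpowers d) : u ∈ PG d d' c := ⟨u, h, 1, one_mem _, (mul_one _).symm⟩
theorem r_PG {u : G} (h : u ∈ zpowers d') : u ∈ PG d d' c := ⟨1, one_mem _, u, h, (one_mul _).symm⟩

theorem PG_le {S : Subgroup G} (h : d ∈ S) (h' : d' ∈ S) : PG d d' c ≤ S := by
  rintro _ ⟨u, hu, w, hw, rfl⟩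
  exact mul_mem (zpowers_le.2 h hu) (zpowers_le.2 h' hw)

theorem PG_symm {g : G} (h : g ∈ PG d d' c) : g ∈ PG d' d c.symm :=
  PG_le (r_PG (mem_zpowers _)) (l_PG (mem_zpowers _)) h

theorem PG_comm {u w : G} (hu : u ∈ PG d d' c) (hw : w ∈ PG d d' c) : u * w = w * u := by
  have k : ∀ y, d * y = y * d → d' * y = y * d' → ∀ u ∈ PG d d' c, u * y = y * u := fun y a b u hu =>
    mem_centralizer_singleton_iff.1 (PG_le (mem_centralizer_singleton_iff.2 a) (mem_centralizer_singleton_iff.2 b) hu)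
  exact k w (k d rfl c.symm w hw).symm (k d' c rfl w hw).symm u hu

theorem PG_P2 (h : P2 d) (h' : P2 d') {g : G} (hg : g ∈ PG d d' c) : P2 g := by
  obtain ⟨u, hu, w, hw, rfl⟩ := hg
  exact (P2.of_mem h.zpowers hu).mul (P2.of_mem h'.zpowers hw) (zp_comm c hu hw)

end PG

theorem KY_cj {v g k : G} (hg : g * v = v * g) (hk : k ∈ KY Ω ({v} : Set G)) : g * k * g⁻¹ ∈ KY Ω ({v} : Set G) := by
  refine mem_KY1.2 ⟨?_, fun z hz => ?_⟩
  · exact ((show Commute g v from hg).mul_left (mem_KY1.1 hk).1).mul_left (Commute.inv_left hg)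
  · rw [mul_smul, mul_smul, (mem_KY1.1 hk).2 (g⁻¹ • z) (mem_Fx1.2 (by
      rw [← mul_smul, ← (Commute.inv_left hg).eq, mul_smul, mem_Fx1.1 hz])), smul_inv_smul]

variable {U : Ω → Subgroup G} {a b : Ω} {q k : ℕ} {x t d d' : G}

namespace Ax
variable (X : Ax U a b q k x d)
include X

theorem p2 : P2 d := ⟨k + 2, by rw [← X.ord, pow_orderOf_eq_one]⟩
theorem vz : x ∈ zpowers d := X.half ▸ pow_mem (mem_zpowers d) _
theorem vH : x ∈ Hb G a b := (zpowers_le.2 X.dC X.vz).2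
omit X in
theorem vK (x : G) : x ∈ KY Ω ({x} : Set G) := mem_KY1.2 ⟨rfl, fun _ h => mem_Fx1.1 h⟩

theorem sq1 {y : G} (hy : y ∈ zpowers d) (h : Inv y) : y = x := by
  obtain ⟨j, rfl⟩ := zp_nat hy
  have h1 := h.1
  rw [← pow_add, ← orderOf_dvd_iff_pow_eq_one, X.ord, ← mul_two, pow_succ,
    Nat.mul_dvd_mul_iff_right (by norm_num)] at h1
  obtain ⟨i, rfl⟩ := h1
  rw [pow_mul, X.half] at h ⊢
  rcases i.even_or_odd with ⟨i, rfl⟩ | e
  · exact absurd (by rw [← two_mul, pow_mul, sq, X.inv.1, one_pow]) h.2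
  · exact pow_odd_of_sq X.inv.1 e

theorem nz {g u : G} (hg : g ∈ CH a b x) (hu : u ∈ zpowers d) : g * u * g⁻¹ ∈ zpowers d := by
  obtain ⟨j, e⟩ := X.gen _ (X.cL g (mem_CH.1 hg).1 d X.dL) (mul_mem (mul_mem hg.2 X.dC.2) (inv_mem hg.2))
    (X.p2.conj g)
  exact zpowers_le.2 (e ▸ pow_mem (mem_zpowers d) j) (zp_cj g hu)

variable (Y : Ax U a b q k t d') (tx : t ≠ x)
include Y tx

theorem disj {y : G} (h : y ∈ zpowers d) (h' : y ∈ zpowers d') : y = 1 := by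
  by_contra c
  obtain ⟨n, hn⟩ := exists_inv (P2.of_mem X.p2.zpowers h) c
  exact tx ((Y.sq1 (pow_mem h' n) hn).symm.trans (X.sq1 (pow_mem h n) hn))

theorem kk {y : G} (h : y ∈ KY Ω ({x} : Set G)) (h' : y ∈ KY Ω ({t} : Set G)) (h2 : P2 y) : y = 1 := by
  by_contra c
  obtain ⟨n, hn⟩ := exists_inv h2 c
  exact tx (((Y.uniq _ (pow_mem h' n) hn.1).resolve_left hn.2).symm.trans
    ((X.uniq _ (pow_mem h n) hn.1).resolve_left hn.2))

theorem nK : t ∉ KY Ω ({x} : Set G) := fun c => (X.uniq t c Y.inv.1).elim Y.inv.2 tx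

variable (cm : x * t = t * x)
include cm

omit tx in
theorem dC' : d' ∈ CH a b x := mem_CH.2 ⟨(Y.cy x (mem_CH.2 ⟨cm, X.vH⟩) X.inv.1).symm, Y.dC.2⟩

theorem comm : d * d' = d' * d := by
  have h1 := mul_mem (X.nz (X.dC' Y cm) (mem_zpowers d)) (inv_mem (mem_zpowers d))
  have h2 := mul_mem (mem_zpowers d') (Y.nz (Y.dC' X cm.symm) (inv_mem (mem_zpowers d')))
  rw [← mul_assoc, ← mul_assoc] at h2
  have := X.disj Y tx h1 h2
  rwa [mul_inv_eq_one, mul_inv_eq_iff_eq_mul, eq_comm] at this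

/-- the Sylow 2-subgroup of the centraliser of the four-group -/
abbrev P : Subgroup G := PG d d' (X.comm Y tx cm)

theorem P_le : X.P Y tx cm ≤ CH a b x := PG_le X.dC (X.dC' Y cm)
theorem P_le' : X.P Y tx cm ≤ CH a b t := PG_le (Y.dC' X cm.symm) Y.dC
theorem dP : d ∈ X.P Y tx cm := l_PG (mem_zpowers d)
theorem dP' : d' ∈ X.P Y tx cm := r_PG (mem_zpowers d')
theorem P_P2 {g : G} (h : g ∈ X.P Y tx cm) : P2 g := PG_P2 X.p2 Y.p2 h

theorem sqP {g u : G} (hg : g ∈ CH a b x) (hg' : g ∈ CH a b t) (h2 : g * g ∈ X.P Y tx cm) (hu : u ∈ X.P Y tx cm) :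
    u * g * (u * g) ∈ X.P Y tx cm := by
  have : g * u * g⁻¹ ∈ X.P Y tx cm := by
    obtain ⟨u, hu, w, hw, rfl⟩ := hu
    exact ⟨_, X.nz hg hu, _, Y.nz hg' hw, by group⟩
  rw [show u * g * (u * g) = u * (g * u * g⁻¹) * (g * g) by group]
  exact mul_mem (mul_mem hu this) h2

theorem onto' : ¬ Inn (Fx Ω {x}) (UY U {x}) d' ∧
    ∀ g ∈ CH a b x, P2 g → g * d = d * g → ∃ j : ℕ, d' ^ j * g ∈ KY Ω ({x} : Set G) :=
  let h := X.onto d' (X.dC' Y cm) Y.p2 (X.comm Y tx cm).symm (Y.half ▸ X.nK Y tx); ⟨h.1, h.2.1⟩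

theorem exists_k0 : ∃ k0 ∈ X.P Y tx cm, k0 ∈ KY Ω ({x} : Set G) ∧ k0 ^ 2 ^ (k + 1) ∉ KY Ω ({t} : Set G) ∧
    (k0 ^ 4 = 1 → k = 0) := by
  obtain ⟨j, hj⟩ := (X.onto' Y tx cm).2 d X.dC X.p2 rfl
  have c : Commute (d' ^ j) d := (Commute.pow_right (X.comm Y tx cm) j).symm
  refine ⟨_, mul_mem (pow_mem (X.dP' Y tx cm) j) (X.dP Y tx cm), hj, fun e => Y.nK X tx.symm ?_, fun e => ?_⟩
  · rwa [c.mul_pow, ← pow_mul, mul_comm j, pow_mul, Y.half, X.half, mul_mem_cancel_left (pow_mem (vK t) j)] at e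
  · rw [c.mul_pow, mul_eq_one_iff_inv_eq] at e
    have := X.disj Y tx (pow_mem (mem_zpowers d) 4) (e ▸ inv_mem (pow_mem (pow_mem (mem_zpowers d') j) 4))
    rw [← orderOf_dvd_iff_pow_eq_one, X.ord, show 4 = 2 ^ 2 from rfl,
      Nat.pow_dvd_pow_iff_le_right (by norm_num)] at this
    omega

theorem step1 {g : G} (hg : g ∈ CH a b x) (hg' : g ∈ CH a b t) (h2 : g * g ∈ X.P Y tx cm) (c : g * d = d * g) :
    g ∈ X.P Y tx cm := by
  obtain ⟨j, hj⟩ := (X.onto' Y tx cm).2 g hg (X.P_P2 Y tx cm h2).of_mul_self c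
  obtain ⟨k0, h0, h1, h3, -⟩ := X.exists_k0 Y tx cm
  obtain ⟨-, o2, o3⟩ := Y.onto k0 (X.P_le' Y tx cm h0) (X.P_P2 Y tx cm h0) (PG_comm h0 (X.dP' Y tx cm)) h3
  have u1 := pow_mem (X.dP' Y tx cm) j
  have κC := mul_mem (X.P_le' Y tx cm u1) hg'
  have κ2 := X.sqP Y tx cm hg hg' h2 u1
  have y2 : ∀ i : ℕ, k0 ^ i * (d' ^ j * g) * (k0 ^ i * (d' ^ j * g)) ∈ X.P Y tx cm := fun i => by
    rw [← mul_assoc (k0 ^ i) (d' ^ j)]
    exact X.sqP Y tx cm hg hg' h2 (mul_mem (pow_mem h0 i) u1)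
  by_cases e : d' ^ j * g * d' = d' * (d' ^ j * g)
  · obtain ⟨i, hi⟩ := o2 _ κC (X.P_P2 Y tx cm κ2).of_mul_self e
    have := X.kk Y tx (mul_mem (pow_mem h1 i) hj) hi (X.P_P2 Y tx cm (y2 i)).of_mul_self
    rw [← mul_assoc, mul_eq_one_iff_inv_eq] at this
    exact this ▸ inv_mem (mul_mem (pow_mem h0 i) u1)
  · obtain ⟨i, hi⟩ := o3 _ κC (X.P_P2 Y tx cm κ2).of_mul_self (PG_comm κ2 (X.dP' Y tx cm)) e
    have m := mul_mem (pow_mem h1 i) hj
    have := Y.cy _ (mul_mem (X.P_le' Y tx cm (pow_mem h0 i)) κC)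
      (X.kk Y tx (mul_mem m m) hi (X.P_P2 Y tx cm (y2 i)))
    rw [← mul_assoc d', ← PG_comm (pow_mem h0 i) (X.dP' Y tx cm), mul_assoc, mul_assoc (k0 ^ i)] at this
    exact absurd (mul_left_cancel this) e

theorem step {g : G} (hg : g ∈ CH a b x) (hg' : g ∈ CH a b t) (h2 : g * g ∈ X.P Y tx cm) : g ∈ X.P Y tx cm := by
  by_cases c : g * d = d * g
  · exact X.step1 Y tx cm hg hg' h2 c
  by_cases c' : g * d' = d' * g
  · exact PG_symm (Y.step1 X tx.symm cm.symm hg' hg (PG_symm h2) c')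
  have g2 := (X.P_P2 Y tx cm h2).of_mul_self
  obtain ⟨r, e1, e2⟩ := X.fld g hg (PG_comm h2 (X.dP Y tx cm)) g2 c
  obtain ⟨r', e3, e4⟩ := Y.fld g hg' (PG_comm h2 (X.dP' Y tx cm)) g2 c'
  obtain rfl : r = r' := Nat.pow_left_injective two_ne_zero (e1.symm.trans e3)
  obtain ⟨u, hu, w, hw, e⟩ := h2
  obtain ⟨i, rfl⟩ := zp_nat hu
  obtain ⟨j, rfl⟩ := zp_nat hw
  have k1 : ∀ i j : ℕ, g * (d ^ i * d' ^ j) * g⁻¹ = d ^ (i * r) * d' ^ (j * r) := fun i j => by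
    rw [mul_comm i, mul_comm j, pow_mul, pow_mul, ← e2, ← e4, conj_pow, conj_pow, conj_mul]
  have k2 := k1 i j
  rw [← e, ← mul_assoc, mul_inv_cancel_right, e] at k2
  have k3 : (d ^ (i * r))⁻¹ * d ^ i = d' ^ (j * r) * (d' ^ j)⁻¹ := by
    rw [eq_mul_inv_iff_mul_eq, mul_assoc, k2, inv_mul_cancel_left]
  have z := mem_zpowers d
  have z' := mem_zpowers d'
  have k4 := X.disj Y tx (mul_mem (inv_mem (pow_mem z _)) (pow_mem z _))
    (k3 ▸ mul_mem (pow_mem z' _) (inv_mem (pow_mem z' _)))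
  obtain ⟨i', hi⟩ := nrm X.ord (e1 ▸ X.num.2) (e1 ▸ X.num.1) (inv_mul_eq_one.1 k4)
  obtain ⟨j', hj⟩ := nrm Y.ord (e1 ▸ X.num.2) (e1 ▸ X.num.1) (mul_inv_eq_one.1 (k3 ▸ k4))
  have u1 : d ^ i' * d' ^ j' ∈ X.P Y tx cm := ⟨_, pow_mem z _, _, pow_mem z' _, rfl⟩
  have := X.cy _ (mul_mem (inv_mem (X.P_le Y tx cm u1)) hg) (by
    rw [show ∀ u : G, u⁻¹ * g * (u⁻¹ * g) = (g * u * g⁻¹ * u)⁻¹ * (g * g) from fun u => by group, k1, e, ← hi, ← hj,
      inv_mul_eq_one, mul_add, mul_add, mul_one, mul_one, pow_add, pow_add, mul_assoc, mul_assoc,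
      ← mul_assoc (d' ^ _), ← zp_comm (X.comm Y tx cm) (pow_mem z _) (pow_mem z' _), mul_assoc])
  rw [← mul_assoc d, ← PG_comm (inv_mem u1) (X.dP Y tx cm), mul_assoc, mul_assoc] at this
  exact absurd (mul_left_cancel this) c

theorem memP {g : G} (hg : g ∈ CH a b x) (hg' : g ∈ CH a b t) (h : P2 g) : g ∈ X.P Y tx cm := by
  obtain ⟨i, hi⟩ := h
  induction i generalizing g with
  | zero => rw [pow_zero, pow_one] at hi; exact hi ▸ one_mem _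
  | succ i ih =>
    exact X.step Y tx cm hg hg' (ih (mul_mem hg hg) (mul_mem hg' hg') (by rw [← sq, ← pow_mul, ← pow_succ', hi]))

end Ax

theorem eqns_N2Db : True := by
  have := @PG.eq_1.{0}
  trivial

end H51.HK.N2D
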