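import Mathlib.GroupTheory.Nilpotent
import Mathlib.GroupTheory.Perm.Cycle.Type
import Mathlib.Data.Set.Card

/-! Tools for the non-regular case: upper central series inside `G`, primary parts, counting
modulo `p`, coprime action. -/

set_option autoImplicit false
set_option linter.unusedSectionVars false
set_option linter.style.haveILetI false

namespace H15.NR

open MulAction Subgroup
open scoped commutatorElement

variable {G : Type*} [Group G]

/-- the upper central series of a subgroup, as subgroups of `G` -/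
def ZS (A : Subgroup G) (j : ℕ) : Subgroup G := (Subgroup.upperCentralSeries A j).map A.subtype

theorem ZS_le (A : Subgroup G) (j : ℕ) : ZS A j ≤ A := map_subtype_le _

theorem ZS_zero {A : Subgroup G} {x : G} : x ∈ ZS A 0 ↔ x = 1 := by
  simp [ZS]

theorem mem_ZS_coe {A : Subgroup G} {j : ℕ} (x : A) :
    (x : G) ∈ ZS A j ↔ x ∈ Subgroup.upperCentralSeries A j :=
  ⟨fun ⟨y, hy, e⟩ => (Subtype.ext e : y = x) ▸ hy, fun h => ⟨x, h, rfl⟩⟩

theorem mem_ZS_succ {A : Subgroup G} {j : ℕ} {x : G} :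
    x ∈ ZS A (j + 1) ↔ x ∈ A ∧ ∀ u ∈ A, ⁅x, u⁆ ∈ ZS A j := by
  constructor
  · intro h
    have hx := ZS_le A _ h
    refine ⟨hx, fun u hu => ?_⟩
    have := Subgroup.mem_upperCentralSeries_succ_iff.1 ((mem_ZS_coe ⟨x, hx⟩).1 h) ⟨u, hu⟩
    exact (mem_ZS_coe _).2 this
  · rintro ⟨hx, h⟩
    refine (mem_ZS_coe ⟨x, hx⟩).2 (Subgroup.mem_upperCentralSeries_succ_iff.2 fun u => ?_)
    exact (mem_ZS_coe _).1 (h u u.2)

theorem ZS_top {A : Subgroup G} (h : Group.IsNilpotent A) : ∃ n, ∀ x ∈ A, x ∈ ZS A n := by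
  obtain ⟨n, hn⟩ := h.nilpotent'
  exact ⟨n, fun x hx => (mem_ZS_coe ⟨x, hx⟩).2 (hn ▸ mem_top _)⟩

theorem ZS_conj {A B : Subgroup G} {g : G} (h1 : ∀ u ∈ A, g * u * g⁻¹ ∈ B)
    (h2 : ∀ u ∈ B, g⁻¹ * u * g ∈ A) (j : ℕ) : ∀ x ∈ ZS A j, g * x * g⁻¹ ∈ ZS B j := by
  induction j with
  | zero => intro x hx; rw [ZS_zero] at hx ⊢; simp [hx]
  | succ j ih =>
    intro x hx
    rw [mem_ZS_succ] at hx ⊢
    refine ⟨h1 x hx.1, fun u hu => ?_⟩
    have := ih _ (hx.2 _ (h2 u hu))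
    convert this using 1
    simp only [commutatorElement_def]; group

theorem ZS_normal {A : Subgroup G} {j : ℕ} {x u : G} (hx : x ∈ ZS A j) (hu : u ∈ A) :
    u * x * u⁻¹ ∈ ZS A j :=
  ZS_conj (fun _ hv => A.mul_mem (A.mul_mem hu hv) (A.inv_mem hu))
    (fun _ hv => A.mul_mem (A.mul_mem (A.inv_mem hu) hv) hu) j x hx

theorem ZS_comm {A : Subgroup G} {j : ℕ} {x u : G} (hx : x ∈ ZS A (j + 1)) (hu : u ∈ A) :
    ⁅u, x⁆ ∈ ZS A j := by
  rw [← commutatorElement_inv]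
  exact inv_mem ((mem_ZS_succ.1 hx).2 u hu)

/-- `x` is a `p`-element -/
def PE (p : ℕ) (x : G) : Prop := ∃ k : ℕ, x ^ p ^ k = 1

theorem PE.conj {p : ℕ} {x : G} (h : PE p x) (g : G) : PE p (g * x * g⁻¹) := by
  obtain ⟨k, hk⟩ := h
  exact ⟨k, by rw [conj_pow, hk]; simp⟩

theorem PE.of_pow {p : ℕ} {x : G} (h : x ^ p = 1) : PE p x := ⟨1, by simpa using h⟩

theorem PE.eq_one {p r : ℕ} (hp : p.Prime) (hr : r.Prime) (hne : p ≠ r) {x : G} (h1 : PE p x)
    (h2 : PE r x) : x = 1 := by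
  obtain ⟨k, hk⟩ := h1
  obtain ⟨l, hl⟩ := h2
  have := pow_gcd_eq_one.2 ⟨hk, hl⟩
  rwa [Nat.Coprime.gcd_eq_one (Nat.coprime_pow_primes k l hp hr hne), pow_one] at this

theorem PE.pgroup {p : ℕ} [hp : Fact p.Prime] {x : G} (h : PE p x) : IsPGroup p (zpowers x) := by
  obtain ⟨n, hn⟩ := h
  obtain ⟨k, -, hk⟩ := (Nat.dvd_prime_pow hp.out).1 (orderOf_dvd_of_pow_eq_one hn)
  exact IsPGroup.of_card (n := k) (by rw [Nat.card_zpowers, hk])

theorem PE.dvd {p : ℕ} (hp : p.Prime) {x : G} (h : PE p x) (h1 : x ≠ 1) : p ∣ orderOf x := by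
  obtain ⟨n, hn⟩ := h
  obtain ⟨k, -, hk⟩ := (Nat.dvd_prime_pow hp).1 (orderOf_dvd_of_pow_eq_one hn)
  rcases k with _ | k
  · exact absurd (orderOf_eq_one_iff.1 (by simpa using hk)) h1
  · rw [hk]; exact dvd_pow_self p (by omega)

theorem pgroup_of {p : ℕ} {Q : Subgroup G} (h : ∀ x ∈ Q, PE p x) : IsPGroup p Q := fun x => by
  obtain ⟨k, hk⟩ := h x x.2
  exact ⟨k, Subtype.ext (by simpa using hk)⟩

variable [Finite G]

theorem exists_Op {A : Subgroup G} (hn : Group.IsNilpotent A) {p : ℕ} (hp : p.Prime) :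
    ∃ Q : Subgroup G, ∀ x, x ∈ Q ↔ x ∈ A ∧ PE p x := by
  haveI := Fact.mk hp
  let P : Sylow p A := default
  have hP : (P : Subgroup A).Normal :=
    Sylow.normal_of_normalizerCondition Group.normalizerCondition_of_isNilpotent P
  refine ⟨(P : Subgroup A).map A.subtype, fun x => ⟨?_, ?_⟩⟩
  · rintro ⟨y, hy, rfl⟩
    obtain ⟨k, hk⟩ := P.isPGroup' ⟨y, hy⟩
    exact ⟨y.2, k, by simpa using congrArg (fun z : P => ((z : A) : G)) hk⟩
  · rintro ⟨hx, k, hk⟩
    have h1 : PE p (⟨x, hx⟩ : A) := ⟨k, Subtype.ext (by simpa using hk)⟩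
    obtain ⟨Q, hQ⟩ := h1.pgroup.exists_le_sylow
    haveI := Sylow.unique_of_normal P hP
    have e : Q = P := Subsingleton.elim _ _
    exact ⟨⟨x, hx⟩, e ▸ hQ (mem_zpowers _), rfl⟩

theorem PE.comm {A : Subgroup G} (hn : Group.IsNilpotent A) {p : ℕ} (hp : p.Prime) {x u : G}
    (hx : x ∈ A) (h : PE p x) (hu : u ∈ A) : PE p ⁅u, x⁆ := by
  obtain ⟨Q, hQ⟩ := exists_Op hn hp
  have h1 : u * x * u⁻¹ ∈ Q := (hQ _).2 ⟨A.mul_mem (A.mul_mem hu hx) (A.inv_mem hu), h.conj u⟩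
  exact ((hQ _).1 (Q.mul_mem h1 (Q.inv_mem ((hQ x).2 ⟨hx, h⟩)))).2

theorem comm_of_PE {A : Subgroup G} (hn : Group.IsNilpotent A) {p r : ℕ} (hp : p.Prime)
    (hr : r.Prime) (hne : p ≠ r) {x y : G} (hx : x ∈ A) (hy : y ∈ A) (h1 : PE p x) (h2 : PE r y) :
    y * x = x * y := by
  have e1 := PE.comm hn hp hx h1 hy
  have e2 := PE.comm hn hr hy h2 hx
  have e3 : PE r ⁅y, x⁆ := by
    obtain ⟨k, hk⟩ := e2
    exact ⟨k, by rw [← commutatorElement_inv, inv_pow, hk, inv_one]⟩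
  exact commutatorElement_eq_one_iff_mul_comm.1 (e1.eq_one hp hr hne e3)

/-- an element lies in `H` if its powers of prime power order do -/
theorem mem_of_PE {H : Subgroup G} {x : G}
    (h : ∀ y ∈ zpowers x, ∀ r : ℕ, r.Prime → PE r y → y ∈ H) : x ∈ H := by
  suffices key : ∀ n : ℕ, n ≠ 0 → ∀ y ∈ zpowers x, y ^ n = 1 → y ∈ H from
    key _ (orderOf_pos x).ne' x (mem_zpowers x) (pow_orderOf_eq_one x)
  intro n
  induction n using Nat.recOnPrimeCoprime with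
  | zero => simp
  | prime_pow p n hp => exact fun _ y hy e => h y hy p hp ⟨n, e⟩
  | coprime a b ha hb hab iha ihb =>
    intro _ y hy e
    have h1 : y ^ b ∈ H := iha (by omega) _ (pow_mem hy b) (by rw [← pow_mul, mul_comm, e])
    have h2 : y ^ a ∈ H := ihb (by omega) _ (pow_mem hy a) (by rw [← pow_mul, e])
    have h3 : y = (y ^ a) ^ Nat.gcdA a b * (y ^ b) ^ Nat.gcdB a b := by
      rw [← zpow_natCast, ← zpow_natCast, ← zpow_mul, ← zpow_mul, ← zpow_add,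
        ← Nat.gcd_eq_gcd_ab, hab.gcd_eq_one]; simp
    rw [h3]
    exact H.mul_mem (H.zpow_mem h2 _) (H.zpow_mem h1 _)

/-- a non-trivial central `p`-element -/
theorem exists_central {A : Subgroup G} (hn : Group.IsNilpotent A) {p : ℕ} (hp : p.Prime)
    (hd : p ∣ Nat.card A) : ∃ z ∈ A, z ≠ 1 ∧ PE p z ∧ ∀ u ∈ A, z * u = u * z := by
  classical
  haveI := Fact.mk hp
  have hex : ∃ j, ∃ z ∈ ZS A j, z ≠ 1 ∧ PE p z := by
    obtain ⟨n, hn'⟩ := ZS_top hn
    obtain ⟨x, hx⟩ := exists_prime_orderOf_dvd_card' p hd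
    refine ⟨n, x, hn' x x.2, fun e => ?_, PE.of_pow ?_⟩
    · have : x = 1 := Subtype.ext e
      rw [this, orderOf_one] at hx
      exact hp.one_lt.ne hx
    · have := pow_orderOf_eq_one x
      rw [hx] at this
      simpa using congrArg Subtype.val this
  obtain ⟨z, hz, h1, h2⟩ := Nat.find_spec hex
  have hA := ZS_le A _ hz
  rcases e : Nat.find hex with _ | j
  · rw [e, ZS_zero] at hz; exact absurd hz h1
  · rw [e] at hz
    refine ⟨z, hA, h1, h2, fun u hu => ?_⟩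
    by_contra hne
    refine Nat.find_min hex (m := j) (by omega) ⟨_, ZS_comm hz hu, fun e1 => hne ?_,
      h2.comm hn hp hA hu⟩
    exact (commutatorElement_eq_one_iff_mul_comm.1 e1).symm

omit [Finite G] in
theorem cnt {X : Type*} {S : Set X} (hS : S.Finite) {f : X → X} (hf : ∀ s ∈ S, f s ∈ S) {p k : ℕ}
    (hp : p.Prime) (h : ∀ s ∈ S, f^[p ^ k] s = s) :
    S.ncard ≡ {s | s ∈ S ∧ f s = s}.ncard [MOD p] := by
  classical
  haveI := Fact.mk hp
  haveI := hS.fintype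
  let F : Function.End S := fun s => ⟨f s, hf s s.2⟩
  have hF : ∀ n (s : S), ((F ^ n) s : X) = f^[n] s := by
    intro n
    induction n with
    | zero => intro s; rfl
    | succ n ih =>
      intro s
      rw [pow_succ, Function.iterate_succ_apply]
      exact ih (F s)
  have h1 : F ^ p ^ k = 1 := funext fun s => Subtype.ext ((hF _ s).trans (h s s.2))
  have h2 := Equiv.Perm.card_fixedPoints_modEq h1
  rw [← Nat.card_eq_fintype_card, ← Nat.card_eq_fintype_card, Nat.card_coe_set_eq] at h2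
  have e : F.fixedPoints ≃ {s | s ∈ S ∧ f s = s} :=
    ⟨fun x => ⟨x.1.1, x.1.2, congrArg Subtype.val x.2⟩,
      fun x => ⟨⟨x.1, x.2.1⟩, Subtype.ext x.2.2⟩, fun _ => rfl, fun _ => rfl⟩
  rwa [Nat.card_congr e, Nat.card_coe_set_eq] at h2

omit [Finite G] in
theorem iter_conj (g s : G) (n : ℕ) : (fun s => g * s * g⁻¹)^[n] s = g ^ n * s * (g ^ n)⁻¹ := by
  induction n with
  | zero => simp
  | succ n ih => rw [Function.iterate_succ_apply', ih, pow_succ']; group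

/-- a `p`-element that normalises a non-trivial `p`-subgroup centralises a non-trivial element -/
theorem exists_fix_conj {S : Subgroup G} {p : ℕ} (hp : p.Prime) (hd : p ∣ Nat.card S) {y : G}
    (hy : PE p y) (hn : ∀ s ∈ S, y * s * y⁻¹ ∈ S) : ∃ z ∈ S, z ≠ 1 ∧ z * y = y * z := by
  obtain ⟨k, hk⟩ := hy
  have h1 := cnt (S := (S : Set G)) (Set.toFinite _) (f := fun s => y * s * y⁻¹) hn (k := k) hp
    (fun s _ => by rw [iter_conj, hk]; simp)
  by_contra hc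
  push Not at hc
  have h2 : {s | s ∈ (S : Set G) ∧ y * s * y⁻¹ = s} = {1} := by
    ext s
    simp only [Set.mem_ofPred_eq, Set.mem_singleton_iff, SetLike.mem_coe]
    constructor
    · rintro ⟨a, b⟩
      by_contra hne
      exact hc s a hne (by rw [← b]; simp [b]; exact (mul_inv_eq_iff_eq_mul.1 b).symm)
    · rintro rfl; simp
  rw [h2, Set.ncard_singleton, ← Nat.card_coe_set_eq] at h1
  have h3 : (0 : ℕ) ≡ 1 [MOD p] := ((Nat.modEq_zero_iff_dvd).2 hd).symm.trans h1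
  exact hp.one_lt.ne' (Nat.dvd_one.1 ((Nat.modEq_iff_dvd' zero_le_one).1 h3))

section act
variable {Ω : Type*} [MulAction G Ω] [Finite Ω]

omit [Finite G] in
theorem cnt_smul {S : Set Ω} {p : ℕ} (hp : p.Prime) {z : G} (hz : PE p z)
    (hf : ∀ s ∈ S, z • s ∈ S) : S.ncard ≡ {s | s ∈ S ∧ z • s = s}.ncard [MOD p] := by
  obtain ⟨k, hk⟩ := hz
  exact cnt (Set.toFinite _) (f := fun s => z • s) hf (k := k) hp
    (fun s _ => by rw [smul_iterate_apply, hk, one_smul])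

omit [Finite G] in
theorem cnt_grp {p : ℕ} (hp : p.Prime) {Q : Subgroup G} (hQ : IsPGroup p Q) {s : Set Ω}
    (hs : ∀ q ∈ Q, ∀ ω ∈ s, q • ω ∈ s) :
    s.ncard ≡ {ω | ω ∈ s ∧ ∀ q ∈ Q, q • ω = ω}.ncard [MOD p] := by
  haveI := Fact.mk hp
  let S : SubMulAction Q Ω := ⟨s, fun q _ h => hs q q.2 _ h⟩
  have h := hQ.card_modEq_card_fixedPoints S
  have e1 : Nat.card S = s.ncard := Nat.card_coe_set_eq s
  have e2 : Nat.card (fixedPoints Q S) = {ω | ω ∈ s ∧ ∀ q ∈ Q, q • ω = ω}.ncard := by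
    rw [← Nat.card_coe_set_eq]
    refine Nat.card_congr ⟨fun x => ⟨x.1.1, x.1.2, fun q hq => congrArg Subtype.val (x.2 ⟨q, hq⟩)⟩,
      fun x => ⟨⟨x.1, x.2.1⟩, fun q => Subtype.ext (x.2.2 q q.2)⟩, fun _ => rfl, fun _ => rfl⟩
  rwa [e1, e2] at h

/-- coprime action on a coset of a point stabiliser -/
theorem cop_tr {A : Subgroup G} {x y : Ω} (h0 : ∃ u ∈ A, u • x = y) (n : ℕ) :
    ∀ g : G, n ≠ 0 → g ^ n = 1 → n.Coprime (Nat.card A) → (∀ u ∈ A, g * u * g⁻¹ ∈ A) →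
      g • x = x → g • y = y → ∃ u ∈ A, u * g = g * u ∧ u • x = y := by
  induction n using Nat.strong_induction_on with
  | _ n ih =>
  intro g hn hg hc hA hx hy
  by_cases h1 : n = 1
  · subst h1
    obtain ⟨u, hu, e⟩ := h0
    rw [pow_one] at hg
    exact ⟨u, hu, by simp [hg], e⟩
  obtain ⟨r, hr, m, rfl⟩ := Nat.exists_prime_and_dvd h1
  have hm : m ≠ 0 := by rintro rfl; simp at hn
  have hAr : ∀ (k : ℕ), ∀ u ∈ A, g ^ k * u * (g ^ k)⁻¹ ∈ A := by
    intro k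
    induction k with
    | zero => simp
    | succ k ihk =>
      intro u hu
      have := hA _ (ihk u hu)
      rw [pow_succ']
      convert this using 1; group
  obtain ⟨u0, hu0, c0, e0⟩ := ih m (by nlinarith [hr.two_le, Nat.pos_of_ne_zero hm]) (g ^ r) hm
    (by rw [← pow_mul, hg]) (Nat.Coprime.coprime_mul_left hc) (hAr r)
    ((stabilizer G x).pow_mem hx r) ((stabilizer G y).pow_mem hy r)
  let B : Subgroup G := A ⊓ centralizer {g ^ r} ⊓ stabilizer G x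
  let S : Set G := {u | u ∈ A ∧ u * g ^ r = g ^ r * u ∧ u • x = y}
  have hS : S = (fun b => u0 * b) '' (B : Set G) := by
    ext u
    constructor
    · rintro ⟨a1, a2, a3⟩
      refine ⟨u0⁻¹ * u, ⟨⟨A.mul_mem (A.inv_mem hu0) a1, ?_⟩, ?_⟩, by simp⟩
      · exact (centralizer {g ^ r}).mul_mem
          ((centralizer {g ^ r}).inv_mem (mem_centralizer_singleton_iff.2 c0))
          (mem_centralizer_singleton_iff.2 a2)
      · change (u0⁻¹ * u) • x = x
        rw [mul_smul, a3, ← e0, inv_smul_smul]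
    · rintro ⟨b, ⟨⟨b1, b2⟩, b3⟩, rfl⟩
      refine ⟨A.mul_mem hu0 b1, ?_, ?_⟩
      · exact mem_centralizer_singleton_iff.1 (mul_mem (mem_centralizer_singleton_iff.2 c0) b2)
      · change (u0 * b) • x = y
        rw [mul_smul, show b • x = x from b3, e0]
  have hcard : S.ncard ∣ Nat.card A := by
    rw [hS, Set.ncard_image_of_injective _ (mul_right_injective u0), ← Nat.card_coe_set_eq]
    exact card_dvd_of_le (inf_le_left.trans inf_le_left : B ≤ A)
  have h2 := cnt (S := S) (Set.toFinite _) (f := fun s => g * s * g⁻¹) (k := 1) (fun s hs => by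
    obtain ⟨a1, a2, a3⟩ := hs
    refine ⟨hA s a1, ?_, ?_⟩
    · calc g * s * g⁻¹ * g ^ r = g * (s * g ^ r) * g⁻¹ := by group
        _ = g ^ r * (g * s * g⁻¹) := by rw [a2]; group
    · have : g⁻¹ • x = x := by rw [inv_smul_eq_iff, hx]
      rw [mul_smul, mul_smul, this, a3, hy]) hr
    (fun s hs => by rw [iter_conj, pow_one, ← hs.2.1]; simp)
  by_contra hne
  have h3 : {s | s ∈ S ∧ g * s * g⁻¹ = s} = ∅ := Set.eq_empty_of_forall_notMem fun s hs =>
    hne ⟨s, hs.1.1, (mul_inv_eq_iff_eq_mul.1 hs.2).symm, hs.1.2.2⟩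
  rw [h3, Set.ncard_empty] at h2
  have h4 : r ∣ Nat.card A := ((Nat.modEq_zero_iff_dvd).1 h2).trans hcard
  exact hr.one_lt.ne' (Nat.eq_one_of_dvd_coprimes hc (dvd_mul_right r m) h4)

end act

theorem mem_zpowers_sq {w : G} (h : Odd (orderOf w)) : ∃ k : ℕ, (w * w) ^ k = w := by
  obtain ⟨m, hm⟩ := h
  refine ⟨m + 1, ?_⟩
  rw [← pow_two, ← pow_mul, show 2 * (m + 1) = orderOf w + 1 by omega, pow_succ,
    pow_orderOf_eq_one, one_mul]

theorem odd_of_mem {A : Subgroup G} (h : Odd (Nat.card A)) {w : G} (hw : w ∈ A) :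
    Odd (orderOf w) := h.of_dvd_nat (A.orderOf_dvd_natCard hw)

/-- decomposition under an involution acting on a group of odd order -/
theorem decomp {A : Subgroup G} (h : ∀ u ∈ A, Odd (orderOf u)) {t : G} (ht : t * t = 1)
    (hn : ∀ u ∈ A, t * u * t⁻¹ ∈ A) {u : G} (hu : u ∈ A) :
    ∃ s ∈ A, ∃ c ∈ A, t * s * t = s⁻¹ ∧ c * t = t * c ∧ u = s * c := by
  have ti : t⁻¹ = t := inv_eq_of_mul_eq_one_right ht
  have hw : u * (t * u⁻¹ * t⁻¹) ∈ A := A.mul_mem hu (hn _ (A.inv_mem hu))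
  set w := u * (t * u⁻¹ * t⁻¹) with hwd
  obtain ⟨k, hk⟩ := mem_zpowers_sq (h w hw)
  have h1 : t * w * t⁻¹ = w⁻¹ := by
    rw [hwd]
    calc t * (u * (t * u⁻¹ * t⁻¹)) * t⁻¹ = t * u * t * u⁻¹ * (t * t)⁻¹ := by group
      _ = t * u * t⁻¹ * u⁻¹ := by rw [ht, ti]; simp
      _ = _ := by group
  have h2 : t * w ^ k * t⁻¹ = (w ^ k)⁻¹ := by rw [← conj_pow, h1, inv_pow]
  have h3 : w ^ k * w ^ k = w := by rw [← (Commute.refl w).mul_pow, hk]
  refine ⟨w ^ k, pow_mem hw k, (w ^ k)⁻¹ * u, A.mul_mem (A.inv_mem (pow_mem hw k)) hu,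
    by rw [← h2, ti], ?_, by simp⟩
  generalize w ^ k = s at h2 h3
  have h4 : t * s⁻¹ = s * t := by
    calc t * s⁻¹ = (t * s * t⁻¹)⁻¹ * t := by group
      _ = s * t := by rw [h2, inv_inv]
  calc s⁻¹ * u * t = s⁻¹ * (u * (t * u⁻¹ * t⁻¹)) * (t * u) := by group
    _ = s * t * u := by rw [← hwd, ← h3]; group
    _ = t * (s⁻¹ * u) := by rw [← h4]; group

/-- an element of odd order that is inverted by an element of odd order is trivial -/
theorem eq_one_of_inv {y v : G} (hy : Odd (orderOf y)) (hv : Odd (orderOf v))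
    (h : y⁻¹ * v * y = v⁻¹) : v = 1 := by
  obtain ⟨k, hk⟩ := mem_zpowers_sq hy
  obtain ⟨l, hl⟩ := mem_zpowers_sq hv
  have h1 : Commute (y * y) v := by
    have h2 : y⁻¹ * v⁻¹ * y = v := by
      calc y⁻¹ * v⁻¹ * y = (y⁻¹ * v * y)⁻¹ := by group
        _ = v := by rw [h, inv_inv]
    calc y * y * v = y * y * (y⁻¹ * v⁻¹ * y) := by rw [h2]
      _ = y * y * (y⁻¹ * (y⁻¹ * v * y) * y) := by rw [h]
      _ = v * (y * y) := by group
  have h2 : Commute y v := hk ▸ h1.pow_left k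
  have h3 : v * v = 1 := by
    have : y⁻¹ * v * y = v := by rw [mul_assoc, ← h2.eq]; simp
    rw [this] at h
    exact mul_eq_one_iff_eq_inv.2 h
  rw [← hl, h3, one_pow]

end H15.NR
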