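import Cfsg.Agent.Lib.HK.Bas
import Cfsg.Agent.Lib.HK.NR1a

/-! The non-regular case: symmetry of the root groups, the elements of `R`, lines. -/

set_option autoImplicit false
set_option linter.unusedSectionVars false

namespace H15.NR

open MulAction Subgroup H51.HK
open scoped commutatorElement

variable {G Ω : Type*} [Group G] [MulAction G Ω] [Finite G] [Finite Ω]

variable {U : Ω → Subgroup G}

section cb
variable (h : Cb U)
include h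

theorem fixU {c : Ω} {u : G} (hu : u ∈ U c) : u • c = c := h.ld.fix c trivial u hu

theorem cjU (g : G) {c : Ω} {u : G} (hu : u ∈ U c) : g * u * g⁻¹ ∈ U (g • c) :=
  h.ld.cj g trivial c trivial u hu

theorem cjU' {g : G} {c : Ω} (hg : g • c = c) {u : G} (hu : u ∈ U c) : g * u * g⁻¹ ∈ U c := by
  have := cjU h g hu; rwa [hg] at this

theorem trU {c x y : Ω} (hx : x ≠ c) (hy : y ≠ c) : ∃ u ∈ U c, u • x = y :=
  h.ld.tr c trivial x trivial y trivial hx hy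

theorem nilU (c : Ω) : Group.IsNilpotent (U c) := h.ld.nil c trivial

theorem oddU {c : Ω} {u : G} (hu : u ∈ U c) : Odd (orderOf u) := odd_of_mem (h.ld.odd c trivial) hu

theorem cjZ (g : G) {c : Ω} {j : ℕ} {x : G} (hx : x ∈ ZS (U c) j) :
    g * x * g⁻¹ ∈ ZS (U (g • c)) j :=
  ZS_conj (fun _ hu => cjU h g hu) (fun u hu => by simpa using cjU h g⁻¹ hu) j x hx

theorem cjZ' {g : G} {c : Ω} (hg : g • c = c) {j : ℕ} {x : G} (hx : x ∈ ZS (U c) j) :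
    g * x * g⁻¹ ∈ ZS (U c) j := by
  have := cjZ h g hx; rwa [hg] at this

theorem smul_ne {c x : Ω} {u : G} (hu : u ∈ U c) (hx : x ≠ c) : u • x ≠ c := fun e =>
  hx (by rw [← inv_smul_smul u x, e, inv_smul_eq_iff, fixU h hu])

theorem zsr {a c : Ω} {z : G} (hz : z ∈ U a) (hc : ∀ u ∈ U a, z * u = u * z) (hca : c ≠ a)
    (e : z • c = c) : z = 1 := by
  refine h.faith z fun x => ?_
  by_cases hx : x = a
  · rw [hx, fixU h hz]
  · obtain ⟨u, hu, rfl⟩ := trU h hca hx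
    rw [← mul_smul, hc u hu, mul_smul, e]

theorem exZ {p : ℕ} (hp : p.Prime) {d : Ω} (hd : p ∣ Nat.card (U d)) {y : G} (hy : PE p y)
    (e : y • d = d) : ∃ z ∈ U d, z * y = y * z ∧ PE p z ∧ ∀ c, z • c = c ↔ c = d := by
  obtain ⟨Q, hQ⟩ := exists_Op (nilU h d) hp
  obtain ⟨z0, a1, a2, a3, a4⟩ := exists_central (nilU h d) hp hd
  have hS : ∀ s, s ∈ Q ⊓ centralizer (U d : Set G) ↔
      (s ∈ U d ∧ PE p s) ∧ ∀ u ∈ U d, u * s = s * u := fun s => by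
    rw [mem_inf, hQ, mem_centralizer_iff]; rfl
  obtain ⟨z, b1, b2, b3⟩ := exists_fix_conj (S := Q ⊓ centralizer (U d : Set G)) hp
    ((a3.dvd hp a2).trans (Subgroup.orderOf_dvd_natCard _
      ((hS z0).2 ⟨⟨a1, a3⟩, fun u hu => (a4 u hu).symm⟩))) hy (fun s hs => by
      rw [hS] at hs ⊢
      refine ⟨⟨cjU' h e hs.1.1, hs.1.2.conj y⟩, fun u hu => ?_⟩
      have e' : y⁻¹ • d = d := by rw [inv_smul_eq_iff, e]
      have := hs.2 _ (cjU' h e' hu)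
      calc u * (y * s * y⁻¹) = y * (y⁻¹ * u * y⁻¹⁻¹ * s) * y⁻¹ := by group
        _ = y * s * y⁻¹ * u := by rw [this]; group)
  rw [hS] at b1
  refine ⟨z, b1.1.1, b3, b1.1.2, fun c => ⟨fun ec => ?_, fun ec => ec ▸ fixU h b1.1.1⟩⟩
  by_contra hne
  exact b2 (zsr h b1.1.1 (fun u hu => (b1.2 u hu).symm) hne ec)

/-- the centraliser of a `p`-element is transitive on its fixed points -/
theorem trC {p : ℕ} (hp : p.Prime) {a : Ω} (hd : p ∣ Nat.card (U a)) {y : G} (hy : PE p y)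
    {c d : Ω} (ec : y • c = c) (ed : y • d = d) : ∃ k, k * y = y * k ∧ k • c = d := by
  by_contra hne
  let O : Set Ω := {x | ∃ k, k * y = y * k ∧ k • c = x}
  have hO : ∀ z, z * y = y * z → ∀ s ∈ O, z • s ∈ O := by
    rintro z hz s ⟨k, hk, rfl⟩
    exact ⟨z * k, by rw [mul_assoc, hk, ← mul_assoc, hz, mul_assoc], mul_smul _ _ _⟩
  obtain ⟨z, -, a1, a2, a3⟩ := exZ h hp (h.card_U a c ▸ hd) hy ec
  obtain ⟨w, -, b1, b2, b3⟩ := exZ h hp (h.card_U a d ▸ hd) hy ed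
  have h1 := cnt_smul hp a2 (hO z a1)
  have h2 := cnt_smul hp b2 (hO w b1)
  have e1 : {s | s ∈ O ∧ z • s = s} = {c} := by
    ext s
    simp only [Set.mem_ofPred_eq, Set.mem_singleton_iff, a3]
    exact ⟨fun hs => hs.2, fun hs => ⟨hs ▸ ⟨1, by simp, one_smul _ _⟩, hs⟩⟩
  have e2 : {s | s ∈ O ∧ w • s = s} = ∅ := Set.eq_empty_of_forall_notMem fun s hs => by
    have := (b3 s).1 hs.2
    subst this
    exact hne hs.1
  rw [e1, Set.ncard_singleton] at h1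
  rw [e2, Set.ncard_empty] at h2
  exact hp.one_lt.ne' (Nat.dvd_one.1 ((Nat.modEq_iff_dvd' zero_le_one).1 (h2.symm.trans h1)))

theorem symZ {p : ℕ} (hp : p.Prime) {c d : Ω} {j : ℕ} {x : G} (hx : x ∈ ZS (U c) j) (hy : PE p x)
    (e : x • d = d) : x ∈ ZS (U d) j := by
  by_cases h1 : x = 1
  · rw [h1]; exact one_mem _
  have hU := ZS_le _ _ hx
  obtain ⟨k, a1, rfl⟩ := trC h hp ((hy.dvd hp h1).trans ((U c).orderOf_dvd_natCard hU)) hy
    (fixU h hU) e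
  have := cjZ h k hx
  rwa [a1, mul_inv_cancel_right] at this

theorem sym {c d : Ω} {x : G} (hx : x ∈ U c) (e : x • d = d) : x ∈ U d := by
  refine mem_of_PE fun y hy r hr hy' => ?_
  obtain ⟨n, hn⟩ := ZS_top (nilU h c)
  exact ZS_le _ _ (symZ h hr (hn y (zpowers_le.2 hx hy)) hy'
    ((zpowers_le.2 (show x ∈ stabilizer G d from e) : zpowers x ≤ _) hy))

omit h in
theorem mem_PP {a b : Ω} {x : G} : x ∈ PP U a b ↔ x ∈ U a ∧ x • b = b := Iff.rfl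

omit h in
theorem mem_Ln {a b c : Ω} : c ∈ Ln U a b ↔ ∀ y ∈ U a, y • b = b → y • c = c :=
  ⟨fun hc y a1 a2 => hc y ⟨a1, a2⟩, fun hc y hy => hc y hy.1 hy.2⟩

theorem Ln_a (a b : Ω) : a ∈ Ln U a b := mem_Ln.2 fun _ hy _ => fixU h hy

omit h in
theorem Ln_b (a b : Ω) : b ∈ Ln U a b := mem_Ln.2 fun _ _ hy => hy

theorem ker {a b c : Ω} (hc : c ∈ Ln U a b) {u : G} :
    u ∈ PP U a b ↔ u ∈ U c ∧ Tr (Ln U a b) u :=
  ⟨fun hu => ⟨sym h hu.1 (hc u hu), fun _ hx => hx u hu⟩,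
    fun hu => ⟨sym h hu.1 (hu.2 a (Ln_a h a b)), hu.2 b (Ln_b a b)⟩⟩

omit h in
theorem norm_of {P : Subgroup G} {g : G} (hg : ∀ x ∈ P, g * x * g⁻¹ ∈ P) :
    g ∈ normalizer (P : Set G) :=
  mem_normalizer_fintype hg

omit h in
theorem norm_cj {P : Subgroup G} {g x : G} (hg : g ∈ normalizer (P : Set G)) (hx : x ∈ P) :
    g * x * g⁻¹ ∈ P := (mem_normalizer_iff.1 hg x).1 hx

omit h in
theorem Ln_smul {a b c : Ω} {g : G} (hg : g ∈ normalizer (PP U a b : Set G)) (hc : c ∈ Ln U a b) :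
    g • c ∈ Ln U a b := fun y hy => by
  have := hc _ (norm_cj (inv_mem hg) hy)
  rw [inv_inv, mul_smul, mul_smul, inv_smul_eq_iff] at this
  exact this

/-- an element that preserves the line normalises `P` -/
theorem norm_of_Ln {a b : Ω} {g : G} (hg : ∀ c ∈ Ln U a b, g⁻¹ • c ∈ Ln U a b) :
    g ∈ normalizer (PP U a b : Set G) := norm_of fun x hx => by
  have h1 : Tr (Ln U a b) (g * x * g⁻¹) := fun c hc => by
    rw [mul_smul, mul_smul, hg c hc x hx, smul_inv_smul]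
  exact ⟨sym h (cjU h g hx.1) (h1 a (Ln_a h a b)), h1 b (Ln_b a b)⟩

theorem nP1 {a b : Ω} {g : G} (hg : g • a = a ∧ g • b = b ∨ g • a = b ∧ g • b = a) {x : G}
    (xa : x • a = a) (xb : x • b = b) : (g * x * g⁻¹) • a = a ∧ (g * x * g⁻¹) • b = b := by
  simp only [mul_smul]
  rcases hg with ⟨ha, hb⟩ | ⟨ha, hb⟩
  · rw [inv_smul_eq_iff.2 ha.symm, inv_smul_eq_iff.2 hb.symm, xa, xb, ha, hb]; simp
  · rw [inv_smul_eq_iff.2 ha.symm, inv_smul_eq_iff.2 hb.symm, xa, xb, ha, hb]; simp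

theorem nP2 {a b : Ω} {g : G} (hg : g • a = a ∧ g • b = b ∨ g • a = b ∧ g • b = a) :
    g ∈ normalizer (PP U a b : Set G) := norm_of fun x hx => by
  obtain ⟨a1, a2⟩ := nP1 h hg (fixU h hx.1) hx.2
  exact ⟨sym h (cjU h g hx.1) a1, a2⟩

theorem cop {a : Ω} {g : G} (hg : (orderOf g).Coprime (Nat.card (U a))) :
    LD (normalizer ({g} : Set G)) (Fx Ω {g}) (UY U {g}) where
  inv k hk x hx := by
    rw [mem_Fx1] at hx ⊢
    rw [← mul_smul, ← mem_norm1.1 hk, mul_smul, hx]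
  le c _ u hu := mem_norm1.2 (mem_UY1.1 hu).2
  fix c _ u hu := fixU h (mem_UY1.1 hu).1
  cj k hk c _ u hu := by
    rw [mem_UY1] at hu ⊢
    refine ⟨cjU h k hu.1, ?_⟩
    have := mem_norm1.1 hk
    exact ((show Commute k g from this).mul_left hu.2).mul_left (Commute.inv_left this)
  tr c hc x hx y hy xc yc := by
    obtain ⟨u, a1, a2, a3⟩ := cop_tr (trU h xc yc) (orderOf g) g (orderOf_pos g).ne'
      (pow_orderOf_eq_one g) (h.card_U a c ▸ hg) (fun u hu => cjU' h (mem_Fx1.1 hc) hu)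
      (mem_Fx1.1 hx) (mem_Fx1.1 hy)
    exact ⟨u, mem_UY1.2 ⟨a1, a2⟩, a3⟩
  nil c _ := by
    have := nilU h c
    exact Group.nilpotent_of_mulEquiv (subgroupOfEquivOfLe (inf_le_left : UY U {g} c ≤ U c))
  odd c _ := (h.ld.odd c trivial).of_dvd_nat (card_dvd_of_le inf_le_left)

theorem cop2 (a : Ω) {t : G} (ht : Inv t) : (orderOf t).Coprime (Nat.card (U a)) := by
  rw [orderOf_eq_prime (p := 2) (by rw [pow_two, ht.1]) ht.2]
  exact (Nat.coprime_two_left).2 (h.ld.odd a trivial)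

theorem Fx_ne {g : G} (hg : g ≠ 1) : Fx Ω {g} ≠ Set.univ := fun e =>
  hg (h.faith g fun x => mem_Fx1.1 (e ▸ Set.mem_univ x))

end cb

theorem three_le {S : Set Ω} {a b c : Ω} (ha : a ∈ S) (hb : b ∈ S) (hc : c ∈ S) (ab : a ≠ b)
    (ac : a ≠ c) (bc : b ≠ c) : 3 ≤ S.ncard := by
  rw [← Set.ncard_eq_three.2 ⟨a, b, c, ab, ac, bc, rfl⟩]
  exact Set.ncard_le_ncard (by rintro x (rfl | rfl | rfl) <;> assumption)

/-- the choice of `p` and of the level `i` -/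
structure Ctx (U : Ω → Subgroup G) (p i : ℕ) : Prop where
  cy : Cy U
  pr : p.Prime
  sr : ∀ a b : Ω, b ≠ a → ∀ v ∈ ZS (U a) i, v • b = b → v = 1
  ex : ∀ a b : Ω, b ≠ a → ∃ x ∈ ZS (U a) (i + 1), x • b = b ∧ x ^ p = 1 ∧ x ≠ 1

theorem exists_ctx (h : Cy U) : ∃ p i, Ctx U p i := by
  classical
  have hb : Cb U := h.toCb
  have hex : ∃ j, ∃ a b : Ω, b ≠ a ∧ ∃ v ∈ ZS (U a) j, v • b = b ∧ v ≠ 1 := by
    have : Nontrivial Ω := Finite.one_lt_card_iff_nontrivial.1 (by have := hb.three; omega)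
    obtain ⟨a, b, hab⟩ := exists_pair_ne Ω
    obtain ⟨u, a1, a2, a3⟩ := h.nreg b a hab
    obtain ⟨n, hn⟩ := ZS_top (nilU hb b)
    exact ⟨n, b, a, hab, u, hn u a1, a2, a3⟩
  obtain ⟨a, b, hab, v, a1, a2, a3⟩ := Nat.find_spec hex
  rcases e : Nat.find hex with _ | i
  · rw [e, ZS_zero] at a1; exact absurd a1 a3
  rw [e] at a1
  obtain ⟨p, hp, m, hm⟩ := Nat.exists_prime_and_dvd (mt orderOf_eq_one_iff.1 a3)
  have hm0 : m ≠ 0 := by rintro rfl; exact (orderOf_pos v).ne' hm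
  refine ⟨p, i, h, hp, fun c d hcd w b1 b2 => ?_, fun c d hcd => ?_⟩
  · by_contra b3
    exact Nat.find_min hex (m := i) (by omega) ⟨c, d, hcd, w, b1, b2, b3⟩
  · obtain ⟨g, rfl, rfl⟩ := hb.pair hab.symm hcd.symm
    refine ⟨g * v ^ m * g⁻¹, cjZ hb g (pow_mem a1 m), ?_, ?_, fun e1 => ?_⟩
    · rw [mul_smul, inv_smul_smul, mul_smul, show v ^ m • b = b from (stabilizer G b).pow_mem a2 m]
    · rw [conj_pow, ← pow_mul, mul_comm m p, ← hm, pow_orderOf_eq_one]; simp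
    · have e2 : v ^ m = 1 := by simpa [mul_inv_eq_one] using e1
      have := Nat.le_of_dvd (Nat.pos_of_ne_zero hm0) (orderOf_dvd_of_pow_eq_one e2)
      rw [hm] at this
      nlinarith [hp.two_le, Nat.pos_of_ne_zero hm0]

namespace Ctx
variable {p i : ℕ} (h : Ctx U p i)
include h

theorem cb : Cb U := h.cy.toCb

/-- elements of `Z_{i+1}(U a)` with a second fixed point are central in `P` -/
theorem cen {a b : Ω} (hab : b ≠ a) {x y : G} (hx : x ∈ ZS (U a) (i + 1)) (_xb : x • b = b)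
    (hy : y ∈ U a) (e : ⁅y, x⁆ • b = b) : y * x = x * y :=
  commutatorElement_eq_one_iff_mul_comm.1 (h.sr a b hab _ (ZS_comm hx hy) e)

omit h in
theorem comm_fix {x y : G} {b : Ω} (xb : x • b = b) (yb : y • b = b) : ⁅y, x⁆ • b = b := by
  have hx : x ∈ stabilizer G b := xb
  have hy : y ∈ stabilizer G b := yb
  exact mul_mem (mul_mem (mul_mem hy hx) (inv_mem hy)) (inv_mem hx)

/-- the group `R` -/
def RR (a b : Ω) (hab : b ≠ a) : Subgroup G where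
  carrier := {x | x ∈ ZS (U a) (i + 1) ∧ x • b = b ∧ x ^ p = 1}
  one_mem' := ⟨one_mem _, one_smul _ _, one_pow _⟩
  mul_mem' := by
    rintro x y ⟨a1, a2, a3⟩ ⟨b1, b2, b3⟩
    refine ⟨mul_mem a1 b1, by rw [mul_smul, b2, a2], ?_⟩
    rw [(show Commute x y from h.cen hab b1 b2 (ZS_le _ _ a1) (comm_fix b2 a2)).mul_pow, a3, b3,
      mul_one]
  inv_mem' := by
    rintro x ⟨a1, a2, a3⟩
    exact ⟨inv_mem a1, by rw [inv_smul_eq_iff, a2], by rw [inv_pow, a3, inv_one]⟩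

theorem mem_RR {a b : Ω} {hab : b ≠ a} {x : G} :
    x ∈ h.RR a b hab ↔ x ∈ ZS (U a) (i + 1) ∧ x • b = b ∧ x ^ p = 1 := Iff.rfl

theorem cmt {a c d : Ω} {x u : G} (hx : x ∈ ZS (U a) (i + 1)) (hp : x ^ p = 1) (xc : x • c = c)
    (xd : x • d = d) (dc : d ≠ c) (hu : u ∈ U c) (e : x • u • d = u • d) : u * x = x * u := by
  have h1 := symZ h.cb h.pr hx (PE.of_pow hp) xc
  have h2 : u⁻¹ * x = x * u⁻¹ := h.cen dc h1 xd (inv_mem hu) (by
    rw [commutatorElement_def, inv_inv, mul_smul, mul_smul, mul_smul, inv_smul_eq_iff.2 xd.symm, e,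
      inv_smul_smul])
  simpa using (show Commute u⁻¹ x from h2).inv_left.eq

theorem ldx {a : Ω} {x : G} (hx : x ∈ ZS (U a) (i + 1)) (hp : x ^ p = 1) :
    LD (normalizer ({x} : Set G)) (Fx Ω {x}) (UY U {x}) where
  inv k hk y hy := by
    rw [mem_Fx1] at hy ⊢
    rw [← mul_smul, ← mem_norm1.1 hk, mul_smul, hy]
  le c _ u hu := mem_norm1.2 (mem_UY1.1 hu).2
  fix c _ u hu := fixU h.cb (mem_UY1.1 hu).1
  cj k hk c _ u hu := by
    rw [mem_UY1] at hu ⊢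
    refine ⟨cjU h.cb k hu.1, ?_⟩
    have := mem_norm1.1 hk
    exact ((show Commute k x from this).mul_left hu.2).mul_left (Commute.inv_left this)
  tr c hc d hd y hy dc yc := by
    obtain ⟨u, a1, rfl⟩ := trU h.cb dc yc
    exact ⟨u, mem_UY1.2 ⟨a1, h.cmt hx hp (mem_Fx1.1 hc) (mem_Fx1.1 hd) dc a1 (mem_Fx1.1 hy)⟩, rfl⟩
  nil c _ := by
    have := nilU h.cb c
    exact Group.nilpotent_of_mulEquiv (subgroupOfEquivOfLe (inf_le_left : UY U {x} c ≤ U c))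
  odd c _ := (h.cb.ld.odd c trivial).of_dvd_nat (card_dvd_of_le inf_le_left)

variable {a b : Ω} {hab : b ≠ a}

theorem RU {x : G} (hx : x ∈ h.RR a b hab) : x ∈ U a := ZS_le _ _ hx.1

theorem three_x {x : G} (hx : x ∈ h.RR a b hab) (h1 : x ≠ 1) : 3 ≤ (Fx Ω {x}).ncard := by
  have hU := h.RU hx
  have hp := PE.of_pow hx.2.2
  obtain ⟨z, a0, a1, -, a3⟩ := exZ h.cb h.pr
    ((hp.dvd h.pr h1).trans ((U a).orderOf_dvd_natCard hU)) hp (fixU h.cb hU)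
  refine three_le (a := a) (b := b) (c := z • b) (mem_Fx1.2 (fixU h.cb hU)) (mem_Fx1.2 hx.2.1)
    (mem_Fx1.2 ?_) hab.symm (smul_ne h.cb a0 hab).symm fun e => hab ((a3 b).1 e.symm)
  rw [← mul_smul, ← a1, mul_smul, hx.2.1]

theorem fx {x : G} (hx : x ∈ h.RR a b hab) (h1 : x ≠ 1) : Fx Ω {x} = Ln U a b := by
  have hU := h.RU hx
  have hr := (h.cy.ih _ _ _ (h.ldx hx.1 hx.2.2) (Fx_ne h.cb h1) (h.three_x hx h1)).1
  ext c
  refine ⟨fun hc => mem_Ln.2 fun y a1 a2 => ?_, fun hc => mem_Fx1.2 (hc x ⟨hU, hx.2.1⟩)⟩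
  exact hr a (mem_Fx1.2 (fixU h.cb hU)) y
    (mem_UY1.2 ⟨a1, h.cen hab hx.1 hx.2.1 a1 (comm_fix hx.2.1 a2)⟩) b (mem_Fx1.2 hx.2.1) hab a2 c hc

theorem exR (hab : b ≠ a) : ∃ x ∈ h.RR a b hab, x ≠ 1 := by
  obtain ⟨x, a1, a2, a3, a4⟩ := h.ex a b hab
  exact ⟨x, ⟨a1, a2, a3⟩, a4⟩

theorem three (hab : b ≠ a) : 3 ≤ (Ln U a b).ncard := by
  obtain ⟨x, a1, a2⟩ := h.exR hab
  rw [← h.fx a1 a2]; exact h.three_x a1 a2

theorem nu (hab : b ≠ a) : Ln U a b ≠ Set.univ := by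
  obtain ⟨x, a1, a2⟩ := h.exR hab
  rw [← h.fx a1 a2]; exact Fx_ne h.cb a2

/-- two points lie on a unique line -/
theorem Ln_eq (hab : b ≠ a) {c d : Ω} (hc : c ∈ Ln U a b) (hd : d ∈ Ln U a b) (hcd : d ≠ c) :
    Ln U c d = Ln U a b := by
  obtain ⟨x, a1, a2⟩ := h.exR hab
  rw [← h.fx a1 a2] at hc hd ⊢
  exact (h.fx (hab := hcd) ⟨symZ h.cb h.pr a1.1 (PE.of_pow a1.2.2) (mem_Fx1.1 hc), mem_Fx1.1 hd,
    a1.2.2⟩ a2).symm

theorem Ln_card (hab : b ≠ a) {c d : Ω} (hcd : d ≠ c) : (Ln U c d).ncard = (Ln U a b).ncard := by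
  obtain ⟨x, a1, a2⟩ := h.exR hab
  obtain ⟨g, rfl, rfl⟩ := h.cb.pair hab.symm hcd.symm
  rw [← h.fx a1 a2, ← h.fx (hab := hcd) (x := g * x * g⁻¹) ⟨cjZ h.cb g a1.1, by
    rw [mul_smul, inv_smul_smul, mul_smul, a1.2.1], by rw [conj_pow, a1.2.2]; simp⟩
    (by simpa [mul_inv_eq_one] using a2)]
  exact (Fx_ncard_conj (isConj_iff.2 ⟨g, rfl⟩)).symm

theorem cY {x : G} (hx : x ∈ h.RR a b hab) (h1 : x ≠ 1) {c : Ω} (hc : c ∈ Ln U a b) {u : G} :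
    u ∈ YY U a b c ↔ u ∈ U c ∧ u * x = x * u := by
  constructor
  · rintro ⟨a1, a2⟩
    refine ⟨a1, ?_⟩
    obtain ⟨d, hd, dc⟩ : ∃ d ∈ Ln U a b, d ≠ c := by
      by_cases e : c = a
      · exact ⟨b, Ln_b a b, e ▸ hab⟩
      · exact ⟨a, Ln_a h.cb a b, Ne.symm e⟩
    have hd' := Ln_smul a2 hd
    rw [← h.fx hx h1] at hc hd hd'
    exact h.cmt hx.1 hx.2.2 (mem_Fx1.1 hc) (mem_Fx1.1 hd) dc a1 (mem_Fx1.1 hd')
  · rintro ⟨a1, a2⟩
    refine ⟨a1, norm_of_Ln h.cb fun d hd => ?_⟩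
    rw [← h.fx hx h1, mem_Fx1] at hd ⊢
    rw [← mul_smul, ← (show Commute u x from a2).inv_left.eq, mul_smul, hd]

theorem ld (hab : b ≠ a) : LD (normalizer (PP U a b : Set G)) (Ln U a b) (YY U a b) where
  inv _ hk _ hy := Ln_smul hk hy
  le _ _ _ hu := hu.2
  fix _ _ _ hu := fixU h.cb hu.1
  cj k hk _ _ _ hu := ⟨cjU h.cb k hu.1, Subgroup.mul_mem _ (Subgroup.mul_mem _ hk hu.2) (Subgroup.inv_mem _ hk)⟩
  tr c hc d hd y hy dc yc := by
    obtain ⟨x, a1, a2⟩ := h.exR hab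
    have hc' := hc
    rw [← h.fx a1 a2] at hc' hd hy
    obtain ⟨u, b1, b2⟩ := (h.ldx a1.1 a1.2.2).tr c hc' d hd y hy dc yc
    exact ⟨u, (h.cY a1 a2 hc).2 (mem_UY1.1 b1), b2⟩
  nil c _ := by
    have := nilU h.cb c
    exact Group.nilpotent_of_mulEquiv (subgroupOfEquivOfLe (inf_le_left : YY U a b c ≤ U c))
  odd c _ := (h.cb.ld.odd c trivial).of_dvd_nat (card_dvd_of_le inf_le_left)

/-- `Y` is the stabiliser of the line in `U a` -/
theorem memY (hab : b ≠ a) {u : G} (hu : u ∈ U a) : u ∈ YY U a b a ↔ u • b ∈ Ln U a b := by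
  refine ⟨fun hy => Ln_smul hy.2 (Ln_b a b), fun hy => ?_⟩
  obtain ⟨x, a1, a2⟩ := h.exR hab
  rw [← h.fx a1 a2] at hy
  exact (h.cY a1 a2 (Ln_a h.cb a b)).2
    ⟨hu, h.cmt a1.1 a1.2.2 (fixU h.cb (h.RU a1)) a1.2.1 hab hu (mem_Fx1.1 hy)⟩

end Ctx

end H15.NR
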