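import Cfsg.Agent.Lib.HK.LL

/-! The affine lines of the non-regular case: the facts about the action that are used. -/

set_option autoImplicit false

namespace H51.HK.NRA

open MulAction Subgroup Matrix H69
open scoped MatrixGroups Classical commutatorElement

variable {G Ω : Type*} [Group G] [MulAction G Ω]

/-- `g` stabilises the pair `{a, b}` -/
def Pr (a b : Ω) (g : G) : Prop := g • a = a ∧ g • b = b ∨ g • a = b ∧ g • b = a

structure AX (N : Subgroup G) (Δ : Set Ω) (V : Ω → Subgroup G) (a b : Ω) : Prop where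
  lin : ∀ g ∈ Lt Δ V, g • a = a → g • b = b → Tr Δ g
  cyc : ∀ K : Subgroup G, K ≤ V a → (∀ k ∈ K, k • b = b → k = 1) → IsCyclic K
  ew : ∃ w ∈ Lt Δ V, w • a = b ∧ w • b = a ∧ ∀ x ∈ Δ, w • x ≠ x
  ab : ∀ g ∈ N, ∀ g' ∈ N, Pr a b g → Pr a b g' → Tr Δ ⁅g, g'⁆
  un : ∀ g ∈ N, ∀ g' ∈ N, g • a = b → g • b = a → g' • a = b → g' • b = a → Tr Δ (g * g) →
    Tr Δ (g' * g') → (∀ x ∈ Δ, g • x ≠ x) → (∀ x ∈ Δ, g' • x ≠ x) → ∀ x ∈ Δ, g • x = g' • x
  sq : ∀ j ∈ N, j • a = a → j • b = b → Tr Δ (j * j) → ¬ Tr Δ j →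
    {x | x ∈ Δ ∧ j • x = x}.ncard ^ 2 = Δ.ncard
  two : ∃ k, Δ.ncard = 2 ^ k
  pp : Δ.ncard = 4 ∨ ∀ l : ℕ, l.Prime →
    (∀ z ∈ Δ, z ≠ a → ∃ u ∈ V a, u • b = z ∧ ∃ k, Tr Δ (u ^ l ^ k)) → ∃ k, Δ.ncard = l ^ k + 1

variable {N : Subgroup G} {Δ : Set Ω} {V : Ω → Subgroup G} {a b : Ω}

theorem tr_comm (hd : LD N Δ V) {g g' : G} (hg : g ∈ N) (hg' : g' ∈ N)
    (h : ∀ x ∈ Δ, g • g' • x = g' • g • x) : Tr Δ ⁅g, g'⁆ := by
  intro x hx
  have := h _ (hd.inv _ (N.inv_mem hg) _ (hd.inv _ (N.inv_mem hg') x hx))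
  rw [commutatorElement_def, mul_smul, mul_smul, mul_smul, this, smul_inv_smul, smul_inv_smul]

theorem aut_comm {F : Type} [Field F] [Finite F] (σ τ : F ≃+* F) (x : F) : σ (τ x) = τ (σ x) := by
  obtain ⟨g, hg⟩ := IsCyclic.exists_generator (α := Fˣ)
  have key : ∀ ρ : F ≃+* F, ∃ i : ℤ, ρ (g : F) = (g : F) ^ i := fun ρ => by
    obtain ⟨i, hi⟩ := hg (Units.mk0 (ρ g) (by simp))
    exact ⟨i, by simpa using (congrArg Units.val hi).symm⟩
  obtain ⟨i, hi⟩ := key σ
  obtain ⟨j, hj⟩ := key τ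
  by_cases hx : x = 0
  · simp [hx]
  obtain ⟨k, hk⟩ := hg (Units.mk0 x hx)
  have : x = (g : F) ^ k := by simpa using (congrArg Units.val hk).symm
  rw [this]
  simp only [map_zpow₀, hi, hj, ← _root_.zpow_mul]
  congr 1
  ring

theorem card_fix {F : Type} [Field F] [Fintype F] {σ : F ≃+* F} (h2 : ∀ x, σ (σ x) = x) {θ : F}
    (hθ : σ θ ≠ θ) : {y : F | σ y = y}.ncard ^ 2 = Fintype.card F := by
  have hne : θ - σ θ ≠ 0 := sub_ne_zero.2 hθ.symm
  have hne' : σ θ - θ ≠ 0 := sub_ne_zero.2 hθ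
  let f : {y : F | σ y = y} × {y : F | σ y = y} → F := fun z => z.1.1 + z.2.1 * θ
  have hf : Function.Bijective f := by
    constructor
    · rintro ⟨⟨u, hu⟩, ⟨v, hv⟩⟩ ⟨⟨u', hu'⟩, ⟨v', hv'⟩⟩ e
      simp only [f] at e
      simp only [Set.mem_ofPred_eq] at hu hv hu' hv'
      have e' := congrArg σ e
      simp only [map_add, map_mul, hu, hv, hu', hv'] at e'
      have h1 : (v - v') * (θ - σ θ) = 0 := by linear_combination e - e'
      have h3 : v = v' := sub_eq_zero.1 ((mul_eq_zero.1 h1).resolve_right hne)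
      subst h3
      have h4 : u = u' := by linear_combination e
      subst h4
      rfl
    · intro x
      have hv : σ ((x - σ x) / (θ - σ θ)) = (x - σ x) / (θ - σ θ) := by
        rw [map_div₀, map_sub, map_sub, h2, h2]
        field_simp
        ring
      refine ⟨⟨⟨x - (x - σ x) / (θ - σ θ) * θ, ?_⟩, ⟨(x - σ x) / (θ - σ θ), hv⟩⟩, by simp [f]⟩
      show σ _ = _
      rw [map_sub, map_mul, hv]
      field_simp
      ring
  have := Nat.card_eq_of_bijective f hf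
  rw [Nat.card_prod, Nat.card_eq_fintype_card (α := F), Nat.card_coe_set_eq] at this
  rw [← this, pow_two]

section Af
variable {F : Type} [Field F] [Fintype F] {e : Ω → F}

theorem af_fix (h : AfP N Δ V a b F e) (ha : a ∈ Δ) (hb : b ∈ Δ) {g : G} (hg : g ∈ N)
    (h1 : g • a = a) (h2 : g • b = b) : ∃ σ : F ≃+* F, ∀ x ∈ Δ, e (g • x) = σ (e x) := by
  obtain ⟨c, d, σ, -, hc⟩ := h.Naf g hg
  have e1 := hc a ha
  have e2 := hc b hb
  rw [h1, h.ea, map_zero, mul_zero, zero_add] at e1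
  rw [h2, h.eb, map_one, mul_one, ← e1, add_zero] at e2
  exact ⟨σ, fun x hx => by rw [hc x hx, ← e1, ← e2, one_mul, add_zero]⟩

theorem af_swap (h : AfP N Δ V a b F e) (ha : a ∈ Δ) (hb : b ∈ Δ) {g : G} (hg : g ∈ N)
    (h1 : g • a = b) (h2 : g • b = a) : ∃ σ : F ≃+* F, ∀ x ∈ Δ, e (g • x) = σ (e x) + 1 := by
  have := h.two
  obtain ⟨c, d, σ, -, hc⟩ := h.Naf g hg
  have e1 := hc a ha
  have e2 := hc b hb
  rw [h1, h.ea, h.eb, map_zero, mul_zero, zero_add] at e1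
  rw [h2, h.ea, h.eb, map_one, mul_one, ← e1] at e2
  have e3 : c = 1 := by
    have : (1 : F) + 1 = 0 := CharTwo.add_self_eq_zero 1
    linear_combination -this - e2
  exact ⟨σ, fun x hx => by rw [hc x hx, ← e1, e3, one_mul]⟩

theorem af_card (h : AfP N Δ V a b F e) : Δ.ncard = Fintype.card F := by
  rw [h.bij.ncard_eq, Set.ncard_univ, Nat.card_eq_fintype_card]

theorem af_mul (h : AfP N Δ V a b F e) (hb : b ∈ Δ) {u : G} (hu : u ∈ V a) {x : Ω} (hx : x ∈ Δ) :
    e (u • x) = e (u • b) * e x := by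
  obtain ⟨c, hc⟩ := h.Vm u hu
  rw [hc x hx, hc b hb, h.eb, mul_one]

theorem af_sq (h : AfP N Δ V a b F e) (hd : LD N Δ V) (ha : a ∈ Δ) (hb : b ∈ Δ) {j : G}
    (hj : j ∈ N) (ja : j • a = a) (jb : j • b = b) (j2 : Tr Δ (j * j)) (j1 : ¬ Tr Δ j) :
    {x | x ∈ Δ ∧ j • x = x}.ncard ^ 2 = Δ.ncard := by
  obtain ⟨σ, hσ⟩ := af_fix h ha hb hj ja jb
  have h2 : ∀ y, σ (σ y) = y := fun y => by
    obtain ⟨x, hx, rfl⟩ := h.bij.surjOn (Set.mem_univ y)
    rw [← hσ x hx, ← hσ _ (hd.inv j hj x hx), ← mul_smul, j2 x hx]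
  obtain ⟨x, hx, hne⟩ : ∃ x ∈ Δ, j • x ≠ x := by
    by_contra hc
    push Not at hc
    exact j1 hc
  have hθ : σ (e x) ≠ e x := fun hh =>
    hne (h.bij.injOn (hd.inv j hj x hx) hx (by rw [hσ x hx, hh]))
  rw [af_card h, ← card_fix h2 hθ]
  congr 1
  refine Set.BijOn.ncard_eq (f := e) ⟨fun z hz => ?_, h.bij.injOn.mono fun z hz => hz.1, ?_⟩
  · show σ (e z) = e z
    rw [← hσ z hz.1, hz.2]
  · intro y hy
    obtain ⟨z, hz, rfl⟩ := h.bij.surjOn (Set.mem_univ y)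
    exact ⟨z, ⟨hz, h.bij.injOn (hd.inv j hj z hz) hz (by rw [hσ z hz]; exact hy)⟩, rfl⟩

theorem af_un (h : AfP N Δ V a b F e) (hd : LD N Δ V) (ha : a ∈ Δ) (hb : b ∈ Δ) {g : G}
    (hg : g ∈ N) (h1 : g • a = b) (h2 : g • b = a) (g2 : Tr Δ (g * g))
    (hf : ∀ x ∈ Δ, g • x ≠ x) : ∀ x ∈ Δ, e (g • x) = e x + 1 := by
  have := h.two
  have h11 : (1 : F) + 1 = 0 := CharTwo.add_self_eq_zero 1
  obtain ⟨σ, hσ⟩ := af_swap h ha hb hg h1 h2
  have hs : ∀ y, σ (σ y) = y := fun y => by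
    obtain ⟨x, hx, rfl⟩ := h.bij.surjOn (Set.mem_univ y)
    have e1 := hσ _ (hd.inv g hg x hx)
    rw [← mul_smul, g2 x hx, hσ x hx, map_add, map_one] at e1
    linear_combination -e1 - h11
  intro x hx
  rw [hσ x hx]
  by_contra hne
  have hθ : e x + σ (e x) ≠ 0 := fun hh => hne (by linear_combination hh - (e x) * h11)
  obtain ⟨z, hz, ez⟩ := h.bij.surjOn (Set.mem_univ (e x / (e x + σ (e x))))
  refine hf z hz (h.bij.injOn (hd.inv g hg z hz) hz ?_)
  have hθ' : σ (e x) + e x ≠ 0 := by rwa [add_comm]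
  rw [hσ z hz, ez, map_div₀, map_add, hs]
  field_simp
  linear_combination (σ (e x) * (e x + σ (e x))) * h11

variable [Finite G]

theorem af_ax (h : AfP N Δ V a b F e) (hd : LD N Δ V) (ha : a ∈ Δ) (hb : b ∈ Δ) :
    AX N Δ V a b := by
  have := h.two
  have h11 : (1 : F) + 1 = 0 := CharTwo.add_self_eq_zero 1
  have hVN : ∀ u ∈ V a, u ∈ N := fun u hu => hd.le a ha hu
  refine ⟨fun g hg h1 h2 x hx => ?_, fun K hK h1 => ?_, ?_, fun g hg g' hg' p p' => ?_,
    fun g hg g' hg' h1 h2 h1' h2' g2 g2' f f' x hx => ?_,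
    fun j hj ja jb j2 j1 => af_sq h hd ha hb hj ja jb j2 j1, ?_, Or.inr fun l hl hp => ?_⟩
  · obtain ⟨c, d, -, hc⟩ := h.Laf g hg
    have e1 := hc a ha
    have e2 := hc b hb
    rw [h1, h.ea, mul_zero, zero_add] at e1
    rw [h2, h.eb, mul_one, ← e1, add_zero] at e2
    have hN : g ∈ N := (iSup₂_le hd.le : Lt Δ V ≤ N) hg
    exact h.bij.injOn (hd.inv g hN x hx) hx (by rw [hc x hx, ← e1, ← e2, one_mul, add_zero])
  · let f : K →* F :=
      { toFun := fun u => e ((u : G) • b)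
        map_one' := by simp [h.eb]
        map_mul' := fun u v => by
          rw [Subgroup.coe_mul, mul_smul, af_mul h hb (hK u.2) (hd.inv _ (hVN _ (hK v.2)) b hb)] }
    refine isCyclic_of_injective_ringHom f ((injective_iff_map_eq_one f).2 fun u hu => ?_)
    exact Subtype.ext (h1 u u.2 (h.bij.injOn (hd.inv _ (hVN _ (hK u.2)) b hb) hb
      (by rw [h.eb]; exact hu)))
  · obtain ⟨w, hw, hc⟩ := h.trL 1
    have hN : w ∈ N := (iSup₂_le hd.le : Lt Δ V ≤ N) hw
    refine ⟨w, hw, h.bij.injOn (hd.inv w hN a ha) hb (by rw [hc a ha, h.ea, h.eb, zero_add]),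
      h.bij.injOn (hd.inv w hN b hb) ha (by rw [hc b hb, h.ea, h.eb, h11]), fun x hx hh => ?_⟩
    have := hc x hx
    rw [hh] at this
    exact _root_.one_ne_zero (α := F) (by linear_combination -this)
  · have key : ∀ g ∈ N, Pr a b g → ∃ (σ : F ≃+* F) (d : F), (∀ τ : F ≃+* F, τ d = d) ∧
        ∀ x ∈ Δ, e (g • x) = σ (e x) + d := fun g hg p => by
      rcases p with p | p
      · obtain ⟨σ, hσ⟩ := af_fix h ha hb hg p.1 p.2
        exact ⟨σ, 0, fun τ => map_zero τ, fun x hx => by rw [hσ x hx, add_zero]⟩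
      · obtain ⟨σ, hσ⟩ := af_swap h ha hb hg p.1 p.2
        exact ⟨σ, 1, fun τ => map_one τ, hσ⟩
    obtain ⟨σ, d, hd1, hσ⟩ := key g hg p
    obtain ⟨τ, d', hd2, hτ⟩ := key g' hg' p'
    refine tr_comm hd hg hg' fun x hx => ?_
    have m1 := hd.inv g hg x hx
    have m2 := hd.inv g' hg' x hx
    refine h.bij.injOn (hd.inv g hg _ m2) (hd.inv g' hg' _ m1) ?_
    rw [hσ _ m2, hτ _ m1, hσ x hx, hτ x hx, map_add, map_add, hd1, hd2, aut_comm σ τ]
    ring
  · exact h.bij.injOn (hd.inv g hg x hx) (hd.inv g' hg' x hx)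
      (by rw [af_un h hd ha hb hg h1 h2 g2 f x hx, af_un h hd ha hb hg' h1' h2' g2' f' x hx])
  · obtain ⟨k, -, hk⟩ := FiniteField.card F 2
    exact ⟨k, by rw [af_card h, hk]⟩
  · have : Fact l.Prime := ⟨hl⟩
    have hP : IsPGroup l Fˣ := fun c => by
      obtain ⟨z, hz, ez⟩ := h.bij.surjOn (Set.mem_univ (c : F))
      obtain ⟨u, hu, ub, k, hk⟩ := hp z hz (by
        rintro rfl
        exact c.ne_zero (by rw [← ez, h.ea]))
      have hn : ∀ n : ℕ, e ((u ^ n) • b) = (c : F) ^ n := fun n => by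
        induction n with
        | zero => simp [h.eb]
        | succ n ih =>
          rw [pow_succ', mul_smul, af_mul h hb hu (hd.inv _ (hVN _ (pow_mem hu n)) b hb), ih, ub,
            ez, pow_succ']
      refine ⟨k, Units.ext ?_⟩
      rw [Units.val_pow_eq_pow_val, ← hn, hk b hb, h.eb, Units.val_one]
    obtain ⟨k, hk⟩ := IsPGroup.iff_card.1 hP
    refine ⟨k, ?_⟩
    rw [af_card h, ← hk, Nat.card_units, Nat.card_eq_fintype_card]
    have := Fintype.card_pos (α := F)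
    omega

end Af

section L2
variable [Finite G] [Finite Ω] {F : Type} [Field F] [Fintype F] {e : Ω → OnePoint F}

theorem l2_ax (h : L2P N Δ V a b F e) (hd : LD N Δ V) (ha : a ∈ Δ) (hb : b ∈ Δ) (hab : a ≠ b)
    (h4 : Δ.ncard = 4) : AX N Δ V a b := by
  have hF : Fintype.card F = 3 := by have := h.card; omega
  obtain ⟨c, d, cd, hcd⟩ : ∃ c d, c ≠ d ∧ Δ \ {a, b} = {c, d} := by
    rw [← Set.ncard_eq_two, Set.ncard_sdiff (by rintro x (rfl | rfl) <;> assumption),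
      Set.ncard_pair hab, h4]
  have hc : c ∈ Δ \ {a, b} := by rw [hcd]; simp
  have hd' : d ∈ Δ \ {a, b} := by rw [hcd]; simp
  have ca : c ≠ a := fun hh => hc.2 (by simp [hh])
  have cb : c ≠ b := fun hh => hc.2 (by simp [hh])
  have da : d ≠ a := fun hh => hd'.2 (by simp [hh])
  have db : d ≠ b := fun hh => hd'.2 (by simp [hh])
  have mem : ∀ x ∈ Δ, x = a ∨ x = b ∨ x = c ∨ x = d := fun x hx => by
    by_cases h1 : x = a
    · exact Or.inl h1
    by_cases h2 : x = b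
    · exact Or.inr (Or.inl h2)
    have : x ∈ Δ \ {a, b} := ⟨hx, by simp [h1, h2]⟩
    rw [hcd] at this
    exact Or.inr (Or.inr this)
  have key : ∀ g ∈ N, Pr a b g → g • c = c ∧ g • d = d ∨ g • c = d ∧ g • d = c := by
    intro g hg p
    have i1 : ∀ x y : Ω, g • x = g • y → x = y := fun x y hh => MulAction.injective g hh
    have k : ∀ x ∈ Δ, x ≠ a → x ≠ b → g • x = c ∨ g • x = d := fun x hx xa xb => by
      rcases mem _ (hd.inv g hg x hx) with h1 | h1 | h1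
      · rcases p with p | p
        · exact absurd (i1 _ _ (h1.trans p.1.symm)) xa
        · exact absurd (i1 _ _ (h1.trans p.2.symm)) xb
      · rcases p with p | p
        · exact absurd (i1 _ _ (h1.trans p.2.symm)) xb
        · exact absurd (i1 _ _ (h1.trans p.1.symm)) xa
      · exact h1
    rcases k c hc.1 ca cb with h1 | h1 <;> rcases k d hd'.1 da db with h2 | h2
    · exact absurd (i1 _ _ (h1.trans h2.symm)) cd
    · exact Or.inl ⟨h1, h2⟩
    · exact Or.inr ⟨h1, h2⟩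
    · exact absurd (i1 _ _ (h1.trans h2.symm)) cd
  have sq : ∀ g ∈ N, Pr a b g → Tr Δ (g * g) := fun g hg p x hx => by
    rw [mul_smul]
    rcases key g hg p with q | q <;> rcases p with p | p <;>
      rcases mem x hx with rfl | rfl | rfl | rfl <;> simp only [p.1, p.2, q.1, q.2]
  have lin : ∀ g ∈ Lt Δ V, g • a = a → g • b = b → Tr Δ g := fun g hg h1 h2 => by
    have hN := hd.Lt_le hg
    rcases h.tri hd ha hb hN (mem_Hb.2 ⟨h1, h2⟩) (sq g hN (Or.inl ⟨h1, h2⟩)) with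
      h3 | ⟨h3, -⟩ | ⟨r, r3, hr, -⟩
    · exact h3
    · have := (h.sc_inn hd hN (c := -1) (by simpa using h3)).1 ⟨g, hg, fun x _ => by simp⟩
      rw [Units.val_neg, Units.val_one, FiniteField.isSquare_neg_one_iff, hF] at this
      exact absurd rfl this
    · nlinarith
  refine ⟨lin, fun K hK h1 => ?_, ?_, fun g hg g' hg' p p' => ?_,
    fun g hg g' hg' h1 h2 h1' h2' _ _ f f' x hx => ?_, fun j hj ja jb _ j1 => ?_, ⟨2, h4⟩,
    Or.inl h4⟩
  · have hle : Nat.card K ≤ 3 := by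
      have : Nat.card K ≤ Nat.card (Δ \ {a} : Set Ω) := by
        refine Nat.card_le_card_of_injective (fun k => ⟨(k : G) • b, hd.inv _ (hd.le a ha (hK k.2))
          b hb, fun hh => hab ?_⟩) fun k k' hh => ?_
        · exact MulAction.injective (k : G) ((hd.fix a ha _ (hK k.2)).trans (Eq.symm hh))
        · have e1 : (k : G) • b = (k' : G) • b := congrArg Subtype.val hh
          have := h1 ((k' : G)⁻¹ * k) (K.mul_mem (K.inv_mem k'.2) k.2)
            (by rw [mul_smul, e1, inv_smul_smul])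
          exact Subtype.ext (inv_mul_eq_one.1 this).symm
      rwa [Nat.card_coe_set_eq, Set.ncard_sdiff_singleton_of_mem ha, h4] at this
    have ho : Odd (Nat.card K) := (hd.odd a ha).of_dvd_nat (card_dvd_of_le hK)
    have : Nat.card K = 1 ∨ Nat.card K = 3 := by obtain ⟨m, hm⟩ := ho; omega
    rcases this with h3 | h3
    · have := (Nat.card_eq_one_iff_unique.1 h3).1
      exact isCyclic_of_subsingleton
    · have : Fact (Nat.Prime 3) := ⟨Nat.prime_three⟩
      exact isCyclic_of_prime_card h3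
  · obtain ⟨w, hw, h1, h2⟩ := hd.two (by omega) ha hb hb ha hab hab.symm
    have hN := hd.Lt_le hw
    obtain ⟨B, hB⟩ := h.Lsl w hw
    rcases h.hyp_ell hd hN (sq w hN (Or.inr ⟨h1, h2⟩)) (fun hh => hab ((hh a ha).symm.trans h1))
      hB with ⟨-, h3⟩ | ⟨h3, -⟩
    · have := h3.1 ⟨w, hw, fun x _ => by simp⟩
      omega
    · exact ⟨w, hw, h1, h2, h3⟩
  · refine tr_comm hd hg hg' fun x hx => ?_
    rcases key g hg p with q | q <;> rcases key g' hg' p' with q' | q' <;> rcases p with p | p <;>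
      rcases p' with p' | p' <;> rcases mem x hx with rfl | rfl | rfl | rfl <;>
      simp only [p.1, p.2, q.1, q.2, p'.1, p'.2, q'.1, q'.2]
  · rcases key g hg (Or.inr ⟨h1, h2⟩) with q | q
    · exact absurd q.1 (f c hc.1)
    rcases key g' hg' (Or.inr ⟨h1', h2'⟩) with q' | q'
    · exact absurd q'.1 (f' c hc.1)
    rcases mem x hx with rfl | rfl | rfl | rfl <;> simp only [h1, h2, h1', h2', q.1, q.2, q'.1, q'.2]
  · rcases key j hj (Or.inl ⟨ja, jb⟩) with q | q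
    · exact absurd (fun x hx => by
        rcases mem x hx with rfl | rfl | rfl | rfl <;> simp only [ja, jb, q.1, q.2]) j1
    have : {x | x ∈ Δ ∧ j • x = x} = {a, b} := by
      ext x
      constructor
      · rintro ⟨hx, h1⟩
        rcases mem x hx with rfl | rfl | rfl | rfl
        · simp
        · simp
        · exact absurd (h1.symm.trans q.1) cd
        · exact absurd (q.2.symm.trans h1) cd
      · rintro (rfl | rfl)
        · exact ⟨ha, ja⟩
        · exact ⟨hb, jb⟩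
    rw [this, Set.ncard_pair hab, h4]
    rfl

end L2

end H51.HK.NRA
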