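import Cfsg.Agent.Lib.HK.NRAa
import Cfsg.Agent.Lib.HK.NRL
import Cfsg.Agent.Lib.Cyc2.FC

/-! The affine lines of the non-regular case: involutions. -/

set_option autoImplicit false
set_option linter.unusedSectionVars false

namespace H51.HK.NRA

open MulAction Subgroup H69
open scoped Classical commutatorElement

section pure
variable {G : Type*} [Group G]

theorem odd_pow {g : G} (h : Odd (orderOf (g * g))) :
    ∃ k : ℕ, g * (g * g) ^ k * (g * (g * g) ^ k) = 1 := by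
  obtain ⟨k, hk⟩ := h
  refine ⟨k, ?_⟩
  have := pow_orderOf_eq_one (g * g)
  rw [hk, ← pow_two, ← pow_mul] at this
  rw [← pow_two g, ← pow_mul, ← pow_succ', ← pow_add, ← this]
  congr 1
  ring

theorem conj_of_odd {s t : G} (hs : s * s = 1) (ht : t * t = 1) (h : Odd (orderOf (s * t))) :
    ∃ m : ℕ, t = (s * t) ^ m * s * ((s * t) ^ m)⁻¹ := by
  obtain ⟨m, hm⟩ := h
  have si : s⁻¹ = s := inv_eq_of_mul_eq_one_right hs
  have ti : t⁻¹ = t := inv_eq_of_mul_eq_one_right ht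
  have e1 : s * (s * t) * s⁻¹ = (s * t)⁻¹ := by
    rw [mul_inv_rev, si, ti, ← mul_assoc, hs, one_mul]
  have e2 : s * (s * t) ^ m * s⁻¹ = ((s * t) ^ m)⁻¹ := by rw [← conj_pow, e1, inv_pow]
  have e3 : (s * t) ^ m * (s * t) ^ m * (s * t) = 1 := by
    rw [← pow_add, ← pow_succ, ← two_mul, ← hm, pow_orderOf_eq_one]
  refine ⟨m, ?_⟩
  generalize (s * t) ^ m = u at e2 e3
  have e4 : u * s = s * u⁻¹ := by
    rw [← e2, si, ← mul_assoc, ← mul_assoc, hs, one_mul]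
  have e5 : s * t = u⁻¹ * u⁻¹ := by
    rw [← mul_inv_rev, eq_comm, inv_eq_iff_mul_eq_one, e3]
  rw [e4, mul_assoc, ← e5, ← mul_assoc, hs, one_mul]

theorem arith {Q i l k : ℕ} (hl : l.Prime) (h2 : 2 ≤ Q) (h1 : Q ^ 2 = 2 ^ i)
    (h3 : Q ^ 2 = l ^ k + 1) : Q = 2 := by
  obtain ⟨m, rfl⟩ : ∃ m, Q = m + 1 := ⟨Q - 1, by omega⟩
  have e : l ^ k = m * (m + 2) := by nlinarith
  have hev : 2 ∣ m + 1 := by
    refine Nat.prime_two.dvd_of_dvd_pow (n := 2) ?_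
    rw [h1]
    refine dvd_pow_self 2 ?_
    rintro rfl
    nlinarith
  obtain ⟨s, -, hs⟩ := (Nat.dvd_prime_pow hl).1 (e ▸ Dvd.intro _ rfl : m ∣ l ^ k)
  obtain ⟨r, -, hr⟩ := (Nat.dvd_prime_pow hl).1 (e ▸ Dvd.intro_left _ rfl : m + 2 ∣ l ^ k)
  rcases s with _ | s
  · simp [hs]
  have d1 : l ∣ m := hs ▸ dvd_pow_self l (by omega)
  have d2 : l ∣ m + 2 := hr ▸ dvd_pow_self l (by rintro rfl; simp at hr)
  have := (Nat.prime_dvd_prime_iff_eq hl Nat.prime_two).1 ((Nat.dvd_add_right d1).1 d2)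
  subst this
  omega

/-- `g` centralises or inverts `x` -/
def PM (x g : G) : Prop := g * x * g⁻¹ = x ∨ g * x * g⁻¹ = x⁻¹

theorem cj_mul {x g g' y z : G} (h : g * y * g⁻¹ = z) (h' : g' * x * g'⁻¹ = y) :
    g * g' * x * (g * g')⁻¹ = z := by rw [← h, ← h']; group

theorem cj_inv {x g : G} (h : g * x * g⁻¹ = x⁻¹) : g * x⁻¹ * g⁻¹ = x := by
  rw [← conj_inv, h, inv_inv]

theorem cj_inv' {x g : G} (h : g * x * g⁻¹ = x) : g * x⁻¹ * g⁻¹ = x⁻¹ := by rw [← conj_inv, h]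

theorem PM.mul {x g g' : G} (h : PM x g) (h' : PM x g') : PM x (g * g') := by
  rcases h with h | h <;> rcases h' with h' | h'
  · exact Or.inl (cj_mul h h')
  · exact Or.inr (cj_mul (cj_inv' h) h')
  · exact Or.inr (cj_mul h h')
  · exact Or.inl (cj_mul (cj_inv h) h')

theorem PM.sq {x g : G} (h : PM x g) : g * g * x * (g * g)⁻¹ = x := by
  rcases h with h | h
  · exact cj_mul h h
  · exact cj_mul (cj_inv h) h

end pure

variable {G Ω : Type*} [Group G] [MulAction G Ω] [Finite G] [Finite Ω] {U : Ω → Subgroup G}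
  {a b : Ω} {p : ℕ} {R N : Subgroup G}

/-- the elements that act trivially on the line and centralise `x` -/
def OO (U : Ω → Subgroup G) (a b : Ω) (x : G) : Subgroup G :=
  normalizer (PP U a b : Set G) ⊓ fixingSubgroup G (Ln U a b) ⊓ centralizer {x}

omit [Finite G] [Finite Ω] in
theorem mem_OO {x g : G} : g ∈ OO U a b x ↔ g ∈ normalizer (PP U a b : Set G) ∧
    Tr (Ln U a b) g ∧ g * x * g⁻¹ = x := by
  rw [OO, mem_inf, mem_inf, mem_fixingSubgroup_iff, mem_centralizer_singleton_iff,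
    mul_inv_eq_iff_eq_mul, and_assoc]
  rfl

omit [Finite G] [Finite Ω] in
theorem PY : PP U a b ≤ YY U a b a := fun _ hx => ⟨hx.1, le_normalizer hx⟩

structure Ct (U : Ω → Subgroup G) (a b : Ω) (p : ℕ) (R N : Subgroup G) (x : G) : Prop where
  h : Cy U
  c : NRc U a b p R N
  X : AX (normalizer (PP U a b : Set G)) (Ln U a b) (YY U a b) a b
  xR : x ∈ R
  x1 : x ≠ 1
  gen : ∀ r ∈ R, r ∈ zpowers x

theorem ex_gen (c : NRc U a b p R N)
    (X : AX (normalizer (PP U a b : Set G)) (Ln U a b) (YY U a b) a b) :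
    ∃ x ∈ R, x ≠ 1 ∧ ∀ r ∈ R, r ∈ zpowers x := by
  obtain ⟨y, yU, yY, yN⟩ := c.exY
  have hK : IsCyclic ↥(N ⊓ YY U a b a) :=
    X.cyc _ inf_le_right fun k hk e => c.Nsr k hk.1 b c.ne.symm e
  have m : ∀ x ∈ R, ⁅y, x⁆ ∈ N ⊓ YY U a b a := fun x hx =>
    mem_inf.2 ⟨c.Nc x hx y yU, mul_mem ((mem_normalizer_iff.1 yN x).1 (PY (c.RP hx)))
      (inv_mem (PY (c.RP hx)))⟩
  have cm : ∀ x ∈ R, ∀ u ∈ YY U a b a, u * x = x * u := fun x hx u hu => by
    by_cases h1 : x = 1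
    · simp [h1]
    rw [← c.cY x hx h1 a c.ha] at hu
    exact (mem_UY1.1 hu).2
  let f : R →* ↥(N ⊓ YY U a b a) := MonoidHom.mk' (fun x => ⟨⁅y, (x : G)⁆, m x x.2⟩) fun x x' =>
    Subtype.ext (by
      have := cm x x.2 _ (m x' x'.2).2
      show ⁅y, (x : G) * x'⁆ = ⁅y, (x : G)⁆ * ⁅y, (x' : G)⁆
      calc ⁅y, (x : G) * x'⁆ = ⁅y, (x : G)⁆ * (x * ⁅y, (x' : G)⁆) * (x : G)⁻¹ := by
            simp only [commutatorElement_def]; group
        _ = _ := by rw [← this]; group)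
  have hf : Function.Injective f := (injective_iff_map_eq_one f).2 fun x hx => by
    by_contra h1
    have h1' : (x : G) ≠ 1 := fun hh => h1 (Subtype.ext hh)
    have h2 : ⁅y, (x : G)⁆ = 1 := congrArg Subtype.val hx
    exact yY (c.cY x x.2 h1' a c.ha ▸ mem_UY1.2 ⟨yU, commutatorElement_eq_one_iff_mul_comm.1 h2⟩)
  have := isCyclic_of_injective f hf
  obtain ⟨x, hx⟩ := IsCyclic.exists_generator (α := R)
  have g : ∀ r ∈ R, r ∈ zpowers (x : G) := fun r hr => by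
    obtain ⟨i, hi⟩ := hx ⟨r, hr⟩
    exact ⟨i, by simpa using congrArg Subtype.val hi⟩
  refine ⟨x, x.2, fun h1 => c.Rne (eq_bot_iff.2 fun r hr => ?_), g⟩
  have := g r hr
  rwa [h1, zpowers_one_eq_bot] at this

namespace Ct
variable {x : G} (C : Ct U a b p R N x)
include C

theorem ord : orderOf x = p :=
  have : Fact p.Prime := ⟨C.c.pr⟩
  orderOf_eq_prime (C.c.Rp x C.xR) C.x1

theorem p_odd : Odd p :=
  (C.h.ld.odd a trivial).of_dvd_nat (C.ord ▸ orderOf_dvd_natCard _ (C.c.RP C.xR).1)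

theorem ne_inv : x ≠ x⁻¹ := fun h => by
  have h2 : x ^ 2 = 1 := by rw [pow_two]; nth_rw 1 [h]; exact inv_mul_cancel x
  have := orderOf_dvd_of_pow_eq_one h2
  rw [C.ord, Nat.prime_dvd_prime_iff_eq C.c.pr Nat.prime_two] at this
  exact absurd (this ▸ C.p_odd) (by decide)

theorem cop {j : G} (hj : Inv j) : (orderOf j).Coprime (Nat.card (U a)) := by
  rw [H46.C2.ord_two hj.1 hj.2]
  exact Nat.coprime_two_left.2 (C.h.ld.odd a trivial)

theorem no_inv {j : G} (hj : j ∈ OO U a b x) (j2 : j * j = 1) : j = 1 := by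
  by_contra j1
  obtain ⟨jN, jT, jx⟩ := mem_OO.1 hj
  have ja := jT a C.c.ha
  have jb := jT b C.c.hb
  obtain ⟨v, hv, -, hne⟩ := C.c.mv j (mem_Hb.2 ⟨ja, jb⟩) ⟨j2, j1⟩ x C.xR C.x1
    (mul_inv_eq_iff_eq_mul.1 jx)
  refine hne (commutatorElement_eq_one_iff_mul_comm.1 (C.c.Nsr _
    (mul_mem (C.c.Nn j ja v hv.1) (inv_mem hv.1)) b C.c.ne.symm ?_))
  have m := C.c.ld.inv _ (inv_mem hv.2.2) b C.c.hb
  rw [commutatorElement_def, mul_smul, mul_smul, mul_smul, inv_smul_eq_iff.2 (jT _ m).symm,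
    smul_inv_smul, jb]

theorem odd {g : G} (hg : g ∈ OO U a b x) : Odd (orderOf g) := by
  by_contra h
  obtain ⟨m, hm⟩ := Nat.not_odd_iff_even.1 h
  have h0 := orderOf_pos g
  have := C.no_inv (pow_mem hg m) (by rw [← pow_add, ← hm, pow_orderOf_eq_one])
  have := Nat.le_of_dvd (by omega) (orderOf_dvd_of_pow_eq_one this)
  omega

theorem Lx {l : G} (hl : l ∈ Lt (Ln U a b) (YY U a b)) : l * x * l⁻¹ = x := by
  have : Lt (Ln U a b) (YY U a b) ≤ centralizer {x} := iSup₂_le fun c hc u hu => by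
    rw [← C.c.cY x C.xR C.x1 c hc] at hu
    exact hu.2
  exact mul_inv_eq_iff_eq_mul.2 (mem_centralizer_singleton_iff.1 (this hl))

theorem pm {g : G} (hp : Pr a b g) (h2 : g * g * x * (g * g)⁻¹ = x) : PM x g := by
  have hR := (C.c.nP g hp).2 x C.xR
  by_cases h1 : g * x * g⁻¹ * x = 1
  · exact Or.inr (eq_inv_of_mul_eq_one_left h1)
  left
  have cm := C.c.RZ x C.xR _ (C.c.RP hR)
  have e : g * (g * x * g⁻¹ * x) * g⁻¹ = g * x * g⁻¹ * x := by
    calc _ = g * g * x * (g * g)⁻¹ * (g * x * g⁻¹) := by group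
      _ = _ := by rw [h2, cm]
  have : Fact p.Prime := ⟨C.c.pr⟩
  have hz : Nat.card (zpowers x) = p := by rw [Nat.card_zpowers, C.ord]
  have := mem_zpowers_of_prime_card hz (g := ⟨_, C.gen _ (mul_mem hR C.xR)⟩)
    (g' := ⟨x, mem_zpowers x⟩) fun hh => h1 (congrArg Subtype.val hh)
  obtain ⟨i, hi⟩ := this
  have hi' : (g * x * g⁻¹ * x) ^ i = x := by simpa using congrArg Subtype.val hi
  nth_rw 1 [← hi', ← conj_zpow, e]
  exact hi'

theorem pm' {g : G} (hp : Pr a b g) (h2 : g * g = 1) : PM x g := C.pm hp (by simp [h2])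

theorem fixsq {j : G} (hj : Inv j) (ja : j • a = a) (jb : j • b = b) (jx : j * x * j⁻¹ = x) :
    Fx Ω {j} ⊆ Ln U a b ∧ ¬ Tr (Ln U a b) j ∧ (Fx Ω {j}).ncard ^ 2 = (Ln U a b).ncard := by
  have jN := (C.c.nP j (Or.inl ⟨ja, jb⟩)).1
  have h1 := C.c.cfx j (mem_Hb.2 ⟨ja, jb⟩) hj.2 (C.cop hj) x C.xR C.x1
    (mul_inv_eq_iff_eq_mul.1 jx)
  have h2 : ¬ Tr (Ln U a b) j := fun hh => hj.2 (C.no_inv (mem_OO.2 ⟨jN, hh, jx⟩) hj.1)
  refine ⟨h1, h2, ?_⟩
  rw [← C.X.sq j jN ja jb (fun z _ => by rw [hj.1, one_smul]) h2]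
  congr 2
  ext z
  exact ⟨fun hz => ⟨h1 hz, mem_Fx1.1 hz⟩, fun hz => mem_Fx1.2 hz.2⟩

theorem not_dvd {j : G} (hj : Inv j) (ja : j • a = a) (jb : j • b = b) :
    ¬ p ∣ (Fx Ω {j}).ncard := fun hd => by
  rcases C.pm' (Or.inl ⟨ja, jb⟩) hj.1 with h1 | h1
  · obtain ⟨k, hk⟩ := C.X.two
    have h2 := (C.fixsq hj ja jb h1).2.2
    have h3 : p ∣ 2 ^ k := by rw [← hk, ← h2]; exact dvd_pow hd two_ne_zero
    have := (Nat.prime_dvd_prime_iff_eq C.c.pr Nat.prime_two).1 (C.c.pr.dvd_of_dvd_pow h3)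
    exact absurd (this ▸ C.p_odd) (by decide)
  · rw [inv_eq_of_mul_eq_one_right hj.1] at h1
    have := C.c.iv j (mem_Hb.2 ⟨ja, jb⟩) hj x C.xR C.x1 h1
    rw [Nat.mod_eq_zero_of_dvd hd] at this
    exact zero_ne_one this

theorem ex_w : ∃ w ∈ Lt (Ln U a b) (YY U a b), w * w = 1 ∧ w • a = b ∧ ∀ z : Ω, w • z ≠ z := by
  obtain ⟨w0, hw, h1, h2, hf⟩ := C.X.ew
  have hO : w0 * w0 ∈ OO U a b x := mem_OO.2 ⟨C.c.ld.Lt_le (mul_mem hw hw),
    C.X.lin _ (mul_mem hw hw) (by rw [mul_smul, h1, h2]) (by rw [mul_smul, h2, h1]),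
    C.Lx (mul_mem hw hw)⟩
  obtain ⟨k, hk⟩ := odd_pow (C.odd hO)
  have hT := (mem_OO.1 (pow_mem hO k)).2.1
  have hL : w0 * (w0 * w0) ^ k ∈ Lt (Ln U a b) (YY U a b) := mul_mem hw (pow_mem (mul_mem hw hw) k)
  have act : ∀ z ∈ Ln U a b, (w0 * (w0 * w0) ^ k) • z = w0 • z := fun z hz => by
    rw [mul_smul, hT z hz]
  generalize w0 * (w0 * w0) ^ k = w at hk hL act
  have wa : w • a = b := by rw [act a C.c.ha, h1]
  have w1 : w ≠ 1 := fun hh => C.c.ne (by rw [← wa, hh, one_smul])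
  refine ⟨w, hL, hk, wa, fun z hz => ?_⟩
  have h3 := C.h.three
  obtain ⟨z', -, zz, hz'⟩ := C.h.ld.second (by rw [Set.ncard_univ]; omega) (T := zpowers w)
    (IsPGroup.of_card (n := 1) (by rw [Nat.card_zpowers, H46.C2.ord_two hk w1, pow_one])) le_top
    (Set.mem_univ z) fun t ht => H46.C2.zp_fix ht hz
  obtain ⟨g, g1, g2⟩ := C.h.pair zz.symm C.c.ne
  refine C.not_dvd (j := g * w * g⁻¹) ⟨by rw [conj_mul, hk, mul_one, mul_inv_cancel],
    fun hh => w1 (conj_eq_one_iff.1 hh)⟩ (by rw [← g1, mul_smul, inv_smul_smul, mul_smul, hz])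
    (by rw [← g2, mul_smul, inv_smul_smul, mul_smul, hz' w (mem_zpowers w)]) ?_
  rw [← Fx_ncard_conj (isConj_iff.2 ⟨g, rfl⟩)]
  have := H46.C2.dvd_free (zpowers x) (fun z : Ω => z ∈ Fx Ω {w}) (fun r hr y hy => ?_)
    fun r hr y hy e => ?_
  · rwa [Nat.card_zpowers, C.ord] at this
  · obtain ⟨i, rfl⟩ := hr
    have : w * x ^ i = x ^ i * w := by
      rw [← mul_inv_eq_iff_eq_mul, ← conj_zpow, C.Lx hL]
    rw [mem_Fx1, ← mul_smul, this, mul_smul, mem_Fx1.1 hy]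
  · by_contra r1
    have hy' : y ∈ Ln U a b := by
      rw [← C.c.fx r (zpowers_le.2 C.xR hr) r1]
      exact mem_Fx1.2 e
    exact hf y hy' (by rw [← act y hy', mem_Fx1.1 hy])

end Ct

end H51.HK.NRA
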