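import Cfsg.Agent.Lib.HK.LQ

/-! Involutions of type `SL₂(q)` when four-groups fix at most two points. -/

set_option autoImplicit false
set_option linter.unusedSectionVars false

namespace H51.HK

open MulAction Subgroup Matrix H69
open scoped MatrixGroups Classical commutatorElement

variable {G Ω : Type*} [Group G] [MulAction G Ω] [Finite G] [Finite Ω]

variable {U : Ω → Subgroup G}

theorem NV.slb_fix (hV : NV G Ω) {x y : G} (hx : Inv x) (hy : Inv y) (yx : y ≠ x)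
    (hc : y * x = x * y) : {z | z ∈ Fx Ω {x} ∧ y • z = z}.ncard ≤ 2 := by
  convert hV y x hy hx yx hc using 2
  ext z
  rw [mem_Fx2, Set.mem_ofPred_eq, mem_Fx1, and_comm]

theorem NV.slb_ntr (hV : NV G Ω) {x y : G} (hx : Inv x) (h3 : 3 ≤ (Fx Ω {x}).ncard) (hy : Inv y)
    (yx : y ≠ x) (hc : y * x = x * y) : ¬ Tr (Fx Ω {x}) y := fun k => by
  have := hV.slb_fix hx hy yx hc
  rw [show {z | z ∈ Fx Ω {x} ∧ y • z = z} = Fx Ω {x} from
    Set.ext fun z => ⟨And.left, fun a => ⟨a, k z a⟩⟩] at this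
  omega

/-- the kernel of `C(t)` on the fixed points of `t` has a unique involution -/
theorem NV.uniq (hV : NV G Ω) {t k : G} (ht : Inv t) (h3 : 3 ≤ (Fx Ω {t}).ncard)
    (hk : k ∈ KY Ω ({t} : Set G)) (k2 : k * k = 1) : k = 1 ∨ k = t := by
  by_contra c
  rw [not_or] at c
  exact hV.slb_ntr ht h3 ⟨k2, c.1⟩ c.2 (mem_KY1.1 hk).1 (mem_KY1.1 hk).2

theorem SLt.slb_pair (h : Cx U) {x : G} (hx : SLt U x) : ∃ a ∈ Fx Ω {x}, ∃ b ∈ Fx Ω {x}, a ≠ b := by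
  rcases (Fx Ω {x}).eq_empty_or_nonempty with e | ⟨c, hc⟩
  · have := hx.2.1
    rw [LY, e, Lt] at this
    exact absurd (by simpa using this) hx.1.2
  · exact (Set.one_lt_ncard (Set.toFinite _)).1 (h.toCb.two_le_Fx1 hx.1.1 (mem_Fx1.1 hc))

theorem L2P.slb_four {N : Subgroup G} {Δ : Set Ω} {V : Ω → Subgroup G} {a b : Ω} {F : Type} [Field F]
    [Fintype F] {e : Ω → OnePoint F} (h : L2P N Δ V a b F e) : 4 ≤ Δ.ncard := by
  have h1 := h.card
  have h2 := Nat.odd_iff.1 h.odd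
  have h3 : 1 < Fintype.card F := Fintype.one_lt_card
  omega

theorem SLt.three (h : Cx U) {x : G} (hx : SLt U x) : 4 ≤ (Fx Ω {x}).ncard := by
  obtain ⟨a, ha, b, hb, hab⟩ := hx.slb_pair h
  obtain ⟨F, _, _, e, π, hq⟩ := hx.2.2 a ha b hb hab
  exact hq.toL2P.slb_four

variable {x : G} {a b : Ω} {F : Type} [Field F] [Fintype F] {e : Ω → OnePoint F}
  {π : SL(2, F) →* G}

theorem slb_tr_self (x : G) : Tr (Fx Ω {x}) x := fun _ => mem_Fx1.1

theorem slb_tr_one {Δ : Set Ω} {g : G} (h : g = 1) : Tr Δ g := fun z _ => by rw [h, one_smul]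

theorem SLt.neg (hx : SLt U x)
    (hq : L2Q (normalizer ({x} : Set G)) (Fx Ω {x}) (UY U {x}) a b F e π) : π (-1) = x :=
  ((hq.ker hx.2.1 (slb_tr_self x)).resolve_left hx.1.2).symm

theorem SLt.slb_coord (h : Cx U) (hx : SLt U x) : ∃ (a b : Ω) (F : Type) (_ : Field F) (_ : Fintype F)
    (e : Ω → OnePoint F) (π : SL(2, F) →* G),
    L2Q (normalizer ({x} : Set G)) (Fx Ω {x}) (UY U {x}) a b F e π ∧ π (-1) = x ∧
      Function.Injective π := by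
  obtain ⟨a, ha, b, hb, hab⟩ := hx.slb_pair h
  obtain ⟨F, _, _, e, π, hq⟩ := hx.2.2 a ha b hb hab
  exact ⟨a, b, F, _, _, e, π, hq, hx.neg hq, hq.inj (hx.neg hq ▸ hx.1.2)⟩

/-- the involutions commuting with `t` act on its fixed points as elements of `PGL₂(q)` -/
theorem NV.lin (h : Cx U) (hV : NV G Ω) (hx : Inv x)
    (hq : L2P (normalizer ({x} : Set G)) (Fx Ω {x}) (UY U {x}) a b F e) {y : G} (y2 : y * y = 1)
    (hc : y * x = x * y) : ∃ A : GL (Fin 2) F, Act e (Fx Ω {x}) y A (RingEquiv.refl F) := by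
  by_cases y1 : y = 1
  · exact ⟨1, (hq.tr_iff (h.ldY _) (mem_norm1.2 hc)).1 (slb_tr_one y1)⟩
  by_cases yx : y = x
  · exact ⟨1, (hq.tr_iff (h.ldY _) (mem_norm1.2 hc)).1 (yx ▸ slb_tr_self y)⟩
  exact hq.lin (h.ldY _) (mem_norm1.2 hc) (slb_tr_one y2) (hV.slb_fix hx ⟨y2, y1⟩ yx hc)

/-- the other involutions of `C_H(x)` act as `-1` -/
theorem NV.neg (h : Cx U) (hV : NV G Ω) (hx : Inv x) (xH : x ∈ Hb G a b)
    (hq : L2P (normalizer ({x} : Set G)) (Fx Ω {x}) (UY U {x}) a b F e) {y : G} (hy : Inv y)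
    (yx : y ≠ x) (hc : y * x = x * y) (yH : y ∈ Hb G a b) :
    Sc e (Fx Ω {x}) y (-1) (RingEquiv.refl F) := by
  have h4 := hq.slb_four
  have h2 := hV.slb_fix hx hy yx hc
  rcases hq.tri (h.ldY _) (mem_Fx1.2 (mem_Hb.1 xH).1) (mem_Fx1.2 (mem_Hb.1 xH).2) (mem_norm1.2 hc) yH
    (slb_tr_one hy.1) with k | k | ⟨r, k1, -, k2, -⟩
  · exact absurd k (hV.slb_ntr hx (by omega) hy yx hc)
  · exact k.1
  · omega

theorem SLt.conj_mul (h : Cx U) (hV : NV G Ω) (hx : SLt U x) {y : G} (hy : Inv y) (yx : y ≠ x)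
    (hc : y * x = x * y) : ∃ l ∈ LY U {x}, l * y * l⁻¹ = y * x := by
  obtain ⟨a, b, F, _, _, e, π, hq, h1, -⟩ := hx.slb_coord h
  obtain ⟨A, hA⟩ := hV.lin h hx.1 hq.toL2P hy.1 hc
  have h4 := hx.three h
  exact hq.ll4 (h.ldY _) (h1 ▸ hx.1.2) (mem_norm1.2 hc) hy.1 (hV.slb_ntr hx.1 (by omega) hy yx hc) hA
    hx.2.1 (by rw [mul_assoc, ← mul_assoc x, ← hc, mul_assoc, hx.1.1, mul_one, hy.1])

theorem slb_two {g : G} (h : g * g * (g * g) = 1) : IsPGroup 2 (zpowers g) := by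
  rintro ⟨_, k, rfl⟩
  refine ⟨2, Subtype.ext ?_⟩
  change (g ^ k) ^ 2 ^ 2 = 1
  rw [← zpow_natCast, zpow_comm, zpow_natCast, show g ^ 2 ^ 2 = g * g * (g * g) by
    simp only [pow_succ, pow_zero, one_mul, Nat.reduceMul, mul_assoc], h, _root_.one_zpow]

/-- `x` is 2-central and the unique involution in the centre of the Sylow subgroup -/
theorem SLt.syl (h : Cx U) (hV : NV G Ω) (hx : SLt U x) {S : Subgroup G}
    (hS : IsSylowIn 2 S (centralizer ({x} : Set G))) :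
    IsSylowIn 2 S ⊤ ∧ x ∈ S ∧ ∀ z ∈ S, Inv z → (∀ s ∈ S, z * s = s * z) → z = x := by
  have hC : ∀ s ∈ S, s * x = x * s := fun s hs => mem_centralizer_singleton_iff.1 (hS.le hs)
  have xS : x ∈ S := hS.le_of_le_normalizer (slb_two (by rw [hx.1.1, mul_one]))
    (zpowers_le.2 (mem_centralizer_singleton_iff.2 rfl))
    (le_normalizer_of_le_centralizer (by rw [centralizer_zpowers]; exact hS.le)) (mem_zpowers x)
  have key : ∀ z ∈ S, Inv z → (∀ s ∈ S, z * s = s * z) → z = x := fun z hz zi zc => by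
    obtain ⟨a, b, F, _, _, e, π, hq, h1, hi⟩ := hx.slb_coord h
    have hB : ad (1 : Fˣ) * ad 1 = -1 := by rw [ad_mul_ad, inv_one, mul_one, dg_neg_one]
    obtain ⟨C, hC2, hCB⟩ := sl2_inv4 hq.odd hB
    generalize ad (1 : Fˣ) = B at hB hCB
    have p4 : ∀ D : SL(2, F), D * D = -1 → IsPGroup 2 (zpowers (π D)) := fun D k =>
      slb_two (by rw [← map_mul, k, h1, hx.1.1])
    have mL : ∀ D : SL(2, F), zpowers (π D) ≤ centralizer {x} := fun D =>
      zpowers_le.2 (LY_le U _ (hq.mem D))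
    obtain ⟨g, hg, hR⟩ := hS.exists_cj_le ((p4 C hC2).to_sup_of_normal_right' (p4 B hB)
      (zpowers_le.2 (mem_normalizer_of_cj_le (by
        rw [cj_zpowers, ← map_inv, ← map_mul, ← map_mul, hCB, map_inv, zpowers_inv]))))
      (sup_le (mL C) (mL B))
    have gx := mem_centralizer_singleton_iff.1 hg
    have cv : ∀ D : SL(2, F), D * D = -1 → ∃ D' : SL(2, F), π D' = g * π D * g⁻¹ ∧ D' * D' = -1 :=
      fun D k => by
      obtain ⟨D', hD⟩ := hq.range.ge ((h.ldY _).Lt_conj (mem_norm1.2 gx) (hq.mem D))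
      exact ⟨D', hD, hi (by rw [map_mul, hD, _root_.conj_mul, ← map_mul, k, h1, gx, mul_inv_cancel_right])⟩
    obtain ⟨B', b1, b2⟩ := cv B hB
    obtain ⟨C', c1, c2⟩ := cv C hC2
    have zx := zc x xS
    obtain ⟨A, hA⟩ := hV.lin h hx.1 hq.toL2P zi.1 zx
    have h4 := hx.three h
    refine (hV.uniq hx.1 (by omega) (mem_KY1.2 ⟨zx, hq.q8 (h.ldY _) (h1 ▸ hx.1.2) (mem_norm1.2 zx) hA b2 c2
      (hi ?_) (zc _ (hR ?_)) (zc _ (hR ?_))⟩) zi.1).resolve_left zi.2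
    · have := congrArg π hCB
      simp only [map_mul, map_inv] at this ⊢
      rw [b1, c1, _root_.conj_mul, conj_inv, _root_.conj_mul, this, conj_inv]
    · exact b1 ▸ cj_mem g (mem_sup_right (mem_zpowers _))
    · exact c1 ▸ cj_mem g (mem_sup_left (mem_zpowers _))
  refine ⟨isSylowIn_of_normalizer le_top (hS.mono (le_inf le_top le_normalizer) fun n hn => ?_), xS, key⟩
  refine mem_centralizer_singleton_iff.2 (mul_inv_eq_iff_eq_mul.1 (key _
    (conj_mem_of_mem_normalizer hn.2 xS) ⟨by rw [_root_.conj_mul, hx.1.1]; simp, by simpa using hx.1.2⟩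
    fun s hs => ?_))
  have := hC _ (conj_mem_of_mem_normalizer' hn.2 hs)
  calc n * x * n⁻¹ * s = n * (x * (n⁻¹ * s * n)) * n⁻¹ := by group
    _ = s * (n * x * n⁻¹) := by rw [← this]; group

theorem SLt.conj (h : Cx U) (hV : NV G Ω) (hx : SLt U x) {y : G} (hy : SLt U y) : IsConj x y := by
  obtain ⟨S, hS⟩ := exists_isSylowIn 2 (centralizer ({x} : Set G))
  obtain ⟨T, hT⟩ := exists_isSylowIn 2 (centralizer ({y} : Set G))
  obtain ⟨s1, s2, -⟩ := hx.syl h hV hS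
  obtain ⟨t1, -, t3⟩ := hy.syl h hV hT
  obtain ⟨g, -, rfl⟩ := s1.conj t1
  refine isConj_iff.2 ⟨g, t3 _ (cj_mem g s2) ⟨by rw [_root_.conj_mul, hx.1.1]; simp, by simpa using hx.1.2⟩
    fun s hs => ?_⟩
  obtain ⟨r, hr, rfl⟩ := mem_cj'.1 hs
  rw [_root_.conj_mul, _root_.conj_mul, mem_centralizer_singleton_iff.1 (hS.le hr)]

theorem slb_fact {n k : ℕ} (hn : Even n) (h0 : 0 < n) (hk : 0 < k) :
    (n * (n - 1) * k).factorization 2 = n.factorization 2 + k.factorization 2 := by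
  have h1 := Nat.even_iff.1 hn
  rw [Nat.factorization_mul (Nat.mul_ne_zero (by omega) (by omega)) (by omega),
    Nat.factorization_mul (by omega) (by omega), Finsupp.add_apply, Finsupp.add_apply,
    Nat.factorization_eq_zero_of_not_dvd (n := n - 1) (by omega), add_zero]

/-- a Sylow 2-subgroup of `C_H(x)` is a Sylow 2-subgroup of `H` -/
theorem SLt.sylH (h : Cx U) (hV : NV G Ω) (hx : SLt U x) (hab : a ≠ b) (xH : x ∈ Hb G a b)
    (hn : ((Fx Ω {x}).ncard).factorization 2 = (Nat.card Ω).factorization 2) {T : Subgroup G}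
    (hT : IsSylowIn 2 T (centralizer ({x} : Set G) ⊓ Hb G a b)) : IsSylowIn 2 T (Hb G a b) := by
  obtain ⟨S, hS⟩ := exists_isSylowIn 2 (centralizer ({x} : Set G))
  obtain ⟨T0, hT0⟩ := exists_isSylowIn 2 (Hb G a b)
  have h4 := hx.three h
  have h3 := h.three
  have c1 := (h.ldY {x}).card (by omega) (LY_le U _) (centralizer_le_normalizer _)
    (mem_Fx1.2 (mem_Hb.1 xH).1) (mem_Fx1.2 (mem_Hb.1 xH).2) hab
  have c2 := h.ld.card (by rwa [Set.ncard_univ]) le_top le_rfl (Set.mem_univ a) (Set.mem_univ b) hab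
  rw [Set.ncard_univ, top_inf_eq] at c2
  have c3 := hS.card_eq_pow_factorization.symm.trans (hx.syl h hV hS).1.card_eq_pow_factorization
  rw [Nat.pow_right_inj one_lt_two, c1, c2, slb_fact ((h.ldY {x}).even (by omega)) (by omega) Nat.card_pos,
    slb_fact h.toCb.even (by omega) Nat.card_pos, hn, Nat.add_left_cancel_iff] at c3
  refine hT0.of_card_le hT.isP (hT.le.trans inf_le_right) ?_
  rw [hT0.card_eq_pow_factorization, hT.card_eq_pow_factorization, c3]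

/-- an inner involution is a product of elements of order four of `L` and `K` -/
theorem SLt.inn (h : Cx U) (hV : NV G Ω) (hx : SLt U x) {y : G} (hy : Inv y) (yx : y ≠ x)
    (hc : y * x = x * y) (hi : Inn (Fx Ω {x}) (UY U {x}) y) :
    ∃ l ∈ LY U {x}, ∃ k ∈ KY Ω ({x} : Set G), y = l * k ∧ l * k = k * l ∧ l * l = x ∧ k * k = x := by
  obtain ⟨l, hl, hk⟩ := hi
  obtain ⟨a, b, F, _, _, e, π, hq, h1, hi⟩ := hx.slb_coord h
  have h4 := hx.three h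
  have kN : l⁻¹ * y ∈ normalizer ({x} : Set G) :=
    mul_mem (inv_mem ((h.ldY _).Lt_le hl)) (mem_norm1.2 hc)
  have cm := (h.ldY _).commK (h.faithY (by omega)) kN hk hl
  have e1 : y = l * (l⁻¹ * y) := (mul_inv_cancel_left _ _).symm
  generalize l⁻¹ * y = k at hk kN cm e1
  have e2 : l * l * (k * k) = 1 := by
    rw [← hy.1, e1, mul_assoc, mul_assoc, ← mul_assoc k, cm, mul_assoc]
  have l2 : l * l = x := by
    rcases hq.ker (mul_mem hl hl) (fun z hz => by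
      have := congrArg (· • z) e2
      simpa only [mul_smul, hk z hz, one_smul] using this) with c | c
    · obtain ⟨B, rfl⟩ := hq.range.ge hl
      refine absurd (fun z hz => ?_) (hV.slb_ntr hx.1 (by omega) hy yx hc)
      rw [e1, mul_smul, hk z hz]
      exact (hq.tr_iff (h.ldY _)).2 (sl2_sq hq.odd (hi (by rw [map_mul, c, map_one]))) z hz
    · rw [c, h1]
  refine ⟨l, hl, k, mem_KY1.2 ⟨mem_norm1.1 kN, hk⟩, e1, cm.symm, l2, ?_⟩
  rw [l2] at e2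
  exact mul_left_cancel (e2.trans hx.1.1.symm)

theorem SLt.conj4 (h : Cx U) (hx : SLt U x) {l l' : G} (hl : l ∈ LY U {x}) (hl' : l' ∈ LY U {x})
    (l2 : l * l = x) (l2' : l' * l' = x) : ∃ m ∈ LY U {x}, m * l * m⁻¹ = l' := by
  obtain ⟨a, b, F, _, _, e, π, hq, h1, hi⟩ := hx.slb_coord h
  obtain ⟨B, rfl⟩ := hq.range.ge hl
  obtain ⟨B', rfl⟩ := hq.range.ge hl'
  obtain ⟨C, rfl⟩ := isConj_iff.1 (sl2_conj4 hq.odd (B := B) (B' := B') (hi (by rw [map_mul, l2, h1]))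
    (hi (by rw [map_mul, l2', h1])))
  exact ⟨π C, hq.mem C, by simp⟩

theorem SLt.slb_swap (h : Cx U) (hV : NV G Ω) (hx : SLt U x) (hab : a ≠ b) (xH : x ∈ Hb G a b) {y : G}
    (hy : Inv y) (yx : y ≠ x) (hc : y * x = x * y) (yH : y ∈ Hb G a b) :
    ∃ μ : G, μ • a = b ∧ μ • b = a ∧ μ * x * μ⁻¹ = x ∧ μ * y * μ⁻¹ = y * x := by
  have ha := mem_Fx1.2 (mem_Hb.1 xH).1
  have hb := mem_Fx1.2 (mem_Hb.1 xH).2
  obtain ⟨F, _, _, e, π, hq⟩ := hx.2.2 a ha b hb hab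
  obtain ⟨m1, m2, m3⟩ := (hq.mem_swap (h.ldY _) ha hb).2 ⟨1, rfl⟩
  have m4 := mem_centralizer_singleton_iff.1 (LY_le U _ m1)
  have k := hq.conj_ad (mem_norm1.2 hc) (c := -1) (by
    simpa using hV.neg h hx.1 xH hq.toL2P hy yx hc yH) 1
  rw [map_one, ← dg_mul_ad, dg_neg_one, map_mul, hx.neg hq] at k
  refine ⟨_, m2, m3, mul_inv_eq_iff_eq_mul.2 m4, mul_inv_eq_iff_eq_mul.2 ?_⟩
  rw [mul_assoc, ← k, inv_eq_of_mul_eq_one_right hy.1, ← mul_assoc, ← mul_assoc, hy.1, one_mul]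

/-- three conjugate axes: `U a` is elementary abelian of order `q³` -/
theorem SLt.axes (h : Cx U) (hV : NV G Ω) (hx : SLt U x) (hab : a ≠ b) (xH : x ∈ Hb G a b)
    {t : G} (tH : t ∈ Hb G a b) (hc : IsConj x t) (tx : t ≠ x) (cm : x * t = t * x) :
    IsConj x (t * x) ∧ Nat.card (U a) = Nat.card (UY U {x} a) ^ 3 ∧ IsMulCommutative (U a) ∧
      (∃ p : ℕ, p.Prime ∧ ∀ u ∈ U a, u ^ p = 1) ∧
      ∃ ρ ∈ Hb G a b, ρ * x * ρ⁻¹ = t ∧ ρ * t * ρ⁻¹ = t * x ∨ ρ * x * ρ⁻¹ = t * x ∧ ρ * t * ρ⁻¹ = x := by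
  have ht := h.toCb.SLt_conj hc hx
  obtain ⟨μ, m1, m2, m3, m4⟩ := hx.slb_swap h hV hab xH ht.1 tx cm.symm tH
  obtain ⟨ν, n1, n2, n3, n4⟩ := ht.slb_swap h hV hab tH hx.1 tx.symm cm xH
  have ρH : μ * ν ∈ Hb G a b := mem_Hb.2 ⟨by rw [mul_smul, n1, m2], by rw [mul_smul, n2, m1]⟩
  have r1 : μ * ν * x * (μ * ν)⁻¹ = t := by
    rw [show μ * ν * x * (μ * ν)⁻¹ = μ * (ν * x * ν⁻¹) * μ⁻¹ by group, n4, ← _root_.conj_mul, m3, m4, ← mul_assoc,
      cm, mul_assoc, hx.1.1, mul_one]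
  have r2 : μ * ν * t * (μ * ν)⁻¹ = t * x := by
    rw [show μ * ν * t * (μ * ν)⁻¹ = μ * (ν * t * ν⁻¹) * μ⁻¹ by group, n3, m4]
  generalize μ * ν = ρ at ρH r1 r2
  have r3 : ρ * (t * x) * ρ⁻¹ = x := by
    rw [← _root_.conj_mul, r1, r2, ← cm, mul_assoc, ht.1.1, mul_one]
  have ρa := (mem_Hb.1 ρH).1
  have xa := (mem_Hb.1 xH).1
  have ta := (mem_Hb.1 tH).1
  have c2 : IsConj x (t * x) := hc.trans (isConj_iff.2 ⟨ρ, r2⟩)
  have cjU : ∀ g : G, g • a = a → ∀ u ∈ U a, g * u * g⁻¹ ∈ U a := fun g ga u hu =>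
    ga ▸ h.ld.cj g (mem_top g) a (Set.mem_univ a) u hu
  -- central elements of `U a`
  let Z : G → Prop := fun z => z ∈ U a ∧ ∀ w ∈ U a, z * w = w * z
  have cjZ : ∀ g : G, g • a = a → ∀ z, Z z → Z (g * z * g⁻¹) := fun g ga z hz =>
    ⟨cjU g ga z hz.1, fun w hw => by
      have := hz.2 _ (cjU g⁻¹ (inv_smul_eq_iff.2 ga.symm) w hw)
      calc g * z * g⁻¹ * w = g * (z * (g⁻¹ * w * g⁻¹⁻¹)) * g⁻¹ := by group
        _ = w * (g * z * g⁻¹) := by rw [this]; group⟩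
  let P : G → Prop := fun v => ∃ z, Z z ∧ z ≠ 1 ∧ v * z * v⁻¹ = z
  have cjP : ∀ v, P v → P (ρ * v * ρ⁻¹) := fun v ⟨z, z1, z2, z3⟩ =>
    ⟨_, cjZ ρ ρa z z1, by simpa using z2, by rw [_root_.conj_mul, conj_inv, _root_.conj_mul, z3]⟩
  have Px : P x := by
    by_contra c
    have inv : ∀ v : G, v * v = 1 → v • a = a → ¬ P v → ∀ z, Z z → v * z * v⁻¹ = z⁻¹ :=
      fun v v2 va c z hz => by
      have k := cjZ v va z hz
      refine eq_inv_of_mul_eq_one_left (by_contra fun d => c ⟨_, ⟨mul_mem k.1 hz.1, fun w hw => by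
        rw [mul_assoc, hz.2 w hw, ← mul_assoc, k.2 w hw, mul_assoc]⟩, d, ?_⟩)
      rw [← _root_.conj_mul, show v * (v * z * v⁻¹) * v⁻¹ = v * v * z * (v * v)⁻¹ by group, v2, one_mul, inv_one,
        mul_one, hz.2 _ k.1]
    have c3 : ¬ P (t * x) := fun k => c (r3 ▸ cjP _ k)
    have h3 := h.three
    have h5 := h.card_U a
    have : Nontrivial (U a) := Finite.one_lt_card_iff_nontrivial.1 (by omega)
    have := h.ld.nil a (Set.mem_univ a)
    obtain ⟨z, hz⟩ := (center (U a)).ne_bot_iff_exists_ne_one.1 (Group.IsNilpotent.center_ne_bot _)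
    have z1 : Z z.1 := ⟨z.1.2, fun w hw =>
      (congrArg Subtype.val (mem_center_iff.1 z.2 ⟨w, hw⟩)).symm⟩
    refine c3 ⟨_, z1, fun k => hz (Subtype.ext (Subtype.ext k)), ?_⟩
    rw [show t * x * z.1.1 * (t * x)⁻¹ = t * (x * z.1.1 * x⁻¹) * t⁻¹ by group, inv x hx.1.1 xa c _ z1,
      ← conj_inv, inv t ht.1.1 ta (fun k => c3 (r2 ▸ cjP _ k)) _ z1, inv_inv]
  have ha := mem_Fx1.2 xa
  have hb := mem_Fx1.2 (mem_Hb.1 xH).2
  obtain ⟨F, _, _, e, π, hq⟩ := hx.2.2 a ha b hb hab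
  have h4 := hx.three h
  let K : Subgroup G :=
    { carrier := {u | Z u ∧ u ^ ringChar F = 1}
      one_mem' := ⟨⟨one_mem _, by simp⟩, one_pow _⟩
      mul_mem' := fun {u v} hu hv => ⟨⟨mul_mem hu.1.1 hv.1.1, fun w hw => by
        rw [mul_assoc, hv.1.2 w hw, ← mul_assoc, hu.1.2 w hw, mul_assoc]⟩, by
        rw [Commute.mul_pow (hu.1.2 v hv.1.1), hu.2, hv.2, mul_one]⟩
      inv_mem' := fun {u} hu => ⟨⟨inv_mem hu.1.1, fun w hw => (Commute.inv_left (hu.1.2 w hw)).eq⟩, by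
        rw [inv_pow, hu.2, inv_one]⟩ }
  have Kx : UY U {x} a ≤ K := fun u hu => by
    by_cases u1 : u = 1
    · exact u1 ▸ one_mem K
    have uU := (mem_UY1.1 hu).1
    have ld := h.ldY {x}
    obtain ⟨z, z1, z2, z3⟩ := Px
    have zx := mem_UY1.2 ⟨z1.1, (mul_inv_eq_iff_eq_mul.1 z3).symm⟩
    have mK : ∀ w ∈ UY U {x} a, Z w → w ∈ K := fun w hw k => ⟨k, (hq.V_ab hw hw).2⟩
    obtain ⟨u', hu', k⟩ := hq.toL2P.ll3 ld ha hb (A := UY U {x} a ⊓ K) inf_le_left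
      (fun d dL dH w hw => by
        have da := (mem_Hb.1 dH).1
        have := ld.cj d (ld.Lt_le dL) a ha w hw.1
        rw [da] at this
        exact ⟨this, mK _ this (cjZ d da w hw.2.1)⟩)
      ⟨z, ⟨zx, mK z zx z1⟩, fun k => z2 (h.faithY (by omega) a ha z zx k)⟩ (u • b)
      (ld.inv u (ld.le a ha hu) b hb) fun k => hab (smul_left_cancel u ((ld.fix a ha u hu).trans k.symm))
    have := h.reg a b hab.symm (u⁻¹ * u') (mul_mem (inv_mem uU) hu'.2.1.1) (by rw [mul_smul, k, inv_smul_smul])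
    exact inv_mul_eq_one.1 this ▸ hu'.2
  have cjK : ∀ v : G, UY U {v} a ≤ K → UY U {ρ * v * ρ⁻¹} a ≤ K := fun v hv u hu => by
    have k := hv ((h.toCb.mem_UY_conj ρ v (ρ⁻¹ * u * ρ) a).1 (by simpa [ρa, mul_assoc] using hu))
    have e : u = ρ * (ρ⁻¹ * u * ρ) * ρ⁻¹ := by group
    exact e ▸ ⟨cjZ ρ ρa _ k.1, by rw [conj_pow, k.2]; simp⟩
  have Kt : UY U {t} a ≤ K := r1 ▸ cjK x Kx
  have UK : U a ≤ K := h.toCb.gen4 hx.1.1 ht.1.1 cm xa ta ▸
    sup_le (sup_le Kx Kt) (cm ▸ r2 ▸ cjK t Kt)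
  refine ⟨c2, ?_, ⟨⟨fun u v => Subtype.ext ((UK u.2).1.2 v v.2)⟩⟩,
    ⟨_, CharP.char_is_prime F _, fun u hu => (UK hu).2⟩, ρ, ρH, Or.inl ⟨r1, r2⟩⟩
  have b1 := h.toCb.bw hx.1 ht.1 tx.symm cm xa ta
  have b2 := h.card2 hx.1.1 ht.1.1 cm xa ta
  have b3 := hV x t hx.1 ht.1 tx.symm cm
  have b4 := Nat.card_pos (α := UY U {x, t} a)
  have b5 := h.card1 hx.1.1 xa
  have b6 := h.card1 ht.1.1 ta
  have b7 := h.card1 (hx.1.conj c2).1 (show (t * x) • a = a by rw [mul_smul, xa, ta])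
  rw [← Fx_ncard_conj hc, ← b5, Nat.add_right_cancel_iff] at b6
  rw [← Fx_ncard_conj c2, ← b5, Nat.add_right_cancel_iff] at b7
  rw [cm, b6, b7, show Nat.card (UY U {x, t} a) = 1 by omega] at b1
  rw [pow_three', ← b1, one_pow, mul_one]

end H51.HK
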