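import Cfsg.Agent.Lib.HK.LL
import Mathlib.GroupTheory.FixedPointFree

/-! SP1, part a: counting in an abelian group with two involutory automorphisms, two point
involutions (blueprint/HKS2.md). -/

set_option autoImplicit false

namespace H51.HK

open MulAction Subgroup Matrix H69
open scoped MatrixGroups Classical commutatorElement

theorem sp1_abs {A : Type*} [CommGroup A] [Finite A] (ho : ∀ u : A, u * u = 1 → u = 1)
    (σ τ : A →* A) (hσ : ∀ u, σ (σ u) = u)
    (Ps Pt Ms Mt C : Subgroup A) (hPs : ∀ u, u ∈ Ps ↔ σ u = u) (hPt : ∀ u, u ∈ Pt ↔ τ u = u)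
    (hMs : ∀ u, u ∈ Ms ↔ σ u = u⁻¹) (hMt : ∀ u, u ∈ Mt ↔ τ u = u⁻¹)
    (hC : ∀ u, u ∈ C ↔ σ (τ u) = u) (hCs : C ≤ Ps) :
    Nat.card Mt ∣ Nat.card Ps ∧ Nat.card Pt ≤ Nat.card C * Nat.card Ms ∧
      ((∀ u : A, ∀ v ∈ C, σ (τ u) = u * v → v = 1) →
        Nat.card Mt * Nat.card C ≤ Nat.card Ps) := by
  have key : ∀ u ∈ Mt, u * σ u = 1 → u = 1 := by
    intro u hu h1
    have h2 : σ u = u⁻¹ := eq_inv_of_mul_eq_one_right h1
    have h3 : u ∈ C := by rw [hC, (hMt u).1 hu, map_inv, h2, inv_inv]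
    have h4 : σ u = u := (hPs u).1 (hCs h3)
    apply ho
    rw [h4] at h1
    exact h1
  refine ⟨?_, ?_, ?_⟩
  · let f : Mt →* Ps := MonoidHom.mk' (fun u => ⟨u * σ u, by
        rw [hPs, map_mul, hσ, mul_comm]⟩) (by
        intro u v
        ext
        simp only [coe_mul, map_mul]
        exact mul_mul_mul_comm _ _ _ _)
    refine card_dvd_of_injective f ((injective_iff_map_eq_one f).2 fun u hu => ?_)
    exact Subtype.ext (key u u.2 (congrArg Subtype.val hu))
  · let f : Pt →* Ms := MonoidHom.mk' (fun u => ⟨u * (σ u)⁻¹, by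
        rw [hMs, map_mul, map_inv, hσ, _root_.mul_inv_rev, inv_inv]⟩) (by
        intro u v
        ext
        simp only [coe_mul, map_mul, mul_inv]
        exact mul_mul_mul_comm _ _ _ _)
    have h1 : Nat.card f.ker * f.ker.index = Nat.card Pt := f.ker.card_mul_index
    have h2 : f.ker.index ≤ Nat.card Ms := by
      rw [index_ker]
      exact Nat.le_of_dvd Nat.card_pos (card_subgroup_dvd_card _)
    have h3 : Nat.card f.ker ≤ Nat.card C := by
      refine Nat.card_le_card_of_injective (fun u => ⟨(u.1 : A), ?_⟩) ?_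
      · have h4 : (u.1 : A) * (σ u.1)⁻¹ = 1 := congrArg Subtype.val u.2
        rw [hC, (hPt _).1 u.1.2]
        exact (mul_inv_eq_one.1 h4).symm
      · intro u v huv
        have h4 : (u.1 : A) = v.1 := congrArg (Subtype.val : C → A) huv
        exact Subtype.ext (Subtype.ext h4)
    rw [← h1]
    exact Nat.mul_le_mul h3 h2
  · intro H
    let f : Mt × C →* Ps := MonoidHom.mk' (fun u => ⟨u.1 * σ u.1 * u.2, by
        rw [hPs, map_mul, map_mul, hσ, (hPs _).1 (hCs u.2.2), mul_comm (σ _)]⟩) (by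
        intro u v
        ext
        simp only [Prod.fst_mul, Prod.snd_mul, coe_mul, map_mul]
        rw [mul_mul_mul_comm (u.1 : A), mul_mul_mul_comm (_ * _ : A)])
    rw [← Nat.card_prod]
    refine Nat.card_le_card_of_injective f ((injective_iff_map_eq_one f).2 fun u hu => ?_)
    have h1 : (u.1 : A) * σ u.1 * u.2 = 1 := congrArg Subtype.val hu
    have h2 : (u.2 : A) = 1 := by
      refine H u.1 u.2 u.2.2 ?_
      rw [(hMt _).1 u.1.2, map_inv]
      refine inv_eq_of_mul_eq_one_right ?_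
      rw [← mul_assoc, mul_comm (σ _), h1]
    rw [h2, mul_one] at h1
    exact Prod.ext (Subtype.ext (key _ u.1.2 h1)) (Subtype.ext h2)

variable {G Ω : Type*} [Group G] [MulAction G Ω] [Finite G] [Finite Ω]

variable {U : Ω → Subgroup G}

omit [Finite G] [Finite Ω] in
theorem sp1_cj (h : Cb U) {g : G} {a : Ω} (ha : g • a = a) :
    ∃ σ : U a →* U a, ∀ u : U a, (σ u : G) = g * u * g⁻¹ := by
  refine ⟨MonoidHom.mk' (fun u => ⟨g * u * g⁻¹, ?_⟩) ?_, fun u => rfl⟩
  · have := h.ld.cj g (mem_top g) a (Set.mem_univ a) u u.2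
    rwa [ha] at this
  · intro u v
    ext
    simp only [coe_mul]
    group

/-- a two point involution inverts the root groups at its fixed points -/
theorem sp1_inv (h : Cx U) {t : G} (ht : t * t = 1) {a : Ω} (ha : t • a = a)
    (h2 : (Fx Ω {t}).ncard = 2) :
    (∀ u ∈ U a, t * u * t⁻¹ = u⁻¹) ∧ ∀ u ∈ U a, ∀ v ∈ U a, u * v = v * u := by
  obtain ⟨σ, hσ⟩ := sp1_cj h.toCb ha
  have h1 := h.card1 ht ha
  have h3 : UY U {t} a = ⊥ := by
    rw [← card_eq_one]; omega
  have hf : MonoidHom.FixedPointFree σ := by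
    intro u hu
    have h4 : (u : G) ∈ UY U {t} a := by
      refine mem_UY1.2 ⟨u.2, ?_⟩
      have h5 := hσ u
      rw [hu] at h5
      calc (u : G) * t = t * u * t⁻¹ * t := by rw [← h5]
        _ = t * u := by group
    rw [h3] at h4
    exact Subtype.ext h4
  have hi : Function.Involutive σ := by
    intro u
    ext
    rw [hσ, hσ]
    calc t * (t * u * t⁻¹) * t⁻¹ = (t * t) * u * (t * t)⁻¹ := by group
      _ = u := by rw [ht]; group
  refine ⟨fun u hu => ?_, fun u hu v hv => ?_⟩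
  · have h4 := congrFun (hf.coe_eq_inv_of_involutive hi) ⟨u, hu⟩
    have h5 := hσ ⟨u, hu⟩
    rw [h4] at h5
    exact h5.symm
  · exact congrArg Subtype.val (hf.commute_all_of_involutive hi ⟨u, hu⟩ ⟨v, hv⟩).eq

theorem sp1_uniq (h : Cx U) {t t' : G} (ht : t * t = 1) (ht' : t' * t' = 1) {a b : Ω}
    (hab : a ≠ b) (ha : t • a = a) (hb : t • b = b) (ha' : t' • a = a) (hb' : t' • b = b)
    (h2 : (Fx Ω {t}).ncard = 2) (h2' : (Fx Ω {t'}).ncard = 2) : t' = t := by
  have h1 : t * t' = 1 := by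
    refine h.toCb.eq_one hab (mem_Hb.2 ⟨by rw [mul_smul, ha', ha], by rw [mul_smul, hb', hb]⟩) ?_
    intro u hu
    have e1 := (sp1_inv h ht ha h2).1 u⁻¹ (inv_mem hu)
    have e2 := (sp1_inv h ht' ha' h2').1 u hu
    calc t * t' * u = t * (t' * u * t'⁻¹) * t⁻¹ * (t * t') := by group
      _ = u * (t * t') := by rw [e2, e1, inv_inv]
  rw [← ht] at h1
  exact mul_left_cancel h1

omit [Finite G] in
theorem sp1_fix {t : G} {a b : Ω} (hab : a ≠ b) (ha : t • a = a) (hb : t • b = b)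
    (h2 : (Fx Ω {t}).ncard = 2) {x : Ω} (hx : t • x = x) : x = a ∨ x = b := by
  have h1 : ({a, b} : Set Ω) = Fx Ω {t} := by
    refine Set.eq_of_subset_of_ncard_le ?_ (by rw [h2, Set.ncard_pair hab]) (Set.toFinite _)
    rintro y (rfl | rfl)
    · intro s hs; rw [hs]; exact ha
    · intro s hs; rw [hs]; exact hb
  have h3 : x ∈ Fx Ω {t} := by intro s hs; rw [hs]; exact hx
  rw [← h1] at h3
  exact h3

theorem sp1_comm (h : Cx U) {t g : G} (ht : t * t = 1) {a b : Ω}
    (hab : a ≠ b) (ha : t • a = a) (hb : t • b = b) (h2 : (Fx Ω {t}).ncard = 2)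
    (hg : g • a = a ∧ g • b = b ∨ g • a = b ∧ g • b = a) : g * t = t * g := by
  have e : ∀ x : Ω, t • x = x → (g * t * g⁻¹) • g • x = g • x := by
    intro x hx
    rw [← mul_smul, inv_mul_cancel_right, mul_smul, hx]
  have h1 : g * t * g⁻¹ = t := by
    refine sp1_uniq h ht ?_ hab ha hb ?_ ?_ h2 ?_
    · calc g * t * g⁻¹ * (g * t * g⁻¹) = g * (t * t) * g⁻¹ := by group
        _ = 1 := by rw [ht]; group
    · rcases hg with hg | hg
      · rw [← hg.1]; exact e a ha
      · rw [← hg.2]; exact e b hb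
    · rcases hg with hg | hg
      · rw [← hg.2]; exact e b hb
      · rw [← hg.1]; exact e a ha
    · rw [← h2]
      exact (Fx_ncard_conj (isConj_iff.2 ⟨g, rfl⟩)).symm
  calc g * t = g * t * g⁻¹ * g := by group
    _ = t * g := by rw [h1]

theorem sp1_ex (h : Cx U) {z : G} (h2 : (Fx Ω {z}).ncard = 2) {c d : Ω} (hcd : c ≠ d) :
    ∃ t, IsConj z t ∧ t • c = c ∧ t • d = d := by
  obtain ⟨a, b, hab, hF⟩ := Set.ncard_eq_two.1 h2
  obtain ⟨g, hga, hgb⟩ := h.toCb.pair hab hcd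
  have ha : z • a = a := mem_Fx1.1 (by rw [hF]; simp)
  have hb : z • b = b := mem_Fx1.1 (by rw [hF]; simp)
  refine ⟨g * z * g⁻¹, isConj_iff.2 ⟨g, rfl⟩, ?_, ?_⟩
  · rw [← hga, ← mul_smul, inv_mul_cancel_right, mul_smul, ha]
  · rw [← hgb, ← mul_smul, inv_mul_cancel_right, mul_smul, hb]

omit [Finite G] [Finite Ω] in
theorem sp1_sq {z t : G} (hz : z * z = 1) (hc : IsConj z t) : t * t = 1 := by
  obtain ⟨g, rfl⟩ := isConj_iff.1 hc
  calc g * z * g⁻¹ * (g * z * g⁻¹) = g * (z * z) * g⁻¹ := by group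
    _ = 1 := by rw [hz]; group

theorem sp1_conj (h : Cx U) {z t : G} (hz : z * z = 1) (h2 : (Fx Ω {z}).ncard = 2)
    (ht : t * t = 1) (h2' : (Fx Ω {t}).ncard = 2) : IsConj z t := by
  obtain ⟨a, b, hab, hF⟩ := Set.ncard_eq_two.1 h2'
  have ha : t • a = a := mem_Fx1.1 (by rw [hF]; simp)
  have hb : t • b = b := mem_Fx1.1 (by rw [hF]; simp)
  obtain ⟨t', hc, ha', hb'⟩ := sp1_ex h h2 hab
  rw [sp1_uniq h (sp1_sq hz hc) ht hab ha' hb' ha hb (by rw [← Fx_ncard_conj hc, h2]) h2']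
  exact hc

/-- for `n ≡ 2 (4)` involutions with at least three fixed points have type `L₂` -/
theorem sp1_TL (h : Cx U) (h3 : Ty3 U) (hn : Nat.card Ω % 4 = 2) {t : G} (ht : Inv t)
    (hf : 3 ≤ (Fx Ω {t}).ncard) : TL U {t} := by
  have hp := h.toC0.parity ht.1
  rw [hn] at hp
  rcases h3 t ht hf with h1 | h1 | h1
  · exact h1
  · exfalso
    obtain ⟨⟨q, hq⟩, -⟩ := h1
    obtain ⟨m, hm⟩ := hq.pw
    have h4 : q % 4 = 3 := by
      rw [hm, pow_succ, pow_mul, Nat.mul_mod, Nat.pow_mod]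
      norm_num
    rw [hq.card, Nat.add_mod, Nat.pow_mod, h4] at hp
    norm_num at hp
  · exfalso
    obtain ⟨a, b, ha, hb, hab⟩ := (Set.one_lt_ncard_iff (Set.toFinite _)).1
      (show 1 < (Fx Ω {t}).ncard by omega)
    obtain ⟨F, _, _, e, hP⟩ := h1.1 a ha b hb hab
    haveI := hP.two
    haveI : Fact (Nat.Prime 2) := ⟨Nat.prime_two⟩
    obtain ⟨k, -, hk⟩ := FiniteField.card F 2
    have h5 : (Fx Ω {t}).ncard = Fintype.card F := by
      rw [hP.bij.ncard_eq, Set.ncard_univ, Nat.card_eq_fintype_card]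
    have h6 := hP.big
    rw [h5, hk] at hp
    rw [hk] at h6
    obtain ⟨k, hk0⟩ := k
    simp only [PNat.mk_coe] at hp h6
    match k, hk0, hp, h6 with
    | 1, _, _, h6 => omega
    | (k + 2), _, hp, _ => rw [pow_add] at hp; omega

end H51.HK
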