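import Cfsg.Agent.Lib.HK.SP1a

/-! SP1, part b: involutions on a projective line (blueprint/HKS2.md). -/

set_option autoImplicit false

namespace H51.HK

open MulAction Subgroup Matrix H69
open scoped MatrixGroups Classical commutatorElement

variable {G Ω : Type*} [Group G] [MulAction G Ω] [Finite G] [Finite Ω]

section
variable {N : Subgroup G} {Δ : Set Ω} {V : Ω → Subgroup G} {a b : Ω} {F : Type} [Field F]
  [Fintype F] {e : Ω → OnePoint F}

omit [Finite G] [Finite Ω] in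
theorem sp1_inn_iff {g : G} : Inn Δ V g ↔ ∃ l ∈ Lt Δ V, ∀ x ∈ Δ, g • x = l • x := by
  refine exists_congr fun l => and_congr_right fun _ => forall₂_congr fun x _ => ?_
  rw [mul_smul, inv_smul_eq_iff]

theorem sp1_inn_mul (hd : LD N Δ V) {g g' : G} (h : Inn Δ V g) (h' : Inn Δ V g') :
    Inn Δ V (g * g') := by
  obtain ⟨l, hl, h1⟩ := sp1_inn_iff.1 h
  obtain ⟨l', hl', h1'⟩ := sp1_inn_iff.1 h'
  refine sp1_inn_iff.2 ⟨l * l', mul_mem hl hl', fun x hx => ?_⟩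
  rw [mul_smul, mul_smul, h1' x hx, h1 _ (hd.inv l' (hd.Lt_le hl') x hx)]

theorem sp1_inn_pow (hd : LD N Δ V) {g : G} (h : Inn Δ V g) (k : ℕ) : Inn Δ V (g ^ k) := by
  induction k with
  | zero => exact sp1_inn_iff.2 ⟨1, one_mem _, fun x _ => by rw [pow_zero]⟩
  | succ k ih => rw [pow_succ]; exact sp1_inn_mul hd ih h

theorem sp1_lin_mul (hd : LD N Δ V) {g g' : G} (hg' : g' ∈ N)
    (h : ∃ A : GL (Fin 2) F, Act e Δ g A (RingEquiv.refl F))
    (h' : ∃ A : GL (Fin 2) F, Act e Δ g' A (RingEquiv.refl F)) :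
    ∃ A : GL (Fin 2) F, Act e Δ (g * g') A (RingEquiv.refl F) := by
  obtain ⟨A, hA⟩ := h
  obtain ⟨A', hA'⟩ := h'
  exact ⟨_, Act.mul hd hg' hA hA'⟩

theorem sp1_inn_lin (h : L2P N Δ V a b F e) (hd : LD N Δ V) {g : G} (hN : g ∈ N)
    (hg : Inn Δ V g) : ∃ A : GL (Fin 2) F, Act e Δ g A (RingEquiv.refl F) := by
  obtain ⟨A, σ, hA⟩ := h.Ngl g hN
  obtain ⟨rfl, -⟩ := (h.inn_iff hd hN hA).1 hg
  exact ⟨A, hA⟩

omit [Finite G] [Finite Ω] in
theorem sp1_sc_tr (h : L2P N Δ V a b F e) (hd : LD N Δ V) {g : G} (hN : g ∈ N) {c : F}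
    (hc : c = 1) (hg : Sc e Δ g c (RingEquiv.refl F)) : Tr Δ g := by
  intro x hx
  refine h.bij.injOn (hd.inv g hN x hx) hx ?_
  rw [hg x hx, hc]
  cases e x with
  | infty => rfl
  | coe y => simp

theorem sp1_four (h : L2P N Δ V a b F e) : 4 ≤ Δ.ncard := by
  have h1 := h.card
  have h2 := h.odd
  have h3 : 1 < Fintype.card F := Fintype.one_lt_card
  obtain ⟨k, hk⟩ := h2
  omega

/-- involutions with at most two fixed points -/
theorem sp1_he (h : L2P N Δ V a b F e) (hd : LD N Δ V) {y : G} (hN : y ∈ N) (h2 : y * y = 1)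
    (hf : {x | x ∈ Δ ∧ y • x = x}.ncard ≤ 2) :
    (∃ A : GL (Fin 2) F, Act e Δ y A (RingEquiv.refl F)) ∧
      ((∃ x ∈ Δ, y • x = x) → (Inn Δ V y ↔ Δ.ncard % 4 = 2)) ∧
      ((∀ x ∈ Δ, y • x ≠ x) → (Inn Δ V y ↔ Δ.ncard % 4 = 0)) := by
  have t2 : Tr Δ (y * y) := fun x _ => by rw [h2, one_smul]
  obtain ⟨A, hA⟩ := h.lin hd hN t2 hf
  have h4 := sp1_four h
  have hc := h.card
  have t1 : ¬ Tr Δ y := by
    intro ht
    have : {x | x ∈ Δ ∧ y • x = x} = Δ := Set.ext fun x => ⟨fun hx => hx.1, fun hx => ⟨hx, ht x hx⟩⟩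
    rw [this] at hf
    omega
  refine ⟨⟨A, hA⟩, ?_, ?_⟩
  · rintro ⟨x, hx, hyx⟩
    rcases h.hyp_ell hd hN t2 t1 hA with h5 | h5
    · rw [h5.2]; omega
    · exact absurd hyx (h5.1 x hx)
  · intro hx
    rcases h.hyp_ell hd hN t2 t1 hA with h5 | h5
    · have : {x | x ∈ Δ ∧ y • x = x} = ∅ :=
        Set.eq_empty_of_forall_notMem fun x hx' => hx x hx'.1 hx'.2
      rw [this, Set.ncard_empty] at h5
      omega
    · rw [h5.2]; omega

omit [Finite G] in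
theorem sp1_le_two {t : G} (h2 : (Fx Ω {t}).ncard = 2) : {x | x ∈ Δ ∧ t • x = x}.ncard ≤ 2 := by
  rw [← h2]
  refine Set.ncard_le_ncard (fun x hx => ?_) (Set.toFinite _)
  intro s hs
  rw [hs]; exact hx.2

omit [Finite G] [Finite Ω] in
theorem sp1_le_zero {t : G} (h0 : ∀ x ∈ Δ, t • x ≠ x) : {x | x ∈ Δ ∧ t • x = x}.ncard ≤ 2 := by
  have : {x | x ∈ Δ ∧ t • x = x} = ∅ :=
    Set.eq_empty_of_forall_notMem fun x hx' => h0 x hx'.1 hx'.2
  rw [this, Set.ncard_empty]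
  omega

/-- an inner element with a fixed point that commutes with an elliptic involution has trivial
square -/
theorem sp1_A (h : L2A N Δ V) (hd : LD N Δ V) {z g : G} (zN : z ∈ N) (gN : g ∈ N)
    (z2 : z * z = 1) (zf : ∀ x ∈ Δ, z • x ≠ x) (gi : Inn Δ V g) (hc : z * g = g * z) {x : Ω}
    (hx : x ∈ Δ) (gx : g • x = x) : Tr Δ (g * g) := by
  have hx' : z • x ∈ Δ := hd.inv z zN x hx
  obtain ⟨F, _, _, e, hP⟩ := h x hx (z • x) hx' (zf x hx).symm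
  have gH : g ∈ Hb G x (z • x) := mem_Hb.2 ⟨gx, by rw [← mul_smul, ← hc, mul_smul, gx]⟩
  obtain ⟨c, σ, hS⟩ := hP.sc hx hx' gN gH
  obtain ⟨A, -, hA⟩ := hS.act
  obtain ⟨rfl, -⟩ := (hP.inn_iff hd gN hA).1 gi
  obtain ⟨⟨B, hB⟩, -⟩ := sp1_he hP hd zN z2 (sp1_le_zero zf)
  have h1 := hP.swap_sc hd hx hx' zN gN hB rfl (by rw [← mul_smul, z2, one_smul]) hS
  rw [hc, mul_inv_cancel_right] at h1
  have h2 := (hP.sc_uniq c.ne_zero hS h1).1
  refine sp1_sc_tr hP hd (mul_mem gN gN) ?_ (Sc.mul hd gN hS hS)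
  rw [RingEquiv.refl_apply]
  nth_rewrite 2 [h2]
  exact c.mul_inv

/-- the product of an elliptic and a commuting hyperbolic involution is elliptic, `q ≡ 1 (4)` -/
theorem sp1_E (h : L2P N Δ V a b F e) (hd : LD N Δ V) (hq : Δ.ncard % 4 = 2) {z t : G}
    (zN : z ∈ N) (tN : t ∈ N) (z2 : z * z = 1) (t2 : t * t = 1) (zf : ∀ x ∈ Δ, z • x ≠ x)
    (tf : {x | x ∈ Δ ∧ t • x = x}.ncard ≤ 2) {β : Ω} (hβ : β ∈ Δ) (tβ : t • β = β)
    (hc : z * t = t * z) : ∀ x ∈ Δ, (z * t) • x ≠ x := by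
  obtain ⟨zl, -, zi⟩ := sp1_he h hd zN z2 (sp1_le_zero zf)
  obtain ⟨tl, ti, -⟩ := sp1_he h hd tN t2 tf
  obtain ⟨A, hA⟩ := sp1_lin_mul hd tN zl tl
  have e2 : z * t * (z * t) = 1 := by
    calc z * t * (z * t) = z * (t * z) * t := by group
      _ = z * z * (t * t) := by rw [← hc]; group
      _ = 1 := by rw [z2, t2, one_mul]
  have hcard := h.card
  rcases h.hyp_ell hd (mul_mem zN tN) (fun x _ => by rw [e2, one_smul])
    (fun ht => zf β hβ (by have := ht β hβ; rwa [mul_smul, tβ] at this)) hA with h5 | h5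
  · exfalso
    have i1 := sp1_inn_mul hd (h5.2.2 (by omega)) ((ti ⟨β, hβ, tβ⟩).2 hq)
    rw [mul_assoc, t2, mul_one, zi zf] at i1
    omega
  · exact h5.1

/-- the element of odd prime power order in the non-split torus -/
theorem sp1_T (h : L2A N Δ V) (hd : LD N Δ V) (hq : Δ.ncard % 4 = 2) {z t t' : G}
    (zN : z ∈ N) (tN : t ∈ N) (tN' : t' ∈ N) (z2 : z * z = 1) (t2 : t * t = 1) (t2' : t' * t' = 1)
    (zf : ∀ x ∈ Δ, z • x ≠ x) (tf : {x | x ∈ Δ ∧ t • x = x}.ncard ≤ 2)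
    (tf' : {x | x ∈ Δ ∧ t' • x = x}.ncard ≤ 2) {β γ : Ω} (hβ : β ∈ Δ) (tβ : t • β = β)
    (hγ : γ ∈ Δ) (tγ : t' • γ = γ) (hc : z * t = t * z) (hc' : z * t' = t' * z)
    (hne : ∀ x ∈ Δ, t • x = x → t' • x ≠ x) :
    ∃ r k j : ℕ, r.Prime ∧ r ≠ 2 ∧ r ∣ Δ.ncard ∧ ((t * t') ^ k) ^ r ^ j = 1 ∧
      ∀ x ∈ Δ, (t * t') ^ k • x ≠ x := by
  obtain ⟨F, _, _, e, hP⟩ := h β hβ (z • β) (hd.inv z zN β hβ) (zf β hβ).symm
  have hcard := hP.card
  set y := t * t' with hy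
  have yN : y ∈ N := mul_mem tN tN'
  have ti := ((sp1_he hP hd tN t2 tf).2.1 ⟨β, hβ, tβ⟩).2 hq
  have ti' := ((sp1_he hP hd tN' t2' tf').2.1 ⟨γ, hγ, tγ⟩).2 hq
  have yi : Inn Δ V y := sp1_inn_mul hd ti ti'
  have zy : Commute z y := Commute.mul_right hc hc'
  have tinv : t⁻¹ = t := inv_eq_of_mul_eq_one_right t2
  have tinv' : t'⁻¹ = t' := inv_eq_of_mul_eq_one_right t2'
  have ty : ∀ k : ℕ, y ^ k * t = t * (y ^ k)⁻¹ := by
    intro k
    have h1 : SemiconjBy t y⁻¹ y := by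
      rw [SemiconjBy, hy, _root_.mul_inv_rev, tinv, tinv', mul_assoc]
    have h2 := (h1.pow_right k).eq
    rw [← h2, inv_pow]
  have ty' : ∀ k : ℕ, y ^ k * t' = t' * (y ^ k)⁻¹ := by
    intro k
    have h1 : SemiconjBy t' y⁻¹ y := by
      rw [SemiconjBy, hy, _root_.mul_inv_rev, tinv, tinv', ← mul_assoc, t2', mul_assoc, t2',
        one_mul, mul_one]
    have h2 := (h1.pow_right k).eq
    rw [← h2, inv_pow]
  -- no involution in the cyclic group induced on `Δ`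
  have B1 : ∀ k : ℕ, Tr Δ (y ^ k * y ^ k) → Tr Δ (y ^ k) := by
    intro k h2
    by_contra h1
    have gN : y ^ k ∈ N := pow_mem yN k
    have gi := sp1_inn_pow hd yi k
    obtain ⟨A, hA⟩ := sp1_inn_lin hP hd gN gi
    rcases hP.hyp_ell hd gN h2 h1 hA with h5 | h5
    · obtain ⟨δ, hδ⟩ : {x | x ∈ Δ ∧ y ^ k • x = x}.Nonempty :=
        Set.nonempty_of_ncard_ne_zero (by omega)
      have hδ' : z • δ ∈ {x | x ∈ Δ ∧ y ^ k • x = x} :=
        ⟨hd.inv z zN δ hδ.1, by rw [← mul_smul, ← (zy.pow_right k).eq, mul_smul, hδ.2]⟩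
      have hs : ({δ, z • δ} : Set Ω) = {x | x ∈ Δ ∧ y ^ k • x = x} := by
        refine Set.eq_of_subset_of_ncard_le ?_
          (by rw [h5.1, Set.ncard_pair (zf δ hδ.1).symm]) (Set.toFinite _)
        rintro x (rfl | rfl)
        · exact hδ
        · exact hδ'
      have aux : ∀ s ∈ N, y ^ k * s = s * (y ^ k)⁻¹ → (∀ x ∈ Δ, (z * s) • x ≠ x) → s • δ = δ := by
        intro s sN hs1 hs2
        have h6 : s • δ ∈ {x | x ∈ Δ ∧ y ^ k • x = x} :=
          ⟨hd.inv s sN δ hδ.1, by rw [← mul_smul, hs1, mul_smul, inv_smul_eq_iff.2 hδ.2.symm]⟩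
        rw [← hs] at h6
        rcases h6 with h6 | h6
        · exact h6
        · exfalso
          apply hs2 δ hδ.1
          rw [mul_smul, h6, ← mul_smul, z2, one_smul]
      exact hne δ hδ.1 (aux t tN (ty k) (sp1_E hP hd hq zN tN z2 t2 zf tf hβ tβ hc))
        (aux t' tN' (ty' k) (sp1_E hP hd hq zN tN' z2 t2' zf tf' hγ tγ hc'))
    · have := h5.2.1 gi
      omega
  have B2 : ∀ k : ℕ, ∀ x ∈ Δ, y ^ k • x = x → Tr Δ (y ^ k) := fun k x hx hyx =>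
    B1 k (sp1_A h hd zN (pow_mem yN k) z2 zf (sp1_inn_pow hd yi k) (zy.pow_right k).eq hx hyx)
  have hinv : ∀ x, (toPerm y) x ∈ Δ ↔ x ∈ Δ := by
    intro x
    refine ⟨fun hx => ?_, fun hx => hd.inv y yN x hx⟩
    have := hd.inv y⁻¹ (inv_mem yN) _ hx
    rwa [toPerm_apply, inv_smul_smul] at this
  let σ : Equiv.Perm Δ := (toPerm y).subtypePerm hinv
  have hσ : ∀ k : ℕ, ∀ x : Δ, ((σ ^ k) x : Ω) = y ^ k • (x : Ω) := by
    intro k
    induction k with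
    | zero => intro x; simp
    | succ k ih =>
      intro x
      rw [pow_succ, Equiv.Perm.mul_apply, ih, pow_succ, mul_smul]
      rfl
  have hσ1 : ∀ k : ℕ, σ ^ k = 1 ↔ Tr Δ (y ^ k) := by
    intro k
    constructor
    · intro h1 x hx
      rw [← hσ k ⟨x, hx⟩, h1]; rfl
    · intro h1
      ext x
      rw [hσ, h1 x x.2]; rfl
  have hm1 : orderOf σ ≠ 1 := by
    intro h1
    have h2 : Tr Δ (y ^ 1) := (hσ1 1).1 (by rw [← h1, pow_orderOf_eq_one])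
    have h3 := h2 γ hγ
    rw [pow_one, hy, mul_smul, tγ] at h3
    exact hne γ hγ h3 tγ
  obtain ⟨r, hr, hrm⟩ := Nat.exists_prime_and_dvd hm1
  have ho : orderOf y ≠ 0 := (orderOf_pos y).ne'
  have hk : ¬ Tr Δ (y ^ (ordCompl[r] (orderOf y))) := by
    intro h1
    exact Nat.not_dvd_ordCompl hr ho (hrm.trans (orderOf_dvd_of_pow_eq_one ((hσ1 _).2 h1)))
  have hpow : (y ^ (ordCompl[r] (orderOf y))) ^ r ^ ((orderOf y).factorization r) = 1 := by
    rw [← pow_mul, mul_comm, Nat.ordProj_mul_ordCompl_eq_self, pow_orderOf_eq_one]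
  have hfpf : ∀ x ∈ Δ, y ^ (ordCompl[r] (orderOf y)) • x ≠ x := fun x hx hyx => hk (B2 _ x hx hyx)
  refine ⟨r, _, _, hr, ?_, ?_, hpow, hfpf⟩
  · rintro rfl
    obtain ⟨m, hm⟩ := hrm
    have h1 : Tr Δ (y ^ m) := by
      apply B1
      rw [← pow_add, ← two_mul, ← hm, ← hσ1, pow_orderOf_eq_one]
    have h2 := orderOf_dvd_of_pow_eq_one ((hσ1 _).2 h1)
    have h3 := orderOf_pos σ
    have h4 := Nat.le_of_dvd (by omega) h2
    omega
  · by_contra hn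
    haveI : Fact r.Prime := ⟨hr⟩
    haveI : Fintype Δ := Fintype.ofFinite _
    obtain ⟨x, hx⟩ := Equiv.Perm.exists_fixed_point_of_prime (p := r)
      (n := (orderOf y).factorization r) (σ := σ ^ (ordCompl[r] (orderOf y)))
      (by rwa [← Nat.card_eq_fintype_card, Nat.card_coe_set_eq]) (by
        rw [← pow_mul, hσ1, pow_mul, hpow]
        intro x _
        exact one_smul _ _)
    apply hfpf x x.2
    rw [← hσ, hx]

end

end H51.HK
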