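import Cfsg.Agent.Lib.HK.Bas

/-! Involutions with two fixed points: the permutation group part of the special case. -/

set_option autoImplicit false
set_option linter.unusedSectionVars false

namespace H38.SP2

open MulAction Subgroup H69 H51.HK

variable {G Ω : Type*} [Group G] [MulAction G Ω] [Finite G] [Finite Ω]

/-- `y` is an involution with fixed points `c, d` -/
def Tw (y : G) (c d : Ω) : Prop := y * y = 1 ∧ ∀ x, y • x = x ↔ x = c ∨ x = d

/-- `y` is an involution with two fixed points -/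
def JJ (Ω : Type*) [MulAction G Ω] (y : G) : Prop := ∃ c d : Ω, c ≠ d ∧ Tw y c d

/-- the fixed points of `y` are fixed by `s` -/
def Fs (Ω : Type*) [MulAction G Ω] (s y : G) : Prop := ∀ x : Ω, y • x = x → s • x = x

variable {a b c d p : Ω} {z y y' g g' k s μ : G}

theorem Tw.symm (h : Tw y c d) : Tw y d c := ⟨h.1, fun x => (h.2 x).trans or_comm⟩

theorem Tw.conj (h : Tw y c d) (g : G) : Tw (g * y * g⁻¹) (g • c) (g • d) :=
  ⟨by rw [conj_mul, h.1]; simp, fun x => by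
    rw [mul_smul, mul_smul, smul_eq_iff_eq_inv_smul, h.2, inv_smul_eq_iff, inv_smul_eq_iff]⟩

theorem Tw.l (h : Tw y c d) : y • c = c := (h.2 c).2 (Or.inl rfl)

theorem Tw.r (h : Tw y c d) : y • d = d := (h.2 d).2 (Or.inr rfl)

theorem Tw.mv (h : Tw y c d) (e : g * y = y * g) : g • c = c ∨ g • c = d :=
  (h.2 _).1 (by rw [← mul_smul, ← e, mul_smul, h.l])

theorem JJ.sq (h : JJ Ω y) : y * y = 1 := h.choose_spec.choose_spec.2.1

theorem JJ.conj (h : JJ Ω y) (g : G) : JJ Ω (g * y * g⁻¹) := by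
  obtain ⟨c, d, n, t⟩ := h
  exact ⟨_, _, (MulAction.injective g).ne n, t.conj g⟩

theorem JJ.of_isConj (h : JJ Ω y) (e : IsConj y y') : JJ Ω y' := by
  obtain ⟨g, rfl⟩ := isConj_iff.1 e
  exact h.conj g

theorem JJ.tw (h : JJ Ω y) (n : c ≠ d) (hc : y • c = c) (hd : y • d = d) : Tw y c d := by
  obtain ⟨c', d', n', t⟩ := h
  rcases (t.2 c).1 hc with rfl | rfl <;> rcases (t.2 d).1 hd with rfl | rfl
  · exact absurd rfl n
  · exact t
  · exact t.symm
  · exact absurd rfl n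

theorem JJ.ncard (h : JJ Ω y) (Δ : Set Ω) : {x | x ∈ Δ ∧ y • x = x}.ncard ≤ 2 := by
  obtain ⟨c, d, n, t⟩ := h
  rw [← Set.ncard_pair n]
  exact Set.ncard_le_ncard fun x hx => (t.2 x).1 hx.2

theorem Fs.conj (h : Fs Ω s y) (g : G) : Fs Ω (g * s * g⁻¹) (g * y * g⁻¹) := fun x hx => by
  rw [mul_smul, mul_smul, smul_eq_iff_eq_inv_smul] at hx ⊢
  exact h _ hx

theorem Fs.conj' (h : Fs Ω s y) (e : Commute g s) : Fs Ω s (g * y * g⁻¹) := by
  have := h.conj g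
  rwa [e.eq, mul_inv_cancel_right] at this

theorem inv_of_sq (h1 : μ * μ = 1) (h2 : μ * g * (μ * g) = 1) : μ * g * μ = g⁻¹ :=
  eq_inv_of_mul_eq_one_left (by rw [← h2]; group)

theorem zpow_even (h1 : μ * μ = 1) (h : μ * g * μ = g⁻¹) (m : ℤ) :
    μ * g ^ (2 * m) = g ^ (-m) * μ * (g ^ (-m))⁻¹ := by
  have e : μ⁻¹ = μ := inv_eq_of_mul_eq_one_right h1
  have h3 : μ * g ^ m * μ⁻¹ = g ^ (-m) := by rw [← conj_zpow, e, h]; simp
  rw [← h3, two_mul, zpow_add]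
  conv_rhs => rw [h3]
  calc _ = μ * g ^ m * μ⁻¹ * μ * g ^ m := by group
    _ = _ := by rw [h3]; group

theorem zpow_odd (h1 : μ * μ = 1) (h : μ * g * μ = g⁻¹) (m : ℤ) :
    μ * g ^ (2 * m + 1) = g ^ (-m) * (μ * g) * (g ^ (-m))⁻¹ := by
  rw [zpow_add, ← mul_assoc, zpow_even h1 h]; group

theorem JJ.zpow (h : JJ Ω μ) (h' : JJ Ω (μ * g)) (n : ℤ) : JJ Ω (μ * g ^ n) := by
  obtain ⟨m, rfl | rfl⟩ := Int.even_or_odd' n
  · rw [zpow_even h.sq (inv_of_sq h.sq h'.sq)]; exact h.conj _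
  · rw [zpow_odd h.sq (inv_of_sq h.sq h'.sq)]; exact h'.conj _

theorem JJ.of_mem (h : JJ Ω μ) (h' : JJ Ω (μ * g)) (e : g' ∈ zpowers g) : JJ Ω (μ * g') := by
  obtain ⟨n, rfl⟩ := e
  exact h.zpow h' n

theorem mem_zp2 (h : g * g = 1) (e : k ∈ zpowers g) : k = 1 ∨ k = g := by
  obtain ⟨n, rfl⟩ := e
  obtain ⟨m, rfl | rfl⟩ := Int.even_or_odd' n
  · left; simp only [zpow_mul, zpow_two, h, one_zpow]
  · right; simp only [zpow_add, zpow_mul, zpow_two, h, one_zpow, zpow_one, one_mul]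

theorem ex_inv {i : ℕ} (h : g ^ 2 ^ i = 1) (n : g ≠ 1) : ∃ r ∈ zpowers g, r * r = 1 ∧ r ≠ 1 := by
  induction i generalizing g with
  | zero => exact absurd (by simpa using h) n
  | succ i ih =>
    by_cases e : g * g = 1
    · exact ⟨g, mem_zpowers g, e, n⟩
    · obtain ⟨r, h1, h2⟩ := ih (g := g * g) (by rw [← pow_two, ← pow_mul, ← pow_succ', h]) e
      exact ⟨r, zpowers_le.2 (mul_mem (mem_zpowers g) (mem_zpowers g)) h1, h2⟩

/-- the hypotheses on the involutions with two fixed points -/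
structure Ctx (a b : Ω) (z : G) : Prop where
  ne : a ≠ b
  z1 : z ≠ 1
  tz : Tw z a b
  uq : ∀ (y y' : G) (c d : Ω), c ≠ d → Tw y c d → Tw y' c d → y = y'
  pr : ∀ y y' : G, JJ Ω y → JJ Ω y' → y * y' = y' * y → y ≠ y' → JJ Ω (y * y')

/-- the involutions with two fixed points that swap `a` and `b` -/
structure WW (a b : Ω) (y : G) : Prop where
  j : JJ Ω y
  l : y • a = b
  r : y • b = a

namespace Ctx

variable (h : Ctx a b z)
include h

theorem cm (n : c ≠ d) (t : Tw y c d) (e : g • c = c ∧ g • d = d ∨ g • c = d ∧ g • d = c) :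
    Commute g y := by
  have t' := t.conj g
  refine mul_inv_eq_iff_eq_mul.1 (h.uq _ _ c d n ?_ t)
  rcases e with ⟨e1, e2⟩ | ⟨e1, e2⟩ <;> rw [e1, e2] at t'
  exacts [t', t'.symm]

theorem zH : z ∈ Hb G a b := mem_Hb.2 ⟨h.tz.l, h.tz.r⟩

theorem cmH (e : g ∈ Hb G a b) : Commute g z := h.cm h.ne h.tz (Or.inl (mem_Hb.1 e))

theorem cmW (w : WW a b y) : Commute y z := h.cm h.ne h.tz (Or.inr ⟨w.l, w.r⟩)

theorem eq_z (j : JJ Ω y) (e : y ∈ Hb G a b) : y = z :=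
  h.uq _ _ a b h.ne (j.tw h.ne (mem_Hb.1 e).1 (mem_Hb.1 e).2) h.tz

theorem cases (e : g * z = z * g) : g ∈ Hb G a b ∨ g • a = b ∧ g • b = a := by
  rcases h.tz.mv e with e1 | e1 <;> rcases h.tz.symm.mv e with e2 | e2
  · exact Or.inl (mem_Hb.2 ⟨e1, e2⟩)
  · exact absurd (MulAction.injective g (e1.trans e2.symm)) h.ne
  · exact absurd (MulAction.injective g (e1.trans e2.symm)) h.ne
  · exact Or.inr ⟨e1, e2⟩

theorem zne (w : WW a b y) (e : y • p = p) : z • p ≠ p := fun e' => by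
  rcases (h.tz.2 p).1 e' with rfl | rfl
  · exact h.ne (e.symm.trans w.l)
  · exact h.ne (w.r.symm.trans e)

theorem twW (w : WW a b y) (e : y • p = p) : Tw y p (z • p) :=
  w.j.tw (h.zne w e).symm e (by rw [← mul_smul, (h.cmW w).eq, mul_smul, e])

theorem zz (x : Ω) : z • z • x = x := by rw [← mul_smul, h.tz.1, one_smul]

/-- an element of `H` that fixes a fixed point of `y` centralises `y` -/
theorem cm_fix (w : WW a b y) (e : y • p = p) (hk : k ∈ Hb G a b) (e' : k • p = p) :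
    Commute k y := h.cm (h.zne w e).symm (h.twW w e) (Or.inl ⟨e', by
      rw [← mul_smul, (h.cmH hk).eq, mul_smul, e']⟩)

theorem sq_fix (w : WW a b y) (e : y • p = p) (hk : k ∈ Hb G a b) (c : k * y = y * k) :
    (k * k) • p = p := by
  rcases (h.twW w e).mv c with e1 | e1
  · rw [mul_smul, e1, e1]
  · rw [mul_smul, e1, ← mul_smul, (h.cmH hk).eq, mul_smul, e1, h.zz]

theorem not_both (w : WW a b y) (h1 : Fs Ω s y) (h2 : Fs Ω (s * z) y) : False := by
  obtain ⟨c, _, -, t⟩ := w.j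
  refine h.zne w t.l (MulAction.injective s ?_)
  simp only
  rw [← mul_smul, h2 c t.l, h1 c t.l]

theorem fs_of (w : WW a b y) (e : y • p = p) (hs : s ∈ Hb G a b) (e' : s • p = p) : Fs Ω s y :=
  fun x hx => by
    rcases ((h.twW w e).2 x).1 hx with rfl | rfl
    · exact e'
    · rw [← mul_smul, (h.cmH hs).eq, mul_smul, e']

omit h in
theorem mulW (w : WW a b μ) (hg : g ∈ Hb G a b) (j : JJ Ω (μ * g)) : WW a b (μ * g) :=
  ⟨j, by rw [mul_smul, (mem_Hb.1 hg).1, w.l], by rw [mul_smul, (mem_Hb.1 hg).2, w.r]⟩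

omit h in
theorem mulH (w : WW a b μ) (w' : WW a b y) : μ * y ∈ Hb G a b :=
  mem_Hb.2 ⟨by rw [mul_smul, w'.l, w.r], by rw [mul_smul, w'.r, w.l]⟩

theorem conjW (w : WW a b y) (e : g * z = z * g) : WW a b (g * y * g⁻¹) := by
  have k : ∀ {c d : Ω}, g • c = d → g⁻¹ • d = c := fun e => inv_smul_eq_iff.2 e.symm
  rcases h.cases e with e1 | ⟨e1, e2⟩
  · obtain ⟨e1, e2⟩ := mem_Hb.1 e1
    exact ⟨w.j.conj g, by rw [mul_smul, mul_smul, k e1, w.l, e2],
      by rw [mul_smul, mul_smul, k e2, w.r, e1]⟩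
  · exact ⟨w.j.conj g, by rw [mul_smul, mul_smul, k e2, w.r, e1],
      by rw [mul_smul, mul_smul, k e1, w.l, e2]⟩

theorem k1 (j : JJ Ω μ) (hg : g ∈ Hb G a b) {i : ℕ} (h2 : g ^ 2 ^ i = 1) (j' : JJ Ω (μ * g))
    (n : g ≠ 1) : z ∈ zpowers g := by
  obtain ⟨r, r1, r2, r3⟩ := ex_inv h2 n
  have j1 := j.of_mem j' r1
  have e := inv_of_sq j.sq j1.sq
  rw [inv_eq_of_mul_eq_one_right r2] at e
  have j2 := h.pr _ _ j j1 (by rw [e, ← mul_assoc, j.sq, one_mul]) (by simpa using r3)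
  rw [← mul_assoc, j.sq, one_mul] at j2
  exact h.eq_z j2 (zpowers_le.2 hg r1) ▸ r1

theorem ord4 (j : JJ Ω μ) (hg : g ∈ Hb G a b) {i : ℕ} (h2 : g ^ 2 ^ i = 1) (j' : JJ Ω (μ * g))
    (n : g ≠ 1) (n' : g ≠ z) : ∃ k, orderOf g = 2 ^ (k + 2) ∧ z = g ^ 2 ^ (k + 1) := by
  obtain ⟨m, -, hm⟩ := (Nat.dvd_prime_pow Nat.prime_two).1 (orderOf_dvd_of_pow_eq_one h2)
  have k2 : ∀ r ∈ zpowers g, r * r = 1 → r ≠ 1 → z = r := fun r r1 r2 r3 =>
    (mem_zp2 r2 (h.k1 j (zpowers_le.2 hg r1) (i := 1) (by rw [pow_one, pow_two, r2])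
      (j.of_mem j' r1) r3)).resolve_left h.z1
  rcases m with _ | _ | m
  · exact absurd (orderOf_eq_one_iff.1 hm) n
  · exact absurd (k2 g (mem_zpowers g) (by rw [← pow_two]; simpa [hm] using pow_orderOf_eq_one g) n)
      n'.symm
  · refine ⟨m, hm, k2 _ (pow_mem (mem_zpowers g) _) ?_ fun e => ?_⟩
    · rw [← pow_two, ← pow_mul, ← pow_succ, ← hm, pow_orderOf_eq_one]
    · have := Nat.le_of_dvd (by positivity) (orderOf_dvd_of_pow_eq_one e)
      rw [hm] at this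
      exact absurd ((Nat.pow_le_pow_iff_right one_lt_two).1 this) (by omega)

variable {T : Subgroup G} (hT : IsPGroup 2 T) (hH : T ≤ Hb G a b) (w : WW a b μ)
include hT hH w

omit h hH w in
theorem two (hg : g ∈ T) : ∃ i : ℕ, g ^ 2 ^ i = 1 := by
  obtain ⟨i, e⟩ := hT ⟨g, hg⟩
  exact ⟨i, congrArg Subtype.val e⟩

theorem k2 (hg : g ∈ T) (hg' : g' ∈ T) (j : JJ Ω (μ * g)) (j' : JJ Ω (μ * g'))
    (e : g * g = g' * g') : g' = g ∨ g' = g * z := by
  have hk := mul_mem (inv_mem hg) hg'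
  obtain ⟨i, hi⟩ := two hT hk
  have a1 := inv_of_sq w.j.sq j.sq
  have a2 := inv_of_sq w.j.sq j'.sq
  have a3 : μ⁻¹ = μ := inv_eq_of_mul_eq_one_right w.j.sq
  have c : g⁻¹ * g' * μ = μ * (g⁻¹ * g') := by
    have b1 : g⁻¹ * g' = g * g'⁻¹ := by
      calc _ = g⁻¹ * (g' * g') * g'⁻¹ := by group
        _ = _ := by rw [← e]; group
    conv_lhs => rw [← a1]
    rw [b1, ← a2]
    calc _ = μ * (g * (μ * g' * μ)) := by group
      _ = _ := rfl
  by_cases n : g⁻¹ * g' = 1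
  · exact Or.inl (inv_mul_eq_one.1 n).symm
  obtain ⟨n', hn⟩ := h.k1 j (hH hk) hi (by simpa [mul_assoc] using j') n
  obtain ⟨p, _, -, t⟩ := w.j
  have f := h.sq_fix w t.l (hH hk) c
  simp only at hn
  refine Or.inr (inv_mul_eq_iff_eq_mul.1 ?_)
  generalize g⁻¹ * g' = k at *
  obtain ⟨m, rfl | rfl⟩ := Int.even_or_odd' n'
  · refine absurd ?_ (h.zne w t.l)
    rw [← hn, zpow_mul, zpow_two]
    exact zpow_mem (show k * k ∈ stabilizer G p from f) m
  · refine (mem_zp2 h.tz.1 (hn ▸ mem_zpowers_zpow_iff.2 ?_)).resolve_left n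
    obtain ⟨l, -, hl⟩ := (Nat.dvd_prime_pow Nat.prime_two).1 (orderOf_dvd_of_pow_eq_one hi)
    rw [hl]
    exact Int.isCoprime_iff_gcd_eq_one.1 (by
      push_cast
      exact IsCoprime.pow_right ⟨1, -m, by ring⟩)

theorem k3a (i : ℕ) : ∀ g ∈ T, ∀ g' ∈ T, JJ Ω (μ * g) → JJ Ω (μ * g') → g' ^ 2 ^ i = 1 →
    (∀ m : ℕ, g ^ 2 ^ m = 1 → g' ^ 2 ^ m = 1) → g' ∈ zpowers g := by
  have k : ∀ (x : G) (m : ℕ), (x * x) ^ 2 ^ m = x ^ 2 ^ (m + 1) := fun x m => by
    rw [← pow_two, ← pow_mul, ← pow_succ']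
  induction i with
  | zero => intro g _ g' _ _ _ e _; rw [show g' = 1 by simpa using e]; exact one_mem _
  | succ i ih =>
    intro g hg g' hg' j j' e l
    obtain ⟨n, hn⟩ := ih _ (mul_mem hg hg) _ (mul_mem hg' hg')
      (w.j.of_mem j (mul_mem (mem_zpowers g) (mem_zpowers g)))
      (w.j.of_mem j' (mul_mem (mem_zpowers g') (mem_zpowers g'))) (by rw [k, e])
      fun m hm => by rw [k] at hm ⊢; exact l _ hm
    rcases h.k2 hT hH w (zpow_mem hg n) hg' (w.j.zpow j n) j'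
      (by rw [← (Commute.refl g).mul_zpow]; exact hn) with e' | e'
    · exact e' ▸ zpow_mem (mem_zpowers g) n
    · by_cases n1 : g = 1
      · rw [show g' = 1 by simpa using l 0 (by simp [n1])]; exact one_mem _
      · obtain ⟨m, hm⟩ := two hT hg
        exact e' ▸ mul_mem (zpow_mem (mem_zpowers g) n) (h.k1 w.j (hH hg) hm j n1)

theorem k3 : ∃ g ∈ T, JJ Ω (μ * g) ∧ ∀ g' ∈ T, JJ Ω (μ * g') → g' ∈ zpowers g := by
  obtain ⟨g, hg, m⟩ := Set.exists_max_image {g | g ∈ T ∧ JJ Ω (μ * g)} orderOf (Set.toFinite _)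
    ⟨1, one_mem _, by simpa using w.j⟩
  refine ⟨g, hg.1, hg.2, fun g' h1 h2 => ?_⟩
  obtain ⟨i, hi⟩ := two hT h1
  refine h.k3a hT hH w i g hg.1 g' h1 hg.2 h2 hi fun l hl => orderOf_dvd_iff_pow_eq_one.1 ?_
  obtain ⟨u, -, hu⟩ := (Nat.dvd_prime_pow Nat.prime_two).1 (orderOf_dvd_of_pow_eq_one hi)
  have := (m g' ⟨h1, h2⟩).trans (Nat.le_of_dvd (by positivity) (orderOf_dvd_of_pow_eq_one hl))
  rw [hu] at this ⊢
  exact pow_dvd_pow 2 ((Nat.pow_le_pow_iff_right one_lt_two).1 this)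

theorem k4 (hs : s ∈ T) (s2 : s * s = 1) (sμ : Commute s μ) {i : G} (hi : i ∈ T)
    (ji : JJ Ω (μ * i)) (i2 : i * i = z) (si : Commute s i) (hg : g ∈ T) (j : JJ Ω (μ * g)) :
    Commute s g := by
  obtain ⟨g₀, -, -, hc⟩ := h.k3 hT hH w
  obtain ⟨n, hn⟩ := two hT hg
  induction n generalizing g with
  | zero => rw [show g = 1 by simpa using hn]; exact Commute.one_right s
  | succ n ih =>
    have c := ih (mul_mem hg hg) (w.j.of_mem j (mul_mem (mem_zpowers g) (mem_zpowers g)))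
      (by rw [← pow_two, ← pow_mul, ← pow_succ', hn])
    have j' := j.conj s
    rw [← conj_mul, sμ.eq, mul_inv_cancel_right] at j'
    rcases h.k2 hT hH w hg (mul_mem (mul_mem hs hg) (inv_mem hs)) j j'
      (by rw [conj_mul, c.eq, mul_inv_cancel_right]) with e | e
    · exact mul_inv_eq_iff_eq_mul.1 e
    · obtain ⟨p, _, -, t⟩ := id j
      have w' := mulW w (hH hg) j
      have c1 : Commute i g := by
        obtain ⟨u, rfl⟩ := hc i hi ji
        obtain ⟨v, rfl⟩ := hc g hg j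
        exact zpow_mul_comm _ _ _
      have a1 := inv_of_sq w.j.sq ji.sq
      have a2 : i * μ = μ * i⁻¹ := by rw [← a1, ← mul_assoc, ← mul_assoc, w.j.sq, one_mul]
      have f := h.sq_fix w' t.l (hH (mul_mem hs hi)) (by
        calc s * i * (μ * g) = s * (i * μ) * g := by group
          _ = s * μ * (i⁻¹ * g) := by rw [a2]; group
          _ = μ * (s * g * s⁻¹) * s * i⁻¹ := by rw [sμ.eq, c1.inv_left.eq]; group
          _ = μ * g * (z * s) * i⁻¹ := by rw [e]; group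
          _ = _ := by rw [← (h.cmH (hH hs)).eq, ← i2]; group)
      rw [show s * i * (s * i) = z by
        rw [mul_assoc, ← mul_assoc i, ← si.eq, mul_assoc, ← mul_assoc, s2, i2, one_mul]] at f
      exact absurd f (h.zne w' t.l)

end Ctx

theorem sp2a_eq_defs : True := by
  have := @Tw.eq_1.{0, 0}; have := @JJ.eq_1.{0, 0}; have := @Fs.eq_1.{0, 0}
  trivial

end H38.SP2
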