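import Cfsg.Agent.Lib.HK.RK

/-! No involution has type `U₃` (blueprint/HKS2.md, XU). -/

set_option autoImplicit false
set_option linter.unusedSectionVars false

namespace H51.HK

open MulAction Subgroup Matrix H69
open scoped MatrixGroups Classical commutatorElement

variable {G Ω : Type*} [Group G] [MulAction G Ω] [Finite G] [Finite Ω]

variable {U : Ω → Subgroup G}

namespace XU

open RK

theorem ne_c (h : Cx U) {c d : Ω} (hcd : c ≠ d) {u : G} (hu : u ∈ U c) : u • d ≠ c := fun e =>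
  hcd (smul_left_cancel u ((h.ld.fix c (Set.mem_univ _) u hu).trans e.symm))

theorem reg_eq (h : Cx U) {c d : Ω} (hcd : c ≠ d) {u w : G} (hu : u ∈ U c) (hw : w ∈ U c)
    (e : u • d = w • d) : u = w := by
  have := h.reg c d hcd.symm _ (mul_mem (inv_mem hw) hu) (by rw [mul_smul, e, inv_smul_smul])
  exact (inv_mul_eq_one.1 this).symm

theorem cmL {s l : G} (hl : l ∈ LY U {s}) : l * s = s * l := (LY_le U _ hl s rfl).symm

theorem fix_of {s g : G} {x : Ω} (hc : g * s = s * g) (hx : s • x = x) : s • g • x = g • x := by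
  rw [← mul_smul, ← hc, mul_smul, hx]

theorem two_le {Δ : Set Ω} {a b : Ω} (ha : a ∈ Δ) (hb : b ∈ Δ) (hab : a ≠ b) : 2 ≤ Δ.ncard :=
  (Set.one_lt_ncard (Set.toFinite _)).2 ⟨a, ha, b, hb, hab⟩

theorem not_odd {j : G} (hj : Inv j) : ¬ Odd (orderOf j) := by
  have : Fact (Nat.Prime 2) := ⟨Nat.prime_two⟩
  rw [orderOf_eq_prime (p := 2) (by rw [sq, hj.1]) hj.2]
  decide

theorem odd_sq {k : G} (ho : Odd (orderOf k)) (h2 : k * k = 1) : k = 1 := by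
  by_contra h1
  exact not_odd ⟨h2, h1⟩ ho

variable {s j : G} {p q : ℕ} {a b c d : Ω}

theorem q3 {Δ : Set Ω} {V : Ω → Subgroup G} (hq : U3P Δ V p q) : 3 ≤ q := by
  obtain ⟨k, hk, e⟩ := hq.pw
  have h1 : 2 ≤ q := e ▸ hq.pr.two_le.trans (Nat.le_self_pow hk.ne' p)
  have := hq.odd
  obtain ⟨m, hm⟩ := this
  omega

theorem blk_iff (hq : U3P (Fx Ω {s}) (UY U {s}) p q) (hc : c ∈ Fx Ω {s}) (hd : d ∈ Fx Ω {s})
    (hcd : c ≠ d) (hj : InI (Fx Ω {s}) (UY U {s}) c d j) {x : Ω} :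
    x ∈ Blk (Fx Ω {s}) (UY U {s}) c d ↔ x ∈ Fx Ω ({s, j} : Set G) := by
  rw [mem_Fx2]
  constructor
  · intro hx
    have hx' : x ∈ Fx Ω {s} := by
      rcases hx with rfl | ⟨z, hz, rfl⟩
      · exact hc
      · exact mem_Fx1.2 (fix_of (mem_UY1.1 hz.1).2 (mem_Fx1.1 hd))
    exact ⟨mem_Fx1.1 hx', (hq.fx c hc d hd hcd j hj x hx').2 hx⟩
  · rintro ⟨h1, h2⟩
    exact (hq.fx c hc d hd hcd j hj x (mem_Fx1.2 h1)).1 h2

theorem card_V (hq : U3P (Fx Ω {s}) (UY U {s}) p q) (hc : c ∈ Fx Ω {s}) (hd : d ∈ Fx Ω {s})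
    (hcd : c ≠ d) (hj : InI (Fx Ω {s}) (UY U {s}) c d j) :
    (Fx Ω ({s, j} : Set G)).ncard = q + 1 := by
  rw [← hq.blk c hc d hd hcd]
  congr 1
  ext x
  exact (blk_iff hq hc hd hcd hj).symm

theorem zv_iff' (h : Cx U) (hq : U3P (Fx Ω {s}) (UY U {s}) p q) (hc : c ∈ Fx Ω {s})
    (hd : d ∈ Fx Ω {s}) (hcd : c ≠ d) (hj : InI (Fx Ω {s}) (UY U {s}) c d j) {u : G} :
    u ∈ ZV (Fx Ω {s}) (UY U {s}) c ↔ u ∈ UY U {s, j} c := by
  have jH : j ∈ Hb G c d := mem_Hb.2 ⟨hj.2.1, hj.2.2.1⟩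
  rw [mem_UY2]
  constructor
  · intro hu
    obtain ⟨h1, h2⟩ := mem_UY1.1 hu.1
    have := (blk_iff hq hc hd hcd hj).1 (Or.inr ⟨u, hu, rfl⟩)
    exact ⟨h1, h2, ((h.fix_iff hcd jH h1).1 (mem_Fx2.1 this).2).symm⟩
  · rintro ⟨h1, h2, h3⟩
    rcases (blk_iff hq hc hd hcd hj).2 (mem_Fx2.2 ⟨fix_of h2 (mem_Fx1.1 hd),
      fix_of h3 hj.2.2.1⟩) with e | ⟨z, hz, e⟩
    · exact absurd e (ne_c h hcd h1)
    · rwa [← reg_eq h hcd (mem_UY1.1 hz.1).1 h1 e]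

theorem zv_iff (h : Cx U) (hq : U3P (Fx Ω {s}) (UY U {s}) p q) (ha : a ∈ Fx Ω {s})
    (hb : b ∈ Fx Ω {s}) (hab : a ≠ b) (hj : InI (Fx Ω {s}) (UY U {s}) a b j)
    (hc : c ∈ Fx Ω ({s, j} : Set G)) {u : G} :
    u ∈ ZV (Fx Ω {s}) (UY U {s}) c ↔ u ∈ UY U {s, j} c := by
  obtain ⟨h1, h2⟩ := mem_Fx2.1 hc
  by_cases ca : c = a
  · subst ca
    exact zv_iff' h hq ha hb hab hj
  · exact zv_iff' h hq (mem_Fx1.2 h1) ha ca ⟨hj.1, h2, hj.2.1, hj.2.2.2⟩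

theorem lz_eq (h : Cx U) (hq : U3P (Fx Ω {s}) (UY U {s}) p q) (ha : a ∈ Fx Ω {s})
    (hb : b ∈ Fx Ω {s}) (hab : a ≠ b) (hj : InI (Fx Ω {s}) (UY U {s}) a b j) :
    LZ (Fx Ω {s}) (UY U {s}) a b = LY U {s, j} := by
  apply le_antisymm
  · rw [LZ, closure_le]
    rintro z ⟨c, hc, hz⟩
    have hc' := (blk_iff hq ha hb hab hj).1 hc
    exact le_Lt hc' ((zv_iff h hq ha hb hab hj hc').1 hz)
  · refine iSup₂_le fun c hc u hu => subset_closure ⟨c, (blk_iff hq ha hb hab hj).2 hc, ?_⟩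
    exact (zv_iff h hq ha hb hab hj hc).2 hu

/-- central elements of `U a` commuting with `s` commute with `j` -/
theorem z_cm (h : Cx U) (hq : U3P (Fx Ω {s}) (UY U {s}) p q) (ha : a ∈ Fx Ω {s})
    (hb : b ∈ Fx Ω {s}) (hab : a ≠ b) (hj : InI (Fx Ω {s}) (UY U {s}) a b j) {z : G}
    (hz : z ∈ U a) (hc : ∀ u ∈ U a, z * u = u * z) (hs : z * s = s * z) : z * j = j * z := by
  refine (mem_UY2.1 ((zv_iff' h hq ha hb hab hj).1 ⟨mem_UY1.2 ⟨hz, hs⟩, fun u hu => ?_⟩)).2.2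
  rw [commutatorElement_eq_one_iff_mul_comm.2 (hc u (mem_UY1.1 hu).1)]
  exact fun y _ => one_smul _ _

theorem Fx_mul {t : G} : Fx Ω ({t * j, j} : Set G) = Fx Ω ({t, j} : Set G) := by
  ext x
  rw [mem_Fx2, mem_Fx2]
  refine and_congr_left fun hj => ?_
  rw [mul_smul, hj]

theorem UY_mul {t : G} : UY U ({t * j, j} : Set G) = UY U ({t, j} : Set G) := by
  ext c u
  rw [mem_UY2, mem_UY2]
  refine and_congr_right fun _ => and_congr_left fun hj => ?_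
  rw [← mul_assoc, mul_assoc t, ← hj, ← mul_assoc, mul_left_inj]

theorem LY_mul {t : G} : LY U ({t * j, j} : Set G) = LY U ({t, j} : Set G) := by
  rw [LY, LY, Fx_mul, UY_mul]

/-- an involution in `L_Y` that is trivial on the fixed points of `Y` forces type `L₂` -/
theorem tl_of (h : Cx U) {Y : Set G} (hY : ∃ y ∈ Y, y ≠ 1) (h3 : 3 ≤ (Fx Ω Y).ncard)
    (hj : Inv j) (hL : j ∈ LY U Y) (ht : Tr (Fx Ω Y) j) : TL U Y := by
  rcases h.ih Y hY h3 with h1 | h1 | h1 | h1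
  · exact h1
  · exact absurd (h1.2 j hL ht) (not_odd hj)
  · exact absurd (h1.2 j hL ht) (not_odd hj)
  · exact absurd (h1.2 j hL ht) hj.2

/-- the centre of the root group -/
def ZU (U : Ω → Subgroup G) (c : Ω) : Subgroup G := U c ⊓ centralizer (U c)

theorem mem_ZU {z : G} : z ∈ ZU U c ↔ z ∈ U c ∧ ∀ u ∈ U c, z * u = u * z :=
  ⟨fun hz => ⟨hz.1, fun u hu => (hz.2 u hu).symm⟩, fun hz => ⟨hz.1, fun u hu => (hz.2 u hu).symm⟩⟩

theorem ZU_conj (h : Cb U) (g : G) {z : G} (hz : z ∈ ZU U c) : g * z * g⁻¹ ∈ ZU U (g • c) := by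
  obtain ⟨h1, h2⟩ := mem_ZU.1 hz
  refine mem_ZU.2 ⟨h.ld.cj g (mem_top _) c (Set.mem_univ _) z h1, fun u hu => ?_⟩
  have h3 := h.ld.cj g⁻¹ (mem_top _) _ (Set.mem_univ _) u hu
  rw [inv_smul_smul] at h3
  calc g * z * g⁻¹ * u = g * (z * (g⁻¹ * u * g⁻¹⁻¹)) * g⁻¹ := by group
    _ = u * (g * z * g⁻¹) := by rw [h2 _ h3]; group

theorem ZU_ne (h : Cx U) (c : Ω) : ∃ z ∈ ZU U c, z ≠ 1 := by
  have h1 := h.card_U c
  have h2 := h.three
  have : Nontrivial (U c) := Finite.one_lt_card_iff_nontrivial.1 (by omega)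
  have := h.ld.nil c (Set.mem_univ _)
  obtain ⟨z, hz⟩ := (ne_bot_iff_exists_ne_one.1 (Group.IsNilpotent.center_ne_bot (G := U c)))
  refine ⟨z, mem_ZU.2 ⟨z.1.2, fun u hu => ?_⟩, fun e => hz (Subtype.ext (Subtype.ext e))⟩
  exact congrArg Subtype.val (mem_center_iff.1 z.2 ⟨u, hu⟩).symm

theorem ZU_cj (h : Cb U) {t : G} (hc : ZU U c = UY U {t} c) (g : G) :
    ZU U (g • c) = UY U {g * t * g⁻¹} (g • c) := by
  ext u
  have e : u = g * (g⁻¹ * u * g) * g⁻¹ := by group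
  constructor
  · intro hu
    have := ZU_conj h g⁻¹ hu
    rw [inv_smul_smul, inv_inv, hc] at this
    rw [e]
    exact (h.mem_UY_conj g t _ c).2 this
  · intro hu
    rw [e] at hu ⊢
    exact ZU_conj h g (hc ▸ (h.mem_UY_conj g t _ c).1 hu)

theorem main (h : Cx U) {t : G} (ti : Inv t) (hq : U3P (Fx Ω {t}) (UY U {t}) p q)
    (hk : OddK (Fx Ω {t}) (UY U {t})) : False := by
  have hq3 := q3 hq
  have t1 : ∀ Δ : Set Ω, Tr Δ (1 : G) := fun _ y _ => one_smul _ _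
  obtain ⟨a, ha, b, hb, hab⟩ := (Set.one_lt_ncard (Set.toFinite (Fx Ω {t}))).1 (by
    rw [hq.card]
    have : 0 < q ^ 3 := by positivity
    omega)
  have ldt := h.ldY ({t} : Set G)
  have fat := h.faithY (two_le ha hb hab)
  -- the involution `j`
  obtain ⟨j, ji, hj⟩ : ∃ j, Inv j ∧ InI (Fx Ω {t}) (UY U {t}) a b j := by
    obtain ⟨j, hj⟩ := hq.ex a ha b hb hab
    obtain ⟨m, -, h1, h2⟩ := hk.lift hj.1 hj.2.2.2.1 hj.2.2.2.2
    have h3 : ∀ x ∈ Fx Ω {t}, j ^ m • x = j • x := fun x hx => by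
      have := h2 x hx
      rwa [mul_smul, inv_smul_eq_iff] at this
    refine ⟨j ^ m, h1, pow_mem hj.1 m, (h3 a ha).trans hj.2.1, (h3 b hb).trans hj.2.2.1,
      by rw [h1.1]; exact t1 _, fun e => hj.2.2.2.2 fun x hx => (h3 x hx).symm.trans (e x hx)⟩
  have jt : j * t = t * j := cmL hj.1
  have ji' : j⁻¹ = j := inv_eq_of_mul_eq_one_right ji.1
  have ti' : t⁻¹ = t := inv_eq_of_mul_eq_one_right ti.1
  have tH : t ∈ Hb G a b := mem_Hb.2 ⟨mem_Fx1.1 ha, mem_Fx1.1 hb⟩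
  have jH : j ∈ Hb G a b := mem_Hb.2 ⟨hj.2.1, hj.2.2.1⟩
  have cV := card_V hq ha hb hab hj
  have kc : ∀ k ∈ LY U {t}, Tr (Fx Ω {t}) k → ∀ l ∈ LY U {t}, k * l = l * k :=
    fun k kL ht l hl => ldt.commK fat (ldt.Lt_le kL) ht hl
  have VT : LY U {t, j} ≤ LY U {t} := LY_mono U (by simp)
  have VJ : LY U {t, j} ≤ LY U {j} := LY_mono U (by simp)
  have VTJ : LY U {t, j} ≤ LY U {t * j} := LY_mul (U := U) ▸ LY_mono U (by simp)
  have jV : j ∈ LY U {t, j} := by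
    obtain ⟨l, hl, ht⟩ := hq.inLZ a ha b hb hab j hj
    rw [lz_eq h hq ha hb hab hj] at hl
    have kL : l⁻¹ * j ∈ LY U {t} := mul_mem (inv_mem (VT hl)) hj.1
    obtain ⟨m, hm⟩ := hk _ kL ht
    have hc : Commute l (l⁻¹ * j) := (kc _ kL ht l (VT hl)).symm
    have e1 : j ^ orderOf (l⁻¹ * j) = j := by
      rw [hm, pow_succ, pow_mul, sq, ji.1, one_pow, one_mul]
    have e2 : (l * (l⁻¹ * j)) ^ orderOf (l⁻¹ * j) = l ^ orderOf (l⁻¹ * j) := by
      rw [hc.mul_pow, pow_orderOf_eq_one, mul_one]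
    rw [mul_inv_cancel_left, e1] at e2
    have := pow_mem hl (orderOf (l⁻¹ * j))
    rwa [← e2] at this
  have sub1 : Fx Ω ({t, j} : Set G) ⊆ Fx Ω {j} := fun x hx => mem_Fx1.2 (mem_Fx2.1 hx).2
  have sub2 : Fx Ω ({t, j} : Set G) ⊆ Fx Ω {t * j} := fun x hx =>
    mem_Fx1.2 (by rw [mul_smul, (mem_Fx2.1 hx).2, (mem_Fx2.1 hx).1])
  have aV : a ∈ Fx Ω ({t, j} : Set G) := mem_Fx2.2 ⟨mem_Fx1.1 ha, hj.2.1⟩
  have bV : b ∈ Fx Ω ({t, j} : Set G) := mem_Fx2.2 ⟨mem_Fx1.1 hb, hj.2.2.1⟩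
  have j3 : 3 ≤ (Fx Ω {j}).ncard := le_trans (by omega) (Set.ncard_le_ncard sub1 (Set.toFinite _))
  have tj3 : 3 ≤ (Fx Ω {t * j}).ncard :=
    le_trans (by omega) (Set.ncard_le_ncard sub2 (Set.toFinite _))
  have jL : TL U {j} := tl_of h ⟨j, rfl, ji.2⟩ j3 ji (VJ jV) fun x hx => mem_Fx1.1 hx
  have VL : TL U {t, j} :=
    tl_of h ⟨j, by simp, ji.2⟩ (by omega) ji jV fun x hx => (mem_Fx2.1 hx).2
  have tj1 : t * j ≠ 1 := fun e => hj.2.2.2.2 fun x hx => by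
    rw [eq_inv_of_mul_eq_one_right e, ti']; exact mem_Fx1.1 hx
  -- the type of `t j`
  have ttj : Tr (Fx Ω {t * j}) j ∨ ∃ p', U3P (Fx Ω {t * j}) (UY U {t * j}) p' q ∧
      InI (Fx Ω {t * j}) (UY U {t * j}) a b j := by
    by_cases ht : Tr (Fx Ω {t * j}) j
    · exact Or.inl ht
    right
    have hI : InI (Fx Ω {t * j}) (UY U {t * j}) a b j :=
      ⟨VTJ jV, hj.2.1, hj.2.2.1, by rw [ji.1]; exact t1 _, ht⟩
    have ld := h.ldY ({t * j} : Set G)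
    rcases h.ih {t * j} ⟨_, rfl, tj1⟩ tj3 with h1 | ⟨⟨p', q', h1⟩, -⟩ | ⟨⟨q', h1⟩, -⟩ | ⟨h1, -⟩
    · exfalso
      obtain ⟨F, _, _, e, π, hP⟩ := h1 a (sub2 aV) b (sub2 bV) hab
      refine ht (hP.toL2P.inn_three ld (ld.Lt_le hI.1) ⟨j, hI.1, by rw [inv_mul_cancel]; exact t1 _⟩
        (le_trans (by omega) (Set.ncard_le_ncard (s := Fx Ω ({t, j} : Set G))
          (fun x hx => ⟨sub2 hx, (mem_Fx2.1 hx).2⟩) (Set.toFinite _))))
    · have := card_V h1 (sub2 aV) (sub2 bV) hab hI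
      rw [Fx_mul, cV] at this
      obtain rfl : q = q' := by omega
      exact ⟨p', h1, hI⟩
    · exfalso
      refine ht (h1.sub a (sub2 aV) b (sub2 bV) hab j hI j ?_ fun x _ hx => hx)
      refine (iSup₂_le fun c hc u hu => subset_closure ?_ : LY U {t, j} ≤ _) jV
      obtain ⟨h2, h3, h4⟩ := mem_UY2.1 hu
      refine ⟨c, sub2 hc, (mem_Fx2.1 hc).2, mem_UY1.2 ⟨h2, cm_mul h3 h4⟩, ?_⟩
      rw [commutatorElement_eq_one_iff_mul_comm.2 h4]
      exact t1 _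
    · exfalso
      obtain ⟨F, _, _, e, hP⟩ := h1 a (sub2 aV) b (sub2 bV) hab
      obtain ⟨c, d, -, hs⟩ := hP.Laf j hI.1
      have d0 : d = 0 := by
        have := hs a (sub2 aV)
        rw [hj.2.1, hP.ea] at this
        simpa using this.symm
      have c1 : c = 1 := by
        have := hs b (sub2 bV)
        rw [hj.2.2.1, hP.eb, d0] at this
        simpa using this.symm
      refine ht fun x hx => hP.bij.injOn (ld.inv j (ld.Lt_le hI.1) x hx) hx ?_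
      rw [hs x hx, c1, d0]; simp
  have trU : ∀ s k : G, s ∈ Hb G a b → k ∈ Hb G a b → Tr (Fx Ω {s}) k → ∀ u ∈ U a,
      u * s = s * u → u * k = k * u := fun s k hs hk ht u hu hc =>
    ((h.fix_iff hab hk hu).1 (ht _ (mem_Fx1.2 ((h.fix_iff hab hs hu).2 hc.symm)))).symm
  -- the centre of `U a`
  have Zj : ZU U a ≤ UY U {j} a := by
    have z1 : ∀ z ∈ ZU U a, z * t = t * z → z * j = j * z := fun z hz hc =>
      z_cm h hq ha hb hab hj (mem_ZU.1 hz).1 (mem_ZU.1 hz).2 hc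
    have z2 : ∀ z ∈ ZU U a, z * (t * j) = t * j * z → z * j = j * z := fun z hz hc => by
      rcases ttj with h1 | ⟨p', h1, h2⟩
      · exact trU _ j (mul_mem tH jH) jH h1 z (mem_ZU.1 hz).1 hc
      · exact z_cm h h1 (sub2 aV) (sub2 bV) hab h2 (mem_ZU.1 hz).1 (mem_ZU.1 hz).2 hc
    have cz : ∀ g ∈ Hb G a b, ∀ z ∈ ZU U a, g * z * g⁻¹ ∈ ZU U a := fun g hg z hz => by
      have := ZU_conj h.toCb g hz
      rwa [(mem_Hb.1 hg).1] at this
    have key : ∀ w ∈ ZU U a, j * w * j⁻¹ = w⁻¹ → w = 1 := by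
      intro w hw hi
      have h1 := cz t tH w hw
      have cw : w * (t * w * t⁻¹) = t * w * t⁻¹ * w := (mem_ZU.1 hw).2 _ (mem_ZU.1 h1).1
      have h2 : w * (t * w * t⁻¹) = 1 := by
        refine kill h.toCb (r := j) (mem_ZU.1 (mul_mem hw h1)).1 ?_ (z1 _ (mul_mem hw h1) ?_)
        · calc j * (w * (t * w * t⁻¹)) * j⁻¹
              = (j * w * j⁻¹) * ((j * t) * w * (j * t)⁻¹) := by group
            _ = (j * w * j⁻¹) * (t * (j * w * j⁻¹) * t⁻¹) := by rw [jt]; group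
            _ = (t * w * t⁻¹ * w)⁻¹ := by rw [hi]; group
            _ = _ := by rw [cw]
        · refine cj_eq.1 ?_
          calc t * (w * (t * w * t⁻¹)) * t⁻¹
              = t * w * t⁻¹ * ((t * t) * w * (t * t)⁻¹) := by group
            _ = _ := by rw [ti.1, cw]; group
      refine kill h.toCb (mem_ZU.1 hw).1 hi (z2 w hw (cj_eq.1 ?_))
      calc t * j * w * (t * j)⁻¹ = t * (j * w * j⁻¹) * t⁻¹ := by group
        _ = (t * w * t⁻¹)⁻¹ := by rw [hi]; group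
        _ = w := by rw [eq_inv_of_mul_eq_one_right h2, inv_inv]
    intro z hz
    have h1 := key (z * (j * z * j⁻¹)⁻¹) (mul_mem hz (inv_mem (cz j jH z hz))) (by
      calc j * (z * (j * z * j⁻¹)⁻¹) * j⁻¹ = j * z * j⁻¹ * ((j * j) * z⁻¹ * (j * j)⁻¹) := by group
        _ = _ := by rw [ji.1]; group)
    exact mem_UY1.2 ⟨(mem_ZU.1 hz).1, cj_eq.1 (mul_inv_eq_one.1 h1).symm⟩
  have ldj := h.ldY ({j} : Set G)
  obtain ⟨F, _, _, e, π, hP⟩ := jL a (sub1 aV) b (sub1 bV) hab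
  have Za : ZU U a = UY U {j} a := by
    refine le_antisymm Zj fun u hu => ?_
    obtain ⟨z, hz, z1⟩ := ZU_ne h a
    obtain ⟨hu, uj⟩ := mem_UY1.1 hu
    obtain ⟨w, hw, e⟩ := hP.toL2P.ll3 ldj (sub1 aV) (sub1 bV) Zj
      (fun d _ hd u hu => by
        have := ZU_conj h.toCb d hu
        rwa [(mem_Hb.1 hd).1] at this)
      ⟨z, hz, fun ht => z1 (h.faithY (by omega) a (sub1 aV) z (Zj hz) ht)⟩
      (u • b) (mem_Fx1.2 (fix_of uj hj.2.2.1)) (ne_c h hab hu)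
    rwa [← reg_eq h hab (mem_ZU.1 hw).1 hu e]
  have Zc : ∀ c ∈ Fx Ω {j}, ZU U c = UY U {j} c := by
    intro c hc
    obtain ⟨g, hg, e⟩ : ∃ g, g * j = j * g ∧ g • a = c := by
      by_cases ca : c = a
      · exact ⟨1, by simp, by simp [ca]⟩
      · obtain ⟨g, hg, e, -⟩ := ldj.two j3 (sub1 aV) (sub1 bV) hc (sub1 aV) hab ca
        exact ⟨g, cmL hg, e⟩
    have := ZU_cj h.toCb Za g
    rwa [e, cj_eq.2 hg.symm] at this
  -- the involution `y`
  obtain ⟨l, hl, hc, yf⟩ := hq.ell a ha b hb hab j hj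
  have yL : l * j * l⁻¹ ∈ LY U {t} := mul_mem (mul_mem hl hj.1) (inv_mem hl)
  have y2 : l * j * l⁻¹ * (l * j * l⁻¹) = 1 := by
    calc l * j * l⁻¹ * (l * j * l⁻¹) = l * (j * j) * l⁻¹ := by group
      _ = 1 := by rw [ji.1]; simp
  have Zy : ∀ c ∈ Fx Ω {l * j * l⁻¹}, ZU U c = UY U {l * j * l⁻¹} c := by
    intro c hc
    have h1 := Fx_conj l j (l⁻¹ • c)
    rw [smul_inv_smul] at h1
    have := ZU_cj h.toCb (Zc _ (h1.1 hc)) l
    rwa [smul_inv_smul] at this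
  have Fy : Tr (Fx Ω {j}) t → ∀ c : Ω, (l * j * l⁻¹) • c = c → t • c = c := by
    intro ht c hc
    have h1 := Fx_conj l j (l⁻¹ • c)
    rw [smul_inv_smul] at h1
    have := fix_of (cmL hl) (ht _ (h1.1 (mem_Fx1.2 hc)))
    rwa [smul_inv_smul] at this
  generalize l * j * l⁻¹ = y at hc yf yL y2 Zy Fy
  have yi' : y⁻¹ = y := inv_eq_of_mul_eq_one_right y2
  have yt : y * t = t * y := cmL yL
  have yf' : ∀ x ∈ Fx Ω ({t, j} : Set G), y • x ≠ x := fun x hx =>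
    yf x ((blk_iff hq ha hb hab hj).2 hx)
  have yj : y * j = j * y := by
    have kL : ⁅y, j⁆ ∈ LY U {t} := by
      rw [commutatorElement_def]
      exact mul_mem (mul_mem (mul_mem yL hj.1) (inv_mem yL)) (inv_mem hj.1)
    refine commutatorElement_eq_one_iff_mul_comm.1 (odd_sq (hk _ kL hc) ?_)
    have h1 := kc _ kL hc y yL
    rw [commutatorElement_def, yi', ji'] at h1 ⊢
    calc y * j * y * j * (y * j * y * j) = (y * j * y * j * y) * (j * y * j) := by group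
      _ = (y * y) * j * (y * (j * j) * y) * j := by rw [h1]; group
      _ = 1 := by rw [ji.1, mul_one, y2, one_mul, mul_one, ji.1]
  have yN : y ∈ normalizer ({j} : Set G) := mem_norm1.2 yj
  have yfj : ∀ c ∈ Fx Ω {j}, y • c ≠ c := by
    intro c hc hy
    obtain ⟨d, hd, dc, hd'⟩ := ldj.second (by omega) (T := zpowers y)
      (IsPGroup.of_card (n := if y = 1 then 0 else 1) (by
        rw [Nat.card_zpowers]
        split_ifs with h1
        · simp [h1]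
        · have : Fact (Nat.Prime 2) := ⟨Nat.prime_two⟩
          rw [pow_one]
          exact orderOf_eq_prime (by rw [sq, y2]) h1))
      (zpowers_le.2 yN) hc (fun t ht => (zpowers_le.2 (mem_stabilizer_iff.2 hy) ht :))
    have ca : a ≠ c := fun e => yf' a aV (e ▸ hy)
    obtain ⟨u, hu, e⟩ := ldj.tr c hc d hd a (sub1 aV) dc ca
    rw [← Zc c hc, Zy c (mem_Fx1.2 hy)] at hu
    refine yf' a aV ?_
    rw [← e]
    exact fix_of (mem_UY1.1 hu).2 (hd' y (mem_zpowers y))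
  have tr : Tr (Fx Ω {j}) t := by
    by_contra hn
    refine hP.toL2P.ll1 ldj yN (mem_norm1.2 jt.symm) (by rw [y2]; exact t1 _)
      (by rw [ti.1]; exact t1 _) yfj hn
      (le_trans (by omega) (Set.ncard_le_ncard (s := Fx Ω ({t, j} : Set G))
        (fun x hx => ⟨sub1 hx, (mem_Fx2.1 hx).1⟩) (Set.toFinite _)))
      (by rw [commutatorElement_eq_one_iff_mul_comm.2 yt]; exact t1 _)
  rcases ttj with h1 | ⟨p', hq', hI⟩
  · have h3 := h.toCb.gen4 ti.1 ji.1 jt.symm (mem_Fx1.1 ha) hj.2.1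
    have h4 : U a ≤ UY U {t} a := by
      rw [← h3]
      refine sup_le (sup_le le_rfl fun u hu => ?_) fun u hu => ?_
      · obtain ⟨hu, hc⟩ := mem_UY1.1 hu
        exact mem_UY1.2 ⟨hu, trU j t jH tH tr u hu hc⟩
      · obtain ⟨hu, hc⟩ := mem_UY1.1 hu
        exact mem_UY1.2 ⟨hu, trU j t jH tH tr u hu (trU _ j (mul_mem tH jH) jH h1 u hu hc)⟩
    exact ti.2 (h.toCb.eq_one hab tH fun u hu => (mem_UY1.1 (h4 hu)).2.symm)
  have yftj : ∀ c ∈ Fx Ω {t * j}, y • c ≠ c := fun c hc hy => by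
    have h1 := Fy tr c hy
    refine yfj c (mem_Fx1.2 ?_) hy
    have h2 := mem_Fx1.1 hc
    rwa [← jt, mul_smul, h1] at h2
  obtain ⟨F', _, _, e', π', hP'⟩ := VL a aV b bV hab
  have ldV := h.ldY ({t, j} : Set G)
  have pj : π' (-1) = j :=
    ((hP'.ker jV fun x hx => (mem_Fx2.1 hx).2).resolve_left ji.2).symm
  have cF : Fintype.card F' = q := by
    have := hP'.toL2P.card
    omega
  have cmV : ∀ l ∈ LY U {t, j}, l * t = t * l ∧ l * j = j * l := fun l hl =>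
    ⟨cmL (VT hl), cmL (VJ hl)⟩
  -- the points outside the block
  set X : Set Ω := Fx Ω {t * j} \ Fx Ω ({t, j} : Set G) with hX
  have cX : X.ncard = q * (q ^ 2 - 1) := by
    rw [hX, Set.ncard_sdiff sub2, hq'.card, cV, Nat.mul_sub, mul_one]
    have : q ^ 3 = q * q ^ 2 := by ring
    omega
  have inv : ∀ g : G, g * t = t * g → g * j = j * g → ∀ x ∈ X, g • x ∈ X := by
    intro g gt gj x hx
    refine ⟨mem_Fx1.2 (fix_of (cm_mul gt gj) (mem_Fx1.1 hx.1)), fun h1 => hx.2 ?_⟩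
    obtain ⟨h1, h2⟩ := mem_Fx2.1 h1
    rw [← mul_smul, ← gt, mul_smul] at h1
    rw [← mul_smul, ← gj, mul_smul] at h2
    exact mem_Fx2.2 ⟨smul_left_cancel g h1, smul_left_cancel g h2⟩
  have semi : ∀ l ∈ LY U {t, j}, ∀ x ∈ X, l • x = x → l = 1 := by
    intro l hl x hx e
    have h1 := hq'.semi a (sub2 aV) b (sub2 bV) hab l
      (by rw [lz_eq h hq' (sub2 aV) (sub2 bV) hab hI, LY_mul]; exact hl) x hx.1
      (by rw [blk_iff hq' (sub2 aV) (sub2 bV) hab hI, Fx_mul]; exact hx.2) e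
    refine (hP'.ker hl fun y hy => h1 y (sub2 hy)).resolve_right fun h2 => hx.2 ?_
    rw [h2, pj] at e
    have h3 := mem_Fx1.1 hx.1
    rw [mul_smul, e] at h3
    exact mem_Fx2.2 ⟨h3, e⟩
  obtain ⟨x, hx⟩ : X.Nonempty := by
    rw [← Set.ncard_pos (Set.toFinite _), cX]
    have : 9 ≤ q ^ 2 := by nlinarith
    exact Nat.mul_pos (by omega) (by omega)
  have mL : ∀ B, π' B ∈ LY U {t, j} := fun B => hP'.mem B
  obtain ⟨B, hB⟩ : ∃ B, π' B • x = y • x := by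
    let φ : SL(2, F') → X := fun B => ⟨π' B • x, inv _ (cmV _ (mL B)).1 (cmV _ (mL B)).2 x hx⟩
    have h1 : Function.Injective φ := fun B C e => by
      have e' : π' B • x = π' C • x := congrArg Subtype.val e
      have := semi _ (mul_mem (inv_mem (mL C)) (mL B)) x hx (by rw [mul_smul, e', inv_smul_smul])
      exact hP'.inj (pj ▸ ji.2) (inv_mul_eq_one.1 this).symm
    have h2 := (h1.bijective_of_nat_card_le (by
      rw [card_sl2, cF, Nat.card_coe_set_eq, cX])).2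
    obtain ⟨B, hB⟩ := h2 ⟨y • x, inv y yt yj x hx⟩
    exact ⟨B, congrArg Subtype.val hB⟩
  have yV : y ∈ normalizer ({t, j} : Set G) := mem_norm2 yt yj
  have fx : (y * π' B) • x = x := by rw [mul_smul, hB, ← mul_smul, y2, one_smul]
  have sq1 : y * π' B * (y * π' B) = 1 := by
    refine semi _ ?_ x hx (by rw [mul_smul, fx, fx])
    have : y * π' B * (y * π' B) = y * π' B * y⁻¹ * π' B := by rw [yi']; group
    rw [this]
    exact mul_mem (ldV.Lt_conj yV (mL B)) (mL B)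
  obtain ⟨A, hA⟩ := hP'.toL2P.lin ldV yV (by rw [y2]; exact t1 _) (by
    have : {x | x ∈ Fx Ω ({t, j} : Set G) ∧ y • x = x} = ∅ :=
      Set.eq_empty_of_forall_notMem fun x hx => yf' x hx.1 hx.2
    rw [this]; simp)
  obtain ⟨m, hm, e⟩ := hP'.ll4 ldV (pj ▸ ji.2) yV y2 (fun ht => yf' a aV (ht a aV)) hA (mL B) sq1
  have mi := cmV _ (inv_mem hm)
  refine yftj (m⁻¹ • x) (inv _ mi.1 mi.2 x hx).1 ?_
  rw [← e, mul_smul, mul_smul, smul_eq_iff_eq_inv_smul] at fx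
  exact fx

theorem eqns_XU : True := by
  have := @ZU.eq_1.{0, 0}
  trivial

end XU

theorem xu (h : Cx U) : Ty3 U := by
  intro t ht h3
  rcases h.ih {t} ⟨t, rfl, ht.2⟩ h3 with h1 | ⟨⟨p, q, h1⟩, h2⟩ | h1
  · exact Or.inl h1
  · exact (XU.main h ht h1 h2).elim
  · exact Or.inr h1

end H51.HK
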